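import Mathlib
import Groth.Agent.Lib.Helper60.LocalCohTorsion
import Groth.Agent.Lib.Helper60.LocalCohOf

set_option autoImplicit false
universe u
open CategoryTheory CategoryTheory.Limits Opposite Abelian

namespace Groth.Agent.Lib.Helper79.ExtRep

open Groth.Agent.Lib.Helper60

variable {R : Type u} [CommRing R]

/-- pull back an Ext class along a morphism in the first variable. -/
noncomputable def pull {X Y G : ModuleCat.{u} R} {n : ℕ} (f : X ⟶ Y) (ξ : Abelian.Ext Y G n) :
    Abelian.Ext X G n :=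
  (Ext.mk₀ f).comp ξ (zero_add n)

section pull
variable {X Y Z G : ModuleCat.{u} R} {n : ℕ}

lemma pull_id (ξ : Abelian.Ext X G n) : pull (𝟙 X) ξ = ξ := Ext.mk₀_id_comp ξ

lemma pull_comp (f : X ⟶ Y) (g : Y ⟶ Z) (ξ : Abelian.Ext Z G n) :
    pull (f ≫ g) ξ = pull f (pull g ξ) := by
  unfold pull
  rw [Ext.mk₀_comp_mk₀_assoc]

lemma pull_add_left (f g : X ⟶ Y) (ξ : Abelian.Ext Y G n) :
    pull (f + g) ξ = pull f ξ + pull g ξ := by
  unfold pull
  rw [Ext.mk₀_add, Ext.add_comp]

lemma pull_zero_left (ξ : Abelian.Ext Y G n) : pull (0 : X ⟶ Y) ξ = 0 := by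
  unfold pull
  rw [Ext.mk₀_zero, Ext.zero_comp]

lemma pull_smul_left (a : R) (f : X ⟶ Y) (ξ : Abelian.Ext Y G n) :
    pull (a • f) ξ = a • pull f ξ := by
  unfold pull
  rw [Ext.mk₀_smul, Ext.smul_comp]

lemma pull_add (f : X ⟶ Y) (ξ ξ' : Abelian.Ext Y G n) :
    pull f (ξ + ξ') = pull f ξ + pull f ξ' := by
  unfold pull
  rw [Ext.comp_add]

lemma pull_zero (f : X ⟶ Y) : pull f (0 : Abelian.Ext Y G n) = 0 := by
  unfold pull
  rw [Ext.comp_zero]

lemma pull_smul (a : R) (f : X ⟶ Y) (ξ : Abelian.Ext Y G n) :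
    pull f (a • ξ) = a • pull f ξ := by
  unfold pull
  rw [Ext.comp_smul]

lemma pull_sum_left {ι : Type*} (s : Finset ι) (f : ι → (X ⟶ Y)) (ξ : Abelian.Ext Y G n) :
    pull (∑ j ∈ s, f j) ξ = ∑ j ∈ s, pull (f j) ξ := by
  classical
  induction s using Finset.induction_on with
  | empty => simp [pull_zero_left]
  | insert a s ha ih => rw [Finset.sum_insert ha, Finset.sum_insert ha, pull_add_left, ih]

lemma pull_sum {ι : Type*} (s : Finset ι) (f : X ⟶ Y) (ξ : ι → Abelian.Ext Y G n) :
    pull f (∑ j ∈ s, ξ j) = ∑ j ∈ s, pull f (ξ j) := by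
  classical
  induction s using Finset.induction_on with
  | empty => simp [pull_zero]
  | insert a s ha ih => rw [Finset.sum_insert ha, Finset.sum_insert ha, pull_add, ih]

end pull

/-! ### short exact sequence of a surjective map -/

section ses

variable {M N : Type u} [AddCommGroup M] [Module R M] [AddCommGroup N] [Module R N]

/-- The short complex `0 → ker g → M → N → 0` of a surjective linear map. -/
noncomputable def sesOfSurjective (g : M →ₗ[R] N) : ShortComplex (ModuleCat.{u} R) :=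
  ShortComplex.mk (ModuleCat.ofHom (LinearMap.ker g).subtype) (ModuleCat.ofHom g) (by
    ext x
    simp)

lemma sesOfSurjective_shortExact (g : M →ₗ[R] N) (hg : Function.Surjective g) :
    (sesOfSurjective g).ShortExact := by
  apply ModuleCat.shortComplex_shortExact
  · exact LinearMap.exact_subtype_ker_map g
  · exact (LinearMap.ker g).injective_subtype
  · exact hg

/-- Exactness in the middle: a class on `M` vanishing on `ker g` comes from `N`. -/
lemma exists_pull_eq_of_pull_ker_eq_zero {G : ModuleCat.{u} R} {n : ℕ} (g : M →ₗ[R] N)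
    (hg : Function.Surjective g) (ξ : Abelian.Ext (ModuleCat.of R M) G n)
    (h : pull (ModuleCat.ofHom (LinearMap.ker g).subtype) ξ = 0) :
    ∃ ξ' : Abelian.Ext (ModuleCat.of R N) G n, pull (ModuleCat.ofHom g) ξ' = ξ :=
  Ext.contravariant_sequence_exact₂ (sesOfSurjective_shortExact g hg) G ξ h

/-- Left exactness: if `Ext^{n-1}(ker g, G) = 0` then pulling back along the surjection `g` is
injective on `Ext^n(-, G)`. -/
lemma pull_injective_of_surjective {G : ModuleCat.{u} R} {n : ℕ} (g : M →ₗ[R] N)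
    (hg : Function.Surjective g)
    (hvan : ∀ i : ℕ, i + 1 = n →
      Subsingleton (Abelian.Ext (ModuleCat.of R (LinearMap.ker g)) G i))
    (ξ : Abelian.Ext (ModuleCat.of R N) G n) (h : pull (ModuleCat.ofHom g) ξ = 0) : ξ = 0 := by
  rcases Nat.eq_zero_or_pos n with hn | hn
  · subst hn
    have : Epi (ModuleCat.ofHom g) := (ModuleCat.epi_iff_surjective _).mpr hg
    have hinj := Ext.precomp_mk₀_injective_of_epi G (ModuleCat.ofHom g)
    apply hinj
    show (Ext.mk₀ (ModuleCat.ofHom g)).comp ξ (zero_add 0) =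
      (Ext.mk₀ (ModuleCat.ofHom g)).comp 0 (zero_add 0)
    rw [Ext.comp_zero]
    exact h
  · obtain ⟨i, rfl⟩ := Nat.exists_eq_succ_of_ne_zero hn.ne'
    obtain ⟨x₁, hx₁⟩ := Ext.contravariant_sequence_exact₃ (sesOfSurjective_shortExact g hg) G ξ h
      (show 1 + i = i + 1 by omega)
    have hsub : Subsingleton (Abelian.Ext (sesOfSurjective g).X₁ G i) := hvan i rfl
    have hx0 : x₁ = 0 := Subsingleton.elim _ _
    rw [← hx₁, hx0, Ext.comp_zero]
    rfl

end ses

end Groth.Agent.Lib.Helper79.ExtRep
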