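import Mathlib
import Groth.Agent.Lib.Helper79.ExtRepA

set_option autoImplicit false
universe u
open CategoryTheory CategoryTheory.Limits Opposite Abelian

namespace Groth.Agent.Lib.Helper79.ExtRep

open Groth.Agent.Lib.Helper60

variable {R : Type u} [CommRing R] (J : Ideal R)

/-- `X` is killed by `J^k`. -/
def Killed (k : ℕ) (X : Type u) [AddCommGroup X] [Module R X] : Prop :=
  ∀ a ∈ J ^ k, ∀ x : X, a • x = 0

/-- the morphism `R/J^k → X`, `1 ↦ x`, for `X` killed by `J^k`. -/
noncomputable def xt {X : ModuleCat.{u} R} {k : ℕ} (hX : Killed J k X) (x : X) :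
    quotPow J k ⟶ X :=
  ModuleCat.ofHom (Submodule.liftQ (J ^ k) (LinearMap.toSpanSingleton R X x) (by
    intro a ha
    rw [LinearMap.mem_ker, LinearMap.toSpanSingleton_apply]
    exact hX a ha x))

section xt
variable {J} {X Y : ModuleCat.{u} R} {k : ℕ} (hX : Killed J k X) (hY : Killed J k Y)

lemma xt_mk (x : X) (a : R) :
    (xt J hX x).hom (Submodule.Quotient.mk a : R ⧸ J ^ k) = a • x := rfl

lemma xt_one (x : X) : (xt J hX x).hom (quotPowOne J k) = x := by
  show (1 : R) • x = x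
  rw [one_smul]

lemma xt_add (x y : X) : xt J hX (x + y) = xt J hX x + xt J hX y := by
  apply hom_quotPow_ext
  rw [xt_one]
  show x + y = (xt J hX x).hom (quotPowOne J k) + (xt J hX y).hom (quotPowOne J k)
  rw [xt_one, xt_one]

lemma xt_smul (a : R) (x : X) : xt J hX (a • x) = a • xt J hX x := by
  apply hom_quotPow_ext
  rw [xt_one]
  show a • x = a • (xt J hX x).hom (quotPowOne J k)
  rw [xt_one]

lemma xt_comp (f : X ⟶ Y) (x : X) : xt J hX x ≫ f = xt J hY (f.hom x) := by
  apply hom_quotPow_ext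
  rw [xt_one]
  show f.hom ((xt J hX x).hom (quotPowOne J k)) = f.hom x
  rw [xt_one]

lemma killed_quotPow (k : ℕ) : Killed J k (quotPow J k) := by
  intro a ha y
  obtain ⟨y, rfl⟩ := Submodule.Quotient.mk_surjective _ (y : R ⧸ J ^ k)
  rw [← Submodule.Quotient.mk_smul, Submodule.Quotient.mk_eq_zero]
  exact Ideal.mul_mem_right _ _ ha

lemma xt_quotPow (a : R) :
    xt J (killed_quotPow (J := J) k) (Submodule.Quotient.mk a : R ⧸ J ^ k) = a • 𝟙 (quotPow J k) := by
  apply hom_quotPow_ext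
  rw [xt_one]
  show _ = a • quotPowOne J k
  rw [← Submodule.Quotient.mk_smul, smul_eq_mul, mul_one]

end xt

/-- The comparison map `Ext^n(X, G) → Hom(X, H^n_J(G))` for `X` killed by `J^k`. -/
noncomputable def Phi {X G : ModuleCat.{u} R} (n : ℕ) {k : ℕ} (hX : Killed J k X) :
    Abelian.Ext X G n →ₗ[R] (X →ₗ[R] ((localCohomology J n).obj G)) where
  toFun ξ :=
    { toFun := fun x => lcMk J n G k (pull (xt J hX x) ξ)
      map_add' := fun x y => by rw [xt_add, pull_add_left, lcMk_add]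
      map_smul' := fun a x => by
        rw [xt_smul, pull_smul_left, lcMk_smul]
        rfl }
  map_add' ξ ξ' := by
    ext x
    show lcMk J n G k (pull (xt J hX x) (ξ + ξ')) = lcMk J n G k (pull (xt J hX x) ξ) +
      lcMk J n G k (pull (xt J hX x) ξ')
    rw [pull_add, lcMk_add]
  map_smul' a ξ := by
    ext x
    show lcMk J n G k (pull (xt J hX x) (a • ξ)) = a • lcMk J n G k (pull (xt J hX x) ξ)
    rw [pull_smul, lcMk_smul]

lemma Phi_apply {X G : ModuleCat.{u} R} (n : ℕ) {k : ℕ} (hX : Killed J k X)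
    (ξ : Abelian.Ext X G n) (x : X) :
    Phi J n hX ξ x = lcMk J n G k (pull (xt J hX x) ξ) := rfl

/-- naturality of `Phi`. -/
lemma Phi_pull {X Y G : ModuleCat.{u} R} (n : ℕ) {k : ℕ} (hX : Killed J k X) (hY : Killed J k Y)
    (f : X ⟶ Y) (ξ : Abelian.Ext Y G n) (x : X) :
    Phi J n hX (pull f ξ) x = Phi J n hY ξ (f.hom x) := by
  rw [Phi_apply, Phi_apply, ← pull_comp, xt_comp hX hY]

end Groth.Agent.Lib.Helper79.ExtRep
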