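import Mathlib
import Groth.Agent.Lib.Helper79.ExtRepB

set_option autoImplicit false
universe u
open CategoryTheory CategoryTheory.Limits Opposite Abelian

namespace Groth.Agent.Lib.Helper79.ExtRep

open Groth.Agent.Lib.Helper60

variable {R : Type u} [CommRing R] (J : Ideal R)

/-- The vanishing hypothesis: `Ext^{n-1}(X, G) = 0` for all finite `X` killed by a power of `J`. -/
def Van (G : ModuleCat.{u} R) (n : ℕ) : Prop :=
  ∀ (X : Type u) [AddCommGroup X] [Module R X], Module.Finite R X → (∃ k, Killed J k X) →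
    ∀ i : ℕ, i + 1 = n → Subsingleton (Abelian.Ext (ModuleCat.of R X) G i)

variable {J}

lemma Killed.submodule {k : ℕ} {X : Type u} [AddCommGroup X] [Module R X] (hX : Killed J k X)
    (N : Submodule R X) : Killed J k N := by
  intro a ha x
  apply Subtype.ext
  rw [Submodule.coe_smul, hX a ha x]
  rfl

/-- Under the vanishing hypothesis, pulling back along a surjection from a finite module killed
by `J^k` is injective on `Ext^n(-, G)`. -/
lemma pull_injective_of_van [IsNoetherianRing R] {G : ModuleCat.{u} R} {n : ℕ} (hvan : Van J G n)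
    {M N : Type u} [AddCommGroup M] [Module R M] [AddCommGroup N] [Module R N]
    [Module.Finite R M] {k : ℕ} (hM : Killed J k M)
    (g : M →ₗ[R] N) (hg : Function.Surjective g)
    (ξ : Abelian.Ext (ModuleCat.of R N) G n) (h : pull (ModuleCat.ofHom g) ξ = 0) : ξ = 0 := by
  have : IsNoetherian R M := isNoetherian_of_isNoetherianRing_of_finite R M
  refine pull_injective_of_surjective g hg (fun i hi => ?_) ξ h
  exact hvan (LinearMap.ker g) (Module.Finite.of_fg (IsNoetherian.noetherian _))
    ⟨k, hM.submodule _⟩ i hi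

/-- (c) `Ext^n(R/J^k, G) → H^n_J(G)` is injective under the vanishing hypothesis. -/
lemma lcMk_injective [IsNoetherianRing R] {G : ModuleCat.{u} R} {n : ℕ} (hvan : Van J G n)
    (k : ℕ) (ξ : Abelian.Ext (quotPow J k) G n) (h : lcMk J n G k ξ = 0) : ξ = 0 := by
  obtain ⟨m, hkm, hres⟩ := (lcMk_eq_zero_iff J n G ξ).mp h
  have hsurj : Function.Surjective
      (Submodule.mapQ (J ^ m) (J ^ k) (LinearMap.id : R →ₗ[R] R) (Ideal.pow_le_pow_right hkm)) := by
    intro y
    obtain ⟨y, rfl⟩ := Submodule.Quotient.mk_surjective _ y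
    exact ⟨Submodule.Quotient.mk y, rfl⟩
  exact pull_injective_of_van hvan (killed_quotPow (J := J) m) _ hsurj ξ hres

section PP

variable (J)

/-- The "free" module `(R/J^k)^b`. -/
abbrev PP (k b : ℕ) : Type u := Fin b → R ⧸ J ^ k

/-- its object in `ModuleCat`. -/
abbrev PPobj (k b : ℕ) : ModuleCat.{u} R := ModuleCat.of R (PP J k b)

variable {J}

lemma killed_PP (k b : ℕ) : Killed J k (PP J k b) := by
  intro a ha z
  funext j
  exact killed_quotPow (J := J) k a ha (z j)

/-- inclusion of the `j`-th factor. -/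
noncomputable def ιP (k b : ℕ) (j : Fin b) : quotPow J k ⟶ PPobj J k b :=
  ModuleCat.ofHom (LinearMap.single R (fun _ : Fin b => R ⧸ J ^ k) j)

/-- projection to the `j`-th factor. -/
noncomputable def prP (k b : ℕ) (j : Fin b) : PPobj J k b ⟶ quotPow J k :=
  ModuleCat.ofHom (LinearMap.proj (R := R) (φ := fun _ : Fin b => R ⧸ J ^ k) j)

lemma ιP_prP_self (k b : ℕ) (j : Fin b) : ιP (J := J) k b j ≫ prP k b j = 𝟙 _ := by
  apply ModuleCat.hom_ext
  apply LinearMap.ext
  intro z
  show (Pi.single j z : PP J k b) j = z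
  simp

lemma ιP_prP_of_ne (k b : ℕ) {i j : Fin b} (hij : i ≠ j) :
    ιP (J := J) k b i ≫ prP k b j = 0 := by
  apply ModuleCat.hom_ext
  apply LinearMap.ext
  intro z
  show (Pi.single i z : PP J k b) j = 0
  simp [hij.symm]

lemma id_eq_sum (k b : ℕ) : 𝟙 (PPobj J k b) = ∑ j, prP (J := J) k b j ≫ ιP k b j := by
  apply ModuleCat.hom_ext
  apply LinearMap.ext
  intro z
  rw [ModuleCat.hom_sum, LinearMap.sum_apply]
  show z = ∑ j, (Pi.single j (z j) : PP J k b)
  exact (Finset.univ_sum_single z).symm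

/-- a class on `(R/J^k)^b` is zero iff all its components are. -/
lemma eq_zero_of_components {G : ModuleCat.{u} R} {n : ℕ} (k b : ℕ)
    (ζ : Abelian.Ext (PPobj J k b) G n) (h : ∀ j, pull (ιP (J := J) k b j) ζ = 0) : ζ = 0 := by
  rw [← pull_id ζ, id_eq_sum, pull_sum_left]
  apply Finset.sum_eq_zero
  intro j _
  rw [pull_comp, h j, pull_zero]

/-- the map `(R/J^k)^b → X` given by elements `x j`. -/
noncomputable def piL {X : ModuleCat.{u} R} {k : ℕ} (hX : Killed J k X) {b : ℕ} (x : Fin b → X) :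
    PP J k b →ₗ[R] X :=
  ∑ j, (xt J hX (x j)).hom ∘ₗ LinearMap.proj (R := R) (φ := fun _ : Fin b => R ⧸ J ^ k) j

lemma piL_apply {X : ModuleCat.{u} R} {k : ℕ} (hX : Killed J k X) {b : ℕ} (x : Fin b → X)
    (z : PP J k b) : piL hX x z = ∑ j, (xt J hX (x j)).hom (z j) := by
  unfold piL
  rw [LinearMap.sum_apply]
  rfl

lemma ιP_piL {X : ModuleCat.{u} R} {k : ℕ} (hX : Killed J k X) {b : ℕ} (x : Fin b → X)
    (i : Fin b) : ιP (J := J) k b i ≫ ModuleCat.ofHom (piL hX x) = xt J hX (x i) := by
  apply hom_quotPow_ext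
  show piL hX x (Pi.single i (quotPowOne J k)) = _
  rw [piL_apply, Finset.sum_eq_single i]
  · rw [Pi.single_eq_same]
  · intro j _ hji
    rw [Pi.single_eq_of_ne hji, map_zero]
  · intro h; exact absurd (Finset.mem_univ i) h

lemma piL_surjective {X : ModuleCat.{u} R} {k : ℕ} (hX : Killed J k X) {b : ℕ} (x : Fin b → X)
    (hx : Submodule.span R (Set.range x) = ⊤) : Function.Surjective (piL hX x) := by
  rw [← LinearMap.range_eq_top, eq_top_iff, ← hx, Submodule.span_le]
  rintro _ ⟨i, rfl⟩
  refine ⟨Pi.single i (quotPowOne J k), ?_⟩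
  have := ιP_piL hX x i
  have h2 := congrArg (fun f => f.hom (quotPowOne J k)) this
  simp only at h2
  rw [xt_one] at h2
  exact h2


end PP

end Groth.Agent.Lib.Helper79.ExtRep
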