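import Mathlib
import Groth.Agent.Lib.Helper79.ExtRepC

set_option autoImplicit false
universe u
open CategoryTheory CategoryTheory.Limits Opposite Abelian

namespace Groth.Agent.Lib.Helper79.ExtRep

open Groth.Agent.Lib.Helper60

variable {R : Type u} [CommRing R] [IsNoetherianRing R] {J : Ideal R}

lemma piL_single_one {X : ModuleCat.{u} R} {k : ℕ} (hX : Killed J k X) {b : ℕ} (x : Fin b → X)
    (i : Fin b) : piL hX x (Pi.single i (quotPowOne J k)) = x i := by
  have := ιP_piL hX x i
  have h2 := congrArg (fun f => f.hom (quotPowOne J k)) this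
  simp only at h2
  rw [xt_one] at h2
  exact h2

lemma xt_single_one (k b : ℕ) (i : Fin b) :
    xt J (killed_PP (J := J) k b) (Pi.single i (quotPowOne J k) : PP J k b) = ιP k b i := by
  apply hom_quotPow_ext
  rw [xt_one]
  rfl

/-- `Phi` is injective under the vanishing hypothesis. -/
theorem Phi_injective {G : ModuleCat.{u} R} {n : ℕ} (hvan : Van J G n)
    {X : ModuleCat.{u} R} [Module.Finite R X] {k : ℕ} (hX : Killed J k X) :
    Function.Injective (Phi J n hX (G := G)) := by
  rw [injective_iff_map_eq_zero]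
  intro ξ hξ
  obtain ⟨b, x, hx⟩ := Module.Finite.exists_fin (R := R) (M := X)
  have hsurj := piL_surjective hX x hx
  apply pull_injective_of_van hvan (killed_PP (J := J) k b) (piL hX x) hsurj ξ
  apply eq_zero_of_components
  intro j
  rw [← pull_comp, ιP_piL]
  apply lcMk_injective hvan k
  exact LinearMap.congr_fun hξ (x j)

/-- (d): an element of `H^n_J(G)` killed by `J^k` comes from `Ext^n(R/J^k, G)`. -/
lemma exists_lcMk_eq {G : ModuleCat.{u} R} {n : ℕ} (hvan : Van J G n) (k : ℕ)
    (y : (localCohomology J n).obj G) (hy : ∀ a ∈ J ^ k, a • y = 0) :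
    ∃ η : Abelian.Ext (quotPow J k) G n, lcMk J n G k η = y := by
  obtain ⟨m0, η0, rfl⟩ := lcMk_surj J n G y
  set m := max m0 k with hm
  have hm0 : m0 ≤ m := le_max_left _ _
  have hkm : k ≤ m := le_max_right _ _
  set η' := lcRes J hm0 η0 with hη'
  have hη'y : lcMk J n G m η' = lcMk J n G m0 η0 := lcMk_res J n G hm0 η0
  set g : (R ⧸ J ^ m) →ₗ[R] (R ⧸ J ^ k) :=
    Submodule.mapQ (J ^ m) (J ^ k) (LinearMap.id : R →ₗ[R] R) (Ideal.pow_le_pow_right hkm) with hg
  have hsurj : Function.Surjective g := by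
    intro y
    obtain ⟨y, rfl⟩ := Submodule.Quotient.mk_surjective _ y
    exact ⟨Submodule.Quotient.mk y, rfl⟩
  have hKfin : Module.Finite R (LinearMap.ker g) := Module.Finite.of_fg (IsNoetherian.noetherian _)
  have hK : Killed J m (LinearMap.ker g) := (killed_quotPow (J := J) m).submodule _
  have hzero : pull (ModuleCat.ofHom (LinearMap.ker g).subtype) η' = 0 := by
    have hinj := Phi_injective (G := G) hvan (X := ModuleCat.of R (LinearMap.ker g)) hK
    apply hinj
    rw [map_zero]
    ext z
    rw [Phi_pull J n hK (killed_quotPow (J := J) m), LinearMap.zero_apply]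
    obtain ⟨a, ha⟩ := Submodule.Quotient.mk_surjective _ (z : R ⧸ J ^ m)
    have hak : a ∈ J ^ k := by
      have h1 : g (z : R ⧸ J ^ m) = 0 := z.2
      rw [← ha] at h1
      have h2 : g (Submodule.Quotient.mk a) = (Submodule.Quotient.mk a : R ⧸ J ^ k) := rfl
      rw [h2, Submodule.Quotient.mk_eq_zero] at h1
      exact h1
    show Phi J n (killed_quotPow (J := J) m) η' (z : R ⧸ J ^ m) = 0
    rw [← ha, Phi_apply, xt_quotPow, pull_smul_left, pull_id, lcMk_smul, hη'y]
    exact hy a hak
  obtain ⟨η, hη⟩ := exists_pull_eq_of_pull_ker_eq_zero g hsurj η' hzero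
  refine ⟨η, ?_⟩
  have : lcRes J hkm η = η' := hη
  rw [← lcMk_res J n G hkm η, this, hη'y]

/-- `Phi` is surjective under the vanishing hypothesis. -/
theorem Phi_surjective {G : ModuleCat.{u} R} {n : ℕ} (hvan : Van J G n)
    {X : ModuleCat.{u} R} [Module.Finite R X] {k : ℕ} (hX : Killed J k X) :
    Function.Surjective (Phi J n hX (G := G)) := by
  classical
  intro h
  obtain ⟨b, x, hx⟩ := Module.Finite.exists_fin (R := R) (M := X)
  have hsurj := piL_surjective hX x hx
  have hkill : ∀ j, ∀ a ∈ J ^ k, a • h (x j) = 0 := by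
    intro j a ha
    rw [← map_smul, hX a ha (x j), map_zero]
  choose η hη using fun j => exists_lcMk_eq hvan k (h (x j)) (hkill j)
  set ηP : Abelian.Ext (PPobj J k b) G n := ∑ j, pull (prP k b j) (η j) with hηP
  have hcomp : ∀ i, pull (ιP (J := J) k b i) ηP = η i := by
    intro i
    rw [hηP, pull_sum, Finset.sum_eq_single i]
    · rw [← pull_comp, ιP_prP_self, pull_id]
    · intro j _ hji
      rw [← pull_comp, ιP_prP_of_ne k b (Ne.symm hji), pull_zero_left]
    · intro hi; exact absurd (Finset.mem_univ i) hi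
  have hPhiP : Phi J n (killed_PP (J := J) k b) ηP = h ∘ₗ piL hX x := by
    apply LinearMap.pi_ext
    intro i w
    obtain ⟨a, rfl⟩ := Submodule.Quotient.mk_surjective _ w
    have hw : (Pi.single i (Submodule.Quotient.mk a : R ⧸ J ^ k) : PP J k b) =
        a • Pi.single i (quotPowOne J k) := by
      rw [← Pi.single_smul, ← Submodule.Quotient.mk_smul, smul_eq_mul, mul_one]
    rw [hw, map_smul, map_smul]
    congr 1
    rw [Phi_apply, xt_single_one, hcomp, hη, LinearMap.comp_apply, piL_single_one]
  have hKfin : Module.Finite R (LinearMap.ker (piL hX x)) :=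
    have : IsNoetherian R (PP J k b) := isNoetherian_of_isNoetherianRing_of_finite R _
    Module.Finite.of_fg (IsNoetherian.noetherian _)
  have hK : Killed J k (LinearMap.ker (piL hX x)) := (killed_PP (J := J) k b).submodule _
  have hzero : pull (ModuleCat.ofHom (LinearMap.ker (piL hX x)).subtype) ηP = 0 := by
    have hinj := Phi_injective (G := G) hvan (X := ModuleCat.of R (LinearMap.ker (piL hX x))) hK
    apply hinj
    rw [map_zero]
    ext z
    rw [Phi_pull J n hK (killed_PP (J := J) k b), LinearMap.zero_apply]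
    show Phi J n (killed_PP (J := J) k b) ηP (z : PP J k b) = 0
    rw [hPhiP, LinearMap.comp_apply]
    have : piL hX x (z : PP J k b) = 0 := z.2
    rw [this, map_zero]
  obtain ⟨ξ, hξ⟩ := exists_pull_eq_of_pull_ker_eq_zero (piL hX x) hsurj ηP hzero
  refine ⟨ξ, ?_⟩
  ext y
  obtain ⟨z, rfl⟩ := hsurj y
  have h1 := Phi_pull J n (killed_PP (J := J) k b) hX (ModuleCat.ofHom (piL hX x)) ξ z
  rw [hξ, hPhiP] at h1
  exact h1.symm

/-- **Representability**: under the vanishing hypothesis, `Ext^n(X, G) ≅ Hom(X, H^n_J(G))` for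
every finite module `X` killed by a power of `J`. -/
theorem nonempty_linearEquiv {G : ModuleCat.{u} R} {n : ℕ} (hvan : Van J G n)
    (X : ModuleCat.{u} R) [Module.Finite R X] {k : ℕ} (hX : Killed J k X) :
    Nonempty (Abelian.Ext X G n ≃ₗ[R] (X →ₗ[R] ((localCohomology J n).obj G))) :=
  ⟨LinearEquiv.ofBijective (Phi J n hX) ⟨Phi_injective hvan hX, Phi_surjective hvan hX⟩⟩

end Groth.Agent.Lib.Helper79.ExtRep
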