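import Mathlib
import Groth.Agent.Lib.Helper79.ExtRepD
import Groth.Agent.Lib.Helper85.HS.FiniteLength
import Groth.Agent.Lib.Helper2.InjHullLocal
import Groth.Agent.S5159
import Groth.Agent.S5168

set_option autoImplicit false
universe u
open CategoryTheory CategoryTheory.Limits Opposite Abelian

namespace Groth.Agent.Lib.Helper79.InjHullLC

open Groth.Agent.Lib.Helper60 Groth.Agent.Lib.Helper79.ExtRep

variable (A : Type u) [CommRing A] [IsLocalRing A] [IsNoetherianRing A]

lemma isArtinianRing_quot_maximalIdeal_pow (k : ℕ) :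
    IsArtinianRing (A ⧸ (IsLocalRing.maximalIdeal A) ^ k) := by
  rw [isArtinianRing_iff_krullDimLE_zero]
  refine Ring.KrullDimLE.mk₀ fun J hJ => ?_
  have hP : (J.comap (Ideal.Quotient.mk ((IsLocalRing.maximalIdeal A) ^ k))).IsPrime :=
    hJ.comap _
  have h1 : (IsLocalRing.maximalIdeal A) ^ k ≤
      J.comap (Ideal.Quotient.mk ((IsLocalRing.maximalIdeal A) ^ k)) := by
    intro x hx
    rw [Ideal.mem_comap, Ideal.Quotient.eq_zero_iff_mem.mpr hx]
    exact zero_mem _
  have h2 : IsLocalRing.maximalIdeal A ≤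
      J.comap (Ideal.Quotient.mk ((IsLocalRing.maximalIdeal A) ^ k)) := hP.le_of_pow_le h1
  have h3 : J.comap (Ideal.Quotient.mk ((IsLocalRing.maximalIdeal A) ^ k)) =
      IsLocalRing.maximalIdeal A := le_antisymm (IsLocalRing.le_maximalIdeal hP.ne_top) h2
  have h4 : (J.comap (Ideal.Quotient.mk ((IsLocalRing.maximalIdeal A) ^ k))).IsMaximal := by
    rw [h3]; infer_instance
  have h5 := Ideal.map_comap_of_surjective (Ideal.Quotient.mk ((IsLocalRing.maximalIdeal A) ^ k))
    Ideal.Quotient.mk_surjective J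
  rcases Ideal.map_eq_top_or_isMaximal_of_surjective
    (Ideal.Quotient.mk ((IsLocalRing.maximalIdeal A) ^ k)) Ideal.Quotient.mk_surjective h4 with h | h
  · rw [h5] at h; exact absurd h hJ.ne_top
  · rwa [h5] at h

variable {A}

lemma isFiniteLength_of_killed {X : Type u} [AddCommGroup X] [Module A X] [Module.Finite A X]
    {k : ℕ} (hX : Killed (IsLocalRing.maximalIdeal A) k X) : IsFiniteLength A X := by
  have := isArtinianRing_quot_maximalIdeal_pow A k
  exact Groth.Agent.Lib.Helper85.HS.isFiniteLength_of_finite_of_torsion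
    ((IsLocalRing.maximalIdeal A) ^ k) X hX


section Regular

variable (A : Type u) [CommRing A] [IsRegularLocalRing A] (n : ℕ) (hn : ringKrullDim A = n)

include hn

lemma ext_subsingleton_of_ne {X : Type u} [AddCommGroup X] [Module A X] [Module.Finite A X]
    {k : ℕ} (hX : Killed (IsLocalRing.maximalIdeal A) k X) (i : ℕ) (hi : i ≠ n) :
    Subsingleton (Abelian.Ext (ModuleCat.of A X) (ModuleCat.of A A) i) := by
  have := (Groth.Agent.S5159.result A n hn X (isFiniteLength_of_killed hX)).1 i hi
  exact (extBridge (ModuleCat.of A X) i (ModuleCat.of A A)).symm.injective.subsingleton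

lemma van : Van (IsLocalRing.maximalIdeal A) (ModuleCat.of A A) n := by
  intro X _ _ hfin hk i hi
  obtain ⟨k, hk⟩ := hk
  exact ext_subsingleton_of_ne A n hn hk i (by omega)

/-- `H^n_m(A)` is an injective module for a regular local ring of dimension `n`. -/
theorem injective_H : Module.Injective A (LocCoh.H (IsLocalRing.maximalIdeal A) n A) := by
  have hH : LocCoh.IsPowerTorsion (IsLocalRing.maximalIdeal A)
      (LocCoh.H (IsLocalRing.maximalIdeal A) n A) :=
    fun y => lc_isPowerTorsion (IsLocalRing.maximalIdeal A) n (ModuleCat.of A A) y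
  rw [Groth.Agent.S5168.result A (IsLocalRing.maximalIdeal A) _ hH]
  intro M _ _ hMfin hMk N g
  obtain ⟨k, hk⟩ := hMk
  have hKM : Killed (IsLocalRing.maximalIdeal A) k M := by
    intro a ha x
    have : a • x ∈ (IsLocalRing.maximalIdeal A ^ k) • (⊤ : Submodule A M) :=
      Submodule.smul_mem_smul ha Submodule.mem_top
    rw [hk] at this
    exact (Submodule.mem_bot A).mp this
  have hKN : Killed (IsLocalRing.maximalIdeal A) k N := hKM.submodule N
  have hNfin : Module.Finite A N :=
    have : IsNoetherian A M := isNoetherian_of_isNoetherianRing_of_finite A M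
    Module.Finite.of_fg (IsNoetherian.noetherian _)
  have hKQ : Killed (IsLocalRing.maximalIdeal A) k (M ⧸ N) := by
    intro a ha y
    obtain ⟨y, rfl⟩ := Submodule.Quotient.mk_surjective _ y
    rw [← Submodule.Quotient.mk_smul, hKM a ha y, Submodule.Quotient.mk_zero]
  have hvan := van A n hn
  obtain ⟨ξN, hξN⟩ := Phi_surjective hvan (X := ModuleCat.of A N) hKN g
  have hsub : Subsingleton (Abelian.Ext (ModuleCat.of A (M ⧸ N)) (ModuleCat.of A A) (1 + n)) :=
    ext_subsingleton_of_ne A n hn hKQ (1 + n) (by omega)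
  have hS := sesOfSubmodule_shortExact N
  obtain ⟨ξM, hξM⟩ := Ext.contravariant_sequence_exact₁ hS (ModuleCat.of A A) ξN
    (n₁ := 1 + n) rfl (@Subsingleton.elim _ hsub _ _)
  refine ⟨Phi (IsLocalRing.maximalIdeal A) n (X := ModuleCat.of A M) hKM ξM, ?_⟩
  ext z
  rw [LinearMap.comp_apply, ← hξN]
  have h1 := Phi_pull (IsLocalRing.maximalIdeal A) n (X := ModuleCat.of A N)
    (Y := ModuleCat.of A M) hKN hKM (ModuleCat.ofHom N.subtype) ξM z
  have h2 : pull (ModuleCat.ofHom N.subtype) ξM = ξN := hξM
  rw [h2] at h1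
  exact h1.symm

/-- `H^n_m(A)` is an injective hull of the residue field of a regular local ring of dimension
`n`. -/
theorem exists_isInjectiveHull :
    ∃ f : IsLocalRing.ResidueField A →ₗ[A] LocCoh.H (IsLocalRing.maximalIdeal A) n A,
      InjHull.IsInjectiveHull f := by
  classical
  have hH : LocCoh.IsPowerTorsion (IsLocalRing.maximalIdeal A)
      (LocCoh.H (IsLocalRing.maximalIdeal A) n A) :=
    fun y => lc_isPowerTorsion (IsLocalRing.maximalIdeal A) n (ModuleCat.of A A) y
  have hvan := van A n hn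
  have hres : ∀ b : A, (IsLocalRing.residue A b : IsLocalRing.ResidueField A) =
      b • (1 : IsLocalRing.ResidueField A) := fun b => by
    rw [← IsLocalRing.ResidueField.algebraMap_eq, Algebra.algebraMap_eq_smul_one]
  have hKk : Killed (IsLocalRing.maximalIdeal A) 1 (IsLocalRing.ResidueField A) := by
    intro a ha x
    rw [pow_one] at ha
    rw [Algebra.smul_def, IsLocalRing.ResidueField.algebraMap_eq,
      (IsLocalRing.residue_eq_zero_iff a).mpr ha, zero_mul]
  have hkfin : Module.Finite A (IsLocalRing.ResidueField A) :=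
    Module.Finite.of_surjective (Algebra.linearMap A (IsLocalRing.ResidueField A))
      IsLocalRing.residue_surjective
  have hksimple : IsSimpleModule A (IsLocalRing.ResidueField A) :=
    (isSimpleModule_iff_isCoatom (m := IsLocalRing.maximalIdeal A)).mpr
      (Ideal.isMaximal_def.mp inferInstance)
  -- the comparison isomorphism for the residue field
  let e : Abelian.Ext (ModuleCat.of A (IsLocalRing.ResidueField A)) (ModuleCat.of A A) n ≃ₗ[A]
      (IsLocalRing.ResidueField A →ₗ[A] LocCoh.H (IsLocalRing.maximalIdeal A) n A) :=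
    LinearEquiv.ofBijective (Phi (IsLocalRing.maximalIdeal A) n
      (X := ModuleCat.of A (IsLocalRing.ResidueField A)) hKk)
      ⟨Phi_injective hvan hKk, Phi_surjective hvan hKk⟩
  have hlen : Module.length A
      (IsLocalRing.ResidueField A →ₗ[A] LocCoh.H (IsLocalRing.maximalIdeal A) n A) = 1 := by
    rw [← e.length_eq, ← (extBridge (ModuleCat.of A (IsLocalRing.ResidueField A)) n
      (ModuleCat.of A A)).length_eq,
      (Groth.Agent.S5159.result A n hn (IsLocalRing.ResidueField A)
        (isFiniteLength_of_killed hKk)).2]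
    exact Module.length_eq_one_iff.mpr hksimple
  have hsimp : IsSimpleModule A
      (IsLocalRing.ResidueField A →ₗ[A] LocCoh.H (IsLocalRing.maximalIdeal A) n A) :=
    Module.length_eq_one_iff.mp hlen
  have hnt : Nontrivial
      (IsLocalRing.ResidueField A →ₗ[A] LocCoh.H (IsLocalRing.maximalIdeal A) n A) :=
    IsSimpleModule.nontrivial A _
  obtain ⟨f, hf⟩ := exists_ne
    (0 : IsLocalRing.ResidueField A →ₗ[A] LocCoh.H (IsLocalRing.maximalIdeal A) n A)
  have hfval : ∀ b : A, f (IsLocalRing.residue A b) = b • f 1 := fun b => by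
    rw [hres, map_smul]
  have hf1 : f 1 ≠ 0 := by
    intro h0
    apply hf
    ext x
    obtain ⟨b, rfl⟩ := IsLocalRing.residue_surjective x
    rw [hfval, h0, smul_zero, LinearMap.zero_apply]
  refine ⟨f, ⟨(Groth.Agent.Lib.Helper2.isEssentialInj_iff f).mpr ⟨?_, ?_⟩, injective_H A n hn⟩⟩
  · rw [injective_iff_map_eq_zero]
    intro x hx
    obtain ⟨b, rfl⟩ := IsLocalRing.residue_surjective x
    rw [hfval] at hx
    by_contra hne
    have hb : IsUnit b := by
      by_contra hnu
      exact hne ((IsLocalRing.residue_eq_zero_iff b).mpr ((IsLocalRing.mem_maximalIdeal b).mpr hnu))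
    obtain ⟨c, hc⟩ := hb.exists_left_inv
    apply hf1
    rw [← one_smul A (f 1), ← hc, mul_smul, hx, smul_zero]
  · intro x hx
    obtain ⟨r, hrx, hrt⟩ :=
      Groth.Agent.Lib.Helper2.exists_smul_mem_torsionBy_of_isPowerTorsion
        (IsLocalRing.maximalIdeal A) hH x hx
    refine ⟨r, hrx, ?_⟩
    set y := r • x with hy
    have hykill : ∀ a ∈ IsLocalRing.maximalIdeal A, a • y = 0 := fun a ha =>
      ((Submodule.mem_torsionBySet_iff _ _).mp hrt) ⟨a, ha⟩
    let fy : IsLocalRing.ResidueField A →ₗ[A] LocCoh.H (IsLocalRing.maximalIdeal A) n A :=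
      Submodule.liftQ (IsLocalRing.maximalIdeal A) (LinearMap.toSpanSingleton A _ y) (by
        intro a ha
        rw [LinearMap.mem_ker, LinearMap.toSpanSingleton_apply]
        exact hykill a ha)
    have hfy1 : fy 1 = y := by
      show (1 : A) • y = y
      rw [one_smul]
    obtain ⟨c, hc⟩ := IsSimpleModule.toSpanSingleton_surjective A hf fy
    rw [LinearMap.toSpanSingleton_apply] at hc
    refine ⟨c • 1, ?_⟩
    rw [map_smul, ← hfy1, ← hc]
    rfl

end Regular

end Groth.Agent.Lib.Helper79.InjHullLC
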