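import Mathlib

set_option autoImplicit false
universe u v

namespace Groth.Agent.Lib.Helper79.LocalDuality

section Chase

variable {R : Type*} [CommRing R]
variable {X₁ X₂ X₃ Y₁ Y₂ Y₃ : Type*}
  [AddCommGroup X₁] [Module R X₁] [AddCommGroup X₂] [Module R X₂] [AddCommGroup X₃] [Module R X₃]
  [AddCommGroup Y₁] [Module R Y₁] [AddCommGroup Y₂] [Module R Y₂] [AddCommGroup Y₃] [Module R Y₃]

/-- Comparison of kernels: `0 → X₁ → X₂ → X₃` and `0 → Y₁ → Y₂ → Y₃` exact, `ψ₂` bijective,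
`ψ₃` injective, then `ψ₁` bijective. -/
theorem bijective_of_left_exact (a : X₁ →ₗ[R] X₂) (b : X₂ →ₗ[R] X₃) (a' : Y₁ →ₗ[R] Y₂)
    (b' : Y₂ →ₗ[R] Y₃) (ψ₁ : X₁ →ₗ[R] Y₁) (ψ₂ : X₂ →ₗ[R] Y₂) (ψ₃ : X₃ →ₗ[R] Y₃)
    (ha : Function.Injective a) (hab : ∀ x, b x = 0 → ∃ x₁, a x₁ = x)
    (ha' : Function.Injective a') (hab' : ∀ y, b' (a' y) = 0)
    (h12 : ∀ x, ψ₂ (a x) = a' (ψ₁ x)) (h23 : ∀ x, ψ₃ (b x) = b' (ψ₂ x))
    (hψ₂ : Function.Bijective ψ₂) (hψ₃ : Function.Injective ψ₃) : Function.Bijective ψ₁ := by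
  constructor
  · rw [injective_iff_map_eq_zero]
    intro x hx
    apply ha
    apply hψ₂.1
    rw [h12, hx, map_zero, map_zero, map_zero]
  · intro y₁
    obtain ⟨x₂, hx₂⟩ := hψ₂.2 (a' y₁)
    have h1 : b x₂ = 0 := by
      apply hψ₃
      rw [h23, hx₂, hab', map_zero]
    obtain ⟨x₁, hx₁⟩ := hab x₂ h1
    refine ⟨x₁, ?_⟩
    apply ha'
    rw [← h12, hx₁, hx₂]

/-- Comparison of cokernels: `X₁ → X₂ → X₃ → 0` and `Y₁ → Y₂ → Y₃ → 0` exact, `ψ₁` surjective,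
`ψ₂` bijective, then `ψ₃` bijective. -/
theorem bijective_of_right_exact (a : X₁ →ₗ[R] X₂) (b : X₂ →ₗ[R] X₃) (a' : Y₁ →ₗ[R] Y₂)
    (b' : Y₂ →ₗ[R] Y₃) (ψ₁ : X₁ →ₗ[R] Y₁) (ψ₂ : X₂ →ₗ[R] Y₂) (ψ₃ : X₃ →ₗ[R] Y₃)
    (hb : Function.Surjective b) (hab : ∀ x, b (a x) = 0)
    (hb' : Function.Surjective b') (hab' : ∀ y, b' y = 0 → ∃ y₁, a' y₁ = y)
    (h12 : ∀ x, ψ₂ (a x) = a' (ψ₁ x)) (h23 : ∀ x, ψ₃ (b x) = b' (ψ₂ x))
    (hψ₁ : Function.Surjective ψ₁) (hψ₂ : Function.Bijective ψ₂) : Function.Bijective ψ₃ := by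
  constructor
  · rw [injective_iff_map_eq_zero]
    intro x hx
    obtain ⟨x₂, rfl⟩ := hb x
    rw [h23] at hx
    obtain ⟨y₁, hy₁⟩ := hab' _ hx
    obtain ⟨x₁, rfl⟩ := hψ₁ y₁
    rw [← h12] at hy₁
    have := hψ₂.1 hy₁
    rw [← this, hab]
  · intro y₃
    obtain ⟨y₂, rfl⟩ := hb' y₃
    obtain ⟨x₂, rfl⟩ := hψ₂.2 y₂
    exact ⟨b x₂, h23 x₂⟩

end Chase

section HomInj

variable {R : Type u} [CommRing R] {D : Type u} [AddCommGroup D] [Module R D]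
  (hD : Module.Injective R D)
variable {X Y Z : Type u} [AddCommGroup X] [Module R X] [AddCommGroup Y] [Module R Y]
  [AddCommGroup Z] [Module R Z]

include hD

/-- (H1) restriction along an injective map is surjective on `Hom(-, D)`. -/
theorem exists_comp_eq_of_injective (u : X →ₗ[R] Y) (hu : Function.Injective u) (g : X →ₗ[R] D) :
    ∃ g' : Y →ₗ[R] D, g' ∘ₗ u = g := by
  have := hD
  exact Module.Injective.extension_property R D X Y u hu g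

/-- (H2) exactness of `Hom(-, D)` in the middle. -/
theorem exists_comp_eq_of_exact (u : X →ₗ[R] Y) (v : Y →ₗ[R] Z)
    (huv : ∀ y, v y = 0 → ∃ x, u x = y) (h : Y →ₗ[R] D) (hu : h ∘ₗ u = 0) :
    ∃ h' : Z →ₗ[R] D, h' ∘ₗ v = h := by
  have hker : LinearMap.ker v ≤ LinearMap.ker h := by
    intro y hy
    obtain ⟨x, rfl⟩ := huv y hy
    exact LinearMap.congr_fun hu x
  let ι : (Y ⧸ LinearMap.ker v) →ₗ[R] Z := (LinearMap.ker v).liftQ v le_rfl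
  have hι : Function.Injective ι := by
    rw [← LinearMap.ker_eq_bot]
    exact Submodule.ker_liftQ_eq_bot _ _ _ le_rfl
  obtain ⟨h', hh'⟩ := exists_comp_eq_of_injective hD ι hι ((LinearMap.ker v).liftQ h hker)
  refine ⟨h', ?_⟩
  ext y
  have := LinearMap.congr_fun hh' (Submodule.Quotient.mk y)
  simpa [ι] using this

end HomInj

end Groth.Agent.Lib.Helper79.LocalDuality
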