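import Mathlib
import Groth.Agent.Lib.Helper79.LocalDualityA
import Groth.Agent.Lib.Helper79.ExtRepD

set_option autoImplicit false
universe u
open CategoryTheory CategoryTheory.Limits Opposite Abelian

namespace Groth.Agent.Lib.Helper79.LocalDuality

open Groth.Agent.Lib.Helper60 Groth.Agent.Lib.Helper79.ExtRep

variable {R : Type u} [CommRing R] (J : Ideal R)

section postcomp

variable {M N P : ModuleCat.{u} R}

lemma lcPostcomp_add {d : ℕ} (e e' : Abelian.Ext M N d) (i j : ℕ) (h : i + d = j)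
    (y : (localCohomology J i).obj M) :
    lcPostcomp J (e + e') i j h y = lcPostcomp J e i j h y + lcPostcomp J e' i j h y := by
  obtain ⟨n, x, rfl⟩ := lcMk_surj J i M y
  rw [lcPostcomp_lcMk, lcPostcomp_lcMk, lcPostcomp_lcMk, Ext.comp_add, lcMk_add]

lemma lcPostcomp_smul {d : ℕ} (a : R) (e : Abelian.Ext M N d) (i j : ℕ) (h : i + d = j)
    (y : (localCohomology J i).obj M) :
    lcPostcomp J (a • e) i j h y = a • lcPostcomp J e i j h y := by
  obtain ⟨n, x, rfl⟩ := lcMk_surj J i M y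
  rw [lcPostcomp_lcMk, lcPostcomp_lcMk, Ext.comp_smul, lcMk_smul]

lemma lcPostcomp_zero {d : ℕ} (i j : ℕ) (h : i + d = j)
    (y : (localCohomology J i).obj M) :
    lcPostcomp J (0 : Abelian.Ext M N d) i j h y = 0 := by
  obtain ⟨n, x, rfl⟩ := lcMk_surj J i M y
  rw [lcPostcomp_lcMk, Ext.comp_zero, lcMk_zero]

lemma lcPostcomp_comp {d d' : ℕ} (e : Abelian.Ext M N d) (e' : Abelian.Ext N P d')
    (i j k : ℕ) (h : i + d = j) (h' : j + d' = k) {dd : ℕ} (hdd : d + d' = dd)
    (y : (localCohomology J i).obj M) :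
    lcPostcomp J e' j k h' (lcPostcomp J e i j h y) =
      lcPostcomp J (e.comp e' hdd) i k (by omega) y := by
  obtain ⟨n, x, rfl⟩ := lcMk_surj J i M y
  rw [lcPostcomp_lcMk, lcPostcomp_lcMk, lcPostcomp_lcMk]
  congr 1
  exact Ext.comp_assoc x e e' h hdd (by omega)

end postcomp

/-- The Yoneda pairing `H^i_J(M) → Hom(Ext^d(M, ω), H^{i+d}_J(ω))`. -/
noncomputable def Psi (ω M : ModuleCat.{u} R) (i d r : ℕ) (h : i + d = r) :
    (localCohomology J i).obj M →ₗ[R]
      (Abelian.Ext M ω d →ₗ[R] (localCohomology J r).obj ω) where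
  toFun x :=
    { toFun := fun ξ => lcPostcomp J ξ i r h x
      map_add' := fun ξ ξ' => lcPostcomp_add J ξ ξ' i r h x
      map_smul' := fun a ξ => lcPostcomp_smul J a ξ i r h x }
  map_add' x x' := by
    ext ξ
    show lcPostcomp J ξ i r h (x + x') = lcPostcomp J ξ i r h x + lcPostcomp J ξ i r h x'
    rw [map_add]
  map_smul' a x := by
    ext ξ
    show lcPostcomp J ξ i r h (a • x) = a • lcPostcomp J ξ i r h x
    rw [map_smul]

lemma Psi_apply (ω M : ModuleCat.{u} R) (i d r : ℕ) (h : i + d = r)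
    (x : (localCohomology J i).obj M) (ξ : Abelian.Ext M ω d) :
    Psi J ω M i d r h x ξ = lcPostcomp J ξ i r h x := rfl

/-- (N1) naturality of `Psi` in `M`. -/
lemma Psi_map (ω : ModuleCat.{u} R) {M N : ModuleCat.{u} R} (φ : M ⟶ N) (i d r : ℕ)
    (h : i + d = r) (x : (localCohomology J i).obj M) (ξ : Abelian.Ext N ω d) :
    Psi J ω N i d r h (((localCohomology J i).map φ).hom x) ξ = Psi J ω M i d r h x (pull φ ξ) := by
  rw [Psi_apply, Psi_apply, lcMap_eq_lcPostcomp, lcPostcomp_comp J (Ext.mk₀ φ) ξ i i r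
    (add_zero i) h (zero_add d)]
  rfl

/-- (N2) compatibility of `Psi` with connecting homomorphisms. -/
lemma Psi_delta (ω : ModuleCat.{u} R) {S : ShortComplex (ModuleCat.{u} R)} (hS : S.ShortExact)
    (i d r : ℕ) (h : i + 1 + d = r) (x : (localCohomology J i).obj S.X₃)
    (ξ : Abelian.Ext S.X₁ ω d) :
    Psi J ω S.X₁ (i + 1) d r h (lcDelta J hS i x) ξ =
      Psi J ω S.X₃ i (1 + d) r (by omega) x (hS.extClass.comp ξ rfl) := by
  rw [Psi_apply, Psi_apply]
  exact lcPostcomp_comp J hS.extClass ξ i (i + 1) r rfl h rfl x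

end Groth.Agent.Lib.Helper79.LocalDuality
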