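import Mathlib
import Groth.Agent.Lib.Helper79.LocalDualityB

set_option autoImplicit false
universe u
open CategoryTheory CategoryTheory.Limits Opposite Abelian

namespace Groth.Agent.Lib.Helper79.LocalDuality

open Groth.Agent.Lib.Helper60 Groth.Agent.Lib.Helper79.ExtRep

variable {R : Type u} [CommRing R] (J : Ideal R)

section lcMapLinear

variable {M N : ModuleCat.{u} R}

lemma lcPostcomp_sum {d : ℕ} {ι : Type*} (s : Finset ι) (e : ι → Abelian.Ext M N d) (i j : ℕ)
    (h : i + d = j) (y : (localCohomology J i).obj M) :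
    lcPostcomp J (∑ k ∈ s, e k) i j h y = ∑ k ∈ s, lcPostcomp J (e k) i j h y := by
  classical
  induction s using Finset.induction_on with
  | empty => simp [lcPostcomp_zero]
  | insert a s ha ih => rw [Finset.sum_insert ha, Finset.sum_insert ha, lcPostcomp_add, ih]

lemma lcMap_sum {ι : Type*} [Fintype ι] (φ : ι → (M ⟶ N)) (i : ℕ)
    (x : (localCohomology J i).obj M) :
    ((localCohomology J i).map (∑ k, φ k)).hom x = ∑ k, ((localCohomology J i).map (φ k)).hom x := by
  rw [lcMap_eq_lcPostcomp, Ext.mk₀_sum, lcPostcomp_sum]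
  apply Finset.sum_congr rfl
  intro k _
  rw [lcMap_eq_lcPostcomp]

lemma lcMap_smul (a : R) (φ : M ⟶ N) (i : ℕ) (x : (localCohomology J i).obj M) :
    ((localCohomology J i).map (a • φ)).hom x = a • ((localCohomology J i).map φ).hom x := by
  rw [lcMap_eq_lcPostcomp, Ext.mk₀_smul, lcPostcomp_smul, lcMap_eq_lcPostcomp]

lemma lcMap_comp_apply {P : ModuleCat.{u} R} (φ : M ⟶ N) (ψ : N ⟶ P) (i : ℕ)
    (x : (localCohomology J i).obj M) :
    ((localCohomology J i).map (φ ≫ ψ)).hom x =
      ((localCohomology J i).map ψ).hom (((localCohomology J i).map φ).hom x) := by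
  rw [CategoryTheory.Functor.map_comp]
  rfl

lemma lcMap_id_apply (i : ℕ) (x : (localCohomology J i).obj M) :
    ((localCohomology J i).map (𝟙 M)).hom x = x := by
  rw [CategoryTheory.Functor.map_id]
  rfl

lemma lcMap_zero_apply (i : ℕ) (x : (localCohomology J i).obj M) :
    ((localCohomology J i).map (0 : M ⟶ N)).hom x = 0 := by
  rw [lcMap_eq_lcPostcomp, Ext.mk₀_zero, lcPostcomp_zero]

end lcMapLinear

section Free

variable (R)

/-- `R` as an object. -/
abbrev ωR : ModuleCat.{u} R := ModuleCat.of R R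

/-- the free module `R^b`. -/
abbrev FF (b : ℕ) : ModuleCat.{u} R := ModuleCat.of R (Fin b → R)

variable {R}

/-- inclusion of the `j`-th factor. -/
noncomputable def ιF (b : ℕ) (j : Fin b) : ωR R ⟶ FF R b :=
  ModuleCat.ofHom (LinearMap.single R (fun _ : Fin b => R) j)

/-- projection to the `j`-th factor. -/
noncomputable def πF (b : ℕ) (j : Fin b) : FF R b ⟶ ωR R :=
  ModuleCat.ofHom (LinearMap.proj (R := R) (φ := fun _ : Fin b => R) j)

lemma id_eq_sum_F (b : ℕ) : 𝟙 (FF R b) = ∑ j, πF (R := R) b j ≫ ιF b j := by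
  apply ModuleCat.hom_ext
  apply LinearMap.ext
  intro z
  rw [ModuleCat.hom_sum, LinearMap.sum_apply]
  show z = ∑ j, (Pi.single j (z j) : Fin b → R)
  exact (Finset.univ_sum_single z).symm

/-- a morphism `R^b → R` is the combination of the projections with its values on the basis. -/
lemma eq_sum_smul_πF (b : ℕ) (φ : FF R b ⟶ ωR R) :
    φ = ∑ j, (φ.hom (Pi.single j 1)) • πF (R := R) b j := by
  apply ModuleCat.hom_ext
  apply LinearMap.ext
  intro z
  rw [ModuleCat.hom_sum, LinearMap.sum_apply]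
  have hz : z = ∑ j, z j • (Pi.single j 1 : Fin b → R) := by
    conv_lhs => rw [← Finset.univ_sum_single z]
    apply Finset.sum_congr rfl
    intro j _
    rw [← Pi.single_smul, smul_eq_mul, mul_one]
  conv_lhs => rw [hz, map_sum]
  apply Finset.sum_congr rfl
  intro j _
  rw [map_smul]
  show z j • φ.hom (Pi.single j 1) = φ.hom (Pi.single j 1) • z j
  rw [smul_eq_mul, smul_eq_mul, mul_comm]

/-- an endomorphism of `R` is a scalar. -/
lemma eq_smul_id (φ : ωR R ⟶ ωR R) : φ = (φ.hom (1 : R)) • 𝟙 (ωR R) := by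
  apply ModuleCat.hom_ext
  apply LinearMap.ext
  intro z
  show φ.hom z = φ.hom 1 • z
  have : z = z • (1 : R) := by rw [smul_eq_mul, mul_one]
  conv_lhs => rw [this, map_smul]
  rw [smul_eq_mul, smul_eq_mul, mul_comm]

/-- (F1) vanishing of `H^i_J` passes to free modules. -/
lemma lc_FF_subsingleton (i b : ℕ) (h : Subsingleton ((localCohomology J i).obj (ωR R))) :
    Subsingleton ((localCohomology J i).obj (FF R b)) := by
  refine ⟨fun x y => ?_⟩
  have key : ∀ x : (localCohomology J i).obj (FF R b), x = 0 := by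
    intro x
    rw [← lcMap_id_apply J i x, id_eq_sum_F, lcMap_sum]
    apply Finset.sum_eq_zero
    intro j _
    rw [lcMap_comp_apply]
    have : ((localCohomology J i).map (πF b j)).hom x = 0 := Subsingleton.elim _ _
    rw [this, map_zero]
  rw [key x, key y]

/-- (F2) the Yoneda pairing is bijective in top degree for free modules. -/
theorem Psi_FF_bijective (r b : ℕ) :
    Function.Bijective (Psi J (ωR R) (FF R b) r 0 r (add_zero r)) := by
  have hΨ : ∀ (x : (localCohomology J r).obj (FF R b)) (φ : FF R b ⟶ ωR R),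
      Psi J (ωR R) (FF R b) r 0 r (add_zero r) x (Ext.mk₀ φ) =
        ((localCohomology J r).map φ).hom x := by
    intro x φ
    rw [Psi_apply, lcMap_eq_lcPostcomp]
  constructor
  · rw [injective_iff_map_eq_zero]
    intro x hx
    rw [← lcMap_id_apply J r x, id_eq_sum_F, lcMap_sum]
    apply Finset.sum_eq_zero
    intro j _
    rw [lcMap_comp_apply, ← hΨ, hx, LinearMap.zero_apply, map_zero]
  · intro g
    refine ⟨∑ j, ((localCohomology J r).map (ιF b j)).hom (g (Ext.mk₀ (πF b j))), ?_⟩
    ext ξ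
    obtain ⟨φ, rfl⟩ := (Ext.mk₀_bijective (FF R b) (ωR R)).2 ξ
    rw [hΨ, map_sum]
    have h1 : ∀ j, ((localCohomology J r).map φ).hom
        (((localCohomology J r).map (ιF b j)).hom (g (Ext.mk₀ (πF b j)))) =
        (φ.hom (Pi.single j 1)) • g (Ext.mk₀ (πF b j)) := by
      intro j
      rw [← lcMap_comp_apply, eq_smul_id (ιF b j ≫ φ), lcMap_smul, lcMap_id_apply]
      rfl
    rw [Finset.sum_congr rfl (fun j _ => h1 j)]
    conv_rhs => rw [eq_sum_smul_πF b φ, Ext.mk₀_sum, map_sum]
    apply Finset.sum_congr rfl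
    intro j _
    rw [Ext.mk₀_smul, map_smul]

end Free

end Groth.Agent.Lib.Helper79.LocalDuality
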