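import Mathlib
import Groth.Agent.Lib.Helper79.LocalDualityC

set_option autoImplicit false
universe u
open CategoryTheory CategoryTheory.Limits Opposite Abelian

namespace Groth.Agent.Lib.Helper79.LocalDuality

open Groth.Agent.Lib.Helper60 Groth.Agent.Lib.Helper79.ExtRep

variable {R : Type u} [CommRing R] (J : Ideal R)

/-- pull-back of Ext classes as a linear map. -/
noncomputable def pullₗ {X Y G : ModuleCat.{u} R} (n : ℕ) (φ : X ⟶ Y) :
    Abelian.Ext Y G n →ₗ[R] Abelian.Ext X G n :=
  (Ext.mk₀ φ).precompOfLinear R G (zero_add n)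

lemma pullₗ_apply {X Y G : ModuleCat.{u} R} (n : ℕ) (φ : X ⟶ Y) (ξ : Abelian.Ext Y G n) :
    pullₗ n φ ξ = pull φ ξ := rfl

/-- The hypotheses for local duality with respect to `R` itself, in degree `r`. -/
structure DualData (r : ℕ) : Prop where
  vanish_lt : ∀ i < r, Subsingleton ((localCohomology J i).obj (ωR R))
  vanish_succ : ∀ (N : Type u) [AddCommGroup N] [Module R N], Module.Finite R N →
    Subsingleton ((localCohomology J (r + 1)).obj (ModuleCat.of R N))
  injective : Module.Injective R ((localCohomology J r).obj (ωR R))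

variable {J} {r : ℕ} [IsNoetherianRing R]

/-- degree `0`: surjectivity for every finite module. -/
theorem Psi_zero_surjective (hdata : DualData J r) (M : Type u) [AddCommGroup M] [Module R M]
    [Module.Finite R M] :
    Function.Surjective (Psi J (ωR R) (ModuleCat.of R M) r 0 r (add_zero r)) := by
  intro g
  obtain ⟨b, π, hπ⟩ := Module.Finite.exists_fin' R M
  have hepi : Epi (ModuleCat.ofHom π) := (ModuleCat.epi_iff_surjective _).mpr hπ
  have hinj : Function.Injective (pullₗ (G := ωR R) 0 (ModuleCat.ofHom π)) :=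
    Ext.precomp_mk₀_injective_of_epi (ωR R) (ModuleCat.ofHom π)
  obtain ⟨g', hg'⟩ := exists_comp_eq_of_injective hdata.injective _ hinj g
  obtain ⟨x, hx⟩ := (Psi_FF_bijective J r b).2 g'
  refine ⟨((localCohomology J r).map (ModuleCat.ofHom π)).hom x, ?_⟩
  ext ξ
  rw [Psi_map, hx, ← hg']
  rfl

/-- degree `0`: bijectivity for every finite module. -/
theorem Psi_zero_bijective (hdata : DualData J r) (M : Type u) [AddCommGroup M] [Module R M]
    [Module.Finite R M] :
    Function.Bijective (Psi J (ωR R) (ModuleCat.of R M) r 0 r (add_zero r)) := by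
  obtain ⟨b, π, hπ⟩ := Module.Finite.exists_fin' R M
  have hS := sesOfSurjective_shortExact π hπ
  have hKfin : Module.Finite R (LinearMap.ker π) := Module.Finite.of_fg (IsNoetherian.noetherian _)
  have hepi : Epi (ModuleCat.ofHom π) := (ModuleCat.epi_iff_surjective _).mpr hπ
  have hinj : Function.Injective (pullₗ (G := ωR R) 0 (ModuleCat.ofHom π)) :=
    Ext.precomp_mk₀_injective_of_epi (ωR R) (ModuleCat.ofHom π)
  let D := (localCohomology J r).obj (ωR R)
  refine bijective_of_right_exact
    (((localCohomology J r).map (sesOfSurjective π).f).hom)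
    (((localCohomology J r).map (sesOfSurjective π).g).hom)
    (LinearMap.lcomp R D (pullₗ (G := ωR R) 0 (sesOfSurjective π).f))
    (LinearMap.lcomp R D (pullₗ (G := ωR R) 0 (sesOfSurjective π).g))
    (Psi J (ωR R) (sesOfSurjective π).X₁ r 0 r (add_zero r))
    (Psi J (ωR R) (sesOfSurjective π).X₂ r 0 r (add_zero r))
    (Psi J (ωR R) (sesOfSurjective π).X₃ r 0 r (add_zero r))
    ?_ ?_ ?_ ?_ ?_ ?_ ?_ ?_
  · -- `H^r(g)` surjective
    intro y
    have hsub := hdata.vanish_succ (LinearMap.ker π) hKfin
    have hy : lcDelta J hS r y = 0 := @Subsingleton.elim _ hsub _ _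
    exact lc_exact₃ J hS r y hy
  · intro x
    exact lcMap_comp_map J r x
  · -- restriction surjective on `Hom(-, D)`
    intro h
    obtain ⟨h', hh'⟩ := exists_comp_eq_of_injective hdata.injective _ hinj h
    exact ⟨h', hh'⟩
  · -- exactness in the middle
    intro h hh
    have := exists_comp_eq_of_exact hdata.injective
      (pullₗ (G := ωR R) 0 (sesOfSurjective π).g) (pullₗ (G := ωR R) 0 (sesOfSurjective π).f)
      (fun y hy => Ext.contravariant_sequence_exact₂ hS (ωR R) y hy) h hh
    obtain ⟨h', hh'⟩ := this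
    exact ⟨h', hh'⟩
  · intro x
    ext ξ
    rw [Psi_map]
    rfl
  · intro x
    ext ξ
    rw [Psi_map]
    rfl
  · exact Psi_zero_surjective hdata (LinearMap.ker π)
  · exact Psi_FF_bijective J r b


/-- The inductive step. -/
theorem Psi_bijective_succ (hdata : DualData J r) (d : ℕ)
    (IH : ∀ (N : Type u) [AddCommGroup N] [Module R N] [Module.Finite R N] (i : ℕ)
      (h : i + d = r), Function.Bijective (Psi J (ωR R) (ModuleCat.of R N) i d r h))
    (M : Type u) [AddCommGroup M] [Module R M] [Module.Finite R M] (i : ℕ)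
    (h : i + (1 + d) = r) :
    Function.Bijective (Psi J (ωR R) (ModuleCat.of R M) i (1 + d) r h) := by
  obtain ⟨b, π, hπ⟩ := Module.Finite.exists_fin' R M
  have hS := sesOfSurjective_shortExact π hπ
  have hKfin : Module.Finite R (LinearMap.ker π) := Module.Finite.of_fg (IsNoetherian.noetherian _)
  have hi1 : i + 1 + d = r := by omega
  let D := (localCohomology J r).obj (ωR R)
  have hproj : Projective (sesOfSurjective π).X₂ := by
    show Projective (ModuleCat.of R (Fin b → R))
    rw [← IsProjective.iff_projective]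
    infer_instance
  -- the connecting map on Ext is surjective
  have hdsurj : Function.Surjective
      (hS.extClass.precompOfLinear R (ωR R) (rfl : 1 + d = 1 + d)) := by
    intro x₃
    have h0 : (Ext.mk₀ (sesOfSurjective π).g).comp x₃ (zero_add (1 + d)) = 0 := by
      have : Subsingleton (Abelian.Ext (sesOfSurjective π).X₂ (ωR R) (1 + d)) := by
        rw [add_comm]
        exact Ext.subsingleton_of_projective _ _ d
      exact Subsingleton.elim _ _
    obtain ⟨x₁, hx₁⟩ := Ext.contravariant_sequence_exact₃ hS (ωR R) x₃ h0 (rfl : 1 + d = 1 + d)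
    exact ⟨x₁, hx₁⟩
  refine bijective_of_left_exact
    (lcDelta J hS i)
    (((localCohomology J (i + 1)).map (sesOfSurjective π).f).hom)
    (LinearMap.lcomp R D (hS.extClass.precompOfLinear R (ωR R) (rfl : 1 + d = 1 + d)))
    (LinearMap.lcomp R D (pullₗ (G := ωR R) d (sesOfSurjective π).f))
    (Psi J (ωR R) (sesOfSurjective π).X₃ i (1 + d) r h)
    (Psi J (ωR R) (sesOfSurjective π).X₁ (i + 1) d r hi1)
    (Psi J (ωR R) (sesOfSurjective π).X₂ (i + 1) d r hi1)
    ?_ ?_ ?_ ?_ ?_ ?_ ?_ ?_
  · -- `δ` injective
    rw [injective_iff_map_eq_zero]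
    intro y hy
    obtain ⟨y₂, rfl⟩ := lc_exact₃ J hS i y hy
    have hsub : Subsingleton ((localCohomology J i).obj (FF R b)) :=
      lc_FF_subsingleton J i b (hdata.vanish_lt i (by omega))
    have : y₂ = 0 := @Subsingleton.elim _ hsub _ _
    rw [this, map_zero]
  · intro x hx
    exact lc_exact₁ J hS i x hx
  · -- `(· ∘ ∂)` injective
    intro h₁ h₂ h12
    ext ξ
    obtain ⟨ξ', rfl⟩ := hdsurj ξ
    exact LinearMap.congr_fun h12 ξ'
  · intro y
    ext ξ
    show y (hS.extClass.comp ((Ext.mk₀ (sesOfSurjective π).f).comp ξ (zero_add d)) rfl) = 0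
    rw [hS.extClass_comp_assoc, map_zero]
  · intro x
    ext ξ
    exact Psi_delta J (ωR R) hS i d r hi1 x ξ
  · intro x
    ext ξ
    rw [Psi_map]
    rfl
  · exact IH (LinearMap.ker π) (i + 1) hi1
  · exact (IH (Fin b → R) (i + 1) hi1).1

/-- **Local duality** (abstract form): under `DualData`, the Yoneda pairing
`H^i_J(M) → Hom(Ext^d(M, R), H^r_J(R))`, `i + d = r`, is bijective for every finite `M`. -/
theorem Psi_bijective (hdata : DualData J r) (d : ℕ) :
    ∀ (M : Type u) [AddCommGroup M] [Module R M] [Module.Finite R M] (i : ℕ)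
      (h : i + d = r), Function.Bijective (Psi J (ωR R) (ModuleCat.of R M) i d r h) := by
  induction d with
  | zero =>
    intro M _ _ _ i h
    have hi : i = r := by omega
    subst hi
    exact Psi_zero_bijective hdata M
  | succ d ih =>
    intro M _ _ _ i h
    have h' : i + (1 + d) = r := by omega
    have := Psi_bijective_succ hdata d ih M i h'
    have hdd : d + 1 = 1 + d := add_comm d 1
    revert h
    rw [hdd]
    intro h
    exact this

end Groth.Agent.Lib.Helper79.LocalDuality
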