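import Mathlib
import Groth.Agent.Lib.Helper79.LocalDualityD
import Groth.Agent.Lib.Helper79.InjHullLC
import Groth.Agent.Lib.Helper60.GrothVanishing
import Groth.Agent.Lib.Helper2.InjHull

set_option autoImplicit false
universe u
open CategoryTheory CategoryTheory.Limits Opposite Abelian

namespace Groth.Agent.Lib.Helper79.LocalDuality

open Groth.Agent.Lib.Helper60 Groth.Agent.Lib.Helper79.ExtRep Groth.Agent.Lib.Helper79.InjHullLC

variable (A : Type u) [CommRing A] [IsRegularLocalRing A] (r : ℕ) (hr : ringKrullDim A = r)

include hr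

/-- A regular local ring of dimension `r` satisfies the hypotheses of local duality. -/
theorem dualData_of_isRegularLocalRing : DualData (IsLocalRing.maximalIdeal A) r where
  vanish_lt i hi := by
    refine ⟨fun x y => ?_⟩
    have key : ∀ x : (localCohomology (IsLocalRing.maximalIdeal A) i).obj (ωR A), x = 0 := by
      intro x
      obtain ⟨n, ξ, rfl⟩ := lcMk_surj (IsLocalRing.maximalIdeal A) i (ωR A) x
      have hsub := ext_subsingleton_of_ne A r hr
        (X := A ⧸ (IsLocalRing.maximalIdeal A) ^ n)
        (killed_quotPow (J := IsLocalRing.maximalIdeal A) n) i (by omega)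
      have : ξ = 0 := @Subsingleton.elim _ hsub _ _
      rw [this, lcMk_zero]
    rw [key x, key y]
  vanish_succ N _ _ hN := by
    apply lc_subsingleton_of_supportDim_lt_of_finite (IsLocalRing.maximalIdeal A) (r + 1) N
    refine lt_of_le_of_lt (Module.supportDim_le_ringKrullDim A N) ?_
    rw [hr]
    exact_mod_cast Nat.lt_succ_self r
  injective := injective_H A r hr

/-- Local duality for a regular local ring (new `Ext`, target `H^r_m(A)`). -/
theorem nonempty_linearEquiv_of_isRegularLocalRing (M : Type u) [AddCommGroup M] [Module A M]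
    [Module.Finite A M] (i : ℕ) (hi : i ≤ r) :
    Nonempty ((localCohomology (IsLocalRing.maximalIdeal A) i).obj (ModuleCat.of A M) ≃ₗ[A]
      (Abelian.Ext (ModuleCat.of A M) (ωR A) (r - i) →ₗ[A]
        (localCohomology (IsLocalRing.maximalIdeal A) r).obj (ωR A))) :=
  ⟨LinearEquiv.ofBijective _
    (Psi_bijective (dualData_of_isRegularLocalRing A r hr) (r - i) M i (by omega))⟩

end Groth.Agent.Lib.Helper79.LocalDuality
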