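import Groth.Prelude.Def_ProCons
import Mathlib

set_option autoImplicit false

namespace Groth.Agent.Lib.Helper79

open CategoryTheory AlgebraicGeometry Topology TopologicalSpace
universe u

/-- preimage of a locally constructible set under a morphism of schemes is locally constructible -/
theorem isLocallyConstructible_preimage_scheme {X Y : Scheme.{u}} (f : X ⟶ Y) {s : Set Y}
    (hs : IsLocallyConstructible s) : IsLocallyConstructible (f.base ⁻¹' s) := by
  intro x
  obtain ⟨W, hWn, hWo, hc⟩ := hs (f.base x)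
  let Wo : Y.Opens := ⟨W, hWo⟩
  refine ⟨f.base ⁻¹' W, f.continuous.continuousAt.preimage_mem_nhds hWn, hWo.preimage f.continuous, ?_⟩
  have := (f ∣_ Wo).isConstructible_preimage (s := (Subtype.val ⁻¹' s : Set Wo)) hc
  have e : ((f ∣_ Wo).base ⁻¹' (Subtype.val ⁻¹' s : Set Wo)) =
      (Subtype.val ⁻¹' (f.base ⁻¹' s) : Set (f.base ⁻¹' W)) := by
    ext ⟨y, hy⟩
    rw [morphismRestrict_base]
    rfl
  rw [e] at this
  exact this

theorem isLocallyConstructible_restrictPreimage {X Y : Scheme.{u}} (f : X ⟶ Y) (V : Set Y)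
    (hV : IsOpen V) {A : Set V} (hA : IsLocallyConstructible A) :
    IsLocallyConstructible ((V.restrictPreimage f.base) ⁻¹' A) := by
  let Vo : Y.Opens := ⟨V, hV⟩
  have := isLocallyConstructible_preimage_scheme (f ∣_ Vo) (s := A) hA
  rw [morphismRestrict_base] at this
  exact this

theorem isProConstructible_preimage_scheme {X Y : Scheme.{u}} (f : X ⟶ Y) (T : Set Y)
    (hT : ProCons.IsProConstructible T) :
    ProCons.IsProConstructible (f.base ⁻¹' T) := by
  intro x
  obtain ⟨V, hVo, hxV, S, hS, hSeq⟩ := hT (f.base x)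
  refine ⟨f.base ⁻¹' V, hVo.preimage f.continuous, hxV,
    (fun A => (V.restrictPreimage f.base) ⁻¹' A) '' S, ?_, ?_⟩
  · rintro _ ⟨A, hA, rfl⟩
    exact isLocallyConstructible_restrictPreimage f V hVo (hS A hA)
  · rw [Set.sInter_image, ← Set.preimage_sInter, ← hSeq]
    rfl

theorem isIndConstructible_preimage_scheme {X Y : Scheme.{u}} (f : X ⟶ Y) (T : Set Y)
    (hT : ProCons.IsIndConstructible T) :
    ProCons.IsIndConstructible (f.base ⁻¹' T) := by
  intro x
  obtain ⟨V, hVo, hxV, S, hS, hSeq⟩ := hT (f.base x)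
  refine ⟨f.base ⁻¹' V, hVo.preimage f.continuous, hxV,
    (fun A => (V.restrictPreimage f.base) ⁻¹' A) '' S, ?_, ?_⟩
  · rintro _ ⟨A, hA, rfl⟩
    exact isLocallyConstructible_restrictPreimage f V hVo (hS A hA)
  · rw [Set.sUnion_image, ← Set.preimage_sUnion, ← hSeq]
    rfl

end Groth.Agent.Lib.Helper79
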