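import Mathlib
import Groth.Prelude.Def_W4c2azumayainvolQEt

set_option autoImplicit false
set_option linter.style.haveILetI false
universe u v
open TensorProduct

namespace Groth.Agent.Lib.Helper79.RInvLib

section
variable {S : Type u} {R : Type v} [CommRing S] [CommRing R] [Algebra S R] (lam : R ≃+* R)

/-- decomposition `x = a + b r` with `a, b` in the fixed ring when `r - lam r` is a unit -/
theorem exists_decomp (hlam : Function.Involutive lam) (hS : RInv.IsFixedRing S R lam)
    (r : R) (hu : IsUnit (r - lam r)) (x : R) :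
    ∃ a b : S, x = algebraMap S R a + algebraMap S R b * r := by
  obtain ⟨hinj, hfix⟩ := hS
  obtain ⟨u, hu'⟩ := hu
  have hlu : lam (u : R) = -(u : R) := by rw [hu', map_sub, hlam r]; ring
  have hlui : lam ((u⁻¹ : Rˣ) : R) = -((u⁻¹ : Rˣ) : R) := by
    have h1 : lam ((u⁻¹ : Rˣ) : R) * lam (u : R) = 1 := by
      rw [← map_mul, Units.inv_mul, map_one]
    have h2 : lam ((u⁻¹ : Rˣ) : R) = lam ((u⁻¹ : Rˣ) : R) * lam (u : R) * (-((u⁻¹ : Rˣ) : R)) := by
      rw [hlu]
      have : (u : R) * ((u⁻¹ : Rˣ) : R) = 1 := Units.mul_inv u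
      linear_combination (-(lam ((u⁻¹ : Rˣ) : R))) * this
    rw [h2, h1, one_mul]
  set bx : R := (x - lam x) * ((u⁻¹ : Rˣ) : R) with hbx
  have hb_fix : lam bx = bx := by
    rw [hbx, map_mul, map_sub, hlam x, hlui]; ring
  obtain ⟨b, hb⟩ := (hfix bx).1 hb_fix
  have hbu : bx * (r - lam r) = x - lam x := by
    rw [hbx, ← hu', mul_assoc, Units.inv_mul, mul_one]
  have ha_fix : lam (x - bx * r) = x - bx * r := by
    rw [map_sub, map_mul, hb_fix]
    linear_combination hbu
  obtain ⟨a, ha⟩ := (hfix (x - bx * r)).1 ha_fix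
  refine ⟨a, b, ?_⟩
  rw [ha, hb]; ring

theorem decomp_unique (hS : RInv.IsFixedRing S R lam)
    (r : R) (hu : IsUnit (r - lam r)) (a b : S)
    (h : algebraMap S R a + algebraMap S R b * r = 0) : a = 0 ∧ b = 0 := by
  obtain ⟨hinj, hfix⟩ := hS
  have h1 : lam (algebraMap S R a) = algebraMap S R a := (hfix _).2 ⟨a, rfl⟩
  have h2 : lam (algebraMap S R b) = algebraMap S R b := (hfix _).2 ⟨b, rfl⟩
  have h3 : algebraMap S R a + algebraMap S R b * lam r = 0 := by
    have := congrArg lam h
    rwa [map_add, map_mul, h1, h2, map_zero] at this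
  have h4 : algebraMap S R b * (r - lam r) = 0 := by linear_combination h - h3
  have h5 : algebraMap S R b = 0 := by
    obtain ⟨u, hu'⟩ := hu
    rw [← hu'] at h4
    exact (Units.mul_left_eq_zero u).1 h4
  have hb : b = 0 := hinj (h5.trans (map_zero _).symm)
  rw [h5, zero_mul, add_zero] at h
  exact ⟨hinj (h.trans (map_zero _).symm), hb⟩

/-- the `S`-linear isomorphism `S × S ≃ R`, `(a, b) ↦ a + b r` -/
noncomputable def basisEquiv (hlam : Function.Involutive lam) (hS : RInv.IsFixedRing S R lam)
    (r : R) (hu : IsUnit (r - lam r)) : (S × S) ≃ₗ[S] R :=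
  LinearEquiv.ofBijective
    ((Algebra.linearMap S R).coprod ((LinearMap.toSpanSingleton S R r)))
    (by
      constructor
      · rw [← LinearMap.ker_eq_bot, LinearMap.ker_eq_bot']
        rintro ⟨a, b⟩ h
        have h' : algebraMap S R a + algebraMap S R b * r = 0 := by
          simpa [Algebra.smul_def] using h
        obtain ⟨ha, hb⟩ := decomp_unique lam hS r hu a b h'
        rw [ha, hb]; rfl
      · intro x
        obtain ⟨a, b, hx⟩ := exists_decomp lam hlam hS r hu x
        refine ⟨(a, b), ?_⟩
        simp [Algebra.smul_def, hx])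

theorem isQuadEtale_of_isUnit_sub (hlam : Function.Involutive lam) (hS : RInv.IsFixedRing S R lam)
    (r : R) (hu : IsUnit (r - lam r)) : RInv.IsQuadEtale S R := by
  have e := basisEquiv lam hlam hS r hu
  haveI : Module.Free S R := Module.Free.of_equiv e
  haveI : Module.Finite S R := Module.Finite.equiv e
  refine ⟨inferInstance, inferInstance, ⟨?_⟩, fun p => ?_⟩
  · -- Kähler differentials vanish
    obtain ⟨hinj, hfix⟩ := hS
    obtain ⟨t₀, ht₀⟩ := (hfix (r + lam r)).1 (by rw [map_add, hlam r]; ring)
    have hDr : KaehlerDifferential.D S R r = 0 := by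
      have hrr : r * r = algebraMap S R t₀ * r - r * lam r := by rw [ht₀]; ring
      obtain ⟨n₀, hn₀⟩ := (hfix (r * lam r)).1 (by rw [map_mul, hlam r]; ring)
      have h1 := congrArg (KaehlerDifferential.D S R) hrr
      rw [Derivation.leibniz, map_sub, Derivation.leibniz, Derivation.map_algebraMap, smul_zero,
        add_zero, ← hn₀, Derivation.map_algebraMap, sub_zero] at h1
      have h2 : (r - lam r) • KaehlerDifferential.D S R r = 0 := by
        have : r - lam r = r + r - algebraMap S R t₀ := by rw [ht₀]; ring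
        rw [this, sub_smul, add_smul, h1, sub_self]
      obtain ⟨u, hu'⟩ := hu
      rw [← hu'] at h2
      have := congrArg (fun w => ((u⁻¹ : Rˣ) : R) • w) h2
      simpa [smul_smul] using this
    have hD : ∀ x : R, KaehlerDifferential.D S R x = 0 := by
      intro x
      obtain ⟨a, b, hx⟩ := exists_decomp lam hlam ⟨hinj, hfix⟩ r hu x
      rw [hx, map_add, Derivation.map_algebraMap, Derivation.leibniz, Derivation.map_algebraMap,
        hDr, smul_zero, smul_zero, add_zero, add_zero]
    refine subsingleton_of_forall_eq 0 fun ω => ?_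
    have hω : ω ∈ Submodule.span R (Set.range (KaehlerDifferential.D S R)) := by
      rw [KaehlerDifferential.span_range_derivation]; trivial
    have hle : Submodule.span R (Set.range (KaehlerDifferential.D S R)) ≤ ⊥ := by
      rw [Submodule.span_le]
      rintro _ ⟨x, rfl⟩
      rw [hD x]; exact Submodule.zero_mem _
    exact (Submodule.mem_bot R).1 (hle hω)
  · haveI : Nontrivial S := p.nontrivial
    rw [Module.rankAtStalk_eq_finrank_of_free]
    change Module.finrank S R = 2
    rw [← e.finrank_eq, Module.finrank_prod, Module.finrank_self]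

end

end Groth.Agent.Lib.Helper79.RInvLib
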