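import Mathlib
import Groth.Prelude.Def_W4c2azumayainvolQEt
import Groth.Agent.Lib.Helper79.RInvBasic

set_option autoImplicit false
set_option linter.style.haveILetI false
universe u v
open TensorProduct

namespace Groth.Agent.Lib.Helper79.RInvLib

section
variable {S : Type u} {R : Type v} [CommRing S] [CommRing R] [Algebra S R] (lam : R ≃+* R)

lemma lam_algebraMap (hS : RInv.IsFixedRing S R lam) (s : S) :
    lam (algebraMap S R s) = algebraMap S R s := (hS.2 _).2 ⟨s, rfl⟩

lemma exists_trace (hlam : Function.Involutive lam) (hS : RInv.IsFixedRing S R lam) (y : R) :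
    ∃ t : S, algebraMap S R t = y + lam y :=
  (hS.2 (y + lam y)).1 (by rw [map_add, hlam y]; ring)

lemma exists_norm (hlam : Function.Involutive lam) (hS : RInv.IsFixedRing S R lam) (y : R) :
    ∃ n : S, algebraMap S R n = y * lam y :=
  (hS.2 (y * lam y)).1 (by rw [map_mul, hlam y]; ring)

lemma mem_jacobson_iff_forall_maximal (x : R) :
    x ∈ Ring.jacobson R ↔ ∀ M : Ideal R, M.IsMaximal → x ∈ M := by
  rw [Ring.jacobson_eq_sInf_isMaximal, Ideal.mem_sInf]
  rfl

/-- every maximal ideal of `R` contains the image of the maximal ideal of the local fixed ring -/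
theorem algebraMap_mem_of_mem_maximalIdeal [IsLocalRing S] (hlam : Function.Involutive lam)
    (hS : RInv.IsFixedRing S R lam) (M : Ideal R) (hM : M.IsMaximal) (s : S)
    (hs : s ∈ IsLocalRing.maximalIdeal S) : algebraMap S R s ∈ M := by
  by_contra hsM
  obtain ⟨y, z, hz, hyz⟩ := hM.exists_inv hsM
  obtain ⟨t, ht⟩ := exists_trace lam hlam hS y
  obtain ⟨n, hn⟩ := exists_norm lam hlam hS y
  have hz' : z = 1 - y * algebraMap S R s := by linear_combination hyz
  have hzz : z * lam z = algebraMap S R (1 - s * (t - s * n)) := by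
    rw [hz', map_sub, map_one, map_mul, lam_algebraMap lam hS, map_sub, map_one, map_mul, map_sub,
      map_mul, ht, hn]
    ring
  have hunit : IsUnit (1 - s * (t - s * n)) := by
    have hmem : s * (t - s * n) ∈ IsLocalRing.maximalIdeal S :=
      (IsLocalRing.maximalIdeal S).mul_mem_right _ hs
    by_contra hnu
    have h1 : (1 - s * (t - s * n)) ∈ IsLocalRing.maximalIdeal S := hnu
    have : (1 : S) ∈ IsLocalRing.maximalIdeal S := by
      have := (IsLocalRing.maximalIdeal S).add_mem h1 hmem
      simpa using this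
    exact (IsLocalRing.maximalIdeal.isMaximal S).ne_top ((Ideal.eq_top_iff_one _).2 this)
  have hzu : IsUnit z := isUnit_of_mul_isUnit_left (hzz ▸ hunit.map (algebraMap S R))
  exact hM.ne_top (Ideal.eq_top_of_isUnit_mem _ hz hzu)

/-- a (skew-)invariant element outside the Jacobson radical is a unit -/
theorem isUnit_of_notMem_jacobson [IsLocalRing S] (hlam : Function.Involutive lam)
    (hS : RInv.IsFixedRing S R lam) (d : R) (hd : lam d = -d ∨ lam d = d)
    (hdJ : d ∉ Ring.jacobson R) : IsUnit d := by
  obtain ⟨n, hn⟩ := exists_norm lam hlam hS d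
  by_cases hnu : IsUnit n
  · have : IsUnit (d * lam d) := hn ▸ hnu.map (algebraMap S R)
    exact isUnit_of_mul_isUnit_left this
  · exfalso
    apply hdJ
    rw [mem_jacobson_iff_forall_maximal]
    intro M hM
    have hnM : algebraMap S R n ∈ M :=
      algebraMap_mem_of_mem_maximalIdeal lam hlam hS M hM n hnu
    rw [hn] at hnM
    rcases hM.isPrime.mem_or_mem hnM with h | h
    · exact h
    · rcases hd with hd | hd
      · rw [hd] at h
        simpa using M.neg_mem h
      · rwa [hd] at h

end

end Groth.Agent.Lib.Helper79.RInvLib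

namespace Groth.Agent.Lib.Helper79.RInvLib

section
variable {S : Type u} {R : Type v} [CommRing S] [CommRing R] [Algebra S R]

/-- an endomorphism of an unramified algebra which is the identity modulo the Jacobson radical
is the identity -/
theorem eq_id_of_sub_mem_jacobson [Algebra.FormallyUnramified S R] [Algebra.EssFiniteType S R]
    (μ : R →ₐ[S] R) (h : ∀ r, μ r - r ∈ Ring.jacobson R) (r : R) : μ r = r := by
  obtain ⟨t, ht1, ht2⟩ :=
    (Algebra.FormallyUnramified.iff_exists_tensorProduct (R := S) (S := R)).1 inferInstance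
  let Φ : R ⊗[S] R →ₐ[S] R :=
    Algebra.TensorProduct.lift (AlgHom.id S R) μ (fun _ _ => Commute.all _ _)
  have hΦ : ∀ x y : R, Φ (x ⊗ₜ y) = x * μ y := fun x y => by
    simp [Φ]
  have hdiff : ∀ w : R ⊗[S] R, Φ w - Algebra.TensorProduct.lmul' S w ∈ Ring.jacobson R := by
    intro w
    induction w using TensorProduct.induction_on with
    | zero => simp
    | tmul x y =>
        rw [hΦ, Algebra.TensorProduct.lmul'_apply_tmul, ← mul_sub]
        exact Ideal.mul_mem_left _ _ (h y)
    | add a b ha hb =>
        rw [map_add, map_add, add_sub_add_comm]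
        exact Ideal.add_mem _ ha hb
  have hε : IsUnit (Φ t) := by
    apply Ideal.isUnit_of_sub_one_mem_jacobson_bot
    rw [Ideal.jacobson_bot, ← ht2]
    exact hdiff t
  have h0 : (μ r - r) * Φ t = 0 := by
    have := congrArg Φ (ht1 r)
    rw [map_mul, map_sub, hΦ, hΦ, map_zero, map_one, one_mul, mul_one] at this
    exact this
  have := (hε.mul_left_eq_zero).1 h0
  exact sub_eq_zero.1 this

end

section
variable {S : Type u} {R : Type v} [CommRing S] [CommRing R] [Algebra S R] (lam : R ≃+* R)

/-- `lam` as an `S`-algebra automorphism -/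
def lamAlgHom (hS : RInv.IsFixedRing S R lam) : R →ₐ[S] R :=
  { lam.toRingHom with commutes' := fun s => lam_algebraMap lam hS s }

theorem exists_isUnit_sub_of_isQuadEtale [IsLocalRing S] (hlam : Function.Involutive lam)
    (hS : RInv.IsFixedRing S R lam) (hq : RInv.IsQuadEtale S R) :
    ∃ r : R, IsUnit (r - lam r) := by
  by_contra hno
  rw [not_exists] at hno
  obtain ⟨hfin, hproj, hunr, hrank⟩ := hq
  have hJ : ∀ r : R, (lamAlgHom lam hS) r - r ∈ Ring.jacobson R := by
    intro r
    by_contra hr
    have hr' : r - lam r ∉ Ring.jacobson R := by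
      intro h'
      apply hr
      have := (Ring.jacobson R).neg_mem h'
      rwa [neg_sub] at this
    exact hno r (isUnit_of_notMem_jacobson lam hlam hS (r - lam r)
      (Or.inl (by rw [map_sub, hlam r]; ring)) hr')
  have hid : ∀ r : R, lam r = r := fun r => eq_id_of_sub_mem_jacobson (lamAlgHom lam hS) hJ r
  -- then algebraMap is bijective, so the rank is one
  have hbij : Function.Bijective (Algebra.linearMap S R) :=
    ⟨hS.1, fun r => (hS.2 r).1 (hid r)⟩
  let e : S ≃ₗ[S] R := LinearEquiv.ofBijective (Algebra.linearMap S R) hbij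
  have h1 := Module.rankAtStalk_eq_of_equiv e
  have h2 : Module.rankAtStalk (R := S) S = 1 := Module.rankAtStalk_self
  have h3 := hrank (IsLocalRing.closedPoint S)
  rw [← h1, h2] at h3
  simp at h3

end

end Groth.Agent.Lib.Helper79.RInvLib

namespace Groth.Agent.Lib.Helper79.RInvLib

section
variable {S : Type u} {R : Type v} [CommRing S] [CommRing R] [Algebra S R] (lam : R ≃+* R)

theorem isLocalRing_of_forall_sub_mem_jacobson [IsLocalRing S] (hlam : Function.Involutive lam)
    (hS : RInv.IsFixedRing S R lam) (h : ∀ r : R, lam r - r ∈ Ring.jacobson R) :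
    IsLocalRing R := by
  haveI : Nontrivial R := hS.1.nontrivial
  apply IsLocalRing.of_unique_max_ideal
  obtain ⟨M, hM⟩ := Ideal.exists_maximal R
  refine ⟨M, hM, fun M' hM' => ?_⟩
  refine (hM'.eq_of_le hM.ne_top ?_)
  intro x hx
  by_contra hxM
  have hJ : lam x - x ∈ M := (mem_jacobson_iff_forall_maximal _).1 (h x) M hM
  have hlx : lam x ∉ M := by
    intro hl
    apply hxM
    have := M.sub_mem hl hJ
    simpa using this
  obtain ⟨n, hn⟩ := exists_norm lam hlam hS x
  have hnM' : algebraMap S R n ∈ M' := by rw [hn]; exact M'.mul_mem_right _ hx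
  have hnm : n ∈ IsLocalRing.maximalIdeal S := by
    change ¬ IsUnit n
    intro hu
    exact hM'.ne_top (Ideal.eq_top_of_isUnit_mem _ hnM' (hu.map (algebraMap S R)))
  have hnM := algebraMap_mem_of_mem_maximalIdeal lam hlam hS M hM n hnm
  rw [hn] at hnM
  rcases hM.isPrime.mem_or_mem hnM with h1 | h1
  · exact hxM h1
  · exact hlx h1

theorem not_isQuadEtale_of_forall_sub_mem_jacobson [IsLocalRing S]
    (hlam : Function.Involutive lam)
    (hS : RInv.IsFixedRing S R lam) (h : ∀ r : R, lam r - r ∈ Ring.jacobson R) :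
    ¬ RInv.IsQuadEtale S R := by
  intro hq
  obtain ⟨r, hr⟩ := exists_isUnit_sub_of_isQuadEtale lam hlam hS hq
  haveI : Nontrivial R := hS.1.nontrivial
  have h1 : r - lam r ∈ Ring.jacobson R := by
    have := (Ring.jacobson R).neg_mem (h r)
    rwa [neg_sub] at this
  obtain ⟨M, hM⟩ := Ideal.exists_maximal R
  exact hM.ne_top (Ideal.eq_top_of_isUnit_mem _
    ((mem_jacobson_iff_forall_maximal _).1 h1 M hM) hr)

theorem isQuadEtale_of_exists_notMem_jacobson [IsLocalRing S]
    (hlam : Function.Involutive lam)
    (hS : RInv.IsFixedRing S R lam) (h : ∃ r : R, lam r - r ∉ Ring.jacobson R) :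
    RInv.IsQuadEtale S R := by
  obtain ⟨r, hr⟩ := h
  have hu : IsUnit (lam r - r) := isUnit_of_notMem_jacobson lam hlam hS (lam r - r)
    (Or.inl (by rw [map_sub, hlam r]; ring)) hr
  have hu' : IsUnit (r - lam r) := by
    have := hu.neg
    rwa [neg_sub] at this
  exact isQuadEtale_of_isUnit_sub lam hlam hS r hu'

end

end Groth.Agent.Lib.Helper79.RInvLib
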