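import Mathlib
import Groth.Prelude.Def_W4c2azumayainvolQEt
import Groth.Agent.Lib.Helper79.RInvLocal

set_option autoImplicit false
set_option linter.style.haveILetI false
universe u v
open TensorProduct

namespace Groth.Agent.Lib.Helper79.RInvLib

section
variable {S : Type u} {R : Type v} [CommRing S] [CommRing R] [Algebra S R] (lam : R ≃+* R)

lemma lam_mem_jacobson (x : R) (hx : x ∈ Ring.jacobson R) : lam x ∈ Ring.jacobson R := by
  rw [mem_jacobson_iff_forall_maximal] at hx ⊢
  intro M hM
  have hM' : (M.comap lam.toRingHom).IsMaximal :=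
    Ideal.comap_isMaximal_of_surjective lam.toRingHom lam.surjective
  exact hx _ hM'

/-- a fixed element of the Jacobson radical lies in the extension of the maximal ideal -/
lemma fixed_mem_map_of_mem_jacobson [IsLocalRing S] (hS : RInv.IsFixedRing S R lam)
    (z : R) (hz : z ∈ Ring.jacobson R) (hfix : lam z = z) :
    z ∈ (IsLocalRing.maximalIdeal S).map (algebraMap S R) := by
  haveI : Nontrivial R := hS.1.nontrivial
  obtain ⟨b, rfl⟩ := (hS.2 z).1 hfix
  apply Ideal.mem_map_of_mem
  change ¬ IsUnit b
  intro hb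
  obtain ⟨M, hM⟩ := Ideal.exists_maximal R
  exact hM.ne_top (Ideal.eq_top_of_isUnit_mem _
    ((mem_jacobson_iff_forall_maximal _).1 hz M hM) (hb.map (algebraMap S R)))

theorem jacobson_sq_le [IsLocalRing S] (hlam : Function.Involutive lam)
    (hS : RInv.IsFixedRing S R lam) (h2 : IsUnit (2 : S)) :
    (Ring.jacobson R) ^ 2 ≤ (IsLocalRing.maximalIdeal S).map (algebraMap S R) := by
  rw [pow_two, Ideal.mul_le]
  intro x hx y hy
  obtain ⟨c, hc⟩ := h2.exists_left_inv
  set half : R := algebraMap S R c with hhalf
  have hhalf2 : half * 2 = 1 := by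
    rw [hhalf, ← map_ofNat (algebraMap S R) 2, ← map_mul, hc, map_one]
  have hlhalf : lam half = half := lam_algebraMap lam hS c
  set mI := (IsLocalRing.maximalIdeal S).map (algebraMap S R) with hmI
  have hxp : half * (x + lam x) ∈ mI := by
    apply fixed_mem_map_of_mem_jacobson lam hS
    · exact Ideal.mul_mem_left _ _ (Ideal.add_mem _ hx (lam_mem_jacobson lam x hx))
    · rw [map_mul, map_add, hlam x, hlhalf]; ring
  have hyp : half * (y + lam y) ∈ mI := by
    apply fixed_mem_map_of_mem_jacobson lam hS
    · exact Ideal.mul_mem_left _ _ (Ideal.add_mem _ hy (lam_mem_jacobson lam y hy))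
    · rw [map_mul, map_add, hlam y, hlhalf]; ring
  have hmm : (half * (x - lam x)) * (half * (y - lam y)) ∈ mI := by
    apply fixed_mem_map_of_mem_jacobson lam hS
    · apply Ideal.mul_mem_right
      exact Ideal.mul_mem_left _ _ (Ideal.sub_mem _ hx (lam_mem_jacobson lam x hx))
    · rw [map_mul, map_mul, map_mul, map_sub, map_sub, hlam x, hlam y, hlhalf]; ring
  have key : x * y = (half * (x + lam x)) * y + (half * (x - lam x)) * (half * (y + lam y)) +
      (half * (x - lam x)) * (half * (y - lam y)) := by
    linear_combination (-(x * y) * (1 + half) + lam x * y * half) * hhalf2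
  rw [key]
  exact Ideal.add_mem _ (Ideal.add_mem _ (Ideal.mul_mem_right _ _ hxp)
    (Ideal.mul_mem_left _ _ hyp)) hmm

end

end Groth.Agent.Lib.Helper79.RInvLib

namespace Groth.Agent.Lib.Helper79.RInvLib

section
variable {S : Type u} {R : Type v} [CommRing S] [CommRing R] [Algebra S R]

theorem map_maximalIdeal_le_jacobson [IsLocalRing S] [Module.Finite S R] :
    (IsLocalRing.maximalIdeal S).map (algebraMap S R) ≤ Ring.jacobson R := by
  rw [Ideal.map_le_iff_le_comap]
  intro s hs
  rw [Ideal.mem_comap, mem_jacobson_iff_forall_maximal]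
  intro M hM
  haveI : Algebra.IsIntegral S R := Algebra.IsIntegral.of_finite S R
  have hmax : (M.comap (algebraMap S R)).IsMaximal :=
    Ideal.isMaximal_comap_of_isIntegral_of_isMaximal (R := S) M
  have := IsLocalRing.eq_maximalIdeal hmax
  have hs' : s ∈ M.comap (algebraMap S R) := by rw [this]; exact hs
  exact hs'

theorem jacobson_eq_map_maximalIdeal [IsLocalRing S] (hq : RInv.IsQuadEtale S R) :
    Ring.jacobson R = (IsLocalRing.maximalIdeal S).map (algebraMap S R) := by
  obtain ⟨hfin, hproj, hunr, hrank⟩ := hq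
  apply le_antisymm _ map_maximalIdeal_le_jacobson
  set mR := (IsLocalRing.maximalIdeal S).map (algebraMap S R) with hmR
  have hrad : mR.IsRadical :=
    Algebra.FormallyUnramified.isRadical_map_isMaximal S R (IsLocalRing.maximalIdeal S)
  have hred : IsReduced (R ⧸ mR) := (Ideal.isRadical_iff_quotient_reduced mR).1 hrad
  -- the quotient is Artinian
  letI : Field (S ⧸ IsLocalRing.maximalIdeal S) := Ideal.Quotient.field _
  haveI : Module.Finite S (R ⧸ mR) := Module.Finite.of_surjective
    (Ideal.Quotient.mkₐ S mR).toLinearMap (Ideal.Quotient.mkₐ_surjective S mR)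
  haveI : Module.Finite (S ⧸ IsLocalRing.maximalIdeal S) (R ⧸ mR) :=
    Module.Finite.of_restrictScalars_finite S _ _
  haveI : IsArtinianRing (R ⧸ mR) :=
    isArtinian_of_tower (S ⧸ IsLocalRing.maximalIdeal S) inferInstance
  have hJ : mR.jacobson = mR := by
    rw [Ideal.jacobson_eq_iff_jacobson_quotient_eq_bot, IsArtinianRing.jacobson_eq_radical,
      ← Ideal.zero_eq_bot, ← nilradical, nilradical_eq_zero]
  rw [← Ideal.jacobson_bot]
  calc (⊥ : Ideal R).jacobson ≤ mR.jacobson := Ideal.jacobson_mono bot_le
    _ = mR := hJ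

end

end Groth.Agent.Lib.Helper79.RInvLib
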