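import Mathlib
import Groth.Prelude.Def_W4c2azumayainvolQEt
import Groth.Agent.Lib.Helper79.RInvJac

set_option autoImplicit false
set_option linter.style.haveILetI false
universe u v
open TensorProduct

namespace Groth.Agent.Lib.Helper79.RInvLib

section
variable {S : Type u} {R : Type v} [CommRing S] [CommRing R] [Algebra S R] (lam : R ≃+* R)

/-- the involution acts transitively on the maximal ideals -/
theorem maximal_eq_or_eq_comap [IsLocalRing S] (hlam : Function.Involutive lam)
    (hS : RInv.IsFixedRing S R lam) (M M' : Ideal R) (hM : M.IsMaximal) (hM' : M'.IsMaximal) :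
    M' = M ∨ M' = M.comap lam.toRingHom := by
  have hMl : (M.comap lam.toRingHom).IsMaximal :=
    Ideal.comap_isMaximal_of_surjective lam.toRingHom lam.surjective
  by_contra hne
  rw [not_or] at hne
  have h1 : ¬ M' ≤ M := fun h => hne.1 (hM'.eq_of_le hM.ne_top h)
  have h2 : ¬ M' ≤ M.comap lam.toRingHom := fun h => hne.2 (hM'.eq_of_le hMl.ne_top h)
  have h3 : ¬ ((M' : Set R) ⊆ (M : Set R) ∪ (M.comap lam.toRingHom : Set R)) := by
    rw [Ideal.subset_union]
    rintro (h | h)
    · exact h1 h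
    · exact h2 h
  rw [Set.not_subset] at h3
  obtain ⟨x, hxM', hx⟩ := h3
  rw [Set.mem_union, not_or] at hx
  have hxM : x ∉ M := hx.1
  have hlxM : lam x ∉ M := hx.2
  obtain ⟨n, hn⟩ := exists_norm lam hlam hS x
  have hnM' : algebraMap S R n ∈ M' := by rw [hn]; exact M'.mul_mem_right _ hxM'
  have hnm : n ∈ IsLocalRing.maximalIdeal S := by
    change ¬ IsUnit n
    intro hu
    exact hM'.ne_top (Ideal.eq_top_of_isUnit_mem _ hnM' (hu.map (algebraMap S R)))
  have hnM := algebraMap_mem_of_mem_maximalIdeal lam hlam hS M hM n hnm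
  rw [hn] at hnM
  rcases hM.isPrime.mem_or_mem hnM with h | h
  · exact hxM h
  · exact hlxM h

theorem hilbert90 [IsLocalRing S] (hlam : Function.Involutive lam)
    (hS : RInv.IsFixedRing S R lam) (hq : RInv.IsQuadEtale S R) (r : Rˣ)
    (hr : lam r * r = 1) : ∃ a : Rˣ, (r : R) = (a⁻¹ : Rˣ) * lam a := by
  obtain ⟨r₀, hu⟩ := exists_isUnit_sub_of_isQuadEtale lam hlam hS hq
  have hrr : lam (lam (r : R)) = r := hlam r
  -- the three candidates
  set a₁ : R := 1 + lam r with ha₁
  set a₂ : R := r₀ + lam r₀ * lam r with ha₂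
  have hl₁ : lam a₁ = r * a₁ := by
    rw [ha₁, map_add, map_one, hrr]
    linear_combination (-1 : R) * hr
  have hl₂ : lam a₂ = r * a₂ := by
    rw [ha₂, map_add, map_mul, hrr, hlam r₀]
    linear_combination (-lam r₀) * hr
  have hcomb : r₀ * a₁ - a₂ = (r₀ - lam r₀) * lam r := by rw [ha₁, ha₂]; ring
  have hunit : IsUnit ((r₀ - lam r₀) * lam r) := by
    apply hu.mul
    exact IsUnit.of_mul_eq_one _ hr
  -- one of a₁, a₂, a₁ + a₂ is a unit
  have key : IsUnit a₁ ∨ IsUnit a₂ ∨ IsUnit (a₁ + a₂) := by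
    by_contra hno
    rw [not_or, not_or] at hno
    obtain ⟨h1, h2, h3⟩ := hno
    obtain ⟨M₁, hM₁, ha₁M⟩ := exists_max_ideal_of_mem_nonunits h1
    obtain ⟨M₂, hM₂, ha₂M⟩ := exists_max_ideal_of_mem_nonunits h2
    obtain ⟨M₃, hM₃, ha₃M⟩ := exists_max_ideal_of_mem_nonunits h3
    have bad : ∀ M : Ideal R, M.IsMaximal → a₁ ∈ M → a₂ ∈ M → False := by
      intro M hM h1 h2
      have : (r₀ - lam r₀) * lam r ∈ M := by
        rw [← hcomb]; exact M.sub_mem (M.mul_mem_left _ h1) h2
      exact hM.ne_top (Ideal.eq_top_of_isUnit_mem _ this hunit)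
    rcases maximal_eq_or_eq_comap lam hlam hS M₁ M₂ hM₁ hM₂ with e | e
    · rw [e] at ha₂M
      exact bad M₁ hM₁ ha₁M ha₂M
    · rcases maximal_eq_or_eq_comap lam hlam hS M₁ M₃ hM₁ hM₃ with e' | e'
      · rw [e'] at ha₃M
        have : a₂ ∈ M₁ := by
          have := M₁.sub_mem ha₃M ha₁M
          simpa using this
        exact bad M₁ hM₁ ha₁M this
      · rw [← e] at e'
        rw [e'] at ha₃M
        have : a₁ ∈ M₂ := by
          have := M₂.sub_mem ha₃M ha₂M
          simpa using this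
        exact bad M₂ hM₂ this ha₂M
  have fin : ∀ a : R, IsUnit a → lam a = r * a → ∃ a : Rˣ, (r : R) = (a⁻¹ : Rˣ) * lam a := by
    intro a ha hla
    refine ⟨ha.unit, ?_⟩
    rw [IsUnit.unit_spec, hla]
    have : ((ha.unit⁻¹ : Rˣ) : R) * a = 1 := by
      have := Units.inv_mul ha.unit
      rwa [IsUnit.unit_spec] at this
    linear_combination (-(r : R)) * this
  rcases key with h | h | h
  · exact fin a₁ h hl₁
  · exact fin a₂ h hl₂
  · exact fin (a₁ + a₂) h (by rw [map_add, hl₁, hl₂]; ring)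

end

end Groth.Agent.Lib.Helper79.RInvLib
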