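import Mathlib
import Groth.Prelude.Def_W4c2azumayainvolQEt
import Groth.Agent.Lib.Helper79.RInvH90

set_option autoImplicit false
set_option linter.style.haveILetI false
universe u v w
open TensorProduct

namespace Groth.Agent.Lib.Helper79.RInvLib

section
variable {S : Type u} {R : Type v} {S' : Type w} [CommRing S] [CommRing R] [Algebra S R]
  [CommRing S'] [Algebra S S'] (lam : R ≃ₐ[S] R)

/-- the base-changed involution -/
noncomputable abbrev bcLam : (S' ⊗[S] R) ≃+* (S' ⊗[S] R) :=
  (Algebra.TensorProduct.congr (AlgEquiv.refl : S' ≃ₐ[S] S') lam).toRingEquiv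

lemma bcLam_tmul (s' : S') (r : R) : bcLam (S' := S') lam (s' ⊗ₜ r) = s' ⊗ₜ lam r := by
  simp [bcLam]

lemma bcLam_eq_lTensor (z : S' ⊗[S] R) :
    bcLam (S' := S') lam z = (lam.toLinearMap.lTensor S') z := by
  induction z using TensorProduct.induction_on with
  | zero => simp
  | tmul s' r => rw [bcLam_tmul]; rfl
  | add a b ha hb => rw [map_add, map_add, ha, hb]

theorem isFixedRing_baseChange_aux
    (hA : Function.Injective ((Algebra.linearMap S R).lTensor S'))
    (hB : ∀ z : S' ⊗[S] R, bcLam (S' := S') lam z = z →
      z ∈ LinearMap.range ((Algebra.linearMap S R).lTensor S')) :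
    RInv.IsFixedRing S' (S' ⊗[S] R) (bcLam (S' := S') lam) := by
  have halg : ∀ s' : S', algebraMap S' (S' ⊗[S] R) s' =
      ((Algebra.linearMap S R).lTensor S') ((TensorProduct.rid S S').symm s') := by
    intro s'
    simp [Algebra.TensorProduct.algebraMap_apply]
  constructor
  · intro a b hab
    rw [halg, halg] at hab
    exact (TensorProduct.rid S S').symm.injective (hA hab)
  · intro z
    constructor
    · intro hz
      obtain ⟨w, hw⟩ := hB z hz
      refine ⟨TensorProduct.rid S S' w, ?_⟩
      rw [halg, LinearEquiv.symm_apply_apply, hw]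
    · rintro ⟨s', rfl⟩
      rw [Algebra.TensorProduct.algebraMap_apply, bcLam_tmul, map_one]

theorem isFixedRing_baseChange_of_flat [Module.Flat S S']
    (hS : RInv.IsFixedRing S R lam.toRingEquiv) :
    RInv.IsFixedRing S' (S' ⊗[S] R) (bcLam (S' := S') lam) := by
  apply isFixedRing_baseChange_aux
  · exact Module.Flat.lTensor_preserves_injective_linearMap _ hS.1
  · intro z hz
    have hex : Function.Exact (Algebra.linearMap S R)
        (lam.toLinearMap - (LinearMap.id : R →ₗ[S] R)) := by
      intro r
      rw [LinearMap.sub_apply, sub_eq_zero]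
      exact (hS.2 r)
    have hex' := Module.Flat.lTensor_exact S' hex
    apply (hex' z).1
    rw [LinearMap.lTensor_sub, LinearMap.sub_apply, ← bcLam_eq_lTensor, hz]
    simp

theorem isFixedRing_baseChange_of_isUnit_two (hlam : Function.Involutive lam)
    (hS : RInv.IsFixedRing S R lam.toRingEquiv) (h2 : IsUnit (2 : S)) :
    RInv.IsFixedRing S' (S' ⊗[S] R) (bcLam (S' := S') lam) := by
  obtain ⟨c, hc⟩ := h2.exists_left_inv
  have hfix : ∀ x : R, lam.toRingEquiv (c • (x + lam x)) = c • (x + lam x) := by
    intro x
    change lam (c • (x + lam x)) = _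
    rw [map_smul, map_add, hlam x, add_comm]
  choose π hπ using fun x => (hS.2 _).1 (hfix x)
  let πl : R →ₗ[S] S :=
    { toFun := π
      map_add' := fun x y => by
        apply hS.1
        rw [map_add, hπ, hπ, hπ, map_add]
        simp only [smul_add]
        abel
      map_smul' := fun s x => by
        apply hS.1
        rw [hπ, RingHom.id_apply, smul_eq_mul, map_mul, hπ, map_smul]
        simp only [Algebra.smul_def]
        ring }
  have hιπ : (Algebra.linearMap S R) ∘ₗ πl = c • (LinearMap.id + lam.toLinearMap) := by
    ext x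
    exact hπ x
  have hπι : πl ∘ₗ (Algebra.linearMap S R) = LinearMap.id := by
    ext
    apply hS.1
    change algebraMap S R (π (algebraMap S R 1)) = algebraMap S R 1
    rw [hπ, map_one, map_one]
    rw [← two_smul S (1 : R), smul_smul, hc, one_smul]
  apply isFixedRing_baseChange_aux
  · apply Function.LeftInverse.injective (g := πl.lTensor S')
    intro w
    rw [← LinearMap.comp_apply, ← LinearMap.lTensor_comp, hπι, LinearMap.lTensor_id]
    rfl
  · intro z hz
    refine ⟨(πl.lTensor S') z, ?_⟩
    rw [← LinearMap.comp_apply, ← LinearMap.lTensor_comp, hιπ, LinearMap.lTensor_smul,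
      LinearMap.lTensor_add, LinearMap.lTensor_id, LinearMap.smul_apply, LinearMap.add_apply,
      ← bcLam_eq_lTensor, hz, LinearMap.id_apply, ← two_smul S z, smul_smul, hc, one_smul]

end

end Groth.Agent.Lib.Helper79.RInvLib
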