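import Mathlib
import Groth.Prelude.Def_W4c2azumayainvolQEt
import Groth.Agent.Lib.Helper79.RInvBC

set_option autoImplicit false
set_option linter.style.haveILetI false
universe u v w
open TensorProduct

namespace Groth.Agent.Lib.Helper79.RInvLib

section
variable {S : Type u} {R : Type v} [CommRing S] [CommRing R] [Algebra S R] (lam : R ≃+* R)

/-- `lam` as an `S`-algebra equivalence -/
def lamAlgEquiv (hS : RInv.IsFixedRing S R lam) : R ≃ₐ[S] R :=
  AlgEquiv.ofRingEquiv (f := lam) (fun s => lam_algebraMap lam hS s)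

lemma lamAlgEquiv_apply (hS : RInv.IsFixedRing S R lam) (r : R) :
    lamAlgEquiv lam hS r = lam r := rfl

lemma isFixedRing_lamAlgEquiv (hS : RInv.IsFixedRing S R lam) :
    RInv.IsFixedRing S R (lamAlgEquiv lam hS).toRingEquiv :=
  ⟨hS.1, fun r => hS.2 r⟩

lemma bcLam_involutive {S' : Type w} [CommRing S'] [Algebra S S'] (μ : R ≃ₐ[S] R)
    (hμ : Function.Involutive μ) : Function.Involutive (bcLam (S' := S') μ) := by
  intro z
  induction z using TensorProduct.induction_on with
  | zero => simp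
  | tmul s' r => rw [bcLam_tmul, bcLam_tmul, hμ r]
  | add a b ha hb => rw [map_add, map_add, ha, hb]

theorem exists_isQuadEtale_away (hlam : Function.Involutive lam)
    (hS : RInv.IsFixedRing S R lam) (p : PrimeSpectrum S)
    (hp : RInv.IsQuadEtale (Localization.AtPrime p.asIdeal)
      (Localization.AtPrime p.asIdeal ⊗[S] R)) :
    ∃ s : S, s ∉ p.asIdeal ∧
      RInv.IsQuadEtale (Localization.Away s) (Localization.Away s ⊗[S] R) := by
  set μ := lamAlgEquiv lam hS with hμdef
  have hμ : Function.Involutive μ := fun r => hlam r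
  have hSμ := isFixedRing_lamAlgEquiv lam hS
  -- the local situation
  let Sp := Localization.AtPrime p.asIdeal
  have hfixp : RInv.IsFixedRing Sp (Sp ⊗[S] R) (bcLam (S' := Sp) μ) :=
    isFixedRing_baseChange_of_flat μ hSμ
  have hinvp := bcLam_involutive (S' := Sp) μ hμ
  obtain ⟨ρ, hρ⟩ := exists_isUnit_sub_of_isQuadEtale (bcLam (S' := Sp) μ) hinvp hfixp hp
  -- the localization map
  let f : R →ₗ[S] Sp ⊗[S] R := TensorProduct.mk S Sp R 1
  haveI : IsLocalizedModule p.asIdeal.primeCompl f :=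
    (isLocalizedModule_iff_isBaseChange p.asIdeal.primeCompl Sp f).2
      (TensorProduct.isBaseChange S R Sp)
  have hfmul : ∀ a b : R, f (a * b) = f a * f b := fun a b => by
    simp [f]
  have hfone : f 1 = 1 := rfl
  have hfl : ∀ a : R, bcLam (S' := Sp) μ (f a) = f (lam a) := fun a => by
    change bcLam (S' := Sp) μ ((1 : Sp) ⊗ₜ a) = _
    rw [bcLam_tmul]; rfl
  have hsm : ∀ (t : p.asIdeal.primeCompl) (z : Sp ⊗[S] R),
      t • z = (algebraMap S Sp t ⊗ₜ[S] (1 : R)) * z := by
    intro t z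
    change (t : S) • z = _
    rw [Algebra.algebraMap_eq_smul_one, ← TensorProduct.smul_tmul', ← Algebra.TensorProduct.one_def,
      smul_mul_assoc, one_mul]
  have hsmul_unit : ∀ (t : p.asIdeal.primeCompl) (z : Sp ⊗[S] R), IsUnit z → IsUnit (t • z) := by
    intro t z hz
    rw [hsm]
    refine IsUnit.mul ?_ hz
    exact (IsLocalization.map_units Sp t).map
      (Algebra.TensorProduct.includeLeftRingHom (R := S) (A := Sp) (B := R))
  obtain ⟨⟨r', t⟩, ht⟩ := IsLocalizedModule.surj p.asIdeal.primeCompl f ρ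
  simp only at ht
  set d := r' - lam r' with hd
  have hfd : IsUnit (f d) := by
    have h1 : f d = t • (ρ - bcLam (S' := Sp) μ ρ) := by
      rw [hd, map_sub, ← hfl, ← ht, smul_sub]
      congr 1
      rw [hsm, hsm, map_mul, bcLam_tmul, map_one]
    rw [h1]
    exact hsmul_unit t _ hρ
  obtain ⟨σ, hσ⟩ := hfd.exists_right_inv
  obtain ⟨⟨r'', t'⟩, ht'⟩ := IsLocalizedModule.surj p.asIdeal.primeCompl f σ
  simp only at ht'
  have heq : f (d * r'') = f ((t' : S) • (1 : R)) := by
    rw [hfmul, ← ht', map_smul, hfone]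
    change f d * ((t' : S) • σ) = (t' : S) • 1
    rw [mul_smul_comm, hσ]
  obtain ⟨v, hv⟩ := IsLocalizedModule.exists_of_eq (S := p.asIdeal.primeCompl) heq
  refine ⟨(v : S) * (t' : S), (v * t').2, ?_⟩
  set s : S := (v : S) * (t' : S) with hs
  let Ss := Localization.Away s
  have hfixs : RInv.IsFixedRing Ss (Ss ⊗[S] R) (bcLam (S' := Ss) μ) :=
    isFixedRing_baseChange_of_flat μ hSμ
  have hinvs := bcLam_involutive (S' := Ss) μ hμ
  apply isQuadEtale_of_isUnit_sub (bcLam (S' := Ss) μ) hinvs hfixs ((1 : Ss) ⊗ₜ[S] r')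
  rw [bcLam_tmul, ← TensorProduct.tmul_sub]
  change IsUnit ((1 : Ss) ⊗ₜ[S] d)
  have hprod : ((1 : Ss) ⊗ₜ[S] d) * ((1 : Ss) ⊗ₜ[S] ((v : S) • r'')) =
      (algebraMap S Ss s) ⊗ₜ[S] (1 : R) := by
    rw [Algebra.TensorProduct.tmul_mul_tmul, one_mul, mul_smul_comm]
    have hv' : (v : S) • (d * r'') = s • (1 : R) := by
      have := hv
      change (v : S) • (d * r'') = (v : S) • ((t' : S) • (1 : R)) at this
      rw [this, smul_smul]
    rw [hv', TensorProduct.tmul_smul, TensorProduct.smul_tmul', Algebra.smul_def, mul_one]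
  have hu : IsUnit ((algebraMap S Ss s) ⊗ₜ[S] (1 : R)) :=
    (IsLocalization.Away.algebraMap_isUnit (S := Ss) s).map
      (Algebra.TensorProduct.includeLeftRingHom (R := S) (A := Ss) (B := R))
  exact isUnit_of_mul_isUnit_left (hprod ▸ hu)

end

end Groth.Agent.Lib.Helper79.RInvLib
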