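import Mathlib

set_option autoImplicit false
universe u

namespace Groth.Agent.Lib.Helper79.LocLength

variable {R : Type u} [CommRing R]

/-- additivity of localized length -/
theorem length_localized_add (S : Submonoid R) {N M P : Type*} [AddCommGroup N] [AddCommGroup M] [AddCommGroup P]
    [Module R N] [Module R M] [Module R P]
    (f : N →ₗ[R] M) (g : M →ₗ[R] P) (hf : Function.Injective f) (hg : Function.Surjective g)
    (H : Function.Exact f g) :
    Module.length (Localization S) (LocalizedModule S M) =
      Module.length (Localization S) (LocalizedModule S N) +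
        Module.length (Localization S) (LocalizedModule S P) :=
  Module.length_eq_add_of_exact (LocalizedModule.map S f) (LocalizedModule.map S g)
    (LocalizedModule.map_injective S f hf) (LocalizedModule.map_surjective S g hg)
    (LocalizedModule.map_exact S f g H)

theorem length_localized_simple (m : Ideal R) [hm : m.IsMaximal] (Q : Type*) [AddCommGroup Q] [Module R Q]
    [IsSimpleModule R Q] :
    Module.length (Localization.AtPrime m) (LocalizedModule m.primeCompl Q) =
      if Module.annihilator R Q = m then 1 else 0 := by
  split_ifs with h
  · have hunits : ∀ s : m.primeCompl, IsUnit (algebraMap R (Module.End R Q) s) := by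
      intro s
      obtain ⟨t, i, hi, hti⟩ := hm.exists_inv s.2
      have hq : ∀ q : Q, (t * (s : R)) • q = q := by
        intro q
        have h0 : i • q = 0 := Module.mem_annihilator.mp (h ▸ hi) q
        have : (t * (s : R) + i) • q = q := by rw [hti, one_smul]
        rw [add_smul, h0, add_zero] at this
        exact this
      refine isUnit_iff_exists.mpr ⟨algebraMap R _ t, ?_, ?_⟩
      · ext q
        simp only [Module.End.mul_apply, Module.algebraMap_end_apply, Module.End.one_apply]
        rw [← mul_smul, mul_comm]
        exact hq q
      · ext q
        simp only [Module.End.mul_apply, Module.algebraMap_end_apply, Module.End.one_apply]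
        rw [← mul_smul]
        exact hq q
    have hloc : IsLocalizedModule m.primeCompl (LinearMap.id : Q →ₗ[R] Q) :=
      ⟨hunits, fun y => ⟨(y, 1), by simp⟩, fun h => ⟨1, by simpa using h⟩⟩
    let e : LocalizedModule m.primeCompl Q ≃ₗ[R] Q := IsLocalizedModule.iso m.primeCompl LinearMap.id
    have h1 : Module.length (Localization.AtPrime m) (LocalizedModule m.primeCompl Q) ≤
        Module.length R (LocalizedModule m.primeCompl Q) := by
      have := Submodule.length_le_length_restrictScalars R
        (⊤ : Submodule (Localization.AtPrime m) (LocalizedModule m.primeCompl Q))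
      rw [Module.length_top, Submodule.restrictScalars_top, Module.length_top] at this
      exact this
    have h2 : Module.length R (LocalizedModule m.primeCompl Q) = 1 := by
      rw [e.length_eq]
      exact Module.length_eq_one R Q
    have : Nontrivial Q := IsSimpleModule.nontrivial R Q
    have h3 : Nontrivial (LocalizedModule m.primeCompl Q) := e.toEquiv.nontrivial
    have h4 := Module.length_pos (R := Localization.AtPrime m) (M := LocalizedModule m.primeCompl Q)
    rw [h2] at h1
    exact le_antisymm h1 (Order.one_le_iff_pos.mpr h4)
  · have hmax := IsSimpleModule.annihilator_isMaximal (R := R) (M := Q)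
    have hnle : ¬ Module.annihilator R Q ≤ m := fun hle => h (hmax.eq_of_le hm.ne_top hle)
    obtain ⟨r, hr, hrm⟩ := SetLike.not_le_iff_exists.mp hnle
    have : Subsingleton (LocalizedModule m.primeCompl Q) :=
      LocalizedModule.subsingleton_iff.mpr fun q => ⟨r, hrm, Module.mem_annihilator.mp hr q⟩
    exact Module.length_eq_zero

theorem length_localized_covBy (m : Ideal R) [m.IsMaximal] {M : Type*} [AddCommGroup M] [Module R M]
    {N N' : Submodule R M} (h : N ⋖ N') :
    Module.length (Localization.AtPrime m) (LocalizedModule m.primeCompl N') =
      Module.length (Localization.AtPrime m) (LocalizedModule m.primeCompl N) +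
        if N.colon (N' : Set M) = m then 1 else 0 := by
  have hs : IsSimpleModule R (N' ⧸ Submodule.comap N'.subtype N) := (covBy_iff_quot_is_simple h.le).mp h
  have hann : Module.annihilator R (N' ⧸ Submodule.comap N'.subtype N) = N.colon (N' : Set M) := by
    rw [Submodule.annihilator_quotient]
    ext r
    simp only [Submodule.mem_colon, Set.mem_univ, Submodule.mem_comap, Submodule.subtype_apply,
      forall_const, Subtype.forall, SetLike.mem_coe]
    rfl
  rw [length_localized_add m.primeCompl (Submodule.inclusion h.le) (Submodule.comap N'.subtype N).mkQ
    (Submodule.inclusion_injective h.le) (Submodule.mkQ_surjective _)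
    (by
      rw [LinearMap.exact_iff, Submodule.ker_mkQ, Submodule.range_inclusion]),
    length_localized_simple m (N' ⧸ Submodule.comap N'.subtype N), hann]

theorem telescope {α : Type*} [AddCommMonoid α] : ∀ (n : ℕ) (g : Fin (n+1) → α) (d : Fin n → α),
    (∀ j : Fin n, g j.succ = g j.castSucc + d j) → g (Fin.last n) = g 0 + ∑ j, d j := by
  intro n
  induction n with
  | zero => intro g d _; simp
  | succ n ih =>
    intro g d h
    have := ih (g ∘ Fin.castSucc) (d ∘ Fin.castSucc) (fun j => by
      have := h j.castSucc
      rw [Fin.succ_castSucc] at this
      simpa using this)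
    rw [Fin.sum_univ_castSucc, ← add_assoc]
    have h2 := h (Fin.last n)
    rw [Fin.succ_last] at h2
    rw [h2]
    simp only [Function.comp_apply, Fin.castSucc_zero] at this
    rw [this]

end Groth.Agent.Lib.Helper79.LocLength

namespace Groth.Agent.Lib.Helper79.LocLength

theorem annihilator_quot_eq_colon {R : Type u} [CommRing R] {M : Type*} [AddCommGroup M] [Module R M]
    (N N' : Submodule R M) :
    Module.annihilator R (N' ⧸ Submodule.comap N'.subtype N) = N.colon (N' : Set M) := by
  rw [Submodule.annihilator_quotient]
  ext r
  simp only [Submodule.mem_colon, Set.mem_univ, Submodule.mem_comap, Submodule.subtype_apply,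
    forall_const, Subtype.forall, SetLike.mem_coe]
  rfl

theorem length_simple_of_tower {A B : Type u} [CommRing A] [CommRing B] [Algebra A B]
    (Q : Type*) [AddCommGroup Q] [Module B Q] [Module A Q] [IsScalarTower A B Q] [hQ : IsSimpleModule B Q]
    (n : Ideal B) (hn : Module.annihilator B Q = n) [hp : (n.comap (algebraMap A B)).IsMaximal]
    [Module.Finite (A ⧸ n.comap (algebraMap A B)) (B ⧸ n)] :
    Module.length A Q = (Module.finrank (A ⧸ n.comap (algebraMap A B)) (B ⧸ n) : ℕ∞) := by
  obtain ⟨I, hI, ⟨e⟩⟩ := isSimpleModule_iff_quot_maximal.mp hQ
  have hIn : I = n := by rw [← hn, e.annihilator_eq, Ideal.annihilator_quotient]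
  subst hIn
  rw [(e.restrictScalars A).length_eq]
  rw [Module.length_eq_of_surjective (S := A) (R := A ⧸ I.comap (algebraMap A B)) (M := B ⧸ I)
    Ideal.Quotient.mk_surjective]
  let _ := Ideal.Quotient.field (I.comap (algebraMap A B))
  exact Module.length_eq_finrank _ _

theorem length_covBy_of_tower {A B : Type u} [CommRing A] [CommRing B] [Algebra A B]
    {M : Type*} [AddCommGroup M] [Module B M] [Module A M] [IsScalarTower A B M]
    {N N' : Submodule B M} (h : N ⋖ N') :
    Module.length A N' = Module.length A N + Module.length A (N' ⧸ Submodule.comap N'.subtype N) := by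
  let f : N →ₗ[A] N' :=
    { toFun := Submodule.inclusion h.le
      map_add' := fun x y => map_add _ x y
      map_smul' := fun a x => rfl }
  let g : N' →ₗ[A] N' ⧸ Submodule.comap N'.subtype N :=
    { toFun := (Submodule.comap N'.subtype N).mkQ
      map_add' := fun x y => map_add _ x y
      map_smul' := fun a x => Submodule.Quotient.mk_smul _ a x }
  have hf : Function.Injective f := Submodule.inclusion_injective h.le
  have hg : Function.Surjective g := Submodule.mkQ_surjective (Submodule.comap N'.subtype N)
  have hex : Function.Exact (Submodule.inclusion h.le) (Submodule.comap N'.subtype N).mkQ := by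
    rw [LinearMap.exact_iff, Submodule.ker_mkQ, Submodule.range_inclusion]
  exact Module.length_eq_add_of_exact f g hf hg hex

end Groth.Agent.Lib.Helper79.LocLength
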