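import Mathlib
import Groth.Agent.Lib.Helper79.LocLength

set_option autoImplicit false
universe u

namespace Groth.Agent.Lib.Helper79.LenMult

open Function Pointwise

variable {R : Type u} [CommRing R]

/-- For an exact pair `u, v`, the length of the middle term is the sum of the lengths of the ranges. -/
theorem length_eq_range_add_range {X Y Z : Type*} [AddCommGroup X] [AddCommGroup Y] [AddCommGroup Z]
    [Module R X] [Module R Y] [Module R Z] (u : X →ₗ[R] Y) (v : Y →ₗ[R] Z) (h : Exact u v) :
    Module.length R Y = Module.length R (LinearMap.range u) + Module.length R (LinearMap.range v) := by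
  refine Module.length_eq_add_of_exact (LinearMap.range u).subtype v.rangeRestrict
    (Submodule.injective_subtype _) v.surjective_rangeRestrict ?_
  intro y
  constructor
  · intro hy
    have : v y = 0 := congrArg Subtype.val hy
    obtain ⟨z, hz⟩ := (h y).mp this
    exact ⟨⟨y, ⟨z, hz⟩⟩, rfl⟩
  · rintro ⟨⟨y', ⟨z, rfl⟩⟩, rfl⟩
    apply Subtype.ext
    exact h.apply_apply_eq_zero z

/-- `x • ⊤` is the range of multiplication by `x`. -/
theorem exact_lsmul_mkQ (x : R) (N : Type*) [AddCommGroup N] [Module R N] :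
    Exact (LinearMap.lsmul R N x) (x • (⊤ : Submodule R N)).mkQ := by
  intro y
  rw [Submodule.mkQ_apply, Submodule.Quotient.mk_eq_zero, Submodule.mem_smul_pointwise_iff_exists]
  constructor
  · rintro ⟨z, -, hz⟩
    exact ⟨z, hz⟩
  · rintro ⟨z, hz⟩
    exact ⟨z, Submodule.mem_top, hz⟩

theorem six_term (x : R) {N₁ N₂ N₃ : Type*} [AddCommGroup N₁] [Module R N₁] [AddCommGroup N₂] [Module R N₂]
    [AddCommGroup N₃] [Module R N₃] (f : N₁ →ₗ[R] N₂) (g : N₂ →ₗ[R] N₃) (hf : Injective f)
    (hg : Surjective g) (H : Exact f g) :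
    ∃ i1 r i3 : ℕ∞,
      Module.length R (LinearMap.ker (LinearMap.lsmul R N₂ x)) =
        Module.length R (LinearMap.ker (LinearMap.lsmul R N₁ x)) + i1 ∧
      Module.length R (LinearMap.ker (LinearMap.lsmul R N₃ x)) = i1 + r ∧
      Module.length R (N₁ ⧸ x • (⊤ : Submodule R N₁)) = r + i3 ∧
      Module.length R (N₂ ⧸ x • (⊤ : Submodule R N₂)) =
        i3 + Module.length R (N₃ ⧸ x • (⊤ : Submodule R N₃)) := by
  let i₁ := LinearMap.lsmul R N₁ x
  let i₂ := LinearMap.lsmul R N₂ x
  let i₃ := LinearMap.lsmul R N₃ x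
  have h₁ : f.comp i₁ = i₂.comp f := by ext y; simp [i₁, i₂]
  have h₂ : g.comp i₂ = i₃.comp g := by ext y; simp [i₂, i₃]
  let ι₂ := (LinearMap.ker i₂).subtype
  let ι₃ := (LinearMap.ker i₃).subtype
  have hι₂ : Exact ι₂ i₂ := LinearMap.exact_subtype_ker_map i₂
  have hι₃ : Exact ι₃ i₃ := LinearMap.exact_subtype_ker_map i₃
  let π₁ := (x • (⊤ : Submodule R N₁)).mkQ
  let π₂ := (x • (⊤ : Submodule R N₂)).mkQ
  let π₃ := (x • (⊤ : Submodule R N₃)).mkQ
  have hπ₁ : Exact i₁ π₁ := exact_lsmul_mkQ x N₁
  have hπ₂ : Exact i₂ π₂ := exact_lsmul_mkQ x N₂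
  have hπ₃ : Exact i₃ π₃ := exact_lsmul_mkQ x N₃
  -- maps on kernels
  let F' : LinearMap.ker i₁ →ₗ[R] LinearMap.ker i₂ :=
    f.restrict (fun y hy => by
      have : i₂ (f y) = f (i₁ y) := (LinearMap.congr_fun h₁ y).symm
      rw [LinearMap.mem_ker, this, LinearMap.mem_ker.mp hy, map_zero])
  let F : LinearMap.ker i₂ →ₗ[R] LinearMap.ker i₃ :=
    g.restrict (fun y hy => by
      have : i₃ (g y) = g (i₂ y) := (LinearMap.congr_fun h₂ y).symm
      rw [LinearMap.mem_ker, this, LinearMap.mem_ker.mp hy, map_zero])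
  have hF : g.comp ι₂ = ι₃.comp F := by ext y; rfl
  -- maps on cokernels
  let G : (N₁ ⧸ x • (⊤ : Submodule R N₁)) →ₗ[R] (N₂ ⧸ x • (⊤ : Submodule R N₂)) :=
    Submodule.mapQ _ _ f (by
      intro y hy
      obtain ⟨z, hz⟩ := (hπ₁ y).mp ((Submodule.Quotient.mk_eq_zero _).mpr hy)
      rw [Submodule.mem_comap]
      refine (Submodule.Quotient.mk_eq_zero _).mp ((hπ₂ (f y)).mpr ⟨f z, ?_⟩)
      rw [← hz]; exact (LinearMap.congr_fun h₁ z).symm)
  let G'' : (N₂ ⧸ x • (⊤ : Submodule R N₂)) →ₗ[R] (N₃ ⧸ x • (⊤ : Submodule R N₃)) :=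
    Submodule.mapQ _ _ g (by
      intro y hy
      obtain ⟨z, hz⟩ := (hπ₂ y).mp ((Submodule.Quotient.mk_eq_zero _).mpr hy)
      rw [Submodule.mem_comap]
      refine (Submodule.Quotient.mk_eq_zero _).mp ((hπ₃ (g y)).mpr ⟨g z, ?_⟩)
      rw [← hz]; exact (LinearMap.congr_fun h₂ z).symm)
  have hG : G.comp π₁ = π₂.comp f := by ext y; rfl
  let δ := SnakeLemma.δ' i₁ i₂ i₃ f g H f g H h₁ h₂ ι₃ hι₃ π₁ hπ₁ hg hf
  have e1 : Exact F δ :=
    SnakeLemma.exact_δ'_right i₁ i₂ i₃ f g H f g H h₁ h₂ ι₂ hι₂ ι₃ hι₃ π₁ hπ₁ hg hf F hF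
      (Submodule.injective_subtype _)
  have e2 : Exact δ G :=
    SnakeLemma.exact_δ'_left i₁ i₂ i₃ f g H f g H h₁ h₂ ι₃ hι₃ π₁ hπ₁ π₂ hπ₂ hg hf G hG
      (Submodule.mkQ_surjective _)
  have hF'inj : Injective F' := by
    intro a b hab
    apply Subtype.ext
    apply hf
    exact congrArg Subtype.val hab
  have e0 : Exact F' F := by
    intro y
    constructor
    · intro hy
      have hgy : g y.1 = 0 := congrArg Subtype.val hy
      obtain ⟨z, hz⟩ := (H y.1).mp hgy
      have hz1 : z ∈ LinearMap.ker i₁ := by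
        rw [LinearMap.mem_ker]
        apply hf
        have : f (i₁ z) = i₂ (f z) := LinearMap.congr_fun h₁ z
        rw [this, hz, map_zero]
        exact LinearMap.mem_ker.mp y.2
      exact ⟨⟨z, hz1⟩, Subtype.ext hz⟩
    · rintro ⟨z, rfl⟩
      apply Subtype.ext
      exact H.apply_apply_eq_zero z.1
  have hG''surj : Surjective G'' := by
    intro y
    obtain ⟨y, rfl⟩ := Submodule.Quotient.mk_surjective _ y
    obtain ⟨w, rfl⟩ := hg y
    exact ⟨Submodule.Quotient.mk w, rfl⟩
  have e3 : Exact G G'' := by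
    intro y
    obtain ⟨y, rfl⟩ := Submodule.Quotient.mk_surjective _ y
    constructor
    · intro hy
      have hy' : π₃ (g y) = 0 := hy
      obtain ⟨w, hw⟩ := (hπ₃ (g y)).mp hy'
      obtain ⟨v, rfl⟩ := hg w
      have : g (y - i₂ v) = 0 := by
        rw [map_sub, ← hw]
        have : g (i₂ v) = i₃ (g v) := LinearMap.congr_fun h₂ v
        rw [this, sub_self]
      obtain ⟨z, hz⟩ := (H _).mp this
      refine ⟨Submodule.Quotient.mk z, ?_⟩
      show π₂ (f z) = π₂ y
      rw [hz, map_sub, (hπ₂ (i₂ v)).mpr ⟨v, rfl⟩, sub_zero]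
    · rintro ⟨z, hz⟩
      obtain ⟨z, rfl⟩ := Submodule.Quotient.mk_surjective _ z
      rw [← hz]
      show π₃ (g (f z)) = 0
      rw [H.apply_apply_eq_zero, map_zero]
  refine ⟨Module.length R (LinearMap.range F), Module.length R (LinearMap.range δ),
    Module.length R (LinearMap.range G), ?_, ?_, ?_, ?_⟩
  · rw [length_eq_range_add_range F' F e0, (LinearEquiv.ofInjective F' hF'inj).length_eq]
  · exact length_eq_range_add_range F δ e1
  · exact length_eq_range_add_range δ G e2
  · rw [length_eq_range_add_range G G'' e3, LinearMap.range_eq_top.mpr hG''surj, Module.length_top]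

/-- order of vanishing of `x` along `p` -/
noncomputable abbrev cOrd (x : R) (p : PrimeSpectrum R) : ℕ∞ :=
  Ring.ord (R ⧸ p.asIdeal) (Ideal.Quotient.mk p.asIdeal x)

/-- length of the localization at `p` -/
noncomputable abbrev locLen (p : PrimeSpectrum R) (N : Type*) [AddCommGroup N] [Module R N] : ℕ∞ :=
  Module.length (Localization.AtPrime p.asIdeal) (LocalizedModule p.asIdeal.primeCompl N)

/-- the additivity identity -/
def Phi (x : R) (T₀ : Finset (PrimeSpectrum R)) (N : Type*) [AddCommGroup N] [Module R N] : Prop :=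
  Module.length R (N ⧸ x • (⊤ : Submodule R N)) =
    Module.length R (LinearMap.ker (LinearMap.lsmul R N x)) + ∑ p ∈ T₀, cOrd x p * locLen p N

theorem Phi_of_exact (x : R) (T₀ : Finset (PrimeSpectrum R)) {N₁ N₂ N₃ : Type*}
    [AddCommGroup N₁] [Module R N₁] [AddCommGroup N₂] [Module R N₂]
    [AddCommGroup N₃] [Module R N₃] (f : N₁ →ₗ[R] N₂) (g : N₂ →ₗ[R] N₃) (hf : Injective f)
    (hg : Surjective g) (H : Exact f g) (h1 : Phi x T₀ N₁) (h3 : Phi x T₀ N₃) : Phi x T₀ N₂ := by
  obtain ⟨i1, r, i3, a, b, c, d⟩ := six_term x f g hf hg H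
  have hℓ : ∀ p : PrimeSpectrum R, locLen p N₂ = locLen p N₁ + locLen p N₃ := fun p =>
    LocLength.length_localized_add p.asIdeal.primeCompl f g hf hg H
  unfold Phi at *
  have e : r + i3 = Module.length R (LinearMap.ker (LinearMap.lsmul R N₁ x)) +
      ∑ p ∈ T₀, cOrd x p * locLen p N₁ := c.symm.trans h1
  rw [d, h3, b, a]
  simp_rw [hℓ, mul_add, Finset.sum_add_distrib]
  calc i3 + (i1 + r + ∑ p ∈ T₀, cOrd x p * locLen p N₃)
      = (r + i3) + i1 + ∑ p ∈ T₀, cOrd x p * locLen p N₃ := by ring
    _ = _ := by rw [e]; ring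

theorem Phi_of_subsingleton (x : R) (T₀ : Finset (PrimeSpectrum R)) (N : Type*)
    [AddCommGroup N] [Module R N] [Subsingleton N] : Phi x T₀ N := by
  unfold Phi
  rw [Module.length_eq_zero, Module.length_eq_zero, zero_add]
  symm
  apply Finset.sum_eq_zero
  intro p _
  show cOrd x p * Module.length _ _ = 0
  rw [Module.length_eq_zero, mul_zero]

/-- `(R/q)_p = 0` if `q ⊄ p` -/
theorem locLen_quotient_eq_zero (q : Ideal R) (p : PrimeSpectrum R) (h : ¬ q ≤ p.asIdeal) :
    Module.length (Localization.AtPrime p.asIdeal) (LocalizedModule p.asIdeal.primeCompl (R ⧸ q)) = 0 := by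
  have : p ∉ Module.support R (R ⧸ q) := by
    rw [Module.mem_support_iff_of_finite, Ideal.annihilator_quotient]
    exact h
  rw [Module.notMem_support_iff] at this
  exact Module.length_eq_zero

/-- `(R/q)_q` has length one -/
theorem locLen_quotient_self (q : Ideal R) [hq : q.IsPrime] :
    Module.length (Localization.AtPrime q) (LocalizedModule q.primeCompl (R ⧸ q)) = 1 := by
  rw [Module.length_eq_one_iff, isSimpleModule_iff_toSpanSingleton_surjective]
  constructor
  · have : (⟨q, hq⟩ : PrimeSpectrum R) ∈ Module.support R (R ⧸ q) := by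
      rw [Module.mem_support_iff_of_finite, Ideal.annihilator_quotient]
    exact Module.mem_support_iff.mp this
  · intro z hz w
    induction z using LocalizedModule.induction_on with
    | h a s =>
    induction w using LocalizedModule.induction_on with
    | h b t =>
    obtain ⟨a, rfl⟩ := Ideal.Quotient.mk_surjective a
    obtain ⟨b, rfl⟩ := Ideal.Quotient.mk_surjective b
    have ha : a ∉ q := by
      intro ha
      apply hz
      rw [(Ideal.Quotient.eq_zero_iff_mem).mpr ha, LocalizedModule.zero_mk]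
    refine ⟨Localization.mk (b * s) (⟨a, ha⟩ * t), ?_⟩
    rw [LinearMap.toSpanSingleton_apply, LocalizedModule.mk_smul_mk, LocalizedModule.mk_eq]
    refine ⟨1, ?_⟩
    simp only [one_smul, Submonoid.smul_def, Submonoid.coe_mul]
    show Ideal.Quotient.mk q ((t : R) * ((b * (s : R)) * a)) =
      Ideal.Quotient.mk q ((a * (t : R) * (s : R)) * b)
    congr 1
    ring

/-- kernel of multiplication by `x ∉ q` on `R/q` is trivial -/
theorem ker_lsmul_quotient_prime (q : Ideal R) [hq : q.IsPrime] (x : R) (hx : x ∉ q) :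
    LinearMap.ker (LinearMap.lsmul R (R ⧸ q) x) = ⊥ := by
  rw [LinearMap.ker_eq_bot']
  intro y hy
  obtain ⟨y, rfl⟩ := Ideal.Quotient.mk_surjective y
  have : Ideal.Quotient.mk q (x * y) = 0 := hy
  rw [Ideal.Quotient.eq_zero_iff_mem] at this
  rcases hq.mem_or_mem this with h | h
  · exact absurd h hx
  · exact Ideal.Quotient.eq_zero_iff_mem.mpr h

/-- cokernel length of multiplication by `x` on `R/q` is the order of vanishing -/
theorem length_quotient_smul_top_eq_ord (q : Ideal R) (x : R) :
    Module.length R ((R ⧸ q) ⧸ x • (⊤ : Submodule R (R ⧸ q))) =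
      Ring.ord (R ⧸ q) (Ideal.Quotient.mk q x) := by
  unfold Ring.ord
  rw [← Module.length_eq_of_surjective (S := R) (R := R ⧸ q)
    (M := (R ⧸ q) ⧸ Ideal.span {Ideal.Quotient.mk q x}) Ideal.Quotient.mk_surjective]
  have h : x • (⊤ : Submodule R (R ⧸ q)) =
      (Ideal.span {Ideal.Quotient.mk q x} : Ideal (R ⧸ q)).restrictScalars R := by
    ext y
    rw [Submodule.mem_smul_pointwise_iff_exists, Submodule.restrictScalars_mem,
      Ideal.mem_span_singleton']
    constructor
    · rintro ⟨z, -, rfl⟩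
      obtain ⟨z, rfl⟩ := Ideal.Quotient.mk_surjective z
      exact ⟨Ideal.Quotient.mk q z, by rw [mul_comm]; rfl⟩
    · rintro ⟨z, rfl⟩
      obtain ⟨z, rfl⟩ := Ideal.Quotient.mk_surjective z
      exact ⟨Ideal.Quotient.mk q z, Submodule.mem_top, by rw [mul_comm]; rfl⟩
  exact ((Submodule.quotEquivOfEq _ _ h).trans
    (Submodule.Quotient.restrictScalarsEquiv R _)).length_eq

/-- if `x ∈ q` then kernel and cokernel of `x` on `R/q` have the same length -/
theorem length_ker_eq_coker_of_mem (q : Ideal R) (x : R) (hx : x ∈ q) :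
    Module.length R ((R ⧸ q) ⧸ x • (⊤ : Submodule R (R ⧸ q))) =
      Module.length R (LinearMap.ker (LinearMap.lsmul R (R ⧸ q) x)) := by
  have hzero : ∀ y : R ⧸ q, x • y = 0 := by
    intro y
    obtain ⟨y, rfl⟩ := Ideal.Quotient.mk_surjective y
    show Ideal.Quotient.mk q (x * y) = 0
    exact Ideal.Quotient.eq_zero_iff_mem.mpr (q.mul_mem_right y hx)
  have h1 : x • (⊤ : Submodule R (R ⧸ q)) = ⊥ := by
    rw [eq_bot_iff]
    intro y hy
    obtain ⟨z, -, rfl⟩ := (Submodule.mem_smul_pointwise_iff_exists _ _ _).mp hy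
    rw [hzero z]
    exact Submodule.zero_mem _
  have h2 : LinearMap.ker (LinearMap.lsmul R (R ⧸ q) x) = ⊤ := by
    rw [eq_top_iff]
    intro y _
    exact hzero y
  rw [h2, Module.length_top]
  exact (Submodule.quotEquivOfEqBot _ h1).length_eq

/-- the condition on a prime of the support -/
def Good [IsLocalRing R] (x : R) (T₀ : Finset (PrimeSpectrum R)) (q : PrimeSpectrum R) : Prop :=
  q.asIdeal = IsLocalRing.maximalIdeal R ∨
    (q ∈ T₀ ∧ x ∉ q.asIdeal ∧
      ∀ p : PrimeSpectrum R, q ≤ p → p = q ∨ p.asIdeal = IsLocalRing.maximalIdeal R)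

theorem ord_eq_zero_of_isUnit {A : Type*} [CommRing A] (a : A) (ha : IsUnit a) : Ring.ord A a = 0 := by
  unfold Ring.ord
  have : Subsingleton (A ⧸ Ideal.span {a}) := by
    rw [Ideal.Quotient.subsingleton_iff]
    exact Ideal.span_singleton_eq_top.mpr ha
  exact Module.length_eq_zero

theorem Phi_quotient_prime [IsLocalRing R] (x : R) (T₀ : Finset (PrimeSpectrum R))
    (hT : ∀ p ∈ T₀, p.asIdeal ≠ IsLocalRing.maximalIdeal R) (q : PrimeSpectrum R)
    (hgood : Good x T₀ q) : Phi x T₀ (R ⧸ q.asIdeal) := by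
  unfold Phi
  rcases hgood with hq | ⟨hqT, hxq, hV⟩
  · -- q = m
    have hsum : ∑ p ∈ T₀, cOrd x p * locLen p (R ⧸ q.asIdeal) = 0 := by
      apply Finset.sum_eq_zero
      intro p hp
      have : ¬ q.asIdeal ≤ p.asIdeal := by
        intro hle
        rw [hq] at hle
        exact hT p hp ((IsLocalRing.maximalIdeal.isMaximal R).eq_of_le p.2.ne_top hle).symm
      show cOrd x p * Module.length _ _ = 0
      rw [locLen_quotient_eq_zero q.asIdeal p this, mul_zero]
    rw [hsum, add_zero]
    by_cases hx : x ∈ q.asIdeal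
    · exact length_ker_eq_coker_of_mem q.asIdeal x hx
    · have := q.2
      rw [ker_lsmul_quotient_prime q.asIdeal x hx, length_quotient_smul_top_eq_ord,
        Module.length_eq_zero]
      apply ord_eq_zero_of_isUnit
      have hxu : IsUnit x := by
        rw [hq] at hx
        exact (IsLocalRing.notMem_maximalIdeal.mp hx)
      exact hxu.map _
  · have := q.2
    rw [ker_lsmul_quotient_prime q.asIdeal x hxq, length_quotient_smul_top_eq_ord,
      Module.length_eq_zero, zero_add, Finset.sum_eq_single q]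
    · show _ = cOrd x q * Module.length _ _
      rw [locLen_quotient_self q.asIdeal, mul_one]
    · intro p hp hpq
      have : ¬ q.asIdeal ≤ p.asIdeal := by
        intro hle
        rcases hV p hle with h | h
        · exact hpq h
        · exact hT p hp h
      show cOrd x p * Module.length _ _ = 0
      rw [locLen_quotient_eq_zero q.asIdeal p this, mul_zero]
    · intro h
      exact absurd hqT h

theorem Phi_of_good [IsNoetherianRing R] [IsLocalRing R] (x : R) (T₀ : Finset (PrimeSpectrum R))
    (hT : ∀ p ∈ T₀, p.asIdeal ≠ IsLocalRing.maximalIdeal R)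
    (M : Type u) [AddCommGroup M] [Module R M] [hfin : Module.Finite R M]
    (hgood : ∀ q ∈ Module.support R M, Good x T₀ q) : Phi x T₀ M := by
  revert hgood
  induction hfin using IsNoetherianRing.induction_on_isQuotientEquivQuotientPrime R with
  | subsingleton N => intro _; exact Phi_of_subsingleton x T₀ N
  | quotient N p e =>
    intro hgood
    have hp : p ∈ Module.support R N := by
      apply Module.support_subset_of_injective e.symm.toLinearMap e.symm.injective
      rw [Module.mem_support_iff_of_finite, Ideal.annihilator_quotient]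
    have h1 := Phi_quotient_prime x T₀ hT p (hgood p hp)
    exact Phi_of_exact x T₀ e.symm.toLinearMap (0 : N →ₗ[R] PUnit.{u+1}) e.symm.injective
      (Function.surjective_to_subsingleton _)
      ((e.symm.exact_zero_iff_surjective _).2 e.symm.surjective) h1
      (Phi_of_subsingleton x T₀ PUnit)
  | exact N₁ N₂ N₃ f g hf hg H h1 h3 =>
    intro hgood
    exact Phi_of_exact x T₀ f g hf hg H
      (h1 fun q hq => hgood q (Module.support_subset_of_injective f hf hq))
      (h3 fun q hq => hgood q (Module.support_subset_of_surjective g hg hq))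

/-- In a support of dimension `≤ 1`, a non-maximal point is minimal. -/
theorem isMin_of_supportDim_le_one [IsLocalRing R] {M : Type*} [AddCommGroup M] [Module R M]
    (h1 : Module.supportDim R M ≤ 1) {p : PrimeSpectrum R} (hp : p ∈ Module.support R M)
    (hpm : p.asIdeal ≠ IsLocalRing.maximalIdeal R) {q : PrimeSpectrum R} (hq : q ∈ Module.support R M)
    (hqp : q ≤ p) : p ≤ q := by
  have h := Order.krullDim_le_one_iff.mp h1 ⟨p, hp⟩
  have hm : IsLocalRing.closedPoint R ∈ Module.support R M :=
    Module.mem_support_mono (IsLocalRing.le_maximalIdeal p.2.ne_top) hp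
  rcases h with h | h
  · exact h (b := ⟨q, hq⟩) hqp
  · exfalso
    have hle : (⟨p, hp⟩ : Module.support R M) ≤ ⟨IsLocalRing.closedPoint R, hm⟩ :=
      IsLocalRing.le_maximalIdeal p.2.ne_top
    have := h hle
    exact hpm (le_antisymm (IsLocalRing.le_maximalIdeal p.2.ne_top) this)

/-- the non-closed points of the support -/
def suppT [IsLocalRing R] (M : Type*) [AddCommGroup M] [Module R M] : Set (PrimeSpectrum R) :=
  {p | p ∈ Module.support R M ∧ p.asIdeal ≠ IsLocalRing.maximalIdeal R}

theorem suppT_finite [IsNoetherianRing R] [IsLocalRing R] {M : Type*} [AddCommGroup M] [Module R M]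
    [Module.Finite R M] (h1 : Module.supportDim R M ≤ 1) : (suppT (R := R) M).Finite := by
  have hfin := Ideal.finite_minimalPrimes_of_isNoetherianRing R (Module.annihilator R M)
  refine (hfin.preimage (f := PrimeSpectrum.asIdeal) ?_).subset ?_
  · intro a _ b _ hab
    exact PrimeSpectrum.ext hab
  · rintro p ⟨hp, hpm⟩
    refine ⟨⟨p.2, Module.mem_support_iff_of_finite.mp hp⟩, ?_⟩
    rintro q ⟨hqprime, hq⟩ hqp
    have hq' : (⟨q, hqprime⟩ : PrimeSpectrum R) ∈ Module.support R M :=
      Module.mem_support_iff_of_finite.mpr hq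
    exact isMin_of_supportDim_le_one h1 hp hpm hq' hqp

theorem good_of_supportDim [IsNoetherianRing R] [IsLocalRing R] {M : Type*} [AddCommGroup M]
    [Module R M] [Module.Finite R M] (x : R) (h1 : Module.supportDim R M ≤ 1)
    (h0 : Module.supportDim R (M ⧸ x • (⊤ : Submodule R M)) ≤ 0) (T₀ : Finset (PrimeSpectrum R))
    (hT₀ : ∀ p, p ∈ T₀ ↔ p ∈ suppT (R := R) M) :
    ∀ q ∈ Module.support R M, Good x T₀ q := by
  intro q hq
  by_cases hqm : q.asIdeal = IsLocalRing.maximalIdeal R
  · exact Or.inl hqm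
  · refine Or.inr ⟨(hT₀ q).mpr ⟨hq, hqm⟩, ?_, ?_⟩
    · intro hxq
      have hm : IsLocalRing.closedPoint R ∈ Module.support R M :=
        Module.mem_support_mono (IsLocalRing.le_maximalIdeal q.2.ne_top) hq
      have hsupp : Module.support R (M ⧸ x • (⊤ : Submodule R M)) =
          Module.support R M ∩ PrimeSpectrum.zeroLocus {x} := Module.support_quotSMulTop x
      have hq' : q ∈ Module.support R (M ⧸ x • (⊤ : Submodule R M)) := by
        rw [hsupp]
        exact ⟨hq, by simpa using hxq⟩
      have hm' : IsLocalRing.closedPoint R ∈ Module.support R (M ⧸ x • (⊤ : Submodule R M)) :=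
        Module.mem_support_mono (IsLocalRing.le_maximalIdeal q.2.ne_top) hq'
      have hmax := Order.krullDim_nonpos_iff_forall_isMax.mp h0 ⟨q, hq'⟩
      have hle : (⟨q, hq'⟩ : Module.support R (M ⧸ x • (⊤ : Submodule R M))) ≤
          ⟨IsLocalRing.closedPoint R, hm'⟩ := IsLocalRing.le_maximalIdeal q.2.ne_top
      exact hqm (le_antisymm (IsLocalRing.le_maximalIdeal q.2.ne_top) (hmax hle))
    · intro p hqp
      have hp : p ∈ Module.support R M := Module.mem_support_mono hqp hq
      by_cases hpm : p.asIdeal = IsLocalRing.maximalIdeal R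
      · exact Or.inr hpm
      · exact Or.inl (le_antisymm (isMin_of_supportDim_le_one h1 hp hpm hq hqp) hqp)

/-- Finset form of the main identity. -/
theorem main_finset [IsNoetherianRing R] [IsLocalRing R] (M : Type u) [AddCommGroup M]
    [Module R M] [Module.Finite R M] (x : R) (h1 : Module.supportDim R M ≤ 1)
    (h0 : Module.supportDim R (M ⧸ x • (⊤ : Submodule R M)) ≤ 0) :
    Module.length R (M ⧸ x • (⊤ : Submodule R M)) =
      Module.length R (LinearMap.ker (LinearMap.lsmul R M x)) +
        ∑ p ∈ (suppT_finite (R := R) (M := M) h1).toFinset, cOrd x p * locLen p M := by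
  have hT₀ : ∀ p, p ∈ (suppT_finite (R := R) (M := M) h1).toFinset ↔ p ∈ suppT (R := R) M :=
    fun p => Set.Finite.mem_toFinset _
  refine Phi_of_good x _ (fun p hp => ((hT₀ p).mp hp).2) M (good_of_supportDim x h1 h0 _ hT₀)

/-- `finsum` form of the main identity. -/
theorem main_finsum [IsNoetherianRing R] [IsLocalRing R] (M : Type u) [AddCommGroup M]
    [Module R M] [Module.Finite R M] (x : R) (h1 : Module.supportDim R M ≤ 1)
    (h0 : Module.supportDim R (M ⧸ x • (⊤ : Submodule R M)) ≤ 0) :
    Module.length R (M ⧸ x • (⊤ : Submodule R M)) =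
      Module.length R (LinearMap.ker (LinearMap.lsmul R M x)) +
        ∑ᶠ (p : PrimeSpectrum R)
          (_ : p ∈ Module.support R M ∧ p.asIdeal ≠ IsLocalRing.maximalIdeal R),
          Ring.ord (R ⧸ p.asIdeal) (Ideal.Quotient.mk p.asIdeal x) *
            Module.length (Localization.AtPrime p.asIdeal) (LocalizedModule p.asIdeal.primeCompl M) := by
  rw [main_finset M x h1 h0]
  congr 1
  exact (finsum_mem_eq_finite_toFinset_sum _ (suppT_finite (R := R) (M := M) h1)).symm

theorem ord_eq_length_sup (p : Ideal R) (a : R) :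
    Ring.ord (R ⧸ p) (Ideal.Quotient.mk p a) = Module.length R (R ⧸ (p ⊔ Ideal.span {a})) := by
  unfold Ring.ord
  rw [← Module.length_eq_of_surjective (S := R) (R := R ⧸ p)
    (M := (R ⧸ p) ⧸ Ideal.span {Ideal.Quotient.mk p a}) Ideal.Quotient.mk_surjective]
  have h : Ideal.span {Ideal.Quotient.mk p a} =
      Ideal.map (Ideal.Quotient.mkₐ R p) (Ideal.span {a}) := by
    rw [Ideal.map_span, Set.image_singleton]; rfl
  exact ((Ideal.quotientEquivAlgOfEq R h).trans
    (DoubleQuot.quotQuotEquivQuotSupₐ R p (Ideal.span {a}))).toLinearEquiv.length_eq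

/-- In a local ring of dimension `≤ 1` every prime is minimal or maximal. -/
theorem minimal_or_maximal_of_dim_le_one [IsLocalRing R] (h : ringKrullDim R ≤ 1)
    (p : PrimeSpectrum R) : p.asIdeal ∈ minimalPrimes R ∨ p.asIdeal = IsLocalRing.maximalIdeal R := by
  rcases Order.krullDim_le_one_iff.mp h p with hp | hp
  · left
    refine ⟨⟨p.2, bot_le⟩, ?_⟩
    rintro q ⟨hq, -⟩ hqp
    exact hp (b := ⟨q, hq⟩) hqp
  · right
    have hle : p ≤ IsLocalRing.closedPoint R := IsLocalRing.le_maximalIdeal p.2.ne_top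
    exact le_antisymm (IsLocalRing.le_maximalIdeal p.2.ne_top) (hp hle)

/-- In a local ring of positive dimension the maximal ideal is not a minimal prime. -/
theorem maximalIdeal_notMem_minimalPrimes [IsLocalRing R] (h : 0 < ringKrullDim R) :
    IsLocalRing.maximalIdeal R ∉ minimalPrimes R := by
  intro hm
  have : ringKrullDim R ≤ 0 := by
    apply Order.krullDim_nonpos_iff_forall_isMax.mpr
    intro p q hpq
    have hp : IsLocalRing.maximalIdeal R ≤ p.asIdeal :=
      hm.2 ⟨p.2, bot_le⟩ (IsLocalRing.le_maximalIdeal p.2.ne_top)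
    exact (IsLocalRing.le_maximalIdeal q.2.ne_top).trans hp
  exact absurd h (not_lt.mpr this)

theorem minimalPrimes_spec_finite [IsNoetherianRing R] :
    {p : PrimeSpectrum R | p.asIdeal ∈ minimalPrimes R}.Finite :=
  (minimalPrimes.finite_of_isNoetherianRing R).preimage (f := PrimeSpectrum.asIdeal)
    (fun _ _ _ _ hab => PrimeSpectrum.ext hab)

/-- The one-dimensional form of the identity, summing over the minimal primes. -/
theorem main_dim_one [IsNoetherianRing R] [IsLocalRing R] (hA : ringKrullDim R = 1) (M : Type u)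
    [AddCommGroup M] [Module R M] [Module.Finite R M] (a : R) (ha : ∀ p ∈ minimalPrimes R, a ∉ p) :
    Module.length R (M ⧸ a • (⊤ : Submodule R M)) =
      Module.length R (LinearMap.ker (LinearMap.lsmul R M a)) +
      ∑ᶠ (p : PrimeSpectrum R) (_ : p.asIdeal ∈ minimalPrimes R),
        Module.length (Localization.AtPrime p.asIdeal) (LocalizedModule p.asIdeal.primeCompl M) *
          Module.length R (R ⧸ (p.asIdeal ⊔ Ideal.span {a})) := by
  have h1 : Module.supportDim R M ≤ 1 := (Module.supportDim_le_ringKrullDim R M).trans hA.le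
  have h0 : Module.supportDim R (M ⧸ a • (⊤ : Submodule R M)) ≤ 0 := by
    apply Order.krullDim_nonpos_iff_forall_isMax.mpr
    rintro ⟨p, hp⟩ ⟨q, hq⟩ hpq
    have hsupp : Module.support R (M ⧸ a • (⊤ : Submodule R M)) =
        Module.support R M ∩ PrimeSpectrum.zeroLocus {a} := Module.support_quotSMulTop a
    have hap : a ∈ p.asIdeal := by
      have := (hsupp ▸ hp).2
      simpa using this
    rcases minimal_or_maximal_of_dim_le_one hA.le p with h | h
    · exact absurd hap (ha _ h)
    · show q.asIdeal ≤ p.asIdeal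
      exact (IsLocalRing.le_maximalIdeal q.2.ne_top).trans h.ge
  rw [main_finset M a h1 h0]
  congr 1
  have hTm := minimalPrimes_spec_finite (R := R)
  have hmm : IsLocalRing.maximalIdeal R ∉ minimalPrimes R :=
    maximalIdeal_notMem_minimalPrimes (by rw [hA]; exact zero_lt_one)
  refine Eq.trans ?_ (finsum_mem_eq_finite_toFinset_sum _ hTm).symm
  rw [← Finset.sum_subset (s₁ := (suppT_finite (R := R) (M := M) h1).toFinset) (s₂ := hTm.toFinset)]
  · refine Finset.sum_congr rfl fun p _ => ?_
    rw [mul_comm]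
    congr 1
    exact ord_eq_length_sup p.asIdeal a
  · intro p hp
    rw [Set.Finite.mem_toFinset] at hp ⊢
    rcases minimal_or_maximal_of_dim_le_one hA.le p with h | h
    · exact h
    · exact absurd h hp.2
  · intro p hp hpT
    rw [Set.Finite.mem_toFinset] at hp hpT
    have hpm : p.asIdeal ≠ IsLocalRing.maximalIdeal R := fun h => hmm (h ▸ hp)
    have : p ∉ Module.support R M := fun h => hpT ⟨h, hpm⟩
    rw [Module.notMem_support_iff] at this
    rw [Module.length_eq_zero, zero_mul]

theorem map_maximalIdeal_isMaximal [IsLocalRing R] (p : Ideal R) (hp : p ≠ ⊤) :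
    (Ideal.map (Ideal.Quotient.mk p) (IsLocalRing.maximalIdeal R)).IsMaximal :=
  Ideal.IsMaximal.map_of_surjective_of_ker_le Ideal.Quotient.mk_surjective
    (by rw [Ideal.mk_ker]; exact IsLocalRing.le_maximalIdeal hp)

theorem span_mk_le_map_maximalIdeal [IsLocalRing R] (p : Ideal R) {t : R}
    (ht : t ∈ IsLocalRing.maximalIdeal R) :
    Ideal.span {Ideal.Quotient.mk p t} ≤ Ideal.map (Ideal.Quotient.mk p) (IsLocalRing.maximalIdeal R) := by
  rw [Ideal.span_singleton_le_iff_mem]
  exact Ideal.mem_map_of_mem _ ht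

theorem one_le_cOrd [IsLocalRing R] (p : PrimeSpectrum R) {t : R}
    (ht : t ∈ IsLocalRing.maximalIdeal R) : 1 ≤ cOrd t p := by
  unfold cOrd Ring.ord
  have hmax := map_maximalIdeal_isMaximal p.asIdeal p.2.ne_top
  have hne : Ideal.span {Ideal.Quotient.mk p.asIdeal t} ≠ ⊤ := fun h =>
    hmax.ne_top (top_le_iff.mp (h ▸ span_mk_le_map_maximalIdeal p.asIdeal ht))
  have : Nontrivial ((R ⧸ p.asIdeal) ⧸ Ideal.span {Ideal.Quotient.mk p.asIdeal t}) :=
    Ideal.Quotient.nontrivial_iff.mpr hne
  exact Order.one_le_iff_pos.mpr Module.length_pos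

theorem cOrd_eq_one_iff [IsLocalRing R] (p : PrimeSpectrum R) {t : R}
    (ht : t ∈ IsLocalRing.maximalIdeal R) :
    cOrd t p = 1 ↔ Ideal.map (Ideal.Quotient.mk p.asIdeal) (IsLocalRing.maximalIdeal R) =
      Ideal.span {Ideal.Quotient.mk p.asIdeal t} := by
  unfold cOrd Ring.ord
  have hmax := map_maximalIdeal_isMaximal p.asIdeal p.2.ne_top
  rw [Module.length_eq_one_iff, isSimpleModule_iff_isCoatom, ← Ideal.isMaximal_def]
  constructor
  · intro h
    exact (h.eq_of_le hmax.ne_top (span_mk_le_map_maximalIdeal p.asIdeal ht)).symm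
  · intro h
    rw [← h]
    exact hmax

theorem sum_eq_sum_iff_enat {ι : Type*} (s : Finset ι) (f g : ι → ℕ∞) (hle : ∀ i ∈ s, f i ≤ g i)
    (hfin : ∑ i ∈ s, g i ≠ ⊤) : ∑ i ∈ s, f i = ∑ i ∈ s, g i ↔ ∀ i ∈ s, f i = g i := by
  constructor
  · intro h
    have hg : ∀ i ∈ s, g i ≠ ⊤ := fun i hi =>
      ne_top_of_le_ne_top hfin (Finset.single_le_sum (fun _ _ => zero_le) hi)
    have hf : ∀ i ∈ s, f i ≠ ⊤ := fun i hi => ne_top_of_le_ne_top (hg i hi) (hle i hi)
    have e1 : ∑ i ∈ s, f i = ((∑ i ∈ s, (f i).toNat : ℕ) : ℕ∞) := by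
      rw [Nat.cast_sum]
      exact Finset.sum_congr rfl fun i hi => (ENat.natCast_toNat (hf i hi)).symm
    have e2 : ∑ i ∈ s, g i = ((∑ i ∈ s, (g i).toNat : ℕ) : ℕ∞) := by
      rw [Nat.cast_sum]
      exact Finset.sum_congr rfl fun i hi => (ENat.natCast_toNat (hg i hi)).symm
    rw [e1, e2, Nat.cast_inj] at h
    have hle' : ∀ i ∈ s, (f i).toNat ≤ (g i).toNat := fun i hi =>
      ENat.toNat_le_toNat (hle i hi) (hg i hi)
    have := (Finset.sum_eq_sum_iff_of_le hle').mp h
    intro i hi
    rw [← ENat.natCast_toNat (hf i hi), ← ENat.natCast_toNat (hg i hi), this i hi]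
  · intro h
    exact Finset.sum_congr rfl h

theorem length_ker_eq_zero_iff (M : Type*) [AddCommGroup M] [Module R M] (t : R) :
    Module.length R (LinearMap.ker (LinearMap.lsmul R M t)) = 0 ↔ IsSMulRegular M t := by
  rw [Module.length_eq_zero_iff, Submodule.subsingleton_iff_eq_bot, LinearMap.ker_eq_bot]
  rfl

theorem locLen_pos_of_mem_support {M : Type*} [AddCommGroup M] [Module R M] {p : PrimeSpectrum R}
    (hp : p ∈ Module.support R M) : 1 ≤ locLen p M := by
  have : Nontrivial (LocalizedModule p.asIdeal.primeCompl M) := Module.mem_support_iff.mp hp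
  exact Order.one_le_iff_pos.mpr Module.length_pos

theorem main_ineq [IsNoetherianRing R] [IsLocalRing R] (M : Type u) [AddCommGroup M]
    [Module R M] [Module.Finite R M] (t : R) (ht : t ∈ IsLocalRing.maximalIdeal R)
    (h1 : Module.supportDim R M ≤ 1)
    (h0 : Module.supportDim R (M ⧸ t • (⊤ : Submodule R M)) ≤ 0) :
    ∑ p ∈ (suppT_finite (R := R) (M := M) h1).toFinset, locLen p M ≤
      Module.length R (M ⧸ t • (⊤ : Submodule R M)) := by
  rw [main_finset M t h1 h0]
  refine le_trans ?_ le_add_self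
  refine Finset.sum_le_sum fun p _ => ?_
  exact le_mul_of_one_le_left zero_le (one_le_cOrd p ht)

theorem main_eq_iff [IsNoetherianRing R] [IsLocalRing R] (M : Type u) [AddCommGroup M]
    [Module R M] [Module.Finite R M] (t : R) (ht : t ∈ IsLocalRing.maximalIdeal R)
    (h1 : Module.supportDim R M ≤ 1)
    (h0 : Module.supportDim R (M ⧸ t • (⊤ : Submodule R M)) ≤ 0)
    (hfin : Module.length R (M ⧸ t • (⊤ : Submodule R M)) ≠ ⊤) :
    ∑ p ∈ (suppT_finite (R := R) (M := M) h1).toFinset, locLen p M =
      Module.length R (M ⧸ t • (⊤ : Submodule R M)) ↔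
    IsSMulRegular M t ∧ ∀ p ∈ suppT (R := R) M,
      Ideal.map (Ideal.Quotient.mk p.asIdeal) (IsLocalRing.maximalIdeal R) =
        Ideal.span {Ideal.Quotient.mk p.asIdeal t} := by
  have hmain := main_finset M t h1 h0
  set T := (suppT_finite (R := R) (M := M) h1).toFinset with hTdef
  have hT : ∀ p, p ∈ T ↔ p ∈ suppT (R := R) M := fun p => Set.Finite.mem_toFinset _
  set K := Module.length R (LinearMap.ker (LinearMap.lsmul R M t)) with hK
  set S2 := ∑ p ∈ T, cOrd t p * locLen p M with hS2
  have hle : ∀ p ∈ T, locLen p M ≤ cOrd t p * locLen p M := fun p _ =>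
    le_mul_of_one_le_left zero_le (one_le_cOrd p ht)
  have hS2fin : S2 ≠ ⊤ := by
    rw [hmain] at hfin
    exact ne_top_of_le_ne_top hfin le_add_self
  rw [← length_ker_eq_zero_iff M t, ← hK]
  constructor
  · intro h
    rw [hmain] at h
    have h12 : ∑ p ∈ T, locLen p M ≤ S2 := Finset.sum_le_sum hle
    have hK0 : K = 0 := by
      have : K + S2 ≤ 0 + S2 := by rw [zero_add, ← h]; exact h12
      exact le_antisymm ((WithTop.add_le_add_iff_right hS2fin).mp this) zero_le
    refine ⟨hK0, fun p hp => ?_⟩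
    rw [hK0, zero_add] at h
    have hterm := (sum_eq_sum_iff_enat T _ _ hle hS2fin).mp h p ((hT p).mpr hp)
    rw [← cOrd_eq_one_iff p ht]
    have hpos : 1 ≤ locLen p M := locLen_pos_of_mem_support hp.1
    have hlfin : locLen p M ≠ ⊤ := by
      refine ne_top_of_le_ne_top hS2fin (le_trans (hle p ((hT p).mpr hp)) ?_)
      exact Finset.single_le_sum (f := fun p => cOrd t p * locLen p M) (fun _ _ => zero_le)
        ((hT p).mpr hp)
    -- from ℓ = c * ℓ with 1 ≤ ℓ < ⊤ deduce c = 1
    have hc1 := one_le_cOrd p ht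
    by_contra hne
    have h2 : 2 ≤ cOrd t p := by
      rcases lt_or_eq_of_le hc1 with h | h
      · exact Order.add_one_le_of_lt h
      · exact absurd h.symm hne
    have : locLen p M + locLen p M ≤ locLen p M := by
      calc locLen p M + locLen p M = 2 * locLen p M := (two_mul _).symm
        _ ≤ cOrd t p * locLen p M := by gcongr
        _ = locLen p M := hterm.symm
    have h3 : locLen p M + locLen p M ≤ 0 + locLen p M := by rw [zero_add]; exact this
    have h4 := (WithTop.add_le_add_iff_right hlfin).mp h3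
    exact absurd (le_trans hpos h4) (by norm_num)
  · rintro ⟨hK0, hc⟩
    rw [hmain, hK0, zero_add]
    refine Finset.sum_congr rfl fun p hp => ?_
    rw [(cOrd_eq_one_iff p ht).mpr (hc p ((hT p).mp hp)), one_mul]

theorem eq_maximalIdeal_of_mem_of_artinian [IsLocalRing R] (t : R)
    (hart : IsArtinianRing (R ⧸ Ideal.span {t})) (q : Ideal R) [hq : q.IsPrime] (htq : t ∈ q) :
    q = IsLocalRing.maximalIdeal R := by
  have hle : Ideal.span {t} ≤ q := (Ideal.span_singleton_le_iff_mem (I := q)).mpr htq
  have hker : RingHom.ker (Ideal.Quotient.mk (Ideal.span {t})) ≤ q := by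
    rw [Ideal.mk_ker]; exact hle
  have hprime : (q.map (Ideal.Quotient.mk (Ideal.span {t}))).IsPrime :=
    Ideal.map_isPrime_of_surjective Ideal.Quotient.mk_surjective hker
  have hmax : (q.map (Ideal.Quotient.mk (Ideal.span {t}))).IsMaximal :=
    IsArtinianRing.isMaximal_of_isPrime _
  have := Ideal.comap_isMaximal_of_surjective (Ideal.Quotient.mk (Ideal.span {t}))
    Ideal.Quotient.mk_surjective (K := q.map (Ideal.Quotient.mk (Ideal.span {t})))
  rw [Ideal.comap_map_mk hle] at this
  exact IsLocalRing.eq_maximalIdeal this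

/-- Krull's principal ideal theorem in the form we need. -/
theorem dim_le_one_of_forall_eq_maximalIdeal [IsNoetherianRing R] [IsLocalRing R] (t : R)
    (ht : t ∈ IsLocalRing.maximalIdeal R)
    (h : ∀ q : Ideal R, q.IsPrime → t ∈ q → q = IsLocalRing.maximalIdeal R) :
    ringKrullDim R ≤ 1 := by
  rw [← IsLocalRing.maximalIdeal_height_eq_ringKrullDim]
  have := Ideal.height_le_one_of_isPrincipal_of_mem_minimalPrimes (Ideal.span {t})
    (IsLocalRing.maximalIdeal R)
    ⟨⟨inferInstance, (Ideal.span_singleton_le_iff_mem (I := IsLocalRing.maximalIdeal R)).mpr ht⟩,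
      fun q hq _ => (h q hq.1 (hq.2 (Ideal.subset_span rfl))).ge⟩
  exact_mod_cast this

theorem supportDim_quot_le_zero [IsLocalRing R] (M : Type*) [AddCommGroup M] [Module R M]
    [Module.Finite R M] (t : R)
    (h : ∀ q : PrimeSpectrum R, q ∈ Module.support R M → t ∈ q.asIdeal →
      q.asIdeal = IsLocalRing.maximalIdeal R) :
    Module.supportDim R (M ⧸ t • (⊤ : Submodule R M)) ≤ 0 := by
  apply Order.krullDim_nonpos_iff_forall_isMax.mpr
  rintro ⟨p, hp⟩ ⟨q, hq⟩ hpq
  have hsupp : Module.support R (M ⧸ t • (⊤ : Submodule R M)) =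
      Module.support R M ∩ PrimeSpectrum.zeroLocus {t} := Module.support_quotSMulTop t
  have hp' := hsupp ▸ hp
  have htp : t ∈ p.asIdeal := by simpa using hp'.2
  have := h p hp'.1 htp
  show q.asIdeal ≤ p.asIdeal
  exact (IsLocalRing.le_maximalIdeal q.2.ne_top).trans this.ge

theorem length_span_smul_top (M : Type*) [AddCommGroup M] [Module R M] (t : R) :
    Module.length R (M ⧸ (Ideal.span {t} • (⊤ : Submodule R M))) =
      Module.length R (M ⧸ t • (⊤ : Submodule R M)) :=
  (Submodule.quotEquivOfEq _ _ (Submodule.ideal_span_singleton_smul t ⊤)).length_eq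

/-- conversion of the `finsum` over the subtype of minimal primes into a `Finset` sum -/
theorem finsum_minimalPrimes_eq_sum (I : Ideal R) (M : Type*) [AddCommGroup M] [Module R M]
    (T : Finset (PrimeSpectrum R)) (hsub : ∀ p ∈ T, p.asIdeal ∈ I.minimalPrimes)
    (hzero : ∀ p : PrimeSpectrum R, p.asIdeal ∈ I.minimalPrimes → p ∉ T → locLen p M = 0) :
    (∑ᶠ p : I.minimalPrimes,
        haveI : p.1.IsPrime := p.2.1.1
        Module.length (Localization.AtPrime p.1) (LocalizedModule p.1.primeCompl M)) =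
      ∑ p ∈ T, locLen p M := by
  classical
  let ι : I.minimalPrimes → PrimeSpectrum R := fun p => ⟨p.1, p.2.1.1⟩
  have hι : Injective ι := by
    intro a b hab
    apply Subtype.ext
    exact congrArg PrimeSpectrum.asIdeal hab
  have h1 : (∑ᶠ p : I.minimalPrimes,
        haveI : p.1.IsPrime := p.2.1.1
        Module.length (Localization.AtPrime p.1) (LocalizedModule p.1.primeCompl M)) =
      ∑ p ∈ T.preimage ι hι.injOn, locLen (ι p) M := by
    apply finsum_eq_sum_of_support_subset
    intro p hp
    rw [Finset.coe_preimage, Set.mem_preimage, Finset.mem_coe]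
    by_contra hnot
    exact hp (hzero (ι p) p.2 hnot)
  rw [h1]
  apply Finset.sum_preimage ι T hι.injOn (fun q => locLen q M)
  intro q hq hqr
  exact absurd ⟨⟨q.asIdeal, hsub q hq⟩, rfl⟩ hqr

section ArtinianQuot

set_option linter.unusedSectionVars false

variable [IsNoetherianRing R] [IsLocalRing R] (hdim : 0 < ringKrullDim R) (t : R)
  (ht : t ∈ IsLocalRing.maximalIdeal R) (hart : IsArtinianRing (R ⧸ Ideal.span {t}))
  (M : Type u) [AddCommGroup M] [Module R M] [Module.Finite R M]

include ht hart in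
theorem art_dim_le_one : ringKrullDim R ≤ 1 :=
  dim_le_one_of_forall_eq_maximalIdeal t ht fun q hq htq =>
    haveI := hq
    eq_maximalIdeal_of_mem_of_artinian t hart q htq

include ht hart in
theorem art_h1 : Module.supportDim R M ≤ 1 :=
  (Module.supportDim_le_ringKrullDim R M).trans (art_dim_le_one t ht hart)

include hart in
theorem art_h0 : Module.supportDim R (M ⧸ t • (⊤ : Submodule R M)) ≤ 0 :=
  supportDim_quot_le_zero M t fun q _ htq => eq_maximalIdeal_of_mem_of_artinian t hart q.asIdeal htq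

include hdim ht hart in
theorem art_finsum_eq :
    (∑ᶠ p : minimalPrimes R,
        haveI : p.1.IsPrime := p.2.1.1
        Module.length (Localization.AtPrime p.1) (LocalizedModule p.1.primeCompl M)) =
      ∑ p ∈ (suppT_finite (R := R) (M := M) (art_h1 t ht hart M)).toFinset, locLen p M := by
  have hmm := maximalIdeal_notMem_minimalPrimes hdim
  refine finsum_minimalPrimes_eq_sum (⊥ : Ideal R) M _ ?_ ?_
  · intro p hp
    rw [Set.Finite.mem_toFinset] at hp
    rcases minimal_or_maximal_of_dim_le_one (art_dim_le_one t ht hart) p with h | h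
    · exact h
    · exact absurd h hp.2
  · intro p hp hpT
    rw [Set.Finite.mem_toFinset] at hpT
    have hpm : p.asIdeal ≠ IsLocalRing.maximalIdeal R := fun h => hmm (h ▸ hp)
    have : p ∉ Module.support R M := fun h => hpT ⟨h, hpm⟩
    rw [Module.notMem_support_iff] at this
    exact Module.length_eq_zero

include hdim ht hart in
theorem art_ineq :
    (∑ᶠ p : minimalPrimes R,
        haveI : p.1.IsPrime := p.2.1.1
        Module.length (Localization.AtPrime p.1) (LocalizedModule p.1.primeCompl M)) ≤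
      Module.length R (M ⧸ (Ideal.span {t} • (⊤ : Submodule R M))) := by
  rw [art_finsum_eq hdim t ht hart M, length_span_smul_top]
  exact main_ineq M t ht (art_h1 t ht hart M) (art_h0 t hart M)

include hart in
theorem art_length_ne_top :
    Module.length R (M ⧸ (Ideal.span {t} • (⊤ : Submodule R M))) ≠ ⊤ := by
  rw [Module.length_eq_of_surjective (S := R) (R := R ⧸ Ideal.span {t})
    (M := M ⧸ (Ideal.span {t} • (⊤ : Submodule R M))) Ideal.Quotient.mk_surjective]
  exact Module.length_ne_top

include hdim ht hart in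
theorem art_eq_iff :
    (∑ᶠ p : minimalPrimes R,
        haveI : p.1.IsPrime := p.2.1.1
        Module.length (Localization.AtPrime p.1) (LocalizedModule p.1.primeCompl M)) =
      Module.length R (M ⧸ (Ideal.span {t} • (⊤ : Submodule R M))) ↔
    IsSMulRegular M t ∧
      ∀ p : minimalPrimes R,
        (haveI : p.1.IsPrime := p.2.1.1
         Nontrivial (LocalizedModule p.1.primeCompl M)) →
        Ideal.map (Ideal.Quotient.mk p.1) (IsLocalRing.maximalIdeal R) =
          Ideal.span {Ideal.Quotient.mk p.1 t} := by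
  have hmm := maximalIdeal_notMem_minimalPrimes hdim
  have hfin := art_length_ne_top t hart M
  rw [art_finsum_eq hdim t ht hart M, length_span_smul_top] at *
  rw [main_eq_iff M t ht (art_h1 t ht hart M) (art_h0 t hart M) hfin]
  refine and_congr_right fun _ => ?_
  constructor
  · intro h p hp
    have hpm : p.1 ≠ IsLocalRing.maximalIdeal R := fun h => hmm (h ▸ p.2)
    exact h ⟨p.1, p.2.1.1⟩ ⟨hp, hpm⟩
  · intro h p hp
    have hpmin : p.asIdeal ∈ minimalPrimes R := by
      rcases minimal_or_maximal_of_dim_le_one (art_dim_le_one t ht hart) p with h | h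
      · exact h
      · exact absurd h hp.2
    exact h ⟨p.asIdeal, hpmin⟩ hp.1

end ArtinianQuot

theorem isMaximal_of_mem_support_of_isFiniteLength {N : Type*} [AddCommGroup N] [Module R N]
    (h : IsFiniteLength R N) : ∀ p ∈ Module.support R N, p.asIdeal.IsMaximal := by
  induction h with
  | of_subsingleton =>
    intro p hp
    rw [Module.support_eq_empty] at hp
    exact absurd hp (Set.notMem_empty p)
  | @of_simple_quotient M _ _ S hs _ ih =>
    intro p hp
    rw [Module.support_of_exact (LinearMap.exact_subtype_mkQ S) (Submodule.injective_subtype S)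
      (Submodule.mkQ_surjective S)] at hp
    rcases hp with hp | hp
    · exact ih p hp
    · obtain ⟨I, hI, ⟨e⟩⟩ := isSimpleModule_iff_quot_maximal.mp hs
      rw [e.support_eq, Module.mem_support_iff_of_finite, Ideal.annihilator_quotient] at hp
      rw [← hI.eq_of_le p.2.ne_top hp]
      exact hI

section FinLen

set_option linter.unusedSectionVars false

variable [IsNoetherianRing R] [IsLocalRing R] (t : R) (ht : t ∈ IsLocalRing.maximalIdeal R)
  (M : Type u) [AddCommGroup M] [Module R M] [Module.Finite R M]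
  (hdim : 0 < Module.supportDim R M)
  (hfin : Module.length R (M ⧸ (Ideal.span {t} • (⊤ : Submodule R M))) ≠ ⊤)

include hfin in
theorem fl_eq_max : ∀ q : PrimeSpectrum R, q ∈ Module.support R M → t ∈ q.asIdeal →
    q.asIdeal = IsLocalRing.maximalIdeal R := by
  intro q hq htq
  rw [length_span_smul_top, Module.length_ne_top_iff] at hfin
  have hsupp : Module.support R (M ⧸ t • (⊤ : Submodule R M)) =
      Module.support R M ∩ PrimeSpectrum.zeroLocus {t} := Module.support_quotSMulTop t
  have hq' : q ∈ Module.support R (M ⧸ t • (⊤ : Submodule R M)) := by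
    rw [hsupp]; exact ⟨hq, by simpa using htq⟩
  exact IsLocalRing.eq_maximalIdeal (isMaximal_of_mem_support_of_isFiniteLength hfin q hq')

include hfin in
theorem fl_h0 : Module.supportDim R (M ⧸ t • (⊤ : Submodule R M)) ≤ 0 :=
  supportDim_quot_le_zero M t (fl_eq_max t M hfin)

include ht hdim hfin in
theorem fl_h1 : Module.supportDim R M ≤ 1 := by
  have hnt : Nontrivial M := by
    rw [← Module.supportDim_ne_bot_iff_nontrivial R]
    exact fun h => absurd hdim (by rw [h]; exact not_lt_bot)
  have hI : Module.annihilator R M ≠ ⊤ := by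
    rw [Ne, Module.annihilator_eq_top_iff]
    exact not_subsingleton M
  have : Nontrivial (R ⧸ Module.annihilator R M) := Ideal.Quotient.nontrivial_iff.mpr hI
  have : IsLocalRing (R ⧸ Module.annihilator R M) :=
    IsLocalRing.of_surjective' (Ideal.Quotient.mk _) Ideal.Quotient.mk_surjective
  have hmaxD : IsLocalRing.maximalIdeal (R ⧸ Module.annihilator R M) =
      Ideal.map (Ideal.Quotient.mk _) (IsLocalRing.maximalIdeal R) :=
    (IsLocalRing.eq_maximalIdeal (map_maximalIdeal_isMaximal _ hI)).symm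
  rw [Module.supportDim_eq_ringKrullDim_quotient_annihilator]
  refine dim_le_one_of_forall_eq_maximalIdeal (Ideal.Quotient.mk _ t) ?_ ?_
  · rw [hmaxD]
    exact Ideal.mem_map_of_mem _ ht
  · intro Q hQ htQ
    have hq : (Q.comap (Ideal.Quotient.mk (Module.annihilator R M))).IsPrime := Ideal.comap_isPrime _ Q
    have hqs : (⟨_, hq⟩ : PrimeSpectrum R) ∈ Module.support R M := by
      rw [Module.mem_support_iff_of_finite]
      intro r hr
      show Ideal.Quotient.mk _ r ∈ Q
      rw [Ideal.Quotient.eq_zero_iff_mem.mpr hr]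
      exact Q.zero_mem
    have := fl_eq_max t M hfin ⟨_, hq⟩ hqs htQ
    rw [hmaxD, ← this]
    exact (Ideal.map_comap_of_surjective _ Ideal.Quotient.mk_surjective Q).symm

include hdim in
theorem fl_max_notMem : IsLocalRing.maximalIdeal R ∉ (Module.annihilator R M).minimalPrimes := by
  intro hm
  have : Module.supportDim R M ≤ 0 := by
    apply Order.krullDim_nonpos_iff_forall_isMax.mpr
    rintro ⟨p, hp⟩ ⟨q, hq⟩ hpq
    have hp' := Module.mem_support_iff_of_finite.mp hp
    have : IsLocalRing.maximalIdeal R ≤ p.asIdeal :=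
      hm.2 ⟨p.2, hp'⟩ (IsLocalRing.le_maximalIdeal p.2.ne_top)
    show q.asIdeal ≤ p.asIdeal
    exact (IsLocalRing.le_maximalIdeal q.2.ne_top).trans this
  exact absurd hdim (not_lt.mpr this)

theorem mem_minimalPrimes_of_mem_suppT (h1 : Module.supportDim R M ≤ 1) {p : PrimeSpectrum R}
    (hp : p ∈ suppT (R := R) M) : p.asIdeal ∈ (Module.annihilator R M).minimalPrimes := by
  obtain ⟨hp, hpm⟩ := hp
  refine ⟨⟨p.2, Module.mem_support_iff_of_finite.mp hp⟩, ?_⟩
  rintro q ⟨hqprime, hq⟩ hqp
  have hq' : (⟨q, hqprime⟩ : PrimeSpectrum R) ∈ Module.support R M :=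
    Module.mem_support_iff_of_finite.mpr hq
  exact isMin_of_supportDim_le_one h1 hp hpm hq' hqp

include ht hdim hfin in
theorem fl_finsum_eq :
    (∑ᶠ p : (Module.annihilator R M).minimalPrimes,
        haveI : p.1.IsPrime := p.2.1.1
        Module.length (Localization.AtPrime p.1) (LocalizedModule p.1.primeCompl M)) =
      ∑ p ∈ (suppT_finite (R := R) (M := M) (fl_h1 t ht M hdim hfin)).toFinset, locLen p M := by
  have hmm := fl_max_notMem M hdim
  refine finsum_minimalPrimes_eq_sum (Module.annihilator R M) M _ ?_ ?_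
  · intro p hp
    rw [Set.Finite.mem_toFinset] at hp
    exact mem_minimalPrimes_of_mem_suppT M (fl_h1 t ht M hdim hfin) hp
  · intro p hp hpT
    rw [Set.Finite.mem_toFinset] at hpT
    have hpm : p.asIdeal ≠ IsLocalRing.maximalIdeal R := fun h => hmm (h ▸ hp)
    exact absurd ⟨Module.mem_support_iff_of_finite.mpr hp.1.2, hpm⟩ hpT

include ht hdim hfin in
theorem fl_result :
    (∑ᶠ p : (Module.annihilator R M).minimalPrimes,
        haveI : p.1.IsPrime := p.2.1.1
        Module.length (Localization.AtPrime p.1) (LocalizedModule p.1.primeCompl M)) ≤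
      Module.length R (M ⧸ (Ideal.span {t} • (⊤ : Submodule R M))) ∧
    ((∑ᶠ p : (Module.annihilator R M).minimalPrimes,
        haveI : p.1.IsPrime := p.2.1.1
        Module.length (Localization.AtPrime p.1) (LocalizedModule p.1.primeCompl M)) =
      Module.length R (M ⧸ (Ideal.span {t} • (⊤ : Submodule R M))) ↔
    IsSMulRegular M t ∧
      ∀ p : (Module.annihilator R M).minimalPrimes,
        Ideal.map (Ideal.Quotient.mk p.1) (IsLocalRing.maximalIdeal R) =
          Ideal.span {Ideal.Quotient.mk p.1 t}) := by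
  have hmm := fl_max_notMem M hdim
  have h1 := fl_h1 t ht M hdim hfin
  have h0 := fl_h0 t M hfin
  rw [fl_finsum_eq t ht M hdim hfin, length_span_smul_top] at *
  refine ⟨main_ineq M t ht h1 h0, ?_⟩
  rw [main_eq_iff M t ht h1 h0 hfin]
  refine and_congr_right fun _ => ?_
  constructor
  · intro h p
    have hpm : p.1 ≠ IsLocalRing.maximalIdeal R := fun h => hmm (h ▸ p.2)
    exact h ⟨p.1, p.2.1.1⟩ ⟨Module.mem_support_iff_of_finite.mpr p.2.1.2, hpm⟩
  · intro h p hp
    exact h ⟨p.asIdeal, mem_minimalPrimes_of_mem_suppT M h1 hp⟩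

end FinLen

/-- Lemma X: for `N ≤ x • ⊤` and `P = (x·)⁻¹ N`, `length (M/N) = length (M/P) + length (M/xM)`. -/
theorem length_quot_eq_add_of_le_smul_top {M : Type*} [AddCommGroup M] [Module R M] (x : R)
    (N P : Submodule R M) (hN : N ≤ x • (⊤ : Submodule R M))
    (hP : P = Submodule.comap (LinearMap.lsmul R M x) N) :
    Module.length R (M ⧸ N) = Module.length R (M ⧸ P) +
      Module.length R (M ⧸ x • (⊤ : Submodule R M)) := by
  let f : (M ⧸ P) →ₗ[R] (M ⧸ N) := Submodule.mapQ P N (LinearMap.lsmul R M x) (le_of_eq hP)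
  let g : (M ⧸ N) →ₗ[R] (M ⧸ x • (⊤ : Submodule R M)) := Submodule.factor hN
  have hf : Injective f := by
    rw [injective_iff_map_eq_zero]
    intro y hy
    obtain ⟨m, rfl⟩ := Submodule.Quotient.mk_surjective _ y
    have : Submodule.Quotient.mk (p := N) (x • m) = 0 := hy
    rw [Submodule.Quotient.mk_eq_zero] at this ⊢
    rw [hP]
    exact this
  have hg : Surjective g := Submodule.factor_surjective hN
  have hex : Exact f g := by
    intro y
    obtain ⟨m, rfl⟩ := Submodule.Quotient.mk_surjective _ y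
    constructor
    · intro hy
      have : Submodule.Quotient.mk (p := x • (⊤ : Submodule R M)) m = 0 := hy
      rw [Submodule.Quotient.mk_eq_zero, Submodule.mem_smul_pointwise_iff_exists] at this
      obtain ⟨m', -, rfl⟩ := this
      exact ⟨Submodule.Quotient.mk m', rfl⟩
    · rintro ⟨y', hy'⟩
      obtain ⟨m', rfl⟩ := Submodule.Quotient.mk_surjective _ y'
      rw [← hy']
      show Submodule.Quotient.mk (p := x • (⊤ : Submodule R M)) (x • m') = 0
      rw [Submodule.Quotient.mk_eq_zero]
      exact Submodule.smul_mem_pointwise_smul _ _ _ Submodule.mem_top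
  exact Module.length_eq_add_of_exact f g hf hg hex

/-- finiteness of the localized length at a minimal prime -/
theorem locLen_ne_top_of_minimal [IsNoetherianRing R] (q : PrimeSpectrum R)
    (hq : q.asIdeal ∈ minimalPrimes R) (M : Type u) [AddCommGroup M] [Module R M]
    [hfin : Module.Finite R M] : locLen q M ≠ ⊤ := by
  induction hfin using IsNoetherianRing.induction_on_isQuotientEquivQuotientPrime R with
  | subsingleton N =>
    show Module.length _ _ ≠ ⊤
    rw [Module.length_eq_zero]; exact ENat.zero_ne_top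
  | quotient N p e =>
    have h1 : locLen q N = locLen q (R ⧸ p.asIdeal) + locLen q PUnit.{u+1} :=
      LocLength.length_localized_add q.asIdeal.primeCompl e.symm.toLinearMap
        (0 : N →ₗ[R] PUnit.{u+1}) e.symm.injective (Function.surjective_to_subsingleton _)
        ((e.symm.exact_zero_iff_surjective _).2 e.symm.surjective)
    have h2 : locLen q PUnit.{u+1} = 0 := Module.length_eq_zero
    rw [h1, h2, add_zero]
    by_cases hpq : p.asIdeal ≤ q.asIdeal
    · have : p = q := by
        apply PrimeSpectrum.ext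
        exact le_antisymm hpq (hq.2 ⟨p.2, bot_le⟩ hpq)
      subst this
      show Module.length _ _ ≠ ⊤
      rw [locLen_quotient_self p.asIdeal]
      exact ENat.one_ne_top
    · show Module.length _ _ ≠ ⊤
      rw [locLen_quotient_eq_zero p.asIdeal q hpq]
      exact ENat.zero_ne_top
  | exact N₁ N₂ N₃ f g hf hg H h1 h3 =>
    have : locLen q N₂ = locLen q N₁ + locLen q N₃ :=
      LocLength.length_localized_add q.asIdeal.primeCompl f g hf hg H
    rw [this]
    exact WithTop.add_ne_top.mpr ⟨h1, h3⟩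

end Groth.Agent.Lib.Helper79.LenMult
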