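import Groth.Agent.Lib.Helper79.TorCritC
import Groth.Agent.Lib.Helper35.FlatBC
set_option linter.style.haveILetI false
set_option autoImplicit false
universe u
open CategoryTheory CategoryTheory.Limits MonoidalCategory

namespace Groth.Agent.Lib.Helper79.TorCrit

open Groth.Agent.Lib.Helper28 Groth.Agent.Lib.Helper28.TensCx
open Groth.Agent.Lib.Helper6 Groth.Agent.Lib.Helper32 Groth.Agent.Lib.Helper26.KProjQ
open Groth.Agent.Helper19.KFlatExt
open DerivedCategory

attribute [local instance] HasDerivedCategory.standard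

section OneRing
variable {R : Type u} [CommRing R]

/-- (C1') tor amplitude gives vanishing of `H^i(X ⊗ Q)` for `Q` K-flat with cohomology in `[e,f]`. -/
theorem exactAt_tensor_of_TAmp' (X : DRing.Cx R) (a b : ℤ)
    (h : DRing.HasTorAmplitudeIn R a b (DRing.toD X)) (Q : DRing.Cx R) (hQ : KFlat Q)
    (e f : ℤ) (hQe : ∀ j, (j < e ∨ f < j) → Q.ExactAt j) (i : ℤ) (hi : i < a + e ∨ b + f < i) :
    (X ⊗ Q).ExactAt i := by
  obtain ⟨G, hv, hfl, ⟨e'⟩⟩ := h
  obtain ⟨P, g, hP, hg⟩ := LBC.hasKProjRes R X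
  haveI := hP
  haveI := hg
  haveI : IsIso (DerivedCategory.Q.map g) := by rw [isIso_Q_map_iff_quasiIso]; infer_instance
  obtain ⟨w, hw, _⟩ := LTCx.exists_quasiIso_of_iso P G (asIso (DerivedCategory.Q.map g) ≪≫ e'.symm)
  haveI := hw
  haveI := quasiIso_whiskerRight_of_kflat g Q hQ
  haveI := quasiIso_whiskerRight_of_kflat w Q hQ
  rw [← exactAt_iff_of_quasiIso (g ▷ Q) i, exactAt_iff_of_quasiIso (w ▷ Q) i]
  exact exactAt_tensor_of_bounded_flat G Q a b e f hv hfl hQe i hi

lemma exactAt_resol (N : ModuleCat.{u} R) (j : ℤ) (hj : j < 0 ∨ 0 < j) : (resol N).ExactAt j := by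
  rw [exactAt_iff_of_quasiIso (resolπ N) j]
  exact exactAt_of_isZero_X _ _ (vanishesOutside_sg N j hj)

end OneRing

section Ext

variable {A B : Type u} [CommRing A] [CommRing B] [Algebra A B]

lemma kflat_extCx (Q : DRing.Cx A) (hQ : KFlat Q) : KFlat (extCx (algebraMap A B) Q) := by
  intro L hL i
  have hL' : ∀ i, L.ExactAt i := fun i => by
    rw [HomologicalComplex.exactAt_iff_isZero_homology]; exact hL i
  have := exactAt_tensor_extCx (algebraMap A B) L Q (fun L₀ hL₀ i => by
    rw [HomologicalComplex.exactAt_iff_isZero_homology]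
    exact hQ L₀ (fun i => by rw [← HomologicalComplex.exactAt_iff_isZero_homology]; exact hL₀ i) i) hL' i
  rwa [HomologicalComplex.exactAt_iff_isZero_homology] at this

lemma exactAt_extCx [Module.Flat A B] (Q : DRing.Cx A) (j : ℤ) (h : Q.ExactAt j) :
    (extCx (algebraMap A B) Q).ExactAt j := by
  rw [HomologicalComplex.exactAt_iff_isZero_homology] at h ⊢
  have e := (Groth.Agent.Lib.Helper35.FlatBC.homologyIsoCx A B j).app Q
  exact ((Groth.Agent.Lib.Helper35.FlatBC.ext A B).map_isZero h).of_iso e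

end Ext

end Groth.Agent.Lib.Helper79.TorCrit
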