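import Mathlib
import Groth.Agent.Lib.Helper60.LocalCohLES
import Groth.Agent.Lib.Helper60.LocalCohDepth
import Groth.Agent.Lib.Helper60.GrothVanishing
import Groth.Agent.Lib.Helper79.LocalDualityC
import Groth.Agent.Lib.Helper79.ExtRepA

set_option autoImplicit false
universe u

open CategoryTheory Groth.Agent.Lib.Helper60 IsLocalRing

namespace Groth.Agent.Lib.Helper79.CanonReg

section dim

variable {R : Type u} [CommRing R] [IsNoetherianRing R] [IsLocalRing R]

/-- If `𝔪 ≤ rad (I + (t))` with `t ⊆ 𝔪` finite then `dim R/I ≤ |t|`. -/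
theorem ringKrullDim_quotient_le_card (I : Ideal R) (t : Finset R)
    (ht : ∀ x ∈ t, x ∈ maximalIdeal R)
    (h : maximalIdeal R ≤ (I ⊔ Ideal.span (t : Set R)).radical) :
    ringKrullDim (R ⧸ I) ≤ (t.card : WithBot ℕ∞) := by
  classical
  by_cases hI : I = ⊤
  · have : Subsingleton (R ⧸ I) := Ideal.Quotient.subsingleton_iff.mpr hI
    rw [ringKrullDim_eq_bot_of_subsingleton]
    exact bot_le
  · have hnt : Nontrivial (R ⧸ I) := Ideal.Quotient.nontrivial_iff.mpr hI
    have hloc : IsLocalRing (R ⧸ I) :=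
      IsLocalRing.of_surjective' (Ideal.Quotient.mk I) Ideal.Quotient.mk_surjective
    rw [← IsLocalRing.maximalIdeal_height_eq_ringKrullDim]
    have hcomap : Ideal.comap (Ideal.Quotient.mk I) (maximalIdeal (R ⧸ I)) = maximalIdeal R :=
      IsLocalRing.eq_maximalIdeal
        (Ideal.comap_isMaximal_of_surjective _ Ideal.Quotient.mk_surjective)
    have hmin : maximalIdeal (R ⧸ I) ∈
        (Ideal.span ((t.image (Ideal.Quotient.mk I) : Finset (R ⧸ I)) : Set (R ⧸ I))).minimalPrimes := by
      refine ⟨⟨inferInstance, ?_⟩, ?_⟩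
      · rw [Ideal.span_le]
        intro z hz
        rw [Finset.coe_image] at hz
        obtain ⟨x, hx, rfl⟩ := hz
        have hxm := ht x hx
        rw [← hcomap] at hxm
        exact hxm
      · rintro q ⟨hq, hle⟩ _
        intro z hz
        obtain ⟨y, rfl⟩ := Ideal.Quotient.mk_surjective z
        have hym : y ∈ maximalIdeal R := by
          rw [← hcomap]
          exact hz
        obtain ⟨k, hk⟩ := h hym
        have h1 : Ideal.Quotient.mk I (y ^ k) ∈
            Ideal.map (Ideal.Quotient.mk I) (I ⊔ Ideal.span (t : Set R)) :=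
          Ideal.mem_map_of_mem _ hk
        rw [Ideal.map_sup, Ideal.map_quotient_self, bot_sup_eq, Ideal.map_span] at h1
        have h2 : Ideal.Quotient.mk I (y ^ k) ∈ q := by
          apply hle
          rw [Finset.coe_image]
          exact h1
        rw [map_pow] at h2
        exact hq.mem_of_pow_mem k h2
    have h3 := Ideal.height_le_card_of_mem_minimalPrimes_span_finset hmin
    have h4 : ((t.image (Ideal.Quotient.mk I)).card : ℕ∞) ≤ t.card := by
      exact_mod_cast Finset.card_image_le
    exact_mod_cast h3.trans h4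

/-- For a system of parameters `a : Fin n → R` and `S ⊆ Fin n`,
`dim R/(a_i : i ∈ S) ≤ n - |S|`. -/
theorem ringKrullDim_quotient_span_image_le {n : ℕ} (a : Fin n → R)
    (ha : ∀ i, a i ∈ maximalIdeal R)
    (hsop : maximalIdeal R ≤ (Ideal.span (Set.range a)).radical) (S : Finset (Fin n)) :
    ringKrullDim (R ⧸ Ideal.span (a '' (S : Set (Fin n)))) ≤ ((n - S.card : ℕ) : WithBot ℕ∞) := by
  classical
  have h1 := ringKrullDim_quotient_le_card (Ideal.span (a '' (S : Set (Fin n))))
    (Finset.image a Sᶜ) (by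
      intro x hx
      obtain ⟨i, _, rfl⟩ := Finset.mem_image.mp hx
      exact ha i) (by
      refine hsop.trans (Ideal.radical_mono ?_)
      rw [Ideal.span_le]
      rintro _ ⟨i, rfl⟩
      by_cases hi : i ∈ S
      · exact Ideal.mem_sup_left (Ideal.subset_span ⟨i, hi, rfl⟩)
      · apply Ideal.mem_sup_right
        apply Ideal.subset_span
        rw [Finset.coe_image]
        exact ⟨i, by simpa using hi, rfl⟩)
  refine h1.trans ?_
  have h2 : (Finset.image a Sᶜ).card ≤ n - S.card := by
    refine Finset.card_image_le.trans ?_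
    rw [Finset.card_compl, Fintype.card_fin]
  exact_mod_cast h2

omit [IsLocalRing R] [IsNoetherianRing R] in
/-- A finite module killed by `s` has support of dimension `≤ dim R/(s)`. -/
theorem supportDim_le_of_forall_smul_eq_zero (N : Type u) [AddCommGroup N] [Module R N]
    [Module.Finite R N] (s : Set R) (hs : ∀ x ∈ s, ∀ z : N, x • z = 0) :
    Module.supportDim R N ≤ ringKrullDim (R ⧸ Ideal.span s) := by
  rw [Module.supportDim_eq_ringKrullDim_quotient_annihilator]
  have hle : Ideal.span s ≤ Module.annihilator R N := by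
    rw [Ideal.span_le]
    intro x hx
    rw [SetLike.mem_coe, Module.mem_annihilator]
    exact hs x hx
  exact ringKrullDim_le_of_surjective (Ideal.Quotient.factor hle)
    (Ideal.Quotient.factor_surjective hle)

end dim

section lc

open Groth.Agent.Lib.Helper79.ExtRep Groth.Agent.Lib.Helper79.LocalDuality

variable {R : Type u} [CommRing R] (J : Ideal R)

/-- The short complex `0 → N → M → M/N → 0` of a submodule. -/
noncomputable def sesSub {M : Type u} [AddCommGroup M] [Module R M] (N : Submodule R M) :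
    ShortComplex (ModuleCat.{u} R) :=
  ShortComplex.mk (ModuleCat.ofHom N.subtype) (ModuleCat.ofHom N.mkQ) (by
    ext x
    simp)

lemma sesSub_shortExact {M : Type u} [AddCommGroup M] [Module R M] (N : Submodule R M) :
    (sesSub N).ShortExact := by
  apply ModuleCat.shortComplex_shortExact
  · exact LinearMap.exact_subtype_mkQ N
  · exact N.injective_subtype
  · exact N.mkQ_surjective

/-- multiplication by `x`, as a map onto its range. -/
noncomputable def mulR {M : Type u} [AddCommGroup M] [Module R M] (x : R) :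
    M →ₗ[R] LinearMap.range (LinearMap.lsmul R M x) :=
  (LinearMap.lsmul R M x).rangeRestrict

lemma mulR_surjective {M : Type u} [AddCommGroup M] [Module R M] (x : R) :
    Function.Surjective (mulR (M := M) x) :=
  LinearMap.surjective_rangeRestrict _

lemma mulR_coe {M : Type u} [AddCommGroup M] [Module R M] (x : R) (m : M) :
    ((mulR x m : LinearMap.range (LinearMap.lsmul R M x)) : M) = x • m := rfl

/-- `x` acts as `H(ι) ∘ H(π)` on local cohomology. -/
lemma smul_eq_map_map {M : Type u} [AddCommGroup M] [Module R M] (x : R) (d : ℕ)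
    (z : (localCohomology J d).obj (ModuleCat.of R M)) :
    x • z = ((localCohomology J d).map
      (ModuleCat.ofHom (LinearMap.range (LinearMap.lsmul R M x)).subtype)).hom
        (((localCohomology J d).map (ModuleCat.ofHom (mulR (M := M) x))).hom z) := by
  rw [← lcMap_comp_apply, ← lcMap_smul_id J d (ModuleCat.of R M) x z]
  congr 3

/-- If `H^{d+1}(0 :_M x) = 0 = H^d(M/xM)` then `x` acts surjectively on `H^d(M)`. -/
theorem exists_smul_eq {M : Type u} [AddCommGroup M] [Module R M] (x : R) (d : ℕ)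
    (h1 : Subsingleton ((localCohomology J (d + 1)).obj
      (ModuleCat.of R (LinearMap.ker (mulR (M := M) x)))))
    (h2 : Subsingleton ((localCohomology J d).obj
      (ModuleCat.of R (M ⧸ LinearMap.range (LinearMap.lsmul R M x)))))
    (y : (localCohomology J d).obj (ModuleCat.of R M)) : ∃ z : (localCohomology J d).obj (ModuleCat.of R M), x • z = y := by
  have hS2 := sesSub_shortExact (LinearMap.range (LinearMap.lsmul R M x))
  obtain ⟨w, hw⟩ : ∃ w : (localCohomology J d).obj
      (ModuleCat.of R (LinearMap.range (LinearMap.lsmul R M x))),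
      ((localCohomology J d).map
        (ModuleCat.ofHom (LinearMap.range (LinearMap.lsmul R M x)).subtype)).hom w = y :=
    lc_exact₂ J hS2 d y (@Subsingleton.elim _ h2 _ _)
  have hS1 := sesOfSurjective_shortExact (mulR (M := M) x) (mulR_surjective x)
  obtain ⟨z, hz⟩ : ∃ z : (localCohomology J d).obj (ModuleCat.of R M),
      ((localCohomology J d).map (ModuleCat.ofHom (mulR (M := M) x))).hom z = w :=
    lc_exact₃ J hS1 d w (@Subsingleton.elim _ h1 _ _)
  refine ⟨z, ?_⟩
  rw [smul_eq_map_map, hz, hw]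

/-- If `H^{k+1}(0 :_M a₀) = 0 = H^{k+2}(0 :_M a₀)` and `a₁` acts surjectively on `H^k(M/a₀M)`,
then `a₁` acts surjectively on `(0 :_{H^{k+1}(M)} a₀)`. -/
theorem exists_smul_eq_of_smul_eq_zero {M : Type u} [AddCommGroup M] [Module R M] (a₀ a₁ : R)
    (k : ℕ)
    (hZ : Subsingleton ((localCohomology J (k + 1)).obj
      (ModuleCat.of R (LinearMap.ker (mulR (M := M) a₀)))))
    (hZ' : Subsingleton ((localCohomology J (k + 1 + 1)).obj
      (ModuleCat.of R (LinearMap.ker (mulR (M := M) a₀)))))
    (hsurj : ∀ w : (localCohomology J k).obj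
      (ModuleCat.of R (M ⧸ LinearMap.range (LinearMap.lsmul R M a₀))),
      ∃ w' : (localCohomology J k).obj
        (ModuleCat.of R (M ⧸ LinearMap.range (LinearMap.lsmul R M a₀))), a₁ • w' = w)
    (y : (localCohomology J (k + 1)).obj (ModuleCat.of R M)) (hy : a₀ • y = 0) :
    ∃ y' : (localCohomology J (k + 1)).obj (ModuleCat.of R M), a₀ • y' = 0 ∧ a₁ • y' = y := by
  have hS2 := sesSub_shortExact (LinearMap.range (LinearMap.lsmul R M a₀))
  have hS1 := sesOfSurjective_shortExact (mulR (M := M) a₀) (mulR_surjective a₀)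
  obtain ⟨δ, hδ1, hδ0⟩ : ∃ δ : (localCohomology J k).obj
        (ModuleCat.of R (M ⧸ LinearMap.range (LinearMap.lsmul R M a₀))) →ₗ[R]
      (localCohomology J (k + 1)).obj
        (ModuleCat.of R (LinearMap.range (LinearMap.lsmul R M a₀))),
      (∀ u, ((localCohomology J (k + 1)).map
        (ModuleCat.ofHom (LinearMap.range (LinearMap.lsmul R M a₀)).subtype)).hom u = 0 →
          ∃ w, δ w = u) ∧
      (∀ w, ((localCohomology J (k + 1)).map
        (ModuleCat.ofHom (LinearMap.range (LinearMap.lsmul R M a₀)).subtype)).hom (δ w) = 0) :=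
    ⟨lcDelta J hS2 k, fun u hu => lc_exact₁ J hS2 k u hu, fun w => lcMap_comp_delta J hS2 k w⟩
  have hπ3 : ∀ u : (localCohomology J (k + 1)).obj
      (ModuleCat.of R (LinearMap.range (LinearMap.lsmul R M a₀))),
      ∃ y' : (localCohomology J (k + 1)).obj (ModuleCat.of R M),
        ((localCohomology J (k + 1)).map (ModuleCat.ofHom (mulR (M := M) a₀))).hom y' = u :=
    fun u => lc_exact₃ J hS1 (k + 1) u (@Subsingleton.elim _ hZ' _ _)
  have hπ2 : ∀ v : (localCohomology J (k + 1)).obj (ModuleCat.of R M),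
      ((localCohomology J (k + 1)).map (ModuleCat.ofHom (mulR (M := M) a₀))).hom v = 0 →
        v = 0 := by
    intro v hv
    obtain ⟨v', hv'⟩ : ∃ v' : (localCohomology J (k + 1)).obj
        (ModuleCat.of R (LinearMap.ker (mulR (M := M) a₀))),
        ((localCohomology J (k + 1)).map
          (ModuleCat.ofHom (LinearMap.ker (mulR (M := M) a₀)).subtype)).hom v' = v :=
      lc_exact₂ J hS1 (k + 1) v hv
    rw [← hv', @Subsingleton.elim _ hZ v' 0, map_zero]
  rw [smul_eq_map_map] at hy
  obtain ⟨w, hw⟩ := hδ1 _ hy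
  obtain ⟨w', rfl⟩ := hsurj w
  obtain ⟨y', hy'⟩ := hπ3 (δ w')
  refine ⟨y', ?_, ?_⟩
  · rw [smul_eq_map_map, hy']
    exact hδ0 w'
  · have h0 : ((localCohomology J (k + 1)).map (ModuleCat.ofHom (mulR (M := M) a₀))).hom
        (a₁ • y' - y) = 0 := by
      rw [map_sub, map_smul, hy', ← hw, map_smul, sub_self]
    exact sub_eq_zero.mp (hπ2 _ h0)

end lc

section dual

open scoped Pointwise

variable {R : Type u} [CommRing R] {K E H : Type u} [AddCommGroup K] [Module R K]
  [AddCommGroup E] [Module R E] [AddCommGroup H] [Module R H]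

/-- If `a` acts surjectively on `Hom(K, E) ≅ H` and `E` separates points of `K`, then `a` is
`K`-regular. -/
theorem isSMulRegular_of_surjective (eK : (K →ₗ[R] E) ≃ₗ[R] H)
    (hcog : ∀ x : K, x ≠ 0 → ∃ φ : K →ₗ[R] E, φ x ≠ 0) (a : R)
    (h : ∀ y : H, ∃ z : H, a • z = y) : IsSMulRegular K a := by
  rw [isSMulRegular_iff_right_eq_zero_of_smul]
  intro x hx
  by_contra hx0
  obtain ⟨φ, hφ⟩ := hcog x hx0
  obtain ⟨z, hz⟩ := h (eK φ)
  have h1 : φ = a • eK.symm z := by
    rw [← map_smul, hz, eK.symm_apply_apply]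
  apply hφ
  rw [h1, LinearMap.smul_apply, ← map_smul, hx, map_zero]

/-- If `a₁` acts surjectively on `(0 :_H a₀)`, `H ≅ Hom(K, E)`, and `E` separates points of
`K/a₀K`, then `a₁` is `K/a₀K`-regular. -/
theorem isSMulRegular_quotSMulTop (eK : (K →ₗ[R] E) ≃ₗ[R] H) (a₀ a₁ : R)
    (hcog : ∀ x : QuotSMulTop a₀ K, x ≠ 0 → ∃ φ : QuotSMulTop a₀ K →ₗ[R] E, φ x ≠ 0)
    (h : ∀ y : H, a₀ • y = 0 → ∃ y' : H, a₀ • y' = 0 ∧ a₁ • y' = y) :
    IsSMulRegular (QuotSMulTop a₀ K) a₁ := by
  rw [isSMulRegular_iff_right_eq_zero_of_smul]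
  intro x hx
  by_contra hx0
  obtain ⟨φb, hφ⟩ := hcog x hx0
  obtain ⟨x', rfl⟩ := Submodule.Quotient.mk_surjective _ x
  set φ : K →ₗ[R] E := φb ∘ₗ Submodule.mkQ (a₀ • (⊤ : Submodule R K)) with hφdef
  have hφ0 : a₀ • φ = 0 := by
    apply LinearMap.ext
    intro z
    rw [LinearMap.smul_apply, ← map_smul, LinearMap.zero_apply, hφdef, LinearMap.comp_apply,
      Submodule.mkQ_apply]
    have : Submodule.Quotient.mk (a₀ • z) = (0 : K ⧸ a₀ • (⊤ : Submodule R K)) := by
      rw [Submodule.Quotient.mk_eq_zero]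
      exact Submodule.smul_mem_pointwise_smul z a₀ ⊤ Submodule.mem_top
    rw [this, map_zero]
  have h0 : a₀ • eK φ = 0 := by
    rw [← map_smul, hφ0, map_zero]
  obtain ⟨y', hy0, hy1⟩ := h (eK φ) h0
  have hψ0 : a₀ • eK.symm y' = 0 := by
    rw [← map_smul, hy0, map_zero]
  have hψ1 : a₁ • eK.symm y' = φ := by
    rw [← map_smul, hy1, eK.symm_apply_apply]
  rw [← Submodule.Quotient.mk_smul, Submodule.Quotient.mk_eq_zero,
    Submodule.mem_smul_pointwise_iff_exists] at hx
  obtain ⟨z, -, hz⟩ := hx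
  apply hφ
  have h2 : φb (Submodule.Quotient.mk x') = φ x' := rfl
  rw [h2, ← hψ1, LinearMap.smul_apply, ← map_smul, ← hz, map_smul, ← LinearMap.smul_apply, hψ0,
    LinearMap.zero_apply]

end dual

end Groth.Agent.Lib.Helper79.CanonReg
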