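import Mathlib
import Groth.Agent.Lib.Helper79.CanonRegA

set_option autoImplicit false
universe u

open IsLocalRing

namespace Groth.Agent.Lib.Helper79.CanonS2

section supp

variable {R : Type u} [CommRing R]

theorem supportDim_le_of_support_subset {N N' : Type u} [AddCommGroup N] [Module R N]
    [AddCommGroup N'] [Module R N']
    (h : Module.support R N ⊆ Module.support R N') :
    Module.supportDim R N ≤ Module.supportDim R N' := by
  unfold Module.supportDim
  exact Order.krullDim_le_of_strictMono (Set.inclusion h) (fun a b hab => hab)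

theorem support_subset_zeroLocus_of_smul_eq_zero (N : Type u) [AddCommGroup N] [Module R N]
    (x : R) (hx : ∀ z : N, x • z = 0) :
    Module.support R N ⊆ PrimeSpectrum.zeroLocus {x} := by
  intro p hp
  have h1 := Module.annihilator_le_of_mem_support hp
  rw [PrimeSpectrum.mem_zeroLocus, Set.singleton_subset_iff]
  exact h1 (Module.mem_annihilator.mpr hx)

theorem support_self_eq_univ : Module.support R R = Set.univ := by
  rw [Set.eq_univ_iff_forall]
  intro p
  rw [Module.mem_support_iff']
  refine ⟨1, fun r hr h0 => hr ?_⟩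
  rw [smul_eq_mul, mul_one] at h0
  rw [h0]
  exact p.asIdeal.zero_mem

/-- arithmetic: `a + 1 ≤ n` implies `a < n` in `WithBot ℕ∞`. -/
theorem lt_of_add_one_le {a : WithBot ℕ∞} {n : ℕ} (h : a + 1 ≤ (n : WithBot ℕ∞)) :
    a < (n : WithBot ℕ∞) := by
  induction a using WithBot.recBotCoe with
  | bot => exact WithBot.bot_lt_coe _
  | coe e =>
    induction e using ENat.recTopCoe with
    | top =>
      exfalso
      have h1 : ((⊤ : ℕ∞) : WithBot ℕ∞) + 1 = ((⊤ : ℕ∞) : WithBot ℕ∞) := by
        rw [← WithBot.coe_one, ← WithBot.coe_add, top_add]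
      rw [h1] at h
      have h2 : ((⊤ : ℕ∞)) ≤ ((n : ℕ) : ℕ∞) := by exact_mod_cast h
      simp at h2
    | coe m =>
      have h1 : m + 1 ≤ n := by exact_mod_cast h
      exact_mod_cast Nat.lt_of_succ_le h1

end supp

section dim

variable {R : Type u} [CommRing R] [IsNoetherianRing R]

open scoped Pointwise

omit [IsNoetherianRing R] in
/-- modules killed by `x` (avoiding the minimal primes) have dimension `< dim R`. -/
theorem supportDim_lt_of_smul_eq_zero (n : ℕ) (hn : ringKrullDim R = n) (x : R)
    (hx : ∀ Q ∈ minimalPrimes R, x ∉ Q) (N : Type u) [AddCommGroup N] [Module R N]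
    (hN : ∀ z : N, x • z = 0) : Module.supportDim R N < (n : WithBot ℕ∞) := by
  have h1 : Module.supportDim R N ≤ Module.supportDim R (QuotSMulTop x R) := by
    apply supportDim_le_of_support_subset
    rw [Module.support_quotSMulTop, support_self_eq_univ, Set.univ_inter]
    exact support_subset_zeroLocus_of_smul_eq_zero N x hN
  have h2 : Module.supportDim R (QuotSMulTop x R) + 1 ≤ Module.supportDim R R := by
    apply Module.supportDim_quotSMulTop_succ_le_of_notMem_minimalPrimes
    intro Q hQ
    rw [Module.annihilator_eq_bot.mpr inferInstance] at hQ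
    exact hx Q hQ
  rw [Module.supportDim_self_eq_ringKrullDim, hn] at h2
  exact lt_of_le_of_lt h1 (lt_of_add_one_le h2)

omit [IsNoetherianRing R] in
/-- modules killed by `x, y` have dimension `< dim R - 1`. -/
theorem supportDim_lt_of_smul_eq_zero₂ (k : ℕ) (hn : ringKrullDim R = (k + 1 : ℕ)) (x y : R)
    (hx : ∀ Q ∈ minimalPrimes R, x ∉ Q)
    (hy : ∀ Q ∈ (Module.annihilator R (QuotSMulTop x R)).minimalPrimes, y ∉ Q)
    (N : Type u) [AddCommGroup N] [Module R N]
    (hNx : ∀ z : N, x • z = 0) (hNy : ∀ z : N, y • z = 0) :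
    Module.supportDim R N < (k : WithBot ℕ∞) := by
  have h1 : Module.supportDim R N ≤
      Module.supportDim R (QuotSMulTop y (QuotSMulTop x R)) := by
    apply supportDim_le_of_support_subset
    rw [Module.support_quotSMulTop, Module.support_quotSMulTop, support_self_eq_univ,
      Set.univ_inter]
    exact Set.subset_inter (support_subset_zeroLocus_of_smul_eq_zero N x hNx)
      (support_subset_zeroLocus_of_smul_eq_zero N y hNy)
  have h2 : Module.supportDim R (QuotSMulTop y (QuotSMulTop x R)) + 1 ≤
      Module.supportDim R (QuotSMulTop x R) :=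
    Module.supportDim_quotSMulTop_succ_le_of_notMem_minimalPrimes hy
  have h3 : Module.supportDim R (QuotSMulTop x R) + 1 ≤ Module.supportDim R R := by
    apply Module.supportDim_quotSMulTop_succ_le_of_notMem_minimalPrimes
    intro Q hQ
    rw [Module.annihilator_eq_bot.mpr inferInstance] at hQ
    exact hx Q hQ
  rw [Module.supportDim_self_eq_ringKrullDim, hn] at h3
  have h4 : Module.supportDim R (QuotSMulTop x R) < ((k + 1 : ℕ) : WithBot ℕ∞) :=
    lt_of_add_one_le h3
  have h5 : Module.supportDim R (QuotSMulTop x R) ≤ (k : WithBot ℕ∞) := by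
    induction hsd : Module.supportDim R (QuotSMulTop x R) using WithBot.recBotCoe with
    | bot => exact bot_le
    | coe e =>
      rw [hsd] at h4
      have h6 : e < ((k + 1 : ℕ) : ℕ∞) := by exact_mod_cast h4
      have h7 : e ≤ (k : ℕ∞) := by
        rw [Nat.cast_add, Nat.cast_one] at h6
        exact Order.le_of_lt_add_one h6
      exact_mod_cast h7
  exact lt_of_le_of_lt h1 (lt_of_add_one_le (h2.trans h5))

end dim

end Groth.Agent.Lib.Helper79.CanonS2
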