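import Mathlib
import Groth.Agent.Lib.Helper79.CanonS2A
import Groth.Agent.Lib.Helper29.DepthLoc
import Groth.Agent.Lib.Helper2.Matlis

set_option autoImplicit false
universe u

open IsLocalRing

namespace Groth.Agent.Lib.Helper79.CanonS2

open Groth.Agent.Lib.Helper79.CanonReg Groth.Agent.Lib.Helper60

section main

open scoped Pointwise

variable {R : Type u} [CommRing R] [IsNoetherianRing R] [IsLocalRing R] {E : Type u}
  [AddCommGroup E] [Module R E] {K : Type u} [AddCommGroup K] [Module R K]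

omit [IsNoetherianRing R] [IsLocalRing R] in
lemma smul_quot_range_eq_zero {M : Type u} [AddCommGroup M] [Module R M] (x : R)
    (z : M ⧸ LinearMap.range (LinearMap.lsmul R M x)) : x • z = 0 := by
  obtain ⟨r, rfl⟩ := Submodule.Quotient.mk_surjective _ z
  rw [← Submodule.Quotient.mk_smul, Submodule.Quotient.mk_eq_zero]
  exact ⟨r, rfl⟩

omit [IsNoetherianRing R] [IsLocalRing R] in
lemma smul_ker_mulR_eq_zero {M : Type u} [AddCommGroup M] [Module R M] (x : R)
    (z : LinearMap.ker (mulR (M := M) x)) : x • z = 0 := by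
  apply Subtype.ext
  have hz := z.2
  rw [LinearMap.mem_ker] at hz
  have := congrArg Subtype.val hz
  rw [mulR_coe] at this
  exact this

/-- An element avoiding the minimal primes of `R` is regular on a canonical module. -/
theorem isSMulRegular_of_notMem_minimalPrimes (n : ℕ) (hn : ringKrullDim R = n)
    (hcog : ∀ z : K, z ≠ 0 → ∃ φ : K →ₗ[R] E, φ z ≠ 0)
    (eK : (K →ₗ[R] E) ≃ₗ[R] LocCoh.H (maximalIdeal R) n R) (x : R)
    (hx : ∀ Q ∈ minimalPrimes R, x ∉ Q) : IsSMulRegular K x := by
  apply isSMulRegular_of_surjective eK hcog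
  apply exists_smul_eq (maximalIdeal R) (M := R) x n
  · apply lc_subsingleton_of_supportDim_lt_of_finite
    refine lt_of_le_of_lt (Module.supportDim_le_ringKrullDim R _) ?_
    rw [hn]
    exact_mod_cast Nat.lt_succ_self n
  · apply lc_subsingleton_of_supportDim_lt_of_finite
    exact supportDim_lt_of_smul_eq_zero n hn x hx _ (smul_quot_range_eq_zero x)

/-- A second element avoiding the minimal primes of `xR` is regular on `K/xK`. -/
theorem isSMulRegular_quotSMulTop_of_notMem (k : ℕ) (hn : ringKrullDim R = (k + 2 : ℕ))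
    (x y : R) (hcog : ∀ z : QuotSMulTop x K, z ≠ 0 → ∃ φ : QuotSMulTop x K →ₗ[R] E, φ z ≠ 0)
    (eK : (K →ₗ[R] E) ≃ₗ[R] LocCoh.H (maximalIdeal R) (k + 2) R)
    (hx : ∀ Q ∈ minimalPrimes R, x ∉ Q)
    (hy : ∀ Q ∈ (Module.annihilator R (QuotSMulTop x R)).minimalPrimes, y ∉ Q) :
    IsSMulRegular (QuotSMulTop x K) y := by
  apply isSMulRegular_quotSMulTop eK x y hcog
  intro w hw
  refine exists_smul_eq_of_smul_eq_zero (maximalIdeal R) (M := R) x y (k + 1) ?_ ?_ ?_ w hw
  · apply lc_subsingleton_of_supportDim_lt_of_finite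
    exact supportDim_lt_of_smul_eq_zero (k + 2) hn x hx _ (smul_ker_mulR_eq_zero x)
  · apply lc_subsingleton_of_supportDim_lt_of_finite
    refine lt_of_le_of_lt (Module.supportDim_le_ringKrullDim R _) ?_
    rw [hn]
    exact_mod_cast Nat.lt_succ_self (k + 2)
  · apply exists_smul_eq (maximalIdeal R)
      (M := R ⧸ LinearMap.range (LinearMap.lsmul R R x)) y (k + 1)
    · apply lc_subsingleton_of_supportDim_lt_of_finite
      refine supportDim_lt_of_smul_eq_zero (k + 2) hn x hx _ ?_
      intro z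
      apply Subtype.ext
      exact smul_quot_range_eq_zero x z.1
    · apply lc_subsingleton_of_supportDim_lt_of_finite
      refine supportDim_lt_of_smul_eq_zero₂ (k + 1) hn x y hx hy _ ?_ ?_
      · intro z
        obtain ⟨z', rfl⟩ := Submodule.Quotient.mk_surjective _ z
        rw [← Submodule.Quotient.mk_smul, smul_quot_range_eq_zero x z',
          Submodule.Quotient.mk_zero]
      · exact smul_quot_range_eq_zero y

omit [IsNoetherianRing R] [IsLocalRing R] in
/-- prime avoidance for a finite set of primes. -/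
theorem exists_mem_forall_notMem (p : Ideal R) (T : Set (Ideal R)) (hT : T.Finite)
    (hprime : ∀ Q ∈ T, Q.IsPrime) (hp : ∀ Q ∈ T, ¬ p ≤ Q) : ∃ x ∈ p, ∀ Q ∈ T, x ∉ Q := by
  classical
  by_contra hcon
  push Not at hcon
  have hsub : ((p : Set R)) ⊆ ⋃ q ∈ (↑hT.toFinset : Set (Ideal R)), ((id q : Ideal R) : Set R) := by
    intro x hx
    obtain ⟨q, hq, hxq⟩ := hcon x hx
    simp only [Set.Finite.coe_toFinset, id, Set.mem_iUnion]
    exact ⟨q, hq, hxq⟩
  have hex := (Ideal.subset_union_prime (s := hT.toFinset) (f := fun q : Ideal R => id q)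
    ⊥ ⊥ (fun q hq _ _ => by
      have hq' : q ∈ T := by simpa using hq
      exact hprime q hq') (I := p)).1 hsub
  obtain ⟨q, hq, hbq⟩ := hex
  have hq' : q ∈ T := by simpa using hq
  exact hp q hq' hbq

/-- Casting a bound `k ≤ d` in `ℕ∞` to `WithBot ℕ∞`. -/
theorem natCast_le_coe (k : ℕ) (d : ℕ∞) (h : (k : ℕ∞) ≤ d) :
    ((k : ℕ) : WithBot ℕ∞) ≤ ((d : ℕ∞) : WithBot ℕ∞) := by
  have : ((k : ℕ) : WithBot ℕ∞) = (((k : ℕ) : ℕ∞) : WithBot ℕ∞) := rfl
  rw [this]
  exact WithBot.coe_le_coe.mpr h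

/-- **A canonical module satisfies `(S₂)`.** -/
theorem hasSk_two (n : ℕ) (hn : ringKrullDim R = n) (f : ResidueField R →ₗ[R] E)
    (hf : InjHull.IsInjectiveHull f) [Module.Finite R K]
    (eK : (K →ₗ[R] E) ≃ₗ[R] LocCoh.H (maximalIdeal R) n R) : LocCoh.HasSk 2 R K := by
  intro p hp
  have hcog : ∀ (M : Type u) [AddCommGroup M] [Module R M] (z : M), z ≠ 0 →
      ∃ φ : M →ₗ[R] E, φ z ≠ 0 := fun M _ _ z hz =>
    Groth.Agent.Lib.Helper2.exists_hom_apply_ne_zero hf z hz
  obtain ⟨h, hh⟩ : ∃ h : ℕ, p.height = h :=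
    ⟨_, (ENat.natCast_toNat p.height_ne_top_of_isPrime).symm⟩
  have hsd : Module.supportDim (Localization.AtPrime p) (LocalizedModule p.primeCompl K) ≤
      (h : WithBot ℕ∞) := by
    refine (Module.supportDim_le_ringKrullDim _ _).trans ?_
    rw [IsLocalization.AtPrime.ringKrullDim_eq_height p, hh]
    rfl
  have hdepth : ∀ rs : List R, RingTheory.Sequence.IsWeaklyRegular K rs → (∀ r ∈ rs, r ∈ p) →
      (rs.length : ℕ∞) ≤
        LocCoh.depth (Localization.AtPrime p) (LocalizedModule p.primeCompl K) :=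
    fun rs h1 h2 => (Groth.Agent.Lib.Helper29.length_le_idealDepth p K rs h1 h2).trans
      (Groth.Agent.Lib.Helper29.idealDepth_le_depth_localization R p K)
  rcases Nat.eq_zero_or_pos h with h0 | hpos
  · subst h0
    exact (min_le_right _ _).trans (hsd.trans (natCast_le_coe 0 _ (by simp)))
  -- `p` is contained in no minimal prime
  have hpmin : ∀ Q ∈ minimalPrimes R, ¬ p ≤ Q := by
    intro Q hQ hpQ
    have hpQ' : p = Q := le_antisymm hpQ (hQ.2 ⟨hp, bot_le⟩ hpQ)
    have h0 : p.height = 0 := Ideal.height_eq_zero_iff.mpr (hpQ' ▸ hQ)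
    rw [hh] at h0
    have : h = 0 := by exact_mod_cast h0
    omega
  obtain ⟨x, hxp, hx⟩ := exists_mem_forall_notMem p (minimalPrimes R)
    (minimalPrimes.finite_of_isNoetherianRing R) (fun Q hQ => hQ.1.1) hpmin
  have hxreg : IsSMulRegular K x :=
    isSMulRegular_of_notMem_minimalPrimes n hn (hcog K) eK x hx
  have hd1 : (1 : ℕ∞) ≤
      LocCoh.depth (Localization.AtPrime p) (LocalizedModule p.primeCompl K) := by
    have := hdepth [x] (by simp [hxreg]) (by simpa using hxp)
    simpa using this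
  rcases Nat.lt_or_ge h 2 with hlt | hge
  · have h1 : h = 1 := by omega
    subst h1
    exact (min_le_right _ _).trans (hsd.trans (natCast_le_coe 1 _ (by simpa using hd1)))
  -- height at least two
  have hn2 : 2 ≤ n := by
    have h1 := Ideal.height_le_ringKrullDim_of_ne_top hp.ne_top
    rw [hh, hn] at h1
    have h2 : h ≤ n := by exact_mod_cast h1
    omega
  obtain ⟨k, rfl⟩ : ∃ k, n = k + 2 := ⟨n - 2, by omega⟩
  have hann : Module.annihilator R (QuotSMulTop x R) = Ideal.span {x} := by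
    rw [Ideal.annihilator_quotient]
    ext r
    rw [Submodule.mem_smul_pointwise_iff_exists, Ideal.mem_span_singleton']
    constructor
    · rintro ⟨a, -, rfl⟩
      exact ⟨a, by rw [smul_eq_mul, mul_comm]⟩
    · rintro ⟨a, rfl⟩
      exact ⟨a, Submodule.mem_top, by rw [smul_eq_mul, mul_comm]⟩
  have hpmin2 : ∀ Q ∈ (Module.annihilator R (QuotSMulTop x R)).minimalPrimes, ¬ p ≤ Q := by
    intro Q hQ hpQ
    rw [hann] at hQ
    have h1 := Ideal.height_le_one_of_isPrincipal_of_mem_minimalPrimes (Ideal.span {x}) Q hQ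
    have h2 := Ideal.height_mono hpQ
    rw [hh] at h2
    have h3 : (h : ℕ∞) ≤ 1 := h2.trans h1
    have h4 : h ≤ 1 := by exact_mod_cast h3
    omega
  obtain ⟨y, hyp, hy⟩ := exists_mem_forall_notMem p _
    (Ideal.finite_minimalPrimes_of_isNoetherianRing R _) (fun Q hQ => hQ.1.1) hpmin2
  have hyreg : IsSMulRegular (QuotSMulTop x K) y :=
    isSMulRegular_quotSMulTop_of_notMem k hn x y (hcog _) eK hx hy
  have hd2 : (2 : ℕ∞) ≤
      LocCoh.depth (Localization.AtPrime p) (LocalizedModule p.primeCompl K) := by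
    have := hdepth [x, y] (by
      rw [RingTheory.Sequence.isWeaklyRegular_cons_iff,
        RingTheory.Sequence.isWeaklyRegular_cons_iff]
      exact ⟨hxreg, hyreg, RingTheory.Sequence.IsWeaklyRegular.nil _ _⟩) (by
      intro r hr
      simp only [List.mem_cons, List.not_mem_nil, or_false] at hr
      rcases hr with rfl | rfl
      · exact hxp
      · exact hyp)
    simpa using this
  exact (min_le_left _ _).trans (natCast_le_coe 2 _ (by simpa using hd2))

end main

end Groth.Agent.Lib.Helper79.CanonS2
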