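import Mathlib
import Groth.Agent.Lib.Helper79.LocalDualityA
import Groth.Agent.Lib.Helper79.ExtRepA

set_option autoImplicit false
universe u
open CategoryTheory CategoryTheory.Limits TensorProduct

namespace Groth.Agent.Lib.Helper79.EW

open Groth.Agent.Lib.Helper79.LocalDuality Groth.Agent.Lib.Helper79.ExtRep

variable {R : Type u} [CommRing R] (F : ModuleCat.{u} R ⥤ ModuleCat.{u} R)

/-- elementwise `R`-linearity of a functor on `ModuleCat R`. -/
structure IsLin : Prop where
  map_add : ∀ {M N : ModuleCat.{u} R} (φ ψ : M ⟶ N) (x : F.obj M),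
    (F.map (φ + ψ)).hom x = (F.map φ).hom x + (F.map ψ).hom x
  map_smul : ∀ {M N : ModuleCat.{u} R} (a : R) (φ : M ⟶ N) (x : F.obj M),
    (F.map (a • φ)).hom x = a • (F.map φ).hom x

/-- right exactness on short exact sequences of finite modules. -/
structure IsRightExactFin : Prop where
  surj : ∀ (S : ShortComplex (ModuleCat.{u} R)), S.ShortExact → Module.Finite R S.X₁ →
    Module.Finite R S.X₂ → Module.Finite R S.X₃ → Function.Surjective (F.map S.g).hom
  exact : ∀ (S : ShortComplex (ModuleCat.{u} R)), S.ShortExact → Module.Finite R S.X₁ →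
    Module.Finite R S.X₂ → Module.Finite R S.X₃ →
    ∀ y : F.obj S.X₂, (F.map S.g).hom y = 0 → ∃ x : F.obj S.X₁, (F.map S.f).hom x = y

variable {F}

section basic

lemma map_id_apply {M : ModuleCat.{u} R} (x : F.obj M) : (F.map (𝟙 M)).hom x = x := by
  rw [CategoryTheory.Functor.map_id]
  rfl

lemma map_comp_apply {M N P : ModuleCat.{u} R} (φ : M ⟶ N) (ψ : N ⟶ P) (x : F.obj M) :
    (F.map (φ ≫ ψ)).hom x = (F.map ψ).hom ((F.map φ).hom x) := by
  rw [CategoryTheory.Functor.map_comp]
  rfl

variable (hF : IsLin F)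
include hF

lemma map_zero_apply {M N : ModuleCat.{u} R} (x : F.obj M) : (F.map (0 : M ⟶ N)).hom x = 0 := by
  have := hF.map_add (0 : M ⟶ N) 0 x
  rw [add_zero] at this
  exact left_eq_add.mp this

lemma map_sum_apply {M N : ModuleCat.{u} R} {ι : Type*} (s : Finset ι) (φ : ι → (M ⟶ N))
    (x : F.obj M) : (F.map (∑ k ∈ s, φ k)).hom x = ∑ k ∈ s, (F.map (φ k)).hom x := by
  classical
  induction s using Finset.induction_on with
  | empty => simp [map_zero_apply hF]
  | insert a s ha ih => rw [Finset.sum_insert ha, Finset.sum_insert ha, hF.map_add, ih]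

end basic

/-- the morphism `R → M`, `1 ↦ m`. -/
noncomputable def elt {M : Type u} [AddCommGroup M] [Module R M] (m : M) :
    ModuleCat.of R R ⟶ ModuleCat.of R M :=
  ModuleCat.ofHom (LinearMap.toSpanSingleton R M m)

lemma elt_add {M : Type u} [AddCommGroup M] [Module R M] (m m' : M) :
    elt (R := R) (m + m') = elt m + elt m' := by
  apply ModuleCat.hom_ext
  apply LinearMap.ext
  intro a
  show a • (m + m') = a • m + a • m'
  rw [smul_add]

lemma elt_smul {M : Type u} [AddCommGroup M] [Module R M] (a : R) (m : M) :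
    elt (R := R) (a • m) = a • elt m := by
  apply ModuleCat.hom_ext
  apply LinearMap.ext
  intro b
  show b • (a • m) = a • (b • m)
  rw [smul_comm]

lemma elt_comp {M N : Type u} [AddCommGroup M] [Module R M] [AddCommGroup N] [Module R N]
    (g : M →ₗ[R] N) (m : M) : elt (R := R) m ≫ ModuleCat.ofHom g = elt (g m) := by
  apply ModuleCat.hom_ext
  apply LinearMap.ext
  intro b
  show g (b • m) = b • g m
  rw [map_smul]

lemma elt_self (a : R) : elt (R := R) (M := R) a = a • 𝟙 (ModuleCat.of R R) := by
  apply ModuleCat.hom_ext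
  apply LinearMap.ext
  intro b
  show b • a = a • b
  rw [smul_eq_mul, smul_eq_mul, mul_comm]

variable (F) in
/-- The comparison map `F(R) ⊗ M → F(M)`. -/
noncomputable def theta (hF : IsLin F) (M : Type u) [AddCommGroup M] [Module R M] :
    (F.obj (ModuleCat.of R R)) ⊗[R] M →ₗ[R] F.obj (ModuleCat.of R M) :=
  TensorProduct.lift (LinearMap.mk₂ R (fun x m => (F.map (elt m)).hom x)
    (fun x x' m => map_add _ x x')
    (fun c x m => map_smul _ c x)
    (fun x m m' => by rw [elt_add, hF.map_add])
    (fun c x m => by rw [elt_smul, hF.map_smul]))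

lemma theta_tmul (hF : IsLin F) (M : Type u) [AddCommGroup M] [Module R M]
    (x : F.obj (ModuleCat.of R R)) (m : M) : theta F hF M (x ⊗ₜ m) = (F.map (elt m)).hom x := rfl

/-- naturality of `theta`. -/
lemma theta_natural (hF : IsLin F) {M N : Type u} [AddCommGroup M] [Module R M] [AddCommGroup N]
    [Module R N] (g : M →ₗ[R] N) (t : (F.obj (ModuleCat.of R R)) ⊗[R] M) :
    (F.map (ModuleCat.ofHom g)).hom (theta F hF M t) = theta F hF N (LinearMap.lTensor _ g t) := by
  induction t using TensorProduct.induction_on with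
  | zero => simp
  | tmul x m =>
    rw [theta_tmul, LinearMap.lTensor_tmul, theta_tmul, ← map_comp_apply, elt_comp]
  | add t t' ht ht' => rw [map_add, map_add, map_add, map_add, ht, ht']

end Groth.Agent.Lib.Helper79.EW
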