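import Mathlib
import Groth.Agent.Lib.Helper79.EWA
import Groth.Agent.Lib.Helper79.LocalDualityC

set_option autoImplicit false
universe u
open CategoryTheory CategoryTheory.Limits TensorProduct

namespace Groth.Agent.Lib.Helper79.EW

open Groth.Agent.Lib.Helper79.LocalDuality Groth.Agent.Lib.Helper79.ExtRep

variable {R : Type u} [CommRing R] {F : ModuleCat.{u} R ⥤ ModuleCat.{u} R} (hF : IsLin F)

include hF

/-- `theta` for `M = R` is the right unitor. -/
lemma theta_self (t : (F.obj (ModuleCat.of R R)) ⊗[R] R) :
    theta F hF R t = TensorProduct.rid R _ t := by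
  induction t using TensorProduct.induction_on with
  | zero => simp
  | tmul x a =>
    rw [theta_tmul, TensorProduct.rid_tmul, elt_self, hF.map_smul, map_id_apply]
  | add t t' ht ht' => rw [map_add, map_add, ht, ht']

/-- the `j`-th coordinate of a tensor in `F(R) ⊗ R^b`. -/
noncomputable def coord (b : ℕ) (j : Fin b) :
    (F.obj (ModuleCat.of R R)) ⊗[R] (Fin b → R) →ₗ[R] F.obj (ModuleCat.of R R) :=
  (TensorProduct.rid R _).toLinearMap ∘ₗ
    LinearMap.lTensor _ (LinearMap.proj (R := R) (φ := fun _ : Fin b => R) j)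

omit hF in
lemma eq_sum_coord (b : ℕ) (t : (F.obj (ModuleCat.of R R)) ⊗[R] (Fin b → R)) :
    t = ∑ j, (coord (F := F) b j t) ⊗ₜ[R] (Pi.single j (1 : R) : Fin b → R) := by
  induction t using TensorProduct.induction_on with
  | zero => simp
  | tmul x z =>
    have hz : z = ∑ j, z j • (Pi.single j 1 : Fin b → R) := by
      conv_lhs => rw [← Finset.univ_sum_single z]
      apply Finset.sum_congr rfl
      intro j _
      rw [← Pi.single_smul, smul_eq_mul, mul_one]
    conv_lhs => rw [hz, TensorProduct.tmul_sum]
    apply Finset.sum_congr rfl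
    intro j _
    show x ⊗ₜ[R] (z j • (Pi.single j 1 : Fin b → R)) = _
    rw [TensorProduct.tmul_smul, TensorProduct.smul_tmul']
    congr 1
  | add t t' ht ht' =>
    conv_lhs => rw [ht, ht']
    rw [← Finset.sum_add_distrib]
    apply Finset.sum_congr rfl
    intro j _
    rw [map_add, TensorProduct.add_tmul]

lemma map_πF_theta (b : ℕ) (j : Fin b) (t : (F.obj (ModuleCat.of R R)) ⊗[R] (Fin b → R)) :
    (F.map (πF (R := R) b j)).hom (theta F hF (Fin b → R) t) = coord (F := F) b j t := by
  have := theta_natural hF (LinearMap.proj (R := R) (φ := fun _ : Fin b => R) j) t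
  rw [theta_self hF] at this
  exact this

omit hF in
lemma elt_single (b : ℕ) (j : Fin b) :
    elt (R := R) (Pi.single j (1 : R) : Fin b → R) = ιF b j := by
  apply ModuleCat.hom_ext
  apply LinearMap.ext
  intro a
  show a • (Pi.single j (1 : R) : Fin b → R) = Pi.single j a
  rw [← Pi.single_smul, smul_eq_mul, mul_one]

/-- `theta` is bijective for finite free modules. -/
theorem theta_free_bijective (b : ℕ) : Function.Bijective (theta F hF (Fin b → R)) := by
  constructor
  · rw [injective_iff_map_eq_zero]
    intro t ht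
    rw [eq_sum_coord b t]
    apply Finset.sum_eq_zero
    intro j _
    rw [← map_πF_theta hF, ht, map_zero, TensorProduct.zero_tmul]
  · intro y
    refine ⟨∑ j, ((F.map (πF (R := R) b j)).hom y) ⊗ₜ[R] (Pi.single j (1 : R) : Fin b → R), ?_⟩
    rw [map_sum]
    conv_rhs => rw [← map_id_apply (F := F) y, id_eq_sum_F, map_sum_apply hF]
    apply Finset.sum_congr rfl
    intro j _
    rw [theta_tmul, map_comp_apply, elt_single]

end Groth.Agent.Lib.Helper79.EW
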