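import Mathlib
import Groth.Agent.Lib.Helper79.EWB

set_option autoImplicit false
universe u
open CategoryTheory CategoryTheory.Limits TensorProduct

namespace Groth.Agent.Lib.Helper79.EW

open Groth.Agent.Lib.Helper79.LocalDuality Groth.Agent.Lib.Helper79.ExtRep

variable {R : Type u} [CommRing R] [IsNoetherianRing R]
  {F : ModuleCat.{u} R ⥤ ModuleCat.{u} R} (hF : IsLin F) (hFr : IsRightExactFin F)

include hFr

/-- `theta` is surjective for finite modules. -/
theorem theta_surjective (M : Type u) [AddCommGroup M] [Module R M] [Module.Finite R M] :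
    Function.Surjective (theta F hF M) := by
  intro y
  obtain ⟨b, π, hπ⟩ := Module.Finite.exists_fin' R M
  have hS := sesOfSurjective_shortExact π hπ
  have hKfin : Module.Finite R (LinearMap.ker π) := Module.Finite.of_fg (IsNoetherian.noetherian _)
  have hsurj := hFr.surj (sesOfSurjective π) hS hKfin
    (inferInstanceAs (Module.Finite R (Fin b → R))) (inferInstanceAs (Module.Finite R M))
  obtain ⟨y₂, rfl⟩ := hsurj y
  obtain ⟨t, rfl⟩ := (theta_free_bijective hF b).2 y₂
  exact ⟨LinearMap.lTensor _ π t, (theta_natural hF π t).symm⟩

/-- **Eilenberg–Watts for finite modules**: `F(R) ⊗ M → F(M)` is bijective for every finite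
module `M`, if `F` is linear and right exact on finite modules. -/
theorem theta_bijective (M : Type u) [AddCommGroup M] [Module R M] [Module.Finite R M] :
    Function.Bijective (theta F hF M) := by
  obtain ⟨b, π, hπ⟩ := Module.Finite.exists_fin' R M
  have hS := sesOfSurjective_shortExact π hπ
  have hKfin : Module.Finite R (LinearMap.ker π) := Module.Finite.of_fg (IsNoetherian.noetherian _)
  have hfinF : Module.Finite R (Fin b → R) := inferInstance
  refine bijective_of_right_exact
    (LinearMap.lTensor (F.obj (ModuleCat.of R R)) (LinearMap.ker π).subtype)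
    (LinearMap.lTensor (F.obj (ModuleCat.of R R)) π)
    ((F.map (sesOfSurjective π).f).hom)
    ((F.map (sesOfSurjective π).g).hom)
    (theta F hF (LinearMap.ker π))
    (theta F hF (Fin b → R))
    (theta F hF M)
    ?_ ?_ ?_ ?_ ?_ ?_ ?_ ?_
  · exact LinearMap.lTensor_surjective _ hπ
  · intro t
    rw [← LinearMap.comp_apply, ← LinearMap.lTensor_comp]
    have : π ∘ₗ (LinearMap.ker π).subtype = 0 := by
      ext z
      exact z.2
    rw [this, LinearMap.lTensor_zero, LinearMap.zero_apply]
  · exact hFr.surj (sesOfSurjective π) hS hKfin hfinF (inferInstanceAs (Module.Finite R M))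
  · exact hFr.exact (sesOfSurjective π) hS hKfin hfinF (inferInstanceAs (Module.Finite R M))
  · intro t
    exact (theta_natural hF (LinearMap.ker π).subtype t).symm
  · intro t
    exact (theta_natural hF π t).symm
  · exact theta_surjective hF hFr (LinearMap.ker π)
  · exact theta_free_bijective hF b

omit hFr in
include hF in
/-- Two linear functors, right exact on finite modules, with isomorphic values on `R`, have
isomorphic values on every finite module. -/
theorem nonempty_linearEquiv_of_equiv {G : ModuleCat.{u} R ⥤ ModuleCat.{u} R}
    (hFr : IsRightExactFin F) (hG : IsLin G)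
    (hGr : IsRightExactFin G)
    (e : F.obj (ModuleCat.of R R) ≃ₗ[R] G.obj (ModuleCat.of R R))
    (M : Type u) [AddCommGroup M] [Module R M] [Module.Finite R M] :
    Nonempty (F.obj (ModuleCat.of R M) ≃ₗ[R] G.obj (ModuleCat.of R M)) := by
  let eF := LinearEquiv.ofBijective (theta F hF M) (theta_bijective hF hFr M)
  let eG := LinearEquiv.ofBijective (theta G hG M) (theta_bijective hG hGr M)
  exact ⟨eF.symm.trans ((TensorProduct.congr e (LinearEquiv.refl R M)).trans eG)⟩

end Groth.Agent.Lib.Helper79.EW
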