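import Mathlib
import Groth.Agent.Lib.Helper79.EWC
import Groth.Agent.Lib.Helper60.GrothVanishing

set_option autoImplicit false
universe u
open CategoryTheory CategoryTheory.Limits TensorProduct

namespace Groth.Agent.Lib.Helper79.EW

open Groth.Agent.Lib.Helper79.LocalDuality Groth.Agent.Lib.Helper79.ExtRep
  Groth.Agent.Lib.Helper60

variable {R : Type u} [CommRing R]

/-! ### local cohomology as a linear functor -/

theorem isLin_localCohomology (J : Ideal R) (n : ℕ) : IsLin (localCohomology J n) where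
  map_add φ ψ x := by
    rw [lcMap_eq_lcPostcomp, Abelian.Ext.mk₀_add, lcPostcomp_add, lcMap_eq_lcPostcomp, lcMap_eq_lcPostcomp]
  map_smul a φ x := lcMap_smul J a φ n x

theorem isRightExactFin_localCohomology (J : Ideal R) (n : ℕ)
    (hvan : ∀ (N : Type u) [AddCommGroup N] [Module R N], Module.Finite R N →
      Subsingleton ((localCohomology J (n + 1)).obj (ModuleCat.of R N))) :
    IsRightExactFin (localCohomology J n) where
  surj S hS h1 _ _ y := by
    have hsub : Subsingleton ((localCohomology J (n + 1)).obj S.X₁) := hvan S.X₁ h1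
    have hy : lcDelta J hS n y = 0 := @Subsingleton.elim _ hsub _ _
    exact lc_exact₃ J hS n y hy
  exact S hS _ _ _ y hy := lc_exact₂ J hS n y hy

/-! ### the double dual functor `M ↦ Hom(Hom(M, K), E)` -/

variable (K E : Type u) [AddCommGroup K] [Module R K] [AddCommGroup E] [Module R E]

/-- The functor `M ↦ Hom(Hom(M, K), E)`. -/
noncomputable def GG : ModuleCat.{u} R ⥤ ModuleCat.{u} R where
  obj M := ModuleCat.of R ((M →ₗ[R] K) →ₗ[R] E)
  map {M N} φ := ModuleCat.ofHom (LinearMap.lcomp R E (LinearMap.lcomp R K φ.hom))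
  map_id M := by
    apply ModuleCat.hom_ext
    apply LinearMap.ext
    intro h
    rfl
  map_comp φ ψ := by
    apply ModuleCat.hom_ext
    apply LinearMap.ext
    intro h
    rfl

variable {K E}

omit [AddCommGroup K] [Module R K] [AddCommGroup E] [Module R E] in
private lemma dd_add {M N : Type u} [AddCommGroup M] [Module R M] [AddCommGroup N] [Module R N]
    {K E : Type u} [AddCommGroup K] [Module R K] [AddCommGroup E] [Module R E]
    (φ ψ : M →ₗ[R] N) (h : (M →ₗ[R] K) →ₗ[R] E) :
    LinearMap.lcomp R E (LinearMap.lcomp R K (φ + ψ)) h =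
      LinearMap.lcomp R E (LinearMap.lcomp R K φ) h + LinearMap.lcomp R E (LinearMap.lcomp R K ψ) h := by
  apply LinearMap.ext
  intro χ
  show h (χ ∘ₗ (φ + ψ)) = h (χ ∘ₗ φ) + h (χ ∘ₗ ψ)
  rw [LinearMap.comp_add, map_add]

omit [AddCommGroup K] [Module R K] [AddCommGroup E] [Module R E] in
private lemma dd_smul {M N : Type u} [AddCommGroup M] [Module R M] [AddCommGroup N] [Module R N]
    {K E : Type u} [AddCommGroup K] [Module R K] [AddCommGroup E] [Module R E]
    (a : R) (φ : M →ₗ[R] N) (h : (M →ₗ[R] K) →ₗ[R] E) :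
    LinearMap.lcomp R E (LinearMap.lcomp R K (a • φ)) h =
      a • LinearMap.lcomp R E (LinearMap.lcomp R K φ) h := by
  apply LinearMap.ext
  intro χ
  show h (χ ∘ₗ (a • φ)) = a • h (χ ∘ₗ φ)
  rw [LinearMap.comp_smul, map_smul]

theorem isLin_GG : IsLin (GG (R := R) K E) where
  map_add φ ψ h := dd_add φ.hom ψ.hom h
  map_smul a φ h := dd_smul a φ.hom h

theorem isRightExactFin_GG (hE : Module.Injective R E) : IsRightExactFin (GG (R := R) K E) where
  surj S hS _ _ _ h₃ := by
    have hg : Function.Surjective S.g.hom := hS.moduleCat_surjective_g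
    have hu : Function.Injective (LinearMap.lcomp R K S.g.hom) := by
      intro ψ ψ' hψ
      apply LinearMap.ext
      intro y
      obtain ⟨x, rfl⟩ := hg y
      exact LinearMap.congr_fun hψ x
    obtain ⟨h₂, hh₂⟩ := exists_comp_eq_of_injective hE _ hu h₃
    exact ⟨h₂, hh₂⟩
  exact S hS _ _ _ h₂ hh₂ := by
    have hg : Function.Surjective S.g.hom := hS.moduleCat_surjective_g
    have hex := (S.moduleCat_exact_iff).mp hS.exact
    have huv : ∀ ψ : S.X₂ →ₗ[R] K, LinearMap.lcomp R K S.f.hom ψ = 0 →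
        ∃ ψ₃ : S.X₃ →ₗ[R] K, LinearMap.lcomp R K S.g.hom ψ₃ = ψ := by
      intro ψ hψ
      have hle : LinearMap.ker S.g.hom ≤ LinearMap.ker ψ := by
        intro x hx
        obtain ⟨x₁, rfl⟩ := hex x hx
        exact LinearMap.congr_fun hψ x₁
      refine ⟨((LinearMap.ker S.g.hom).liftQ ψ hle) ∘ₗ
        (LinearMap.quotKerEquivOfSurjective S.g.hom hg).symm.toLinearMap, ?_⟩
      apply LinearMap.ext
      intro x
      show ((LinearMap.ker S.g.hom).liftQ ψ hle)
        ((LinearMap.quotKerEquivOfSurjective S.g.hom hg).symm (S.g.hom x)) = ψ x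
      have : (LinearMap.quotKerEquivOfSurjective S.g.hom hg).symm (S.g.hom x) =
          Submodule.Quotient.mk x := by
        rw [LinearEquiv.symm_apply_eq]
        rfl
      rw [this]
      rfl
    obtain ⟨h₁, hh₁⟩ := exists_comp_eq_of_exact hE _ _ huv h₂ hh₂
    exact ⟨h₁, hh₁⟩

end Groth.Agent.Lib.Helper79.EW
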