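import Mathlib

set_option autoImplicit false
universe u

open IsLocalRing

namespace Groth.Agent.Lib.Helper79.DescentIso

section general

variable {R : Type u} [CommRing R]

/-- Elements of `J • ⊤ ⊆ Hom(X, N)` take values in `J • ⊤ ⊆ N`. -/
lemma apply_mem_smul_top {X N : Type u} [AddCommGroup X] [Module R X] [AddCommGroup N]
    [Module R N] (J : Ideal R) (u : X →ₗ[R] N) (hu : u ∈ J • (⊤ : Submodule R (X →ₗ[R] N)))
    (x : X) : u x ∈ J • (⊤ : Submodule R N) := by
  refine Submodule.smul_induction_on hu ?_ ?_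
  · intro r hr w _
    rw [LinearMap.smul_apply]
    exact Submodule.smul_mem_smul hr Submodule.mem_top
  · intro w₁ w₂ h₁ h₂
    rw [LinearMap.add_apply]
    exact Submodule.add_mem _ h₁ h₂

/-- For a finite free source, a map with values in `J • ⊤` lies in `J • ⊤`. -/
lemma mem_smul_top_of_apply_mem {a : ℕ} {N : Type u} [AddCommGroup N] [Module R N]
    (J : Ideal R) (w : (Fin a → R) →ₗ[R] N)
    (hw : ∀ x, w x ∈ J • (⊤ : Submodule R N)) :
    w ∈ J • (⊤ : Submodule R ((Fin a → R) →ₗ[R] N)) := by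
  classical
  have hsum : w = ∑ i : Fin a, (LinearMap.proj i : (Fin a → R) →ₗ[R] R).smulRight
      (w (Pi.single i 1)) := by
    apply LinearMap.pi_ext
    intro i r
    rw [LinearMap.sum_apply]
    simp only [LinearMap.smulRight_apply, LinearMap.proj_apply]
    rw [Finset.sum_eq_single i]
    · rw [Pi.single_eq_same, ← map_smul]
      congr 1
      ext j
      by_cases hj : j = i
      · subst hj
        simp
      · simp [Pi.single_eq_of_ne hj]
    · intro j _ hj
      rw [Pi.single_eq_of_ne hj, zero_smul]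
    · intro h
      exact absurd (Finset.mem_univ i) h
  rw [hsum]
  refine Submodule.sum_mem _ fun i _ => ?_
  -- the linear map `n ↦ proj_i.smulRight n`
  let ρ : N →ₗ[R] ((Fin a → R) →ₗ[R] N) :=
    { toFun := fun n => (LinearMap.proj i : (Fin a → R) →ₗ[R] R).smulRight n
      map_add' := fun n₁ n₂ => by
        apply LinearMap.ext
        intro x
        simp [smul_add]
      map_smul' := fun r n => by
        apply LinearMap.ext
        intro x
        show x i • (r • n) = r • (x i • n)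
        exact smul_comm _ _ _ }
  have h1 : Submodule.map ρ (J • (⊤ : Submodule R N)) ≤
      J • (⊤ : Submodule R ((Fin a → R) →ₗ[R] N)) := by
    rw [Submodule.map_smul'']
    exact smul_mono_right _ le_top
  exact h1 ⟨_, hw _, rfl⟩

end general

section main

variable (R : Type u) [CommRing R] [IsNoetherianRing R] [IsLocalRing R]

/-- If `M/𝔪^k M ≅ N/𝔪^k N` for all `k`, there is a surjection `M → N`. -/
theorem exists_surjective_of_equiv_quot (M N : Type u) [AddCommGroup M] [Module R M]
    [Module.Finite R M] [AddCommGroup N] [Module R N] [Module.Finite R N]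
    (h : ∀ k : ℕ, Nonempty ((M ⧸ (maximalIdeal R ^ k • (⊤ : Submodule R M))) ≃ₗ[R]
      (N ⧸ (maximalIdeal R ^ k • (⊤ : Submodule R N))))) :
    ∃ f : M →ₗ[R] N, Function.Surjective f := by
  classical
  obtain ⟨b, p, hp⟩ := Module.Finite.exists_fin' R M
  obtain ⟨a, q, hq⟩ := Module.Finite.exists_fin' R (LinearMap.ker p)
  set Φ : ((Fin b → R) →ₗ[R] N) →ₗ[R] ((Fin a → R) →ₗ[R] N) :=
    LinearMap.lcomp R N ((LinearMap.ker p).subtype ∘ₗ q) with hΦ
  obtain ⟨c, hc⟩ := Ideal.exists_pow_inf_eq_pow_smul (maximalIdeal R) (LinearMap.range Φ)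
  obtain ⟨v⟩ := h (c + 1)
  -- lift `v ∘ mkQ ∘ p` to `u : R^b → N`
  obtain ⟨u, hu⟩ := Module.projective_lifting_property
    (Submodule.mkQ (maximalIdeal R ^ (c + 1) • (⊤ : Submodule R N)))
    (v.toLinearMap ∘ₗ (Submodule.mkQ (maximalIdeal R ^ (c + 1) • (⊤ : Submodule R M))) ∘ₗ p)
    (Submodule.mkQ_surjective _)
  have hu' : ∀ x, Submodule.Quotient.mk (u x) =
      v (Submodule.Quotient.mk (p x) : M ⧸ (maximalIdeal R ^ (c + 1) • (⊤ : Submodule R M))) :=
    fun x => LinearMap.congr_fun hu x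
  -- `Φ u` has values in `𝔪^{c+1} N`
  have h1 : ∀ x, Φ u x ∈ maximalIdeal R ^ (c + 1) • (⊤ : Submodule R N) := by
    intro x
    have hx : p ((q x : LinearMap.ker p) : Fin b → R) = 0 := (q x).2
    have h2 : Φ u x = u ((q x : LinearMap.ker p) : Fin b → R) := rfl
    rw [h2, ← Submodule.Quotient.mk_eq_zero, hu', hx, Submodule.Quotient.mk_zero, map_zero]
  have h2 : Φ u ∈ maximalIdeal R ^ (c + 1) • (⊤ : Submodule R ((Fin a → R) →ₗ[R] N)) :=
    mem_smul_top_of_apply_mem _ _ h1
  have h3 : Φ u ∈ maximalIdeal R ^ (c + 1) • (⊤ : Submodule R ((Fin a → R) →ₗ[R] N)) ⊓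
      LinearMap.range Φ := ⟨h2, ⟨u, rfl⟩⟩
  rw [hc (c + 1) (Nat.le_succ c), show c + 1 - c = 1 by omega, pow_one] at h3
  have h4 : maximalIdeal R • (maximalIdeal R ^ c • (⊤ : Submodule R ((Fin a → R) →ₗ[R] N)) ⊓
      LinearMap.range Φ) ≤ Submodule.map Φ (maximalIdeal R • (⊤ : Submodule R _)) := by
    rw [Submodule.map_smul'', Submodule.map_top]
    exact smul_mono_right _ inf_le_right
  obtain ⟨z, hz, hΦz⟩ := h4 h3
  -- `u' = u - z` kills `ker p`
  have hker : LinearMap.ker p ≤ LinearMap.ker (u - z) := by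
    intro l hl
    obtain ⟨x, hx⟩ := hq ⟨l, hl⟩
    have h5 : Φ (u - z) x = 0 := by
      rw [map_sub, hΦz, sub_self, LinearMap.zero_apply]
    have h6 : Φ (u - z) x = (u - z) ((q x : LinearMap.ker p) : Fin b → R) := rfl
    rw [h6, hx] at h5
    exact h5
  let f : M →ₗ[R] N := (Submodule.liftQ (LinearMap.ker p) (u - z) hker) ∘ₗ
    (p.quotKerEquivOfSurjective hp).symm.toLinearMap
  have hf : ∀ x, f (p x) = (u - z) x := by
    intro x
    have : (p.quotKerEquivOfSurjective hp).symm (p x) = Submodule.Quotient.mk x := by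
      rw [LinearEquiv.symm_apply_eq]
      rfl
    show Submodule.liftQ (LinearMap.ker p) (u - z) hker
      ((p.quotKerEquivOfSurjective hp).symm (p x)) = _
    rw [this, Submodule.liftQ_apply]
  refine ⟨f, ?_⟩
  rw [← LinearMap.range_eq_top, eq_top_iff]
  apply Submodule.le_of_le_smul_of_le_jacobson_bot (I := maximalIdeal R) (Module.Finite.fg_top)
    (IsLocalRing.maximalIdeal_le_jacobson _)
  intro n _
  obtain ⟨ybar, hy⟩ := v.surjective (Submodule.Quotient.mk n)
  obtain ⟨y, rfl⟩ := Submodule.Quotient.mk_surjective _ ybar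
  obtain ⟨x, rfl⟩ := hp y
  have h7 : n - u x ∈ maximalIdeal R ^ (c + 1) • (⊤ : Submodule R N) := by
    rw [← Submodule.Quotient.mk_eq_zero, Submodule.Quotient.mk_sub, hu', hy, sub_self]
  have h8 : maximalIdeal R ^ (c + 1) • (⊤ : Submodule R N) ≤
      maximalIdeal R • (⊤ : Submodule R N) := by
    apply Submodule.smul_mono_left
    rw [pow_succ]
    exact Ideal.mul_le_right
  have h9 : z x ∈ maximalIdeal R • (⊤ : Submodule R N) := apply_mem_smul_top _ z hz x
  have h10 : n = f (p x) + ((n - u x) + z x) := by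
    rw [hf, LinearMap.sub_apply]
    abel
  rw [h10]
  exact Submodule.add_mem_sup ⟨p x, rfl⟩ (Submodule.add_mem _ (h8 h7) h9)

/-- **Descent of isomorphisms from truncations**: finite modules over a Noetherian local ring
with `M/𝔪^k M ≅ N/𝔪^k N` for all `k` are isomorphic. -/
theorem nonempty_linearEquiv_of_equiv_quot (M N : Type u) [AddCommGroup M] [Module R M]
    [Module.Finite R M] [AddCommGroup N] [Module R N] [Module.Finite R N]
    (h : ∀ k : ℕ, Nonempty ((M ⧸ (maximalIdeal R ^ k • (⊤ : Submodule R M))) ≃ₗ[R]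
      (N ⧸ (maximalIdeal R ^ k • (⊤ : Submodule R N))))) :
    Nonempty (M ≃ₗ[R] N) := by
  obtain ⟨f, hf⟩ := exists_surjective_of_equiv_quot R M N h
  obtain ⟨g, hg⟩ := exists_surjective_of_equiv_quot R N M fun k => (h k).map LinearEquiv.symm
  have hgf : Function.Surjective (g ∘ₗ f) := hg.comp hf
  have hinj : Function.Injective (g ∘ₗ f) :=
    OrzechProperty.injective_of_surjective_endomorphism _ hgf
  have hfinj : Function.Injective f := by
    intro x y hxy
    apply hinj
    rw [LinearMap.comp_apply, LinearMap.comp_apply, hxy]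
  exact ⟨LinearEquiv.ofBijective f ⟨hfinj, hf⟩⟩

end main

end Groth.Agent.Lib.Helper79.DescentIso
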