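import Mathlib
import Groth.Agent.Lib.Helper79.DescentIso
import Groth.Agent.Lib.Helper2.MatlisComplete
import Groth.Agent.Lib.Helper85.HS.FiniteLength

set_option autoImplicit false
universe u

open IsLocalRing

namespace Groth.Agent.Lib.Helper79.DescentIso

section dual

variable {R : Type u} [CommRing R] {K K' E : Type u} [AddCommGroup K] [Module R K]
  [AddCommGroup K'] [Module R K'] [AddCommGroup E] [Module R E]

/-- a functional on `K` killed by `J` vanishes on `J • ⊤`. -/
lemma apply_eq_zero_of_smul_eq_zero (J : Ideal R) (ψ : K →ₗ[R] E) (hψ : ∀ r ∈ J, r • ψ = 0)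
    (y : K) (hy : y ∈ J • (⊤ : Submodule R K)) : ψ y = 0 := by
  refine Submodule.smul_induction_on hy ?_ ?_
  · intro r hr y' _
    rw [map_smul, ← LinearMap.smul_apply, hψ r hr, LinearMap.zero_apply]
  · intro y₁ y₂ h₁ h₂
    rw [map_add, h₁, h₂, add_zero]

/-- A linear map `Hom(K, E) → Hom(K', E)` induces `Hom(K/JK, E) → Hom(K'/JK', E)`. -/
noncomputable def quotDualMap (J : Ideal R) (θ : (K →ₗ[R] E) →ₗ[R] (K' →ₗ[R] E)) :
    ((K ⧸ J • (⊤ : Submodule R K)) →ₗ[R] E) →ₗ[R] ((K' ⧸ J • (⊤ : Submodule R K')) →ₗ[R] E) where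
  toFun φ := Submodule.liftQ _ (θ (φ ∘ₗ Submodule.mkQ _)) (by
    intro y hy
    rw [LinearMap.mem_ker]
    refine apply_eq_zero_of_smul_eq_zero J _ ?_ y hy
    intro r hr
    rw [← map_smul]
    have : r • (φ ∘ₗ Submodule.mkQ (J • (⊤ : Submodule R K))) = 0 := by
      apply LinearMap.ext
      intro x
      rw [LinearMap.smul_apply, LinearMap.comp_apply, ← map_smul, Submodule.mkQ_apply,
        ← Submodule.Quotient.mk_smul,
        (Submodule.Quotient.mk_eq_zero _).mpr (Submodule.smul_mem_smul hr Submodule.mem_top),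
        map_zero, LinearMap.zero_apply]
    rw [this, map_zero])
  map_add' φ₁ φ₂ := by
    apply Submodule.linearMap_qext
    apply LinearMap.ext
    intro y
    simp [LinearMap.add_comp]
  map_smul' r φ := by
    apply Submodule.linearMap_qext
    apply LinearMap.ext
    intro y
    simp [LinearMap.smul_comp]

lemma quotDualMap_comp_mkQ (J : Ideal R) (θ : (K →ₗ[R] E) →ₗ[R] (K' →ₗ[R] E))
    (φ : (K ⧸ J • (⊤ : Submodule R K)) →ₗ[R] E) :
    quotDualMap J θ φ ∘ₗ Submodule.mkQ _ = θ (φ ∘ₗ Submodule.mkQ _) := by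
  apply LinearMap.ext
  intro y
  rfl

/-- An isomorphism `Hom(K, E) ≃ Hom(K', E)` induces `Hom(K/JK, E) ≃ Hom(K'/JK', E)`. -/
noncomputable def quotDualEquiv (J : Ideal R) (θ : (K →ₗ[R] E) ≃ₗ[R] (K' →ₗ[R] E)) :
    ((K ⧸ J • (⊤ : Submodule R K)) →ₗ[R] E) ≃ₗ[R] ((K' ⧸ J • (⊤ : Submodule R K')) →ₗ[R] E) :=
  LinearEquiv.ofLinearMap (quotDualMap J θ.toLinearMap) (quotDualMap J θ.symm.toLinearMap)
    (by
      apply LinearMap.ext
      intro φ
      apply Submodule.linearMap_qext
      rw [LinearMap.comp_apply, quotDualMap_comp_mkQ, quotDualMap_comp_mkQ]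
      simp)
    (by
      apply LinearMap.ext
      intro φ
      apply Submodule.linearMap_qext
      rw [LinearMap.comp_apply, quotDualMap_comp_mkQ, quotDualMap_comp_mkQ]
      simp)

end dual

section final

variable {R : Type u} [CommRing R] [IsNoetherianRing R] [IsLocalRing R] {E : Type u}
  [AddCommGroup E] [Module R E] {f : IsLocalRing.ResidueField R →ₗ[R] E}

lemma isFiniteLength_quot_pow_smul_top (K : Type u) [AddCommGroup K] [Module R K]
    [Module.Finite R K] (k : ℕ) :
    IsFiniteLength R (K ⧸ (maximalIdeal R ^ k • (⊤ : Submodule R K))) := by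
  have := Groth.Agent.Lib.Helper2.isArtinianRing_quot_maximalIdeal_pow R k
  apply Groth.Agent.Lib.Helper85.HS.isFiniteLength_of_finite_of_torsion (maximalIdeal R ^ k)
  intro a ha y
  obtain ⟨y', rfl⟩ := Submodule.Quotient.mk_surjective _ y
  rw [← Submodule.Quotient.mk_smul, Submodule.Quotient.mk_eq_zero]
  exact Submodule.smul_mem_smul ha Submodule.mem_top

/-- **Finite modules with isomorphic Matlis duals are isomorphic.** -/
theorem nonempty_linearEquiv_of_dual_equiv (hf : InjHull.IsInjectiveHull f)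
    (K K' : Type u) [AddCommGroup K] [Module R K] [Module.Finite R K]
    [AddCommGroup K'] [Module R K'] [Module.Finite R K']
    (θ : (K →ₗ[R] E) ≃ₗ[R] (K' →ₗ[R] E)) : Nonempty (K ≃ₗ[R] K') := by
  apply nonempty_linearEquiv_of_equiv_quot R K K'
  intro k
  have hX := isFiniteLength_quot_pow_smul_top (R := R) K k
  have hX' := isFiniteLength_quot_pow_smul_top (R := R) K' k
  let ev := LinearEquiv.ofBijective _
    (Groth.Agent.Lib.Helper2.bijective_applyₗ hf _ hX)
  let ev' := LinearEquiv.ofBijective _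
    (Groth.Agent.Lib.Helper2.bijective_applyₗ hf _ hX')
  let eD := quotDualEquiv (maximalIdeal R ^ k) θ
  exact ⟨ev.trans ((LinearEquiv.arrowCongr eD (LinearEquiv.refl R E)).trans ev'.symm)⟩

end final

end Groth.Agent.Lib.Helper79.DescentIso
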