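import Mathlib
import Groth.Prelude.Def_GrMod3

set_option autoImplicit false
universe u
open CategoryTheory AlgebraicGeometry Opposite TopologicalSpace

namespace Groth.Agent.Lib.Helper79.GrAlpha

variable {R σ : Type u} [CommRing R] [SetLike σ R] [AddSubgroupClass σ R]
    (𝒜 : ℕ → σ) [GradedRing 𝒜] {M τ : Type u} [AddCommGroup M] [Module R M] [SetLike τ M] [AddSubgroupClass τ M]
    (ℳ : ℕ → τ) [SetLike.GradedSMul 𝒜 ℳ]

theorem mk_one_eq_zero_iff (x : ProjectiveSpectrum 𝒜) (m : M) :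
    (LocalizedModule.mk m 1 : GrMod.LocMod 𝒜 (M := M) x) = 0 ↔
      ∃ s : R, s ∉ x.asHomogeneousIdeal ∧ s • m = 0 := by
  rw [← LocalizedModule.zero_mk (1 : x.asHomogeneousIdeal.toIdeal.primeCompl), LocalizedModule.mk_eq]
  constructor
  · rintro ⟨u, hu⟩
    refine ⟨u.1, u.2, ?_⟩
    simpa [Submonoid.smul_def] using hu
  · rintro ⟨s, hs, h⟩
    refine ⟨⟨s, hs⟩, ?_⟩
    simp only [one_smul, smul_zero]
    exact h

theorem alpha_eq_zero_iff (i : ℕ) (m : ℳ i) :
    GrMod.alpha 𝒜 ℳ i m = 0 ↔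
      ∀ x : ProjectiveSpectrum 𝒜, ∃ s : R, s ∉ x.asHomogeneousIdeal ∧ s • (m : M) = 0 := by
  constructor
  · intro h x
    have h1 : (GrMod.globalOf 𝒜 ℳ m) = 0 := h
    have h2 := congrArg (fun f => ((f.1 ⟨x, trivial⟩ : GrMod.tildeAt 𝒜 ℳ i x) : GrMod.LocMod 𝒜 (M := M) x)) h1
    exact (mk_one_eq_zero_iff 𝒜 x (m : M)).1 h2
  · intro h
    change (GrMod.globalOf 𝒜 ℳ m) = 0
    refine Subtype.ext (funext fun x => Subtype.ext ?_)
    exact (mk_one_eq_zero_iff 𝒜 x.1 (m : M)).2 (h x.1)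

/-- the annihilator of a homogeneous element is a homogeneous ideal -/
theorem isHomogeneous_ann [DirectSum.Decomposition ℳ] (i : ℕ) (m : M) (hm : m ∈ ℳ i) :
    (LinearMap.ker (LinearMap.toSpanSingleton R M m)).IsHomogeneous 𝒜 := by
  classical
  intro j r hr
  rw [LinearMap.mem_ker, LinearMap.toSpanSingleton_apply] at hr ⊢
  have hsum : r = ∑ l ∈ (DirectSum.decompose 𝒜 r).support, ((DirectSum.decompose 𝒜 r l : 𝒜 l) : R) := by
    exact (DirectSum.sum_support_decompose 𝒜 r).symm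
  have hmem : ∀ l, ((DirectSum.decompose 𝒜 r l : R)) • m ∈ ℳ (l + i) :=
    fun l => SetLike.GradedSMul.smul_mem (DirectSum.decompose 𝒜 r l).2 hm
  have h0 : ∑ l ∈ (DirectSum.decompose 𝒜 r).support, ((DirectSum.decompose 𝒜 r l : R)) • m = 0 := by
    rw [← Finset.sum_smul, ← hsum, hr]
  have h1 := congrArg (fun y => ((DirectSum.decompose ℳ y (j + i) : ℳ (j + i)) : M)) h0
  simp only [DirectSum.decompose_sum, DirectSum.decompose_zero] at h1
  rw [DFinsupp.finsetSum_apply, AddSubmonoidClass.coe_finsetSum] at h1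
  simp only [DirectSum.zero_apply, ZeroMemClass.coe_zero] at h1
  rw [Finset.sum_eq_single j] at h1
  · rw [DirectSum.decompose_of_mem_same ℳ (hmem j)] at h1
    exact h1
  · intro l _ hlj
    exact DirectSum.decompose_of_mem_ne ℳ (hmem l) (by omega)
  · intro hj
    rw [DFinsupp.notMem_support_iff] at hj
    rw [hj]
    simp


theorem alpha_eq_zero_iff_pow [IsNoetherianRing R] [DirectSum.Decomposition ℳ] (i : ℕ) (m : ℳ i) :
    GrMod.alpha 𝒜 ℳ i m = 0 ↔
      ∃ k : ℕ, ∀ r : R, r ∈ (HomogeneousIdeal.irrelevant 𝒜).toIdeal ^ k → r • (m : M) = 0 := by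
  rw [alpha_eq_zero_iff]
  constructor
  · intro h
    set I : Ideal R := LinearMap.ker (LinearMap.toSpanSingleton R M (m : M)) with hI
    have hIhom : I.IsHomogeneous 𝒜 := isHomogeneous_ann 𝒜 ℳ i (m : M) m.2
    have hle : (HomogeneousIdeal.irrelevant 𝒜).toIdeal ≤ I.radical := by
      rw [hIhom.radical_eq]
      refine le_sInf ?_
      rintro J ⟨hJhom, hIJ, hJprime⟩
      by_contra hcon
      let x : ProjectiveSpectrum 𝒜 := ⟨⟨J, hJhom⟩, hJprime, hcon⟩
      obtain ⟨s, hs, hsm⟩ := h x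
      exact hs (hIJ (by rw [hI, LinearMap.mem_ker, LinearMap.toSpanSingleton_apply]; exact hsm))
    obtain ⟨k, hk⟩ := Ideal.exists_pow_le_of_le_radical_of_fg hle (IsNoetherian.noetherian _)
    refine ⟨k, fun r hr => ?_⟩
    have := hk hr
    rw [hI, LinearMap.mem_ker, LinearMap.toSpanSingleton_apply] at this
    exact this
  · rintro ⟨k, hk⟩ x
    have hx := x.not_irrelevant_le
    obtain ⟨r, hr, hrx⟩ := SetLike.not_le_iff_exists.1 hx
    refine ⟨r ^ k, fun h => hrx (x.isPrime.mem_of_pow_mem k h), hk _ (Ideal.pow_mem_pow hr k)⟩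

end Groth.Agent.Lib.Helper79.GrAlpha
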