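import Mathlib
import Groth.Agent.Lib.Helper29.DepthRees
import Groth.Agent.Lib.Helper93.Depth

/-!
# Generators of an ideal whose first `grade` members form a regular sequence

* `exists_add_notMem` : Davis' coset version of prime avoidance.
* `exists_generators_regular_prefix` : in a Noetherian local ring, an ideal `J ≠ ⊤` of grade `j`
  generated by `c` elements has a generating list of length `c` whose first `j` terms are a regular
  sequence; moreover `j ≤ c`.
-/

set_option autoImplicit false
universe u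

namespace Groth.Agent.Lib.Helper79.GenRegPrefix

open RingTheory.Sequence Groth.Agent.Lib.Helper29

/-- Davis' prime avoidance for cosets. -/
theorem exists_add_notMem {R : Type*} [CommRing R] (n : ℕ) :
    ∀ (S : Finset (Ideal R)), S.card = n → (∀ P ∈ S, P.IsPrime) → ∀ (x : R) (I : Ideal R),
      (∀ P ∈ S, ¬ (Ideal.span {x} ⊔ I ≤ P)) → ∃ b ∈ I, ∀ P ∈ S, x + b ∉ P := by
  classical
  induction n with
  | zero =>
    intro S hS _ x I _
    rw [Finset.card_eq_zero] at hS
    subst hS
    exact ⟨0, I.zero_mem, by simp⟩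
  | succ n ih =>
    intro S hS hprime x I h
    have hne : S.Nonempty := by
      rw [← Finset.card_pos]; omega
    obtain ⟨P, hPS, hPmin⟩ := S.exists_minimal hne
    have hcard : (S.erase P).card = n := by
      rw [Finset.card_erase_of_mem hPS]; omega
    obtain ⟨b', hb'I, hb'⟩ := ih (S.erase P) hcard
      (fun Q hQ => hprime Q (Finset.mem_of_mem_erase hQ)) x I
      (fun Q hQ => h Q (Finset.mem_of_mem_erase hQ))
    by_cases hxP : x + b' ∈ P
    · have hPprime : P.IsPrime := hprime P hPS
      have hIP : ¬ I ≤ P := by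
        intro hle
        apply h P hPS
        refine sup_le ?_ hle
        rw [Ideal.span_singleton_le_iff_mem]
        have : x = (x + b') - b' := by ring
        rw [this]
        exact P.sub_mem hxP (hle hb'I)
      obtain ⟨y, hyI, hyP⟩ := Set.not_subset.mp hIP
      have hprod : ¬ (∏ Q ∈ S.erase P, Q) ≤ P := by
        intro hle
        obtain ⟨Q, hQ, hQP⟩ := (hPprime.prod_le).1 hle
        have hQS := Finset.mem_of_mem_erase hQ
        have hne : Q ≠ P := Finset.ne_of_mem_erase hQ
        exact hPmin hQS hQP |> fun hPQ => hne (le_antisymm hQP hPQ)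
      obtain ⟨z, hz, hzP⟩ := Set.not_subset.mp hprod
      have hzQ : ∀ Q ∈ S.erase P, z ∈ Q := by
        intro Q hQ
        have h1 : (∏ Q ∈ S.erase P, Q) ≤ (S.erase P).inf id := Ideal.prod_le_inf
        have h2 : (S.erase P).inf id ≤ id Q := Finset.inf_le hQ
        exact h2 (h1 hz)
      refine ⟨b' + y * z, I.add_mem hb'I (I.mul_mem_right z hyI), ?_⟩
      intro Q hQS hmem
      by_cases hQP : Q = P
      · subst hQP
        have h1 : y * z ∈ Q := by
          have : y * z = (x + (b' + y * z)) - (x + b') := by ring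
          rw [this]
          exact Q.sub_mem hmem hxP
        rcases hPprime.mem_or_mem h1 with h2 | h2
        · exact hyP h2
        · exact hzP h2
      · have hQ : Q ∈ S.erase P := Finset.mem_erase.mpr ⟨hQP, hQS⟩
        apply hb' Q hQ
        have : x + b' = (x + (b' + y * z)) - y * z := by ring
        rw [this]
        exact Q.sub_mem hmem (Q.mul_mem_left y (hzQ Q hQ))
    · refine ⟨b', hb'I, ?_⟩
      intro Q hQS
      by_cases hQP : Q = P
      · subst hQP; exact hxP
      · exact hb' Q (Finset.mem_erase.mpr ⟨hQP, hQS⟩)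

/-- Depth along a regular sequence (after helper82's `PolyDepth.idealDepth_eq_length_add`). -/
theorem idealDepth_eq_length_add {R : Type u} [CommRing R] [IsNoetherianRing R] (I : Ideal R) :
    ∀ (rs : List R) (M : Type u) [AddCommGroup M] [Module R M] [Module.Finite R M],
      IsWeaklyRegular M rs → (∀ r ∈ rs, r ∈ I) →
      LocCoh.idealDepth I M =
        rs.length + LocCoh.idealDepth I (M ⧸ (Ideal.ofList rs • ⊤ : Submodule R M))
  | [], M, _, _, _, _, _ => by
      have hbot : (Ideal.ofList ([] : List R) • ⊤ : Submodule R M) = ⊥ := by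
        rw [Ideal.ofList_nil, Submodule.bot_smul]
      have e : (M ⧸ (Ideal.ofList ([] : List R) • ⊤ : Submodule R M)) ≃ₗ[R] M :=
        Submodule.quotEquivOfEqBot _ hbot
      rw [idealDepth_congr (I := I) e]
      simp
  | r :: rs, M, _, _, _, h, hmem => by
      rw [isWeaklyRegular_cons_iff] at h
      have h1 := idealDepth_quotSMulTop_add_one I M (hmem r (by simp)) h.1
      have ih := idealDepth_eq_length_add I rs (QuotSMulTop r M) h.2
        (fun x hx => hmem x (List.mem_cons_of_mem _ hx))
      have e := Submodule.quotOfListConsSMulTopEquivQuotSMulTopInner M r rs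
      rw [idealDepth_congr (I := I) e, ← h1, ih, List.length_cons]
      push_cast
      ring

section Local

variable {T : Type u} [CommRing T] [IsNoetherianRing T] [IsLocalRing T]

theorem smul_top_ne_top_of_ne_top {J : Ideal T} (hJ : J ≠ ⊤)
    (N : Type*) [AddCommGroup N] [Module T N] [Module.Finite T N] [Nontrivial N] :
    J • (⊤ : Submodule T N) ≠ ⊤ := by
  intro h
  have hle : J ≤ IsLocalRing.maximalIdeal T := IsLocalRing.le_maximalIdeal hJ
  have h2 : J • (⊤ : Submodule T N) ≤ IsLocalRing.maximalIdeal T • (⊤ : Submodule T N) :=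
    Submodule.smul_mono_left hle
  rw [h, top_le_iff] at h2
  exact (Submodule.top_ne_ideal_smul_of_le_jacobson_annihilator
    (IsLocalRing.maximalIdeal_le_jacobson _)) h2.symm

theorem step (J : Ideal T) (hJ : J ≠ ⊤) (j : ℕ) (hj : LocCoh.idealDepth J T = j) (c : ℕ)
    (ts : List T) (hlen : ts.length = c) (hts : Ideal.ofList ts = J) (i : ℕ) (hi : i < j)
    (hreg : IsWeaklyRegular T (ts.take i)) :
    i < c ∧ ∃ ts' : List T, ts'.length = c ∧ Ideal.ofList ts' = J ∧
      IsWeaklyRegular T (ts'.take (i + 1)) := by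
  classical
  set l₁ := ts.take i with hl₁
  have hl₁J : ∀ r ∈ l₁, r ∈ J := fun r hr =>
    hts ▸ Ideal.subset_span (List.mem_of_mem_take hr)
  have hl₁le : Ideal.ofList l₁ ≤ J := Ideal.span_le.mpr hl₁J
  have hl₁len : l₁.length ≤ i := by rw [hl₁, List.length_take]; exact min_le_left _ _
  have hntN : Nontrivial (T ⧸ (Ideal.ofList l₁ • ⊤ : Submodule T T)) := by
    rw [Submodule.Quotient.nontrivial_iff]
    intro h
    apply hJ
    rw [eq_top_iff]
    have : (Ideal.ofList l₁ • ⊤ : Submodule T T) = Ideal.ofList l₁ := by simp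
    rw [this] at h
    exact h ▸ hl₁le
  have h1 := idealDepth_eq_length_add J l₁ T hreg hl₁J
  rw [hj] at h1
  have hone : 1 ≤ LocCoh.idealDepth J (T ⧸ (Ideal.ofList l₁ • ⊤ : Submodule T T)) := by
    generalize LocCoh.idealDepth J (T ⧸ (Ideal.ofList l₁ • ⊤ : Submodule T T)) = d at h1
    induction d with
    | top => exact le_top
    | coe d =>
      have h' : j = l₁.length + d := by exact_mod_cast h1
      have : 1 ≤ d := by omega
      exact_mod_cast this
  rw [Groth.Agent.Lib.Helper93.Depth.one_le_idealDepth_iff] at hone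
  rcases hone with htop | ⟨r, hrJ, hrreg⟩
  · exact absurd htop (smul_top_ne_top_of_ne_top hJ _)
  -- `i < c`
  have hic : i < c := by
    by_contra hcon
    push Not at hcon
    have hl₁ts : l₁ = ts := by rw [hl₁]; exact List.take_of_length_le (by omega)
    obtain ⟨w, hw⟩ := exists_ne (0 : T ⧸ (Ideal.ofList l₁ • ⊤ : Submodule T T))
    apply hw
    apply hrreg
    change r • w = r • 0
    rw [smul_zero]
    obtain ⟨u, rfl⟩ := Submodule.Quotient.mk_surjective _ w
    rw [← Submodule.Quotient.mk_smul, Submodule.Quotient.mk_eq_zero]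
    refine Submodule.smul_mem_smul ?_ Submodule.mem_top
    rw [hl₁ts, hts]
    exact hrJ
  refine ⟨hic, ?_⟩
  have hi' : i < ts.length := by omega
  set g := ts[i] with hg
  set l₂ := ts.drop (i + 1) with hl₂
  have htsdec : ts = l₁ ++ g :: l₂ := by
    rw [hl₁, hg, hl₂, ← List.drop_eq_getElem_cons hi', List.take_append_drop]
  have hl₁len' : l₁.length = i := by rw [hl₁, List.length_take]; omega
  have hJdec : J = Ideal.ofList l₁ ⊔ (Ideal.span {g} ⊔ Ideal.ofList l₂) := by
    rw [← hts, htsdec, Ideal.ofList_append, Ideal.ofList_cons]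
  -- the primes to avoid
  set N := T ⧸ (Ideal.ofList l₁ • ⊤ : Submodule T T) with hN
  have hfin : (associatedPrimes T N).Finite := associatedPrimes.finite T N
  have havoid : ∀ P ∈ hfin.toFinset, ¬ (Ideal.span {g} ⊔ Ideal.ofList (l₁ ++ l₂) ≤ P) := by
    intro P hP hle
    have hP' : P ∈ associatedPrimes T N := by simpa using hP
    have hJP : J ≤ P := by
      rw [hJdec]
      rw [Ideal.ofList_append] at hle
      refine sup_le (le_trans (le_sup_left.trans le_sup_right) hle) (sup_le ?_ ?_)
      · exact le_sup_left.trans hle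
      · exact (le_sup_right.trans le_sup_right).trans hle
    have : r ∈ ⋃ p ∈ associatedPrimes T N, (p : Set T) :=
      Set.mem_biUnion hP' (hJP hrJ)
    rw [biUnion_associatedPrimes_eq_compl_regular T N] at this
    exact this hrreg
  obtain ⟨b, hb, hbP⟩ := exists_add_notMem hfin.toFinset.card hfin.toFinset rfl
    (fun P hP => by
      have hP' : P ∈ associatedPrimes T N := by simpa using hP
      exact hP'.isPrime) g (Ideal.ofList (l₁ ++ l₂)) havoid
  have htreg : IsSMulRegular N (g + b) := by
    by_contra hcon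
    have : (g + b) ∈ ({ r : T | IsSMulRegular N r }ᶜ : Set T) := hcon
    rw [← biUnion_associatedPrimes_eq_compl_regular T N] at this
    obtain ⟨P, hP, hmem⟩ := Set.mem_iUnion₂.mp this
    exact hbP P (by simpa using hP) hmem
  refine ⟨l₁ ++ (g + b) :: l₂, ?_, ?_, ?_⟩
  · rw [← hlen, htsdec]; simp
  · rw [hJdec, Ideal.ofList_append, Ideal.ofList_cons]
    rw [Ideal.ofList_append] at hb
    have hbL : b ∈ Ideal.ofList l₁ ⊔ (Ideal.span {g + b} ⊔ Ideal.ofList l₂) :=
      (sup_le le_sup_left (le_sup_right.trans le_sup_right) :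
        Ideal.ofList l₁ ⊔ Ideal.ofList l₂ ≤ _) hb
    have hbR : b ∈ Ideal.ofList l₁ ⊔ (Ideal.span {g} ⊔ Ideal.ofList l₂) :=
      (sup_le le_sup_left (le_sup_right.trans le_sup_right) :
        Ideal.ofList l₁ ⊔ Ideal.ofList l₂ ≤ _) hb
    have hgR : g ∈ Ideal.ofList l₁ ⊔ (Ideal.span {g} ⊔ Ideal.ofList l₂) :=
      (le_sup_left.trans le_sup_right : Ideal.span {g} ≤ _) (Ideal.mem_span_singleton_self g)
    have hgbL : g + b ∈ Ideal.ofList l₁ ⊔ (Ideal.span {g + b} ⊔ Ideal.ofList l₂) :=
      (le_sup_left.trans le_sup_right : Ideal.span {g + b} ≤ _)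
        (Ideal.mem_span_singleton_self _)
    have hgL : g ∈ Ideal.ofList l₁ ⊔ (Ideal.span {g + b} ⊔ Ideal.ofList l₂) := by
      have h := Ideal.sub_mem _ hgbL hbL
      rwa [add_sub_cancel_right] at h
    apply le_antisymm
    · refine sup_le le_sup_left (sup_le ?_ (le_sup_right.trans le_sup_right))
      rw [Ideal.span_singleton_le_iff_mem]
      exact Ideal.add_mem _ hgR hbR
    · refine sup_le le_sup_left (sup_le ?_ (le_sup_right.trans le_sup_right))
      rw [Ideal.span_singleton_le_iff_mem]
      exact hgL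
  · have : (l₁ ++ (g + b) :: l₂).take (i + 1) = l₁ ++ [g + b] := by
      rw [← hl₁len', List.take_length_add_append]
      simp
    rw [this, isWeaklyRegular_append_iff]
    exact ⟨hreg, (isWeaklyRegular_singleton_iff N (g + b)).mpr htreg⟩

theorem exists_generators_regular_prefix (J : Ideal T) (hJ : J ≠ ⊤) (j : ℕ)
    (hj : LocCoh.idealDepth J T = j) :
    j ≤ Submodule.spanFinrank J ∧
      ∃ ts : List T, ts.length = Submodule.spanFinrank J ∧ Ideal.ofList ts = J ∧
        IsRegular T (ts.take j) := by
  classical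
  set c := Submodule.spanFinrank J with hc
  have hfg : J.FG := IsNoetherian.noetherian J
  obtain ⟨s, hscard, hsspan⟩ := Submodule.FG.exists_span_finset_card_eq_spanFinrank hfg
  have hbase : ∃ ts : List T, ts.length = c ∧ Ideal.ofList ts = J := by
    refine ⟨s.toList, by rw [Finset.length_toList, hscard], ?_⟩
    rw [← hsspan]
    unfold Ideal.ofList
    congr 1
    ext x
    simp
  have key : ∀ i : ℕ, i ≤ j → i ≤ c ∧ ∃ ts : List T, ts.length = c ∧ Ideal.ofList ts = J ∧
      IsWeaklyRegular T (ts.take i) := by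
    intro i
    induction i with
    | zero =>
      intro _
      obtain ⟨ts, h1, h2⟩ := hbase
      exact ⟨Nat.zero_le _, ts, h1, h2, by simpa using IsWeaklyRegular.nil T T⟩
    | succ i ih =>
      intro hi
      obtain ⟨-, ts, h1, h2, h3⟩ := ih (by omega)
      obtain ⟨hic, ts', h1', h2', h3'⟩ := step J hJ j hj c ts h1 h2 i (by omega) h3
      exact ⟨hic, ts', h1', h2', h3'⟩
  obtain ⟨hjc, ts, h1, h2, h3⟩ := key j le_rfl
  refine ⟨hjc, ts, h1, h2, ?_⟩
  have hJT : J • (⊤ : Submodule T T) ≠ ⊤ := by
    have : (J • ⊤ : Submodule T T) = J := by simp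
    rw [this]; exact hJ
  exact isRegular_of_isWeaklyRegular_of_mem hJT h3
    (fun r hr => h2 ▸ Ideal.subset_span (List.mem_of_mem_take hr))

end Local

end Groth.Agent.Lib.Helper79.GenRegPrefix
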