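import Mathlib
import Groth.Agent.Lib.Helper79.GenRegPrefix

/-!
# Regular prefix of generators, keeping the generators fixed modulo an ideal `Q₀ ⊇ J²` (helper79)

Variant of `GenRegPrefix.step`: the correction terms are taken inside `Q₀`.
-/

set_option autoImplicit false
universe u

namespace Groth.Agent.Lib.Helper79.DSeqStep

open RingTheory.Sequence Groth.Agent.Lib.Helper29 Groth.Agent.Lib.Helper79.GenRegPrefix

section Local

variable {T : Type u} [CommRing T] [IsNoetherianRing T] [IsLocalRing T]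

theorem step' (J : Ideal T) (hJ : J ≠ ⊤) (Q₀ : Ideal T) (hQ : J * J ≤ Q₀)
    (j : ℕ) (hj : LocCoh.idealDepth J T = j) (c : ℕ)
    (ts : List T) (hlen : ts.length = c) (hts : Ideal.ofList ts = J) (i : ℕ) (hi : i < j)
    (hreg : IsWeaklyRegular T (ts.take i)) :
    i < c ∧ ∃ ts' : List T, ts'.length = c ∧ Ideal.ofList ts' = J ∧
      IsWeaklyRegular T (ts'.take (i + 1)) ∧
      ts'.map (Ideal.Quotient.mk Q₀) = ts.map (Ideal.Quotient.mk Q₀) := by
  classical
  set l₁ := ts.take i with hl₁
  have hl₁J : ∀ r ∈ l₁, r ∈ J := fun r hr =>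
    hts ▸ Ideal.subset_span (List.mem_of_mem_take hr)
  have hl₁le : Ideal.ofList l₁ ≤ J := Ideal.span_le.mpr hl₁J
  have hl₁len : l₁.length ≤ i := by rw [hl₁, List.length_take]; exact min_le_left _ _
  have hntN : Nontrivial (T ⧸ (Ideal.ofList l₁ • ⊤ : Submodule T T)) := by
    rw [Submodule.Quotient.nontrivial_iff]
    intro h
    apply hJ
    rw [eq_top_iff]
    have : (Ideal.ofList l₁ • ⊤ : Submodule T T) = Ideal.ofList l₁ := by simp
    rw [this] at h
    exact h ▸ hl₁le
  have h1 := idealDepth_eq_length_add J l₁ T hreg hl₁J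
  rw [hj] at h1
  have hone : 1 ≤ LocCoh.idealDepth J (T ⧸ (Ideal.ofList l₁ • ⊤ : Submodule T T)) := by
    generalize LocCoh.idealDepth J (T ⧸ (Ideal.ofList l₁ • ⊤ : Submodule T T)) = d at h1
    induction d with
    | top => exact le_top
    | coe d =>
      have h' : j = l₁.length + d := by exact_mod_cast h1
      have : 1 ≤ d := by omega
      exact_mod_cast this
  rw [Groth.Agent.Lib.Helper93.Depth.one_le_idealDepth_iff] at hone
  rcases hone with htop | ⟨r, hrJ, hrreg⟩
  · exact absurd htop (smul_top_ne_top_of_ne_top hJ _)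
  -- `i < c`
  have hic : i < c := by
    by_contra hcon
    push Not at hcon
    have hl₁ts : l₁ = ts := by rw [hl₁]; exact List.take_of_length_le (by omega)
    obtain ⟨w, hw⟩ := exists_ne (0 : T ⧸ (Ideal.ofList l₁ • ⊤ : Submodule T T))
    apply hw
    apply hrreg
    change r • w = r • 0
    rw [smul_zero]
    obtain ⟨u, rfl⟩ := Submodule.Quotient.mk_surjective _ w
    rw [← Submodule.Quotient.mk_smul, Submodule.Quotient.mk_eq_zero]
    refine Submodule.smul_mem_smul ?_ Submodule.mem_top
    rw [hl₁ts, hts]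
    exact hrJ
  refine ⟨hic, ?_⟩
  have hi' : i < ts.length := by omega
  set g := ts[i] with hg
  set l₂ := ts.drop (i + 1) with hl₂
  have htsdec : ts = l₁ ++ g :: l₂ := by
    rw [hl₁, hg, hl₂, ← List.drop_eq_getElem_cons hi', List.take_append_drop]
  have hl₁len' : l₁.length = i := by rw [hl₁, List.length_take]; omega
  have hJdec : J = Ideal.ofList l₁ ⊔ (Ideal.span {g} ⊔ Ideal.ofList l₂) := by
    rw [← hts, htsdec, Ideal.ofList_append, Ideal.ofList_cons]
  have hJdec' : J = Ideal.span {g} ⊔ Ideal.ofList (l₁ ++ l₂) := by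
    rw [hJdec, Ideal.ofList_append]
    apply le_antisymm
    · refine sup_le (le_sup_left.trans le_sup_right) (sup_le le_sup_left ?_)
      exact le_sup_right.trans le_sup_right
    · refine sup_le (le_sup_left.trans le_sup_right) (sup_le le_sup_left ?_)
      exact le_sup_right.trans le_sup_right
  have hI'J : Ideal.ofList (l₁ ++ l₂) ≤ J := by rw [hJdec']; exact le_sup_right
  -- the primes to avoid
  set N := T ⧸ (Ideal.ofList l₁ • ⊤ : Submodule T T) with hN
  have hfin : (associatedPrimes T N).Finite := associatedPrimes.finite T N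
  have havoid : ∀ P ∈ hfin.toFinset,
      ¬ (Ideal.span {g} ⊔ (Ideal.ofList (l₁ ++ l₂) ⊓ Q₀) ≤ P) := by
    intro P hP hle
    have hP' : P ∈ associatedPrimes T N := by simpa using hP
    have hPprime : P.IsPrime := hP'.isPrime
    have hJP : J ≤ P := by
      intro x hx
      have hx' := hx
      rw [hJdec', Submodule.mem_sup] at hx'
      obtain ⟨y, hy, u, hu, rfl⟩ := hx'
      obtain ⟨a, rfl⟩ := Ideal.mem_span_singleton'.mp hy
      have hmul : (a * g + u) * (a * g + u) ∈ P := by
        apply hle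
        have e : (a * g + u) * (a * g + u) = (a * (a * g + u) + a * u) * g + u * u := by ring
        rw [e]
        refine Ideal.add_mem _ ?_ ?_
        · exact le_sup_left (a := Ideal.span {g}) (Ideal.mem_span_singleton'.mpr ⟨_, rfl⟩)
        · refine le_sup_right (a := Ideal.span {g}) ⟨Ideal.mul_mem_left _ _ hu, ?_⟩
          exact hQ (Ideal.mul_mem_mul (hI'J hu) (hI'J hu))
      rcases hPprime.mem_or_mem hmul with h | h <;> exact h
    have : r ∈ ⋃ p ∈ associatedPrimes T N, (p : Set T) :=
      Set.mem_biUnion hP' (hJP hrJ)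
    rw [biUnion_associatedPrimes_eq_compl_regular T N] at this
    exact this hrreg
  obtain ⟨b, hb, hbP⟩ := exists_add_notMem hfin.toFinset.card hfin.toFinset rfl
    (fun P hP => by
      have hP' : P ∈ associatedPrimes T N := by simpa using hP
      exact hP'.isPrime) g (Ideal.ofList (l₁ ++ l₂) ⊓ Q₀) havoid
  obtain ⟨hb, hbQ⟩ := hb
  have htreg : IsSMulRegular N (g + b) := by
    by_contra hcon
    have : (g + b) ∈ ({ r : T | IsSMulRegular N r }ᶜ : Set T) := hcon
    rw [← biUnion_associatedPrimes_eq_compl_regular T N] at this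
    obtain ⟨P, hP, hmem⟩ := Set.mem_iUnion₂.mp this
    exact hbP P (by simpa using hP) hmem
  refine ⟨l₁ ++ (g + b) :: l₂, ?_, ?_, ?_, ?_⟩
  · rw [← hlen, htsdec]; simp
  · rw [hJdec, Ideal.ofList_append, Ideal.ofList_cons]
    rw [Ideal.ofList_append] at hb
    have hbL : b ∈ Ideal.ofList l₁ ⊔ (Ideal.span {g + b} ⊔ Ideal.ofList l₂) :=
      (sup_le le_sup_left (le_sup_right.trans le_sup_right) :
        Ideal.ofList l₁ ⊔ Ideal.ofList l₂ ≤ _) hb
    have hbR : b ∈ Ideal.ofList l₁ ⊔ (Ideal.span {g} ⊔ Ideal.ofList l₂) :=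
      (sup_le le_sup_left (le_sup_right.trans le_sup_right) :
        Ideal.ofList l₁ ⊔ Ideal.ofList l₂ ≤ _) hb
    have hgR : g ∈ Ideal.ofList l₁ ⊔ (Ideal.span {g} ⊔ Ideal.ofList l₂) :=
      (le_sup_left.trans le_sup_right : Ideal.span {g} ≤ _) (Ideal.mem_span_singleton_self g)
    have hgbL : g + b ∈ Ideal.ofList l₁ ⊔ (Ideal.span {g + b} ⊔ Ideal.ofList l₂) :=
      (le_sup_left.trans le_sup_right : Ideal.span {g + b} ≤ _)
        (Ideal.mem_span_singleton_self _)
    have hgL : g ∈ Ideal.ofList l₁ ⊔ (Ideal.span {g + b} ⊔ Ideal.ofList l₂) := by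
      have h := Ideal.sub_mem _ hgbL hbL
      rwa [add_sub_cancel_right] at h
    apply le_antisymm
    · refine sup_le le_sup_left (sup_le ?_ (le_sup_right.trans le_sup_right))
      rw [Ideal.span_singleton_le_iff_mem]
      exact Ideal.add_mem _ hgR hbR
    · refine sup_le le_sup_left (sup_le ?_ (le_sup_right.trans le_sup_right))
      rw [Ideal.span_singleton_le_iff_mem]
      exact hgL
  · have : (l₁ ++ (g + b) :: l₂).take (i + 1) = l₁ ++ [g + b] := by
      rw [← hl₁len', List.take_length_add_append]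
      simp
    rw [this, isWeaklyRegular_append_iff]
    exact ⟨hreg, (isWeaklyRegular_singleton_iff N (g + b)).mpr htreg⟩
  · conv_rhs => rw [htsdec]
    rw [List.map_append, List.map_append, List.map_cons, List.map_cons]
    congr 2
    rw [map_add, (Ideal.Quotient.eq_zero_iff_mem).mpr hbQ, add_zero]

/-- Iterating `step'`. -/
theorem exists_regular_prefix_mod (J : Ideal T) (hJ : J ≠ ⊤) (Q₀ : Ideal T) (hQ : J * J ≤ Q₀)
    (j : ℕ) (hj : LocCoh.idealDepth J T = j) (gs : List T) (hgs : Ideal.ofList gs = J) :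
    j ≤ gs.length ∧ ∃ ts : List T, ts.length = gs.length ∧ Ideal.ofList ts = J ∧
      IsWeaklyRegular T (ts.take j) ∧
      ts.map (Ideal.Quotient.mk Q₀) = gs.map (Ideal.Quotient.mk Q₀) := by
  have key : ∀ i : ℕ, i ≤ j → i ≤ gs.length ∧ ∃ ts : List T, ts.length = gs.length ∧
      Ideal.ofList ts = J ∧ IsWeaklyRegular T (ts.take i) ∧
      ts.map (Ideal.Quotient.mk Q₀) = gs.map (Ideal.Quotient.mk Q₀) := by
    intro i
    induction i with
    | zero =>
      intro _
      exact ⟨Nat.zero_le _, gs, rfl, hgs, by simpa using IsWeaklyRegular.nil T T, rfl⟩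
    | succ i ih =>
      intro hi
      obtain ⟨-, ts, h1, h2, h3, h4⟩ := ih (by omega)
      obtain ⟨hic, ts', h1', h2', h3', h4'⟩ :=
        step' J hJ Q₀ hQ j hj gs.length ts h1 h2 i (by omega) h3
      exact ⟨hic, ts', h1', h2', h3', h4'.trans h4⟩
  exact key j le_rfl

end Local

end Groth.Agent.Lib.Helper79.DSeqStep
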