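import Mathlib
import Groth.Prelude.Def_W4c5grrsingularflatDSeq
import Groth.Agent.Lib.Helper29.DepthGrade
import Groth.Agent.Lib.Helper79.DSeqStep

/-!
# Huneke: almost complete intersection primes in CM local rings are generated by d-sequences (helper79)

`exists_isDSeq`: `T` CM local, `p` prime with `μ(p) ≤ ht p + 1` and `T_p` regular ⇒ `p` is generated
by a d-sequence.  Ingredients:
* `exists_finset_card_eq_spanFinrank`: extract `spanFinrank 𝔪` generators of `𝔪` from any finite
  generating family (Noetherian local ring).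
* `height_add_ringKrullDim_quotient_le`, `height_le_idealDepth` (`ht p ≤ grade p` in a CM local ring).
* `eq_of_le_of_mem_associatedPrimes`: unmixedness of `T/(regular sequence)`.
* `mul_mem_of_mul_sq_mem`: `((rs) : t²) = ((rs) : t)` when `p = (rs, t)` and `(rs)T_p = pT_p`.
* `exists_adapted_generators`: generators of `p`, first `ht p` a regular sequence generating `pT_p`.
-/

set_option autoImplicit false
universe u

namespace Groth.Agent.Lib.Helper79.DSeqPrime

open IsLocalRing RingTheory.Sequence Groth.Agent.Lib.Helper29 Groth.Agent.Lib.Helper79.DSeqStep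

/-- From a finite generating family of the maximal ideal of a Noetherian local ring one can
extract a generating subfamily of cardinality `spanFinrank`. -/
theorem exists_finset_card_eq_spanFinrank {R : Type*} [CommRing R] [IsLocalRing R]
    [IsNoetherianRing R] {ι : Type*} [Fintype ι] (x : ι → R)
    (hx : Ideal.span (Set.range x) = maximalIdeal R) :
    ∃ b : Finset ι, b.card = (maximalIdeal R).spanFinrank ∧
      Ideal.span (x '' (b : Set ι)) = maximalIdeal R := by
  classical
  have hxm : ∀ i, x i ∈ maximalIdeal R := fun i => hx ▸ Ideal.subset_span ⟨i, rfl⟩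
  let w : ι → maximalIdeal R := fun i => ⟨x i, hxm i⟩
  let v : ι → CotangentSpace R := fun i => (maximalIdeal R).toCotangent (w i)
  have hspanw : ∀ s : Set ι, Submodule.map (maximalIdeal R).subtype (Submodule.span R (w '' s)) =
      Ideal.span (x '' s) := by
    intro s
    rw [Submodule.map_span, ← Set.image_comp]
    rfl
  have hw : Submodule.span R (Set.range w) = ⊤ := by
    apply Submodule.map_injective_of_injective (maximalIdeal R).injective_subtype
    rw [← Set.image_univ, hspanw, Set.image_univ, hx, Submodule.map_top, Submodule.range_subtype]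
  have hv : Submodule.span (ResidueField R) (Set.range v) = ⊤ := by
    have := (CotangentSpace.span_image_eq_top_iff (s := Set.range w)).mpr hw
    rwa [← Set.range_comp] at this
  obtain ⟨b, -, -, hb1, hb2⟩ := exists_linearIndepOn_extension (K := ResidueField R) (v := v)
    (s := ∅) (t := Set.univ) (linearIndepOn_empty _ _) (Set.empty_subset _)
  have hspan : Submodule.span (ResidueField R) (v '' b) = ⊤ := by
    rw [eq_top_iff, ← hv, Submodule.span_le, ← Set.image_univ]
    exact hb1
  refine ⟨b.toFinset, ?_, ?_⟩
  · rw [spanFinrank_maximalIdeal_eq_finrank_cotangentSpace]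
    have hli : LinearIndependent (ResidueField R) (fun i : b => v i) := hb2
    have hsp : ⊤ ≤ Submodule.span (ResidueField R) (Set.range (fun i : b => v i)) := by
      rw [← hspan, Set.image_eq_range]
    have := Module.finrank_eq_card_basis (Module.Basis.mk hli hsp)
    rw [this, Set.toFinset_card]
  · have h1 : Submodule.span R (w '' b) = ⊤ := by
      rw [← CotangentSpace.span_image_eq_top_iff, ← Set.image_comp]
      exact hspan
    rw [Set.coe_toFinset, ← hspanw, h1, Submodule.map_top, Submodule.range_subtype]

theorem ofList_sup_eq_comap {T : Type*} [CommRing T] (Q₀ : Ideal T) (l : List T) :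
    Ideal.ofList l ⊔ Q₀ =
      Ideal.comap (Ideal.Quotient.mk Q₀) (Ideal.ofList (l.map (Ideal.Quotient.mk Q₀))) := by
  rw [← Ideal.map_ofList, Ideal.comap_map_of_surjective _ Ideal.Quotient.mk_surjective,
    ← RingHom.ker_eq_comap_bot, Ideal.mk_ker]

theorem ofList_le_sup_of_map_eq {T : Type*} [CommRing T] (Q₀ : Ideal T) (l₁ l₂ : List T)
    (h : l₁.map (Ideal.Quotient.mk Q₀) = l₂.map (Ideal.Quotient.mk Q₀)) :
    Ideal.ofList l₂ ≤ Ideal.ofList l₁ ⊔ Q₀ := by
  rw [ofList_sup_eq_comap Q₀ l₁, h, ← ofList_sup_eq_comap Q₀ l₂]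
  exact le_sup_left

/-- `ht I + dim A/I ≤ dim A` (copied from helper82 `CMHeight`). -/
theorem height_add_ringKrullDim_quotient_le {A : Type*} [CommRing A] (I : Ideal A) :
    ((I.height : ℕ∞) : WithBot ℕ∞) + ringKrullDim (A ⧸ I) ≤ ringKrullDim A := by
  rw [ringKrullDim_quotient]
  by_cases hne : Nonempty (PrimeSpectrum.zeroLocus (I : Set A))
  · rw [Order.krullDim_eq_iSup_coheight_of_nonempty]
    have hne' : Nonempty (PrimeSpectrum A) := ⟨hne.some.1⟩
    have key : ∀ a : PrimeSpectrum.zeroLocus (I : Set A),
        I.height + Order.coheight a ≤ ⨆ b : PrimeSpectrum A, Order.height b + Order.coheight b := by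
      intro a
      have h1 : I.height ≤ Order.height a.1 := by
        rw [← PrimeSpectrum.height_eq_orderHeight]
        exact Ideal.height_mono a.2
      have h2 : Order.coheight a ≤ Order.coheight a.1 :=
        Order.coheight_le_coheight_apply_of_strictMono
          (Subtype.val : PrimeSpectrum.zeroLocus (I : Set A) → PrimeSpectrum A)
          (Subtype.strictMono_coe _) a
      exact le_trans (add_le_add h1 h2) (le_iSup (fun b : PrimeSpectrum A =>
        Order.height b + Order.coheight b) a.1)
    rw [ringKrullDim, Order.krullDim_eq_iSup_height_add_coheight_of_nonempty]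
    rw [← WithBot.coe_add, WithBot.coe_le_coe, ENat.add_iSup]
    exact iSup_le key
  · rw [not_nonempty_iff] at hne
    rw [Order.krullDim_eq_bot, WithBot.add_bot]
    exact bot_le

theorem mem_support_self {A : Type*} [CommRing A] (p : PrimeSpectrum A) :
    p ∈ Module.support A A := by
  rw [Module.mem_support_iff']
  refine ⟨1, fun r hr h0 => hr ?_⟩
  rw [smul_eq_mul, mul_one] at h0
  rw [h0]
  exact p.asIdeal.zero_mem

section CM

variable {T : Type u} [CommRing T] [LocCoh.IsCohenMacaulayLocalRing T]

theorem isCohenMacaulayModule_self : LocCoh.IsCohenMacaulayModule T T :=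
  LocCoh.IsCohenMacaulayLocalRing.supportDim_eq_depth

/-- In a CM local ring, `ht p ≤ grade p`. -/
theorem height_le_idealDepth (p : Ideal T) [hp : p.IsPrime] :
    p.height ≤ LocCoh.idealDepth p T := by
  have h1 := supportDim_eq_add_idealDepth_of_isCohenMacaulayModule T p hp.ne_top T
    isCohenMacaulayModule_self
  have hsupp : (⟨p, hp⟩ : PrimeSpectrum T) ∈ Module.support T T := mem_support_self _
  have h3 := supportDim_quotient_smul_top_eq_ringKrullDim_quotient T ⟨p, hp⟩ hsupp
  have h4 := height_add_ringKrullDim_quotient_le p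
  obtain ⟨d, hd⟩ := exists_nat_ringKrullDim_quotient_eq T ⟨p, hp⟩
  change ringKrullDim (T ⧸ p) = d at hd
  change Module.supportDim T (T ⧸ p • (⊤ : Submodule T T)) = ringKrullDim (T ⧸ p) at h3
  rw [Module.supportDim_self_eq_ringKrullDim, h3, hd] at h1
  rw [h1, hd] at h4
  have h5 : p.height + (d : ℕ∞) ≤ (d : ℕ∞) + LocCoh.idealDepth p T := by
    exact_mod_cast h4
  rw [add_comm (d : ℕ∞)] at h5
  exact (ENat.add_le_add_iff_right (ENat.natCast_ne_top d)).mp h5

/-- Unmixedness: an associated prime of `T/(rs)` (`rs` a regular sequence in the maximal ideal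
of a CM local ring) containing a prime `p ⊇ (rs)` equals `p`. -/
theorem eq_of_le_of_mem_associatedPrimes (rs : List T) (hrs : ∀ r ∈ rs, r ∈ maximalIdeal T)
    (hreg : IsWeaklyRegular T rs) (p : Ideal T) [hp : p.IsPrime] (hle : Ideal.ofList rs ≤ p)
    (P : Ideal T) (hP : P ∈ associatedPrimes T (T ⧸ Ideal.ofList rs • (⊤ : Submodule T T)))
    (hpP : p ≤ P) : p = P := by
  set N := T ⧸ Ideal.ofList rs • (⊤ : Submodule T T) with hN
  have hCM : LocCoh.IsCohenMacaulayModule T N :=
    isCohenMacaulayModule_quotient_ofList T T isCohenMacaulayModule_self rs hrs hreg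
  have hPprime : P.IsPrime := hP.isPrime
  have hPs : (⟨P, hPprime⟩ : PrimeSpectrum T) ∈ Module.support T N :=
    mem_support_of_mem_associatedPrimes T hP
  have h1 := depth_le_ringKrullDim_quotient_of_mem_associatedPrimes T N P hP
  have h2 := ringKrullDim_quotient_le_supportDim (⟨P, hPprime⟩ : PrimeSpectrum T) hPs
  have hdim : ringKrullDim (T ⧸ P) = Module.supportDim T N := by
    apply le_antisymm h2
    rw [hCM]
    exact h1
  have hsuppT : (⟨p, hp⟩ : PrimeSpectrum T) ∈ Module.support T T := mem_support_self _
  have hps : (⟨p, hp⟩ : PrimeSpectrum T) ∈ Module.support T N :=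
    mem_support_quotient_ofList T ⟨p, hp⟩ hsuppT rs
      (fun x hx => hle (Ideal.subset_span hx))
  have := eq_of_le_of_ringKrullDim_quotient_eq_supportDim N (supportDim_ne_top T N)
    ⟨P, hPprime⟩ hdim ⟨p, hp⟩ hps hpP
  exact congrArg PrimeSpectrum.asIdeal this

end CM

theorem isSMulRegular_getElem_of_take {T : Type*} [CommRing T] (ts : List T) (n : ℕ)
    (hreg : IsWeaklyRegular T (ts.take n)) (i : ℕ) (hi : i < n) (hil : i < ts.length) :
    IsSMulRegular (T ⧸ (Ideal.ofList (ts.take i) • ⊤ : Submodule T T)) ts[i] := by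
  have h1 : ts.take n = ts.take (i + 1) ++ (ts.take n).drop (i + 1) := by
    conv_lhs => rw [← List.take_append_drop (i + 1) (ts.take n)]
    rw [List.take_take, min_eq_left (by omega : i + 1 ≤ n)]
  rw [h1, isWeaklyRegular_append_iff] at hreg
  have h2 := hreg.1
  rw [List.take_succ_eq_append_getElem hil, isWeaklyRegular_append_iff,
    isWeaklyRegular_singleton_iff] at h2
  exact h2.2

theorem mem_of_mul_mem_of_isSMulRegular {T : Type*} [CommRing T] (I : Ideal T) (r y : T)
    (hr : IsSMulRegular (T ⧸ (I • ⊤ : Submodule T T)) r) (h : r * y ∈ I) : y ∈ I := by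
  have hI : (I • ⊤ : Submodule T T) = I := by simp
  have h0 : (Submodule.Quotient.mk y : T ⧸ (I • ⊤ : Submodule T T)) = 0 := by
    apply hr
    change r • (Submodule.Quotient.mk y : T ⧸ (I • ⊤ : Submodule T T)) = r • 0
    rw [smul_zero, ← Submodule.Quotient.mk_smul, Submodule.Quotient.mk_eq_zero, hI]
    exact h
  rw [Submodule.Quotient.mk_eq_zero, hI] at h0
  exact h0

theorem getElem_notMem_span_others {T : Type*} [CommRing T] (ts : List T)
    (hlen : ts.length = (Ideal.ofList ts).spanFinrank) (i : Fin ts.length) :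
    ts[i] ∉ Ideal.span (Set.range fun j : {j : Fin ts.length // j ≠ i} =>
      ts[(j : Fin ts.length)]) := by
  classical
  intro hmem
  set A : Set T := Set.range fun j : {j : Fin ts.length // j ≠ i} => ts[(j : Fin ts.length)]
    with hA
  have hle : Ideal.ofList ts ≤ Ideal.span A := by
    rw [Ideal.ofList, Ideal.span_le]
    intro x hx
    obtain ⟨k, hk, rfl⟩ := List.getElem_of_mem hx
    by_cases hki : (⟨k, hk⟩ : Fin ts.length) = i
    · rw [← hki] at hmem
      exact hmem
    · exact Ideal.subset_span ⟨⟨⟨k, hk⟩, hki⟩, rfl⟩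
  have hge : Ideal.span A ≤ Ideal.ofList ts := by
    rw [Ideal.span_le]
    rintro _ ⟨j, rfl⟩
    exact Ideal.subset_span (List.getElem_mem _)
  have heq : Ideal.ofList ts = Ideal.span A := le_antisymm hle hge
  have hfinA : A.Finite := Set.finite_range _
  have h1 : (Ideal.span A).spanFinrank ≤ A.ncard :=
    Submodule.spanFinrank_span_le_ncard_of_finite hfinA
  have h2 : A.ncard ≤ ts.length - 1 := by
    have : A.ncard ≤ Nat.card {j : Fin ts.length // j ≠ i} := by
      rw [hA, ← Set.image_univ]
      refine (Set.ncard_image_le Set.finite_univ).trans ?_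
      rw [Set.ncard_univ]
    refine this.trans ?_
    rw [Nat.card_eq_fintype_card]
    simp
  have h3 : 0 < ts.length := i.pos
  rw [← heq, ← hlen] at h1
  omega

section CM

variable {T : Type u} [CommRing T] [LocCoh.IsCohenMacaulayLocalRing T]

theorem mul_mem_of_mul_sq_mem (rs : List T) (hrs : ∀ r ∈ rs, r ∈ maximalIdeal T)
    (hreg : IsWeaklyRegular T rs) (p : Ideal T) [hp : p.IsPrime] (t : T)
    (hpdec : p = Ideal.ofList rs ⊔ Ideal.span {t})
    (hA2 : Ideal.map (algebraMap T (Localization.AtPrime p)) (Ideal.ofList rs) =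
      maximalIdeal (Localization.AtPrime p))
    (x : T) (hx : x * (t * t) ∈ Ideal.ofList rs) : x * t ∈ Ideal.ofList rs := by
  by_contra hy
  set I := Ideal.ofList rs with hI
  have hII : (I • ⊤ : Submodule T T) = I := by simp
  set N := T ⧸ (I • ⊤ : Submodule T T) with hN
  set y := x * t with hydef
  have hne : (Submodule.Quotient.mk y : N) ≠ 0 := by
    rw [Ne, Submodule.Quotient.mk_eq_zero, hII]
    exact hy
  obtain ⟨P, hPass, hPle⟩ := exists_le_isAssociatedPrime_of_isNoetherianRing T
    (Submodule.Quotient.mk y : N) hne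
  have hIp : I ≤ p := by rw [hpdec]; exact le_sup_left
  have htp : t ∈ p := by
    rw [hpdec]; exact le_sup_right (a := I) (Ideal.mem_span_singleton_self t)
  have hmemcolon : ∀ a : T, a * y ∈ I → a ∈ P := by
    intro a ha
    apply hPle
    rw [Submodule.mem_colon_singleton, ← Submodule.Quotient.mk_smul, Submodule.mem_bot,
      Submodule.Quotient.mk_eq_zero, hII]
    exact ha
  have hpP : p ≤ P := by
    rw [hpdec]
    refine sup_le (fun a ha => hmemcolon a (I.mul_mem_right _ ha)) ?_
    rw [Ideal.span_singleton_le_iff_mem]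
    apply hmemcolon
    have : t * y = x * (t * t) := by rw [hydef]; ring
    rw [this]; exact hx
  have hPeq : p = P := eq_of_le_of_mem_associatedPrimes rs hrs hreg p hIp P hPass hpP
  -- localize
  have hyp : y ∈ p := p.mul_mem_left _ htp
  have hymap : algebraMap T (Localization.AtPrime p) y ∈
      Ideal.map (algebraMap T (Localization.AtPrime p)) I := by
    rw [hA2, ← Localization.AtPrime.map_eq_maximalIdeal]
    exact Ideal.mem_map_of_mem _ hyp
  rw [IsLocalization.mem_map_algebraMap_iff p.primeCompl] at hymap
  obtain ⟨⟨a, s⟩, has⟩ := hymap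
  rw [← map_mul, IsLocalization.eq_iff_exists p.primeCompl] at has
  obtain ⟨u, hu⟩ := has
  have h1 : ((u : T) * (s : T)) * y ∈ I := by
    have : ((u : T) * (s : T)) * y = (u : T) * (a : T) := by
      rw [← hu]; ring
    rw [this]
    exact I.mul_mem_left _ a.2
  have hPp : P ≤ p := hPeq.ge
  have h2 : (u : T) * (s : T) ∈ p := hPp (hmemcolon _ h1)
  rcases hp.mem_or_mem h2 with h | h
  · exact u.2 h
  · exact s.2 h

end CM

section CM

variable {T : Type u} [CommRing T] [LocCoh.IsCohenMacaulayLocalRing T]

/-- Generators adapted to the prime `p`. -/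
theorem exists_adapted_generators (p : Ideal T) [hp : p.IsPrime] (h : ℕ) (hh : (h : ℕ∞) = p.height)
    [hreg : IsRegularLocalRing (Localization.AtPrime p)] :
    h ≤ Submodule.spanFinrank p ∧
    ∃ ts : List T, ts.length = Submodule.spanFinrank p ∧ Ideal.ofList ts = p ∧
      IsWeaklyRegular T (ts.take h) ∧
      Ideal.map (algebraMap T (Localization.AtPrime p)) (Ideal.ofList (ts.take h)) =
        maximalIdeal (Localization.AtPrime p) := by
  classical
  set S := Localization.AtPrime p with hS
  set μ := Submodule.spanFinrank p with hμ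
  -- grade
  have hjtop : LocCoh.idealDepth p T ≠ ⊤ := by
    have h1 := idealDepth_mono (IsLocalRing.le_maximalIdeal hp.ne_top) T
    have h2 : LocCoh.idealDepth (maximalIdeal T) T ≠ ⊤ := depth_ne_top T T
    intro h3
    rw [h3, top_le_iff] at h1
    exact h2 h1
  obtain ⟨j, hj⟩ := ENat.ne_top_iff_exists.mp hjtop
  have hhj : h ≤ j := by
    have := height_le_idealDepth p
    rw [← hh, ← hj] at this
    exact_mod_cast this
  -- spanFinrank of the maximal ideal of `S`
  have hSrank : (maximalIdeal S).spanFinrank = h := by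
    have h1 := hreg.spanFinrank_maximalIdeal
    rw [IsLocalization.AtPrime.ringKrullDim_eq_height p S, ← hh] at h1
    exact_mod_cast h1
  -- generators
  obtain ⟨s, hscard, hsspan⟩ :=
    Submodule.FG.exists_span_finset_card_eq_spanFinrank (IsNoetherian.noetherian p)
  replace hsspan : Ideal.span (s : Set T) = p := hsspan
  let x : s → S := fun i => algebraMap T S i
  have hx : Ideal.span (Set.range x) = maximalIdeal S := by
    rw [← Localization.AtPrime.map_eq_maximalIdeal,
      congrArg (Ideal.map (algebraMap T S)) hsspan.symm, Ideal.map_span]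
    congr 1
    ext y
    simp [x]
  obtain ⟨b, hbcard, hbspan⟩ := exists_finset_card_eq_spanFinrank x hx
  rw [hSrank] at hbcard
  set c : s → T := fun i => (i : T) with hc
  set gs : List T := (b.toList ++ bᶜ.toList).map c with hgs
  have hgslen : gs.length = μ := by
    rw [hgs, List.length_map, List.length_append, Finset.length_toList, Finset.length_toList,
      Finset.card_add_card_compl, Fintype.card_coe, hscard]
  have hgsmem : ∀ y, y ∈ gs ↔ y ∈ s := by
    intro y
    rw [hgs, List.mem_map]
    constructor
    · rintro ⟨i, -, rfl⟩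
      exact i.2
    · intro hy
      refine ⟨⟨y, hy⟩, ?_, rfl⟩
      rw [List.mem_append, Finset.mem_toList, Finset.mem_toList, Finset.mem_compl]
      exact em _
  have hgsp : Ideal.ofList gs = p := by
    rw [← hsspan]
    unfold Ideal.ofList
    congr 1
    ext y
    exact hgsmem y
  have hgstake : gs.take h = b.toList.map c := by
    rw [hgs, List.map_append]
    exact List.take_left' (by rw [List.length_map, Finset.length_toList, hbcard])
  have hgsA2 : Ideal.map (algebraMap T S) (Ideal.ofList (gs.take h)) = maximalIdeal S := by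
    rw [hgstake, Ideal.map_ofList, List.map_map, ← hbspan]
    unfold Ideal.ofList
    congr 1
    ext y
    simp only [List.mem_map, Finset.mem_toList, Function.comp_apply, Set.mem_ofPred_eq,
      Set.mem_image, Finset.mem_coe]
    rfl
  -- the ideal `Q₀`
  set Q₀ : Ideal T := Ideal.comap (algebraMap T S) (maximalIdeal S ^ 2) with hQ₀
  have hpmax : ∀ a ∈ p, algebraMap T S a ∈ maximalIdeal S := by
    intro a ha
    rw [← Localization.AtPrime.map_eq_maximalIdeal]
    exact Ideal.mem_map_of_mem _ ha
  have hQ : p * p ≤ Q₀ := by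
    rw [Ideal.mul_le]
    intro a ha a' ha'
    rw [hQ₀, Ideal.mem_comap, map_mul, pow_two]
    exact Ideal.mul_mem_mul (hpmax a ha) (hpmax a' ha')
  obtain ⟨hjlen, ts, htslen, htsp, htsreg, htsmap⟩ :=
    exists_regular_prefix_mod p hp.ne_top Q₀ hQ j hj.symm gs hgsp
  rw [hgslen] at hjlen htslen
  have hregh : IsWeaklyRegular T (ts.take h) := by
    have h1 : ts.take j = ts.take h ++ (ts.take j).drop h := by
      conv_lhs => rw [← List.take_append_drop h (ts.take j)]
      rw [List.take_take, min_eq_left hhj]
    rw [h1, isWeaklyRegular_append_iff] at htsreg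
    exact htsreg.1
  refine ⟨hhj.trans hjlen, ts, htslen, htsp, hregh, ?_⟩
  -- Nakayama
  have hmapeq : (ts.take h).map (Ideal.Quotient.mk Q₀) = (gs.take h).map (Ideal.Quotient.mk Q₀) := by
    have hmt : ∀ l : List T, (l.take h).map (Ideal.Quotient.mk Q₀) =
        (l.map (Ideal.Quotient.mk Q₀)).take h := fun l => List.map_take
    rw [hmt ts, hmt gs, htsmap]
  have hle1 : Ideal.ofList (gs.take h) ≤ Ideal.ofList (ts.take h) ⊔ Q₀ :=
    ofList_le_sup_of_map_eq Q₀ _ _ hmapeq
  have hle0 : Ideal.map (algebraMap T S) (Ideal.ofList (ts.take h)) ≤ maximalIdeal S := by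
    rw [← Localization.AtPrime.map_eq_maximalIdeal]
    apply Ideal.map_mono
    rw [← htsp]
    exact Ideal.span_mono fun y hy => List.mem_of_mem_take hy
  apply le_antisymm hle0
  have hle2 : maximalIdeal S ≤ Ideal.map (algebraMap T S) (Ideal.ofList (ts.take h)) ⊔
      maximalIdeal S • maximalIdeal S := by
    calc maximalIdeal S = Ideal.map (algebraMap T S) (Ideal.ofList (gs.take h)) := hgsA2.symm
      _ ≤ Ideal.map (algebraMap T S) (Ideal.ofList (ts.take h) ⊔ Q₀) := Ideal.map_mono hle1
      _ = Ideal.map (algebraMap T S) (Ideal.ofList (ts.take h)) ⊔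
            Ideal.map (algebraMap T S) Q₀ := Ideal.map_sup _ _ _
      _ ≤ _ := by
          refine sup_le_sup_left ?_ _
          rw [smul_eq_mul, ← pow_two]
          exact Ideal.map_comap_le
  exact Submodule.le_of_le_smul_of_le_jacobson_bot (IsNoetherian.noetherian _)
    (IsLocalRing.maximalIdeal_le_jacobson _) hle2

end CM

section CM

variable {T : Type u} [CommRing T] [LocCoh.IsCohenMacaulayLocalRing T]

theorem exists_isDSeq (p : Ideal T) [hp : p.IsPrime]
    (hgen : (Submodule.spanFinrank p : ℕ∞) ≤ p.height + 1)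
    [IsRegularLocalRing (Localization.AtPrime p)] :
    ∃ ts : List T, Ideal.ofList ts = p ∧ W4c5grrsingularflat.IsDSeq ts := by
  have hht : p.height ≠ ⊤ := Ideal.height_ne_top hp.ne_top
  obtain ⟨h, hh⟩ := ENat.ne_top_iff_exists.mp hht
  obtain ⟨hhμ, ts, htslen, htsp, hregh, hA2⟩ := exists_adapted_generators p h hh
  have hμh : ts.length ≤ h + 1 := by
    rw [htslen]
    rw [← hh] at hgen
    exact_mod_cast hgen
  have hmemp : ∀ r ∈ ts, r ∈ p := fun r hr => htsp ▸ Ideal.subset_span hr
  refine ⟨ts, htsp, ?_, ?_⟩
  · intro i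
    exact getElem_notMem_span_others ts (by rw [htsp, htslen]) i
  · intro i k hk hik
    apply le_antisymm
    · intro x hx
      rw [Submodule.mem_colon_singleton, smul_eq_mul] at hx ⊢
      by_cases hih : i < h
      · have hreg := isSMulRegular_getElem_of_take ts h hregh i hih (by omega)
        apply mem_of_mul_mem_of_isSMulRegular _ ts[i] _ hreg
        have : ts[i] * (x * ts[k]) = x * (ts[k] * ts[i]) := by ring
        rw [this]
        exact hx
      · have hi : i = h := by omega
        have hk' : k = h := by omega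
        subst hk'
        subst hi
        have hlen : ts.length = i + 1 := by omega
        have hdec : ts = ts.take i ++ [ts[i]] := by
          rw [← List.take_succ_eq_append_getElem hk, List.take_of_length_le (by omega)]
        have hpdec : p = Ideal.ofList (ts.take i) ⊔ Ideal.span {ts[i]} := by
          conv_lhs => rw [← htsp, hdec]
          rw [Ideal.ofList_append, Ideal.ofList_singleton]
        refine mul_mem_of_mul_sq_mem (ts.take i) ?_ hregh p ts[i] hpdec hA2 x hx
        intro r hr
        exact IsLocalRing.le_maximalIdeal hp.ne_top (hmemp r (List.mem_of_mem_take hr))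
    · intro x hx
      rw [Submodule.mem_colon_singleton, smul_eq_mul] at hx ⊢
      have : x * (ts[k] * ts[i]) = ts[i] * (x * ts[k]) := by ring
      rw [this]
      exact Ideal.mul_mem_left _ _ hx

end CM

end Groth.Agent.Lib.Helper79.DSeqPrime
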