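import Mathlib
import Groth.Agent.Lib.Helper29.DepthCM2
import Groth.Agent.Lib.Helper79.GenRegPrefix

/-!
Helper lemmas (helper79): lifting a system of parameters of a Cohen–Macaulay localization `A_p`
to part of a system of parameters of the Noetherian local ring `A` (EGA IV 16.5.x style).

* `ringKrullDim_quotient_sup_span_add_one`: an element of the maximal ideal avoiding all minimal
  primes of `I` drops `dim A/I` by exactly one.
* `notMem_minimalPrimes_of_isCohenMacaulay`: in a CM local ring, each member of a system of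
  parameters avoids the minimal primes of the ideal generated by the previous ones.
* `exists_lift`: the inductive construction (ℕ-indexed).
-/

set_option autoImplicit false
universe u v

namespace Groth.Agent.Lib.Helper79.LiftSop

open Module PrimeSpectrum RingTheory.Sequence


/-- In a Noetherian local ring, an element of the maximal ideal avoiding all minimal primes of `I`
drops the dimension of `A/I` by exactly one. -/
theorem ringKrullDim_quotient_sup_span_add_one {A : Type u} [CommRing A] [IsNoetherianRing A]
    [IsLocalRing A] (I I' : Ideal A) (x : A) (hI' : I' = I ⊔ Ideal.span {x})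
    (hx : x ∈ IsLocalRing.maximalIdeal A) (hmin : ∀ q ∈ I.minimalPrimes, x ∉ q) :
    ringKrullDim (A ⧸ I') + 1 = ringKrullDim (A ⧸ I) := by
  have hx' : x ∈ Ring.jacobson A := by rwa [IsLocalRing.ringJacobson_eq_maximalIdeal]
  have hfin : Module.supportDim A (A ⧸ I) ≠ ⊤ :=
    ((Module.supportDim_le_ringKrullDim A (A ⧸ I)).trans_lt
      (Groth.Agent.Lib.Helper29.ringKrullDim_lt_top_of_finite_maximalSpectrum A)).ne
  have key := (Groth.Agent.Lib.Helper29.supportDim_quotSMulTop_add_one_eq_iff A (A ⧸ I) x hx').mpr ?_
  · rw [← Module.supportDim_quotient_eq_ringKrullDim, ← Module.supportDim_quotient_eq_ringKrullDim,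
      ← key]
    congr 1
    unfold Module.supportDim
    have hsupp : Module.support A (A ⧸ I') = Module.support A (QuotSMulTop x (A ⧸ I)) := by
      rw [Module.support_quotSMulTop, Module.support_eq_zeroLocus, Module.support_eq_zeroLocus,
        Ideal.annihilator_quotient, Ideal.annihilator_quotient, hI']
      ext P
      simp only [mem_zeroLocus, Set.mem_inter_iff, SetLike.coe_subset_coe, sup_le_iff,
        Set.singleton_subset_iff, SetLike.mem_coe, Ideal.span_singleton_le_iff_mem]
    rw [hsupp]
  · intro P hP hdim hxP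
    obtain ⟨q, hq, hqP⟩ := Ideal.exists_minimalPrimes_le
      (show I ≤ P.asIdeal by
        have := Module.mem_support_iff_of_finite.mp hP
        rwa [Ideal.annihilator_quotient] at this)
    have hqsupp : (⟨q, hq.1.1⟩ : PrimeSpectrum A) ∈ Module.support A (A ⧸ I) := by
      rw [Module.mem_support_iff_of_finite, Ideal.annihilator_quotient]
      exact hq.1.2
    have := Groth.Agent.Lib.Helper29.eq_of_le_of_ringKrullDim_quotient_eq_supportDim (A ⧸ I) hfin P hdim
      ⟨q, hq.1.1⟩ hqsupp hqP
    apply hmin q hq
    rw [← this] at hxP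
    exact hxP


/-- `span {u * t + z} ⊔ T = span {t} ⊔ T` for a unit `u` and `z ∈ T`. -/
theorem span_unit_mul_add_sup {R : Type*} [CommRing R] (T : Ideal R) (u t z : R) (hu : IsUnit u)
    (hz : z ∈ T) : Ideal.span {u * t + z} ⊔ T = Ideal.span {t} ⊔ T := by
  apply le_antisymm
  · refine sup_le ?_ le_sup_right
    rw [Ideal.span_singleton_le_iff_mem]
    exact Ideal.add_mem _ (Ideal.mem_sup_left (Ideal.mul_mem_left _ _ (Ideal.mem_span_singleton_self t)))
      (Ideal.mem_sup_right hz)
  · refine sup_le ?_ le_sup_right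
    rw [Ideal.span_singleton_le_iff_mem]
    obtain ⟨v, hv⟩ := hu.exists_left_inv
    have e : v * (u * t + z) - v * z = t := by
      have : v * u * t = t := by rw [hv, one_mul]
      linear_combination this
    have h : v * (u * t + z) - v * z ∈ Ideal.span {u * t + z} ⊔ T :=
      Ideal.sub_mem _ (Ideal.mem_sup_left (Ideal.mul_mem_left _ _ (Ideal.mem_span_singleton_self _)))
        (Ideal.mem_sup_right (Ideal.mul_mem_left _ _ hz))
    rw [e] at h
    exact h

theorem image_update_lt_succ {α : Type*} (x : ℕ → α) (k : ℕ) (v : α) :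
    Function.update x k v '' {j | j < k + 1} = insert v (x '' {j | j < k}) := by
  ext y
  simp only [Set.mem_image, Set.mem_ofPred_eq, Set.mem_insert_iff]
  constructor
  · rintro ⟨j, hj, rfl⟩
    by_cases hjk : j = k
    · left; subst hjk; simp
    · right
      exact ⟨j, lt_of_le_of_ne (Nat.lt_succ_iff.mp hj) hjk, by rw [Function.update_of_ne hjk]⟩
  · rintro (rfl | ⟨j, hj, rfl⟩)
    · exact ⟨k, Nat.lt_succ_self k, by simp⟩
    · exact ⟨j, Nat.lt_succ_of_lt hj, by rw [Function.update_of_ne hj.ne]⟩

theorem image_lt_succ {α : Type*} (x : ℕ → α) (k : ℕ) :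
    x '' {j | j < k + 1} = insert (x k) (x '' {j | j < k}) := by
  have := image_update_lt_succ x k (x k)
  rwa [Function.update_eq_self] at this

section Main

variable {A : Type u} [CommRing A] [IsNoetherianRing A] [IsLocalRing A] (p : Ideal A) [p.IsPrime]

local notation "S" => Localization.AtPrime p

theorem exists_lift (s : ℕ) (t' : ℕ → S) (ht' : ∀ j, t' j ∈ IsLocalRing.maximalIdeal S)
    (hreg : ∀ k < s, ∀ Q ∈ (Ideal.span (t' '' {j | j < k})).minimalPrimes, t' k ∉ Q) :
    ∀ k ≤ s, ∃ x a : ℕ → A, (∀ j, x j ∈ p) ∧ (∀ j, a j ∉ p) ∧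
      (∀ i < k, algebraMap A S (x i) - algebraMap A S (a i) * t' i ∈
        Ideal.span (t' '' {j | j < i})) ∧
      (Ideal.span (x '' {j | j < k})).map (algebraMap A S) = Ideal.span (t' '' {j | j < k}) ∧
      ringKrullDim (A ⧸ Ideal.span (x '' {j | j < k})) + (k : WithBot ℕ∞) = ringKrullDim A := by
  classical
  intro k
  induction k with
  | zero =>
    intro _
    refine ⟨fun _ => 0, fun _ => 1, fun _ => p.zero_mem, fun _ => ?_, ?_, ?_, ?_⟩
    · exact fun h => ‹p.IsPrime›.ne_top ((Ideal.eq_top_iff_one p).mpr h)
    · intro i hi; exact absurd hi (Nat.not_lt_zero i)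
    · simp
    · have h0 : Ideal.span ((fun _ : ℕ => (0 : A)) '' {j | j < 0}) = ⊥ := by simp
      rw [h0]
      simp only [Nat.cast_zero, add_zero]
      exact ringKrullDim_eq_of_ringEquiv (RingEquiv.quotientBot A)
  | succ k ih =>
    intro hk
    obtain ⟨x, a, hxp, hap, hcong, hmap, hdim⟩ := ih (Nat.le_of_succ_le hk)
    have hks : k < s := hk
    set I : Ideal A := Ideal.span (x '' {j | j < k}) with hI
    set T : Ideal S := Ideal.span (t' '' {j | j < k}) with hT
    have hIp : I ≤ p := Ideal.span_le.mpr (by rintro _ ⟨j, _, rfl⟩; exact hxp j)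
    obtain ⟨⟨y0, b⟩, hyb⟩ := IsLocalization.surj p.primeCompl (t' k)
    simp only at hyb
    have hbunit : IsUnit (algebraMap A S (b : A)) := IsLocalization.map_units S b
    set Z : Ideal A := (I.map (algebraMap A S)).comap (algebraMap A S) with hZ
    have hIZ : I ≤ Z := Ideal.le_comap_map
    -- avoidance hypothesis
    have havoid : ∀ q ∈ (Ideal.finite_minimalPrimes_of_isNoetherianRing A I).toFinset,
        ¬ (Ideal.span {y0} ⊔ Z ≤ q) := by
      intro q hq hle
      rw [Set.Finite.mem_toFinset] at hq
      have hZq : Z ≤ q := le_sup_right.trans hle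
      have hy0q : y0 ∈ q := hle (Ideal.mem_sup_left (Ideal.mem_span_singleton_self y0))
      have hqZ : q ∈ Z.minimalPrimes :=
        ⟨⟨hq.1.1, hZq⟩, fun r hr hrq => hq.2 ⟨hr.1, hIZ.trans hr.2⟩ hrq⟩
      rw [hZ, IsLocalization.minimalPrimes_comap p.primeCompl S] at hqZ
      obtain ⟨Q, hQ, rfl⟩ := hqZ
      rw [hmap] at hQ
      have hQprime := hQ.1.1
      apply hreg k hks Q hQ
      have h1 : algebraMap A S y0 ∈ Q := hy0q
      rw [← hyb] at h1
      exact (Ideal.mul_unit_mem_iff_mem Q hbunit).mp h1
    obtain ⟨z, hzZ, hz⟩ := GenRegPrefix.exists_add_notMem _ _ rfl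
      (fun P hP => ((Set.Finite.mem_toFinset _).mp hP).1.1) y0 Z havoid
    have hzT : algebraMap A S z ∈ T := by
      have : algebraMap A S z ∈ I.map (algebraMap A S) := hzZ
      rwa [hmap] at this
    have hTmax : T ≤ IsLocalRing.maximalIdeal S :=
      Ideal.span_le.mpr (by rintro _ ⟨j, _, rfl⟩; exact ht' j)
    have hxk : algebraMap A S (y0 + z) = algebraMap A S (b : A) * t' k + algebraMap A S z := by
      rw [map_add, ← hyb, mul_comm]
    have hxkp : y0 + z ∈ p := by
      rw [← IsLocalization.AtPrime.to_map_mem_maximal_iff S p, hxk]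
      exact Ideal.add_mem _ (Ideal.mul_mem_left _ _ (ht' k)) (hTmax hzT)
    refine ⟨Function.update x k (y0 + z), Function.update a k (b : A), ?_, ?_, ?_, ?_, ?_⟩
    · intro j
      by_cases hj : j = k
      · subst hj; simpa using hxkp
      · rw [Function.update_of_ne hj]; exact hxp j
    · intro j
      by_cases hj : j = k
      · subst hj
        rw [Function.update_self]
        exact b.2
      · rw [Function.update_of_ne hj]; exact hap j
    · intro i hi
      by_cases hik : i = k
      · subst hik
        rw [Function.update_self, Function.update_self, hxk]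
        have : algebraMap A S (b : A) * t' i + algebraMap A S z - algebraMap A S (b : A) * t' i =
            algebraMap A S z := by ring
        rw [this]
        exact hzT
      · rw [Function.update_of_ne hik, Function.update_of_ne hik]
        exact hcong i (lt_of_le_of_ne (Nat.lt_succ_iff.mp hi) hik)
    · rw [image_update_lt_succ, image_lt_succ t' k, Ideal.span_insert, Ideal.span_insert,
        Ideal.map_sup, Ideal.map_span, Set.image_singleton, hmap, hxk]
      exact span_unit_mul_add_sup T _ _ _ hbunit hzT
    · have hI' : Ideal.span (Function.update x k (y0 + z) '' {j | j < k + 1}) =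
          I ⊔ Ideal.span {y0 + z} := by
        rw [image_update_lt_succ, Ideal.span_insert, sup_comm]
      have hstep := ringKrullDim_quotient_sup_span_add_one I _ (y0 + z) hI'
        (IsLocalRing.le_maximalIdeal ‹p.IsPrime›.ne_top hxkp)
        (fun q hq => hz q ((Set.Finite.mem_toFinset _).mpr hq))
      rw [Nat.cast_succ, add_comm (k : WithBot ℕ∞) 1, ← add_assoc, hstep, hdim]

end Main


theorem notMem_of_isSMulRegular_quotient {R : Type*} [CommRing R] (J : Ideal R)
    (N : Submodule R R) (hN : N = J) (x : R) (hreg : IsSMulRegular (R ⧸ N) x) (Q : Ideal R)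
    (hQ : Q ∈ J.minimalPrimes) : x ∉ Q := by
  subst hN
  apply hreg.notMem_of_mem_minimalPrimes
  rwa [Ideal.annihilator_quotient]

theorem ofList_take_map_range {R : Type*} [CommRing R] (t' : ℕ → R) (s k : ℕ) (hk : k ≤ s) :
    Ideal.ofList (((List.range s).map t').take k) = Ideal.span (t' '' {j | j < k}) := by
  rw [← List.map_take, List.take_range, min_eq_left hk]
  have hset : {r | r ∈ List.map t' (List.range k)} = t' '' {j | j < k} := by
    ext y
    simp only [List.mem_map, List.mem_range, Set.mem_ofPred_eq, Set.mem_image]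
  unfold Ideal.ofList
  rw [hset]

theorem notMem_minimalPrimes_of_isCohenMacaulay (S : Type u) [CommRing S]
    [LocCoh.IsCohenMacaulayLocalRing S] (s : ℕ) (hs : ringKrullDim S = s) (t' : ℕ → S)
    (ht' : ∀ j, t' j ∈ IsLocalRing.maximalIdeal S)
    (hsop : ringKrullDim (S ⧸ Ideal.span (t' '' {j | j < s})) = 0) :
    ∀ k < s, ∀ Q ∈ (Ideal.span (t' '' {j | j < k})).minimalPrimes, t' k ∉ Q := by
  set L : List S := (List.range s).map t' with hL
  have hLlen : L.length = s := by simp [hL]
  have hLmem : ∀ x ∈ L, x ∈ IsLocalRing.maximalIdeal S := by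
    intro x hx
    obtain ⟨j, _, rfl⟩ := List.mem_map.mp hx
    exact ht' j
  have hCM : LocCoh.IsCohenMacaulayModule S S :=
    LocCoh.IsCohenMacaulayLocalRing.supportDim_eq_depth
  have hw : IsWeaklyRegular S L := by
    rw [Groth.Agent.Lib.Helper29.isWeaklyRegular_iff_supportDim_of_isCohenMacaulayModule S S hCM L hLmem]
    have hofL : (Ideal.ofList L • (⊤ : Submodule S S)) = Ideal.span (t' '' {j | j < s}) := by
      have := ofList_take_map_range t' s s le_rfl
      rw [← hL, List.take_of_length_le (le_of_eq hLlen)] at this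
      rw [smul_eq_mul, Ideal.mul_top, this]
    rw [Module.supportDim_eq_of_equiv (Submodule.quotEquivOfEq _ _ hofL),
      Module.supportDim_quotient_eq_ringKrullDim, hsop, Module.supportDim_self_eq_ringKrullDim, hs,
      hLlen, zero_add]
  intro k hk Q hQ
  have hk' : k < L.length := by rw [hLlen]; exact hk
  have hreg := hw.regular_mod_prev k hk'
  have hLk : L[k] = t' k := by simp [hL]
  rw [hLk] at hreg
  refine notMem_of_isSMulRegular_quotient _ _ ?_ (t' k) hreg Q hQ
  rw [smul_eq_mul, Ideal.mul_top, hL, ofList_take_map_range t' s k hk.le]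

end Groth.Agent.Lib.Helper79.LiftSop
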