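import Mathlib
import Groth.Agent.Lib.Helper93.DepthHom

/-!
# Acyclicity lemma (Peskine–Szpiro) for complexes of finite free modules given by maps
`(Fin (n (i+1)) → R) →ₗ (Fin (n i) → R)` — helper79
-/

set_option autoImplicit false
universe u

namespace Groth.Agent.Lib.Helper79.Acyc

open LocCoh Groth.Agent.Lib.Helper93.Depth

section Socle

variable {R : Type u} [CommRing R] [IsLocalRing R] [IsNoetherianRing R]

/-- A finite module of positive depth all of whose elements are killed, for each non-maximal prime
`p`, by an element outside `p`, is zero. -/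
theorem subsingleton_of_one_le_depth (N : Type u) [AddCommGroup N] [Module R N] [Module.Finite R N]
    (hloc : ∀ (h : N) (p : Ideal R) [p.IsPrime], p ≠ IsLocalRing.maximalIdeal R →
      ∃ s : R, s ∉ p ∧ s • h = 0)
    (hd : 1 ≤ idealDepth (IsLocalRing.maximalIdeal R) N) : Subsingleton N := by
  by_contra hN
  rw [not_subsingleton_iff_nontrivial] at hN
  obtain ⟨q, hq⟩ := associatedPrimes.nonempty R N
  obtain ⟨hqp, y, hy⟩ := isAssociatedPrime_iff.1 hq
  have hy0 : y ≠ 0 := by
    rintro rfl
    apply hqp.ne_top
    rw [hy, Ideal.eq_top_iff_one, Submodule.mem_colon_singleton]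
    simp
  have hqm : q = IsLocalRing.maximalIdeal R := by
    by_contra hne
    obtain ⟨s, hs, hsy⟩ := hloc y q hne
    apply hs
    rw [hy, Submodule.mem_colon_singleton, hsy]
    exact Submodule.zero_mem _
  rw [one_le_idealDepth_iff] at hd
  rcases hd with hd | ⟨r, hr, hreg⟩
  · have hbot := Submodule.eq_bot_of_le_smul_of_le_jacobson_bot (IsLocalRing.maximalIdeal R)
      (⊤ : Submodule R N) Module.Finite.fg_top hd.ge (IsLocalRing.maximalIdeal_le_jacobson ⊥)
    exact top_ne_bot hbot
  · rw [← hqm, hy, Submodule.mem_colon_singleton, Submodule.mem_bot] at hr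
    rw [isSMulRegular_iff_right_eq_zero_of_smul] at hreg
    exact hy0 (hreg _ hr)

end Socle

section Main

variable {R : Type u} [CommRing R] [IsLocalRing R] [IsNoetherianRing R]

/-- Acyclicity lemma for a complex of finite free modules. -/
theorem acyclic (e : ℕ) (n : ℕ → ℕ)
    (d : ∀ i, (Fin (n (i + 1)) → R) →ₗ[R] (Fin (n i) → R))
    (hd : ∀ i, d i ∘ₗ d (i + 1) = 0)
    (hzero : ∀ i, e ≤ i → d i = 0)
    (hdepth : (e : ℕ∞) ≤ idealDepth (IsLocalRing.maximalIdeal R) R)
    (hloc : ∀ i, i < e → ∀ z ∈ LinearMap.ker (d i), ∀ (p : Ideal R) [p.IsPrime],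
      p ≠ IsLocalRing.maximalIdeal R → ∃ s : R, s ∉ p ∧ s • z ∈ LinearMap.range (d (i + 1))) :
    ∀ i, i < e → LinearMap.ker (d i) = LinearMap.range (d (i + 1)) := by
  set I := IsLocalRing.maximalIdeal R with hI
  have hle : ∀ i, LinearMap.range (d (i + 1)) ≤ LinearMap.ker (d i) := by
    rintro i _ ⟨w, rfl⟩
    rw [LinearMap.mem_ker, ← LinearMap.comp_apply, hd i, LinearMap.zero_apply]
  have hM : ∀ k, (e : ℕ∞) ≤ idealDepth I (Fin k → R) := fun k =>
    hdepth.trans (idealDepth_le_pi_fin I R k)
  -- the main downward induction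
  have key : ∀ k i, i + k = e →
      ((i + 1 : ℕ) : ℕ∞) ≤ idealDepth I (LinearMap.range (d i)) ∧
        ∀ j, i ≤ j → j < e → LinearMap.ker (d j) = LinearMap.range (d (j + 1)) := by
    intro k
    induction k with
    | zero =>
      intro i hi
      have h0 : d i = 0 := hzero i (by omega)
      refine ⟨?_, fun j h1 h2 => by omega⟩
      have : Subsingleton (LinearMap.range (d i)) := by
        rw [h0, LinearMap.range_zero]
        infer_instance
      rw [idealDepth_of_subsingleton]
      exact le_top
    | succ k ih =>
      intro i hi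
      obtain ⟨ih1, ih2⟩ := ih (i + 1) (by omega)
      have hie : i < e := by omega
      -- SES1 : 0 → ker (d i) → M_{i+1} → range (d i) → 0
      have ex1 : Function.Exact (LinearMap.ker (d i)).subtype (d i).rangeRestrict := by
        intro x
        constructor
        · intro hx
          have hx' : d i x = 0 := congrArg Subtype.val hx
          exact ⟨⟨x, hx'⟩, rfl⟩
        · rintro ⟨z, rfl⟩
          exact Subtype.ext z.2
      have hZ1 : ((1 : ℕ) : ℕ∞) ≤ idealDepth I (LinearMap.ker (d i)) := by
        refine natCast_le_idealDepth_left I (LinearMap.ker (d i)).subtype (d i).rangeRestrict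
          (Submodule.injective_subtype _) ex1 (LinearMap.surjective_rangeRestrict _) 1 ?_ ?_
        · refine le_trans ?_ (hM _)
          exact_mod_cast (by omega : 1 ≤ e)
        · simp
      -- SES2 : 0 → range (d (i+1)) → ker (d i) → H → 0
      set B := LinearMap.range (d (i + 1)) with hB
      set Z := LinearMap.ker (d i) with hZ
      have ex2 : Function.Exact (Submodule.inclusion (hle i)) (B.submoduleOf Z).mkQ := by
        intro x
        rw [← LinearMap.mem_ker, Submodule.ker_mkQ, Set.mem_range]
        constructor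
        · intro hx
          exact ⟨⟨x.1, hx⟩, rfl⟩
        · rintro ⟨y, rfl⟩
          exact y.2
      have hH1 : ((1 : ℕ) : ℕ∞) ≤ idealDepth I (Z ⧸ B.submoduleOf Z) := by
        refine natCast_le_idealDepth_right I (Submodule.inclusion (hle i)) (B.submoduleOf Z).mkQ
          (Submodule.inclusion_injective _) ex2 (Submodule.mkQ_surjective _) 1 hZ1 ?_
        refine le_trans ?_ ih1
        exact_mod_cast (by omega : 1 + 1 ≤ i + 1 + 1)
      have hsub : Subsingleton (Z ⧸ B.submoduleOf Z) := by
        refine subsingleton_of_one_le_depth _ ?_ (by simpa using hH1)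
        intro h p _ hp
        obtain ⟨z, rfl⟩ := Submodule.Quotient.mk_surjective _ h
        obtain ⟨s, hs, hsz⟩ := hloc i hie z.1 z.2 p hp
        refine ⟨s, hs, ?_⟩
        rw [← Submodule.Quotient.mk_smul, Submodule.Quotient.mk_eq_zero]
        exact hsz
      have hZB : Z = B := by
        refine le_antisymm ?_ (hle i)
        intro z hz
        have h1 : (Submodule.Quotient.mk (⟨z, hz⟩ : Z) : Z ⧸ B.submoduleOf Z) = 0 :=
          Subsingleton.elim _ _
        rw [Submodule.Quotient.mk_eq_zero] at h1
        exact h1
      refine ⟨?_, ?_⟩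
      · refine natCast_le_idealDepth_right I (LinearMap.ker (d i)).subtype (d i).rangeRestrict
          (Submodule.injective_subtype _) ex1 (LinearMap.surjective_rangeRestrict _) (i + 1) ?_ ?_
        · refine le_trans ?_ (hM _)
          exact_mod_cast (by omega : i + 1 ≤ e)
        · rw [← hZ, hZB]
          exact ih1
      · intro j hij hje
        rcases Nat.eq_or_lt_of_le hij with rfl | hlt
        · exact hZB
        · exact ih2 j hlt hje
  intro i hi
  exact (key e 0 (by omega)).2 i (Nat.zero_le _) hi

end Main

section Clear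

variable {R : Type u} [CommRing R]

open Matrix in
/-- Clearing denominators: if the localized complex is exact in the middle, every cycle becomes a
boundary after multiplication by an element outside `p`. -/
theorem exists_smul_mem_range (p : Ideal R) [p.IsPrime] {a b c : ℕ}
    (A : Matrix (Fin a) (Fin b) R) (B : Matrix (Fin b) (Fin c) R)
    (h : LinearMap.ker ((A.map (algebraMap R (Localization.AtPrime p))).mulVecLin) ≤
      LinearMap.range ((B.map (algebraMap R (Localization.AtPrime p))).mulVecLin))
    (z : Fin b → R) (hz : A.mulVec z = 0) :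
    ∃ s : R, s ∉ p ∧ s • z ∈ LinearMap.range B.mulVecLin := by
  set f := algebraMap R (Localization.AtPrime p) with hf
  have hzp : (fun k => f (z k)) ∈ LinearMap.ker ((A.map f).mulVecLin) := by
    rw [LinearMap.mem_ker, Matrix.mulVecLin_apply]
    ext k
    have := RingHom.map_mulVec f A z k
    rw [hz] at this
    simpa [Function.comp_def] using this.symm
  obtain ⟨w, hw⟩ := h hzp
  rw [Matrix.mulVecLin_apply] at hw
  obtain ⟨s, hs⟩ := IsLocalization.exist_integer_multiples_of_finite p.primeCompl w
  choose w' hw' using hs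
  -- for each k, f (s * z k - (B.mulVec w') k) = 0
  have h1 : ∀ k, f ((s : R) * z k) = f (B.mulVec w' k) := by
    intro k
    rw [RingHom.map_mulVec f B w' k]
    have h2 : (f ∘ w') = (s : R) • w := by
      ext j
      simp only [Function.comp_apply, Pi.smul_apply]
      exact hw' j
    rw [h2, Matrix.mulVec_smul, hw, map_mul]
    simp [Algebra.smul_def, hf]
  have h3 : ∀ k, ∃ t : p.primeCompl, (t : R) * ((s : R) * z k) = (t : R) * B.mulVec w' k := by
    intro k
    exact (IsLocalization.eq_iff_exists p.primeCompl _).1 (h1 k)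
  choose t ht using h3
  refine ⟨((∏ k, t k : p.primeCompl) : R) * (s : R), ?_, ?_⟩
  · exact (Submonoid.mul_mem _ (∏ k, t k : p.primeCompl).2 s.2)
  · refine ⟨((∏ k, t k : p.primeCompl) : R) • w', ?_⟩
    rw [Matrix.mulVecLin_apply, Matrix.mulVec_smul]
    ext k
    simp only [Pi.smul_apply, smul_eq_mul]
    have hdvd : (t k : R) ∣ ((∏ k, t k : p.primeCompl) : R) := by
      rw [Submonoid.coe_finsetProd]
      exact Finset.dvd_prod_of_mem _ (Finset.mem_univ k)
    obtain ⟨u, hu⟩ := hdvd
    rw [hu]
    calc (t k : R) * u * B.mulVec w' k = u * ((t k : R) * B.mulVec w' k) := by ring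
      _ = u * ((t k : R) * ((s : R) * z k)) := by rw [ht k]
      _ = (t k : R) * u * (s : R) * z k := by ring

end Clear

end Groth.Agent.Lib.Helper79.Acyc
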