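import Mathlib
import Groth.Prelude.Def_W4bk5brsh7111920
import Groth.Agent.Lib.Helper80.DepthLocalized

/-!
# Adjusted depth over a quotient ring — helper79
-/

set_option autoImplicit false
universe u

namespace Groth.Agent.Lib.Helper79.AdjDepthQuot

open LocCoh IsLocalRing

/-- Variant of helper80's `depth_eq_depth_localizedModule` where `B` is only a quotient of the
localization `A_p`. -/
theorem depth_eq_of_surjective {A : Type u} [CommRing A] [IsNoetherianRing A] (p : Ideal A)
    [p.IsPrime] (B : Type u) [CommRing B] [IsLocalRing B] [Algebra A B]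
    (φ : Localization.AtPrime p →+* B)
    (hφ : ∀ a : A, φ (algebraMap A (Localization.AtPrime p) a) = algebraMap A B a)
    (hsurj : Function.Surjective φ)
    {M N : Type u} [AddCommGroup M] [Module A M] [Module.Finite A M] [AddCommGroup N] [Module A N]
    [Module B N] [IsScalarTower A B N] (f : M →ₗ[A] N) [IsLocalizedModule p.primeCompl f] :
    LocCoh.depth B N =
      LocCoh.depth (Localization.AtPrime p) (LocalizedModule p.primeCompl M) := by
  let Ap := Localization.AtPrime p
  letI algApB : Algebra Ap B := φ.toAlgebra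
  haveI : IsScalarTower A Ap B := IsScalarTower.of_algebraMap_eq (fun a => (hφ a).symm)
  letI modApN : Module Ap N := Module.compHom N (algebraMap Ap B)
  haveI : IsScalarTower Ap B N := ⟨fun r b n => by
    change (algebraMap Ap B r * b) • n = algebraMap Ap B r • b • n
    rw [mul_smul]⟩
  haveI : IsScalarTower A Ap N := ⟨fun a r n => by
    change algebraMap Ap B (a • r) • n = a • algebraMap Ap B r • n
    rw [Algebra.smul_def, map_mul, ← IsScalarTower.algebraMap_apply A Ap B, mul_smul,
      algebraMap_smul]⟩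
  have hsurj' : Function.Surjective (algebraMap Ap B) := hsurj
  haveI : Module.Finite Ap B := Module.Finite.of_surjective (Algebra.linearMap Ap B) hsurj'
  haveI : IsNoetherianRing Ap := IsLocalization.isNoetherianRing p.primeCompl Ap inferInstance
  let g : LocalizedModule p.primeCompl M ≃ₗ[A] N := IsLocalizedModule.iso p.primeCompl f
  let g' : LocalizedModule p.primeCompl M ≃ₗ[Ap] N :=
    g.extendScalarsOfIsLocalization p.primeCompl Ap
  haveI : Module.Finite B N := by
    have h1 : Module.Finite Ap (LocalizedModule p.primeCompl M) :=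
      Module.Finite.of_isLocalizedModule p.primeCompl (LocalizedModule.mkLinearMap p.primeCompl M)
    have h2 : Module.Finite Ap N := Module.Finite.equiv g'
    exact Module.Finite.of_restrictScalars_finite Ap B N
  unfold LocCoh.depth
  rw [Groth.Agent.Lib.Helper29.idealDepth_congr (maximalIdeal Ap) g',
    Groth.Agent.Lib.Helper29.idealDepth_map_eq (A := Ap) (B := B) (maximalIdeal Ap) N,
    IsLocalRing.map_maximalIdeal_of_surjective _ hsurj']

section Quot

variable {R : Type u} [CommRing R] (c : Ideal R) (M : Type u) [AddCommGroup M] [Module R M]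
  [Module (R ⧸ c) M] [IsScalarTower R (R ⧸ c) M]

/-- the canonical `R`-linear map `M → M_Q`, `Q` a prime of `R ⧸ c`. -/
noncomputable def toLoc (Q : Ideal (R ⧸ c)) [Q.IsPrime] :
    M →ₗ[R] LocalizedModule Q.primeCompl M :=
  (LocalizedModule.mkLinearMap Q.primeCompl M).restrictScalars R

theorem smul_eq_mk_smul (Q : Ideal (R ⧸ c)) [Q.IsPrime] (r : R)
    (y : LocalizedModule Q.primeCompl M) : r • y = (Ideal.Quotient.mk c r) • y := by
  rw [← Ideal.Quotient.algebraMap_eq, algebraMap_smul]

instance isLocalizedModule_toLoc (Q : Ideal (R ⧸ c)) [Q.IsPrime] :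
    IsLocalizedModule (Q.comap (Ideal.Quotient.mk c)).primeCompl (toLoc c M Q) where
  map_units := by
    intro x
    rw [Module.End.isUnit_iff]
    have hx : Ideal.Quotient.mk c x.1 ∈ Q.primeCompl := x.2
    have h1 := IsLocalizedModule.map_units (LocalizedModule.mkLinearMap Q.primeCompl M)
      ⟨_, hx⟩
    rw [Module.End.isUnit_iff] at h1
    convert h1 using 1
    ext y
    simp only [Module.algebraMap_end_apply]
    exact smul_eq_mk_smul c M Q x.1 y
  surj := by
    intro y
    induction y using LocalizedModule.induction_on with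
    | h m t =>
      obtain ⟨s, hs⟩ := Ideal.Quotient.mk_surjective t.1
      have hsp : s ∈ (Q.comap (Ideal.Quotient.mk c)).primeCompl := by
        change Ideal.Quotient.mk c s ∉ Q
        rw [hs]
        exact t.2
      refine ⟨(m, ⟨s, hsp⟩), ?_⟩
      change s • LocalizedModule.mk m t = LocalizedModule.mk m 1
      rw [smul_eq_mk_smul, hs]
      change t • LocalizedModule.mk m t = LocalizedModule.mk m 1
      rw [Submonoid.smul_def, LocalizedModule.smul'_mk, LocalizedModule.mk_eq]
      exact ⟨1, by simp [Submonoid.smul_def]⟩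
  exists_of_eq := by
    intro m m' h
    have h' : LocalizedModule.mkLinearMap Q.primeCompl M m =
        LocalizedModule.mkLinearMap Q.primeCompl M m' := h
    obtain ⟨t, ht⟩ := IsLocalizedModule.exists_of_eq (S := Q.primeCompl) h'
    obtain ⟨s, hs⟩ := Ideal.Quotient.mk_surjective t.1
    have hsp : s ∈ (Q.comap (Ideal.Quotient.mk c)).primeCompl := by
      change Ideal.Quotient.mk c s ∉ Q
      rw [hs]
      exact t.2
    refine ⟨⟨s, hsp⟩, ?_⟩
    change s • m = s • m'
    rw [← algebraMap_smul (R ⧸ c) s m, ← algebraMap_smul (R ⧸ c) s m', Ideal.Quotient.algebraMap_eq,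
      hs]
    exact ht

end Quot

section Main

variable {R : Type u} [CommRing R] [IsNoetherianRing R] (c : Ideal R) (M : Type u)
  [AddCommGroup M] [Module R M] [Module (R ⧸ c) M] [IsScalarTower R (R ⧸ c) M] [Module.Finite R M]

theorem depth_eq (Q : Ideal (R ⧸ c)) [Q.IsPrime] :
    LocCoh.depth (Localization.AtPrime Q) (LocalizedModule Q.primeCompl M) =
      LocCoh.depth (Localization.AtPrime (Q.comap (Ideal.Quotient.mk c)))
        (LocalizedModule (Q.comap (Ideal.Quotient.mk c)).primeCompl M) := by
  refine depth_eq_of_surjective (Q.comap (Ideal.Quotient.mk c)) (Localization.AtPrime Q)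
    (Localization.localRingHom (Q.comap (Ideal.Quotient.mk c)) Q (Ideal.Quotient.mk c) rfl) ?_
    (RingHom.surjective_localRingHom_of_surjective (Ideal.Quotient.mk c)
      Ideal.Quotient.mk_surjective Q) (toLoc c M Q)
  intro a
  rw [Localization.localRingHom_to_map]
  rfl

omit [IsNoetherianRing R] in
theorem height_eq (a : Ideal R) (Q : Ideal (R ⧸ c)) [Q.IsPrime] :
    ((a ⊔ Q.comap (Ideal.Quotient.mk c)).map
        (Ideal.Quotient.mk (Q.comap (Ideal.Quotient.mk c)))).height =
      ((a.map (Ideal.Quotient.mk c) ⊔ Q).map (Ideal.Quotient.mk Q)).height := by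
  set p := Q.comap (Ideal.Quotient.mk c) with hp
  let eh : (R ⧸ p) →+* ((R ⧸ c) ⧸ Q) := Ideal.quotientMap Q (Ideal.Quotient.mk c) le_rfl
  have hbij : Function.Bijective eh :=
    ⟨Ideal.quotientMap_injective, Ideal.quotientMap_surjective Ideal.Quotient.mk_surjective⟩
  let e : (R ⧸ p) ≃+* ((R ⧸ c) ⧸ Q) := RingEquiv.ofBijective eh hbij
  have h1 := RingEquiv.height_map e ((a ⊔ p).map (Ideal.Quotient.mk p))
  rw [← h1]
  congr 1
  change Ideal.map eh (Ideal.map (Ideal.Quotient.mk p) (a ⊔ p)) = _
  rw [Ideal.map_map]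
  have h2 : eh.comp (Ideal.Quotient.mk p) = (Ideal.Quotient.mk Q).comp (Ideal.Quotient.mk c) :=
    RingHom.ext fun x => rfl
  rw [h2, ← Ideal.map_map, Ideal.map_sup, hp,
    Ideal.map_comap_of_surjective _ Ideal.Quotient.mk_surjective]

theorem adjDepth_eq (a : Ideal R) (q : PrimeSpectrum (R ⧸ c)) :
    adjDepth a M ⟨q.asIdeal.comap (Ideal.Quotient.mk c), inferInstance⟩ =
      adjDepth (a.map (Ideal.Quotient.mk c)) M q := by
  unfold adjDepth
  rw [depth_eq c M q.asIdeal, height_eq c a q.asIdeal]

omit [IsNoetherianRing R] [Module.Finite R M] in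
theorem adjDepth_eq_top (a : Ideal R) (p : PrimeSpectrum R) (hc : ¬ c ≤ p.asIdeal) :
    adjDepth a M p = ⊤ := by
  unfold adjDepth
  have : Subsingleton (LocalizedModule p.asIdeal.primeCompl M) := by
    rw [LocalizedModule.subsingleton_iff]
    intro m
    obtain ⟨s, hsc, hsp⟩ := SetLike.not_le_iff_exists.1 hc
    refine ⟨s, hsp, ?_⟩
    rw [← algebraMap_smul (R ⧸ c) s m, Ideal.Quotient.algebraMap_eq,
      Ideal.Quotient.eq_zero_iff_mem.2 hsc, zero_smul]
  rw [Groth.Agent.Lib.Helper29.depth_eq_top_of_subsingleton, top_add]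

theorem minAdjDepth_eq (a b : Ideal R) :
    minAdjDepth a b M =
      minAdjDepth (a.map (Ideal.Quotient.mk c)) (b.map (Ideal.Quotient.mk c)) M := by
  apply le_antisymm
  · refine le_iInf₂ fun q hq => ?_
    rw [← adjDepth_eq c M a q]
    refine iInf₂_le (⟨q.asIdeal.comap (Ideal.Quotient.mk c), inferInstance⟩ :
      PrimeSpectrum R) ?_
    intro hb
    exact hq (Ideal.map_le_iff_le_comap.2 hb)
  · refine le_iInf₂ fun p hp => ?_
    by_cases hc : c ≤ p.asIdeal
    · have hprime : (p.asIdeal.map (Ideal.Quotient.mk c)).IsPrime :=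
        Ideal.map_isPrime_of_surjective Ideal.Quotient.mk_surjective (by rwa [Ideal.mk_ker])
      have hcomap : (p.asIdeal.map (Ideal.Quotient.mk c)).comap (Ideal.Quotient.mk c) =
          p.asIdeal := by
        rw [Ideal.comap_map_of_surjective _ Ideal.Quotient.mk_surjective,
          ← RingHom.ker_eq_comap_bot, Ideal.mk_ker, sup_eq_left.2 hc]
      have h1 := adjDepth_eq c M a ⟨p.asIdeal.map (Ideal.Quotient.mk c), hprime⟩
      have h2 : (⟨(p.asIdeal.map (Ideal.Quotient.mk c)).comap (Ideal.Quotient.mk c),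
          inferInstance⟩ : PrimeSpectrum R) = p := PrimeSpectrum.ext hcomap
      rw [h2] at h1
      rw [h1]
      refine iInf₂_le (⟨p.asIdeal.map (Ideal.Quotient.mk c), hprime⟩ :
        PrimeSpectrum (R ⧸ c)) ?_
      intro hb
      apply hp
      have h3 := Ideal.comap_mono (f := Ideal.Quotient.mk c) hb
      rw [hcomap] at h3
      exact Ideal.le_comap_map.trans h3
    · rw [adjDepth_eq_top c M a p hc]
      exact le_top

end Main

end Groth.Agent.Lib.Helper79.AdjDepthQuot
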