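import Mathlib
import Groth.Agent.Lib.Helper73.FlatGlue2

/-!
# Formal glueing of algebras, part A (helper79)

For a flat ring map `R → S`, `I = (f_1, …, f_t)` with `R/I ≅ S/IS`, and an `S`-algebra `B` such that
`S → B` has `I`-power torsion kernel and cokernel, we construct an `R`-algebra `Cc f B` (the Čech
equalizer inside `B × ∏ R_{f_j}`) with `S ⊗_R C ≅ B`.  Part A: the ring, its projection to `B`, and the
elementwise description of its elements.
-/

set_option autoImplicit false
set_option maxSynthPendingDepth 3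

universe u

namespace Groth.Agent.Lib.Helper79.AlgGlue

open TensorProduct

section away

variable {R : Type*} [CommRing R] (x : R)

/-- elementwise criterion for being the image of `a` under a lift out of `Localization.Away x`. -/
theorem eq_lift_iff {X : Type*} [CommRing X] (g : R →+* X) (hx : IsUnit (g x))
    (a : Localization.Away x) (n : ℕ) (r : R)
    (ha : a * algebraMap R (Localization.Away x) x ^ n = algebraMap R (Localization.Away x) r)
    (z : X) :
    z = IsLocalization.Away.lift x hx a ↔ z * g x ^ n = g r := by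
  have h1 : IsLocalization.Away.lift x hx a * g x ^ n = g r := by
    have := congrArg (IsLocalization.Away.lift (S := Localization.Away x) x hx) ha
    rwa [map_mul, map_pow, IsLocalization.Away.lift_eq, IsLocalization.Away.lift_eq] at this
  constructor
  · rintro rfl
    exact h1
  · intro h
    exact (hx.pow n).mul_left_injective (h.trans h1.symm)

theorem away_algebraMap_eq_zero_iff (a : R) :
    algebraMap R (Localization.Away x) a = 0 ↔ ∃ e : ℕ, x ^ e * a = 0 := by
  rw [IsLocalization.map_eq_zero_iff (Submonoid.powers x)]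
  constructor
  · rintro ⟨⟨_, e, rfl⟩, h⟩
    exact ⟨e, h⟩
  · rintro ⟨e, h⟩
    exact ⟨⟨x ^ e, e, rfl⟩, h⟩

end away

variable {R : Type u} [CommRing R] {t : ℕ} (f : Fin t → R)
variable (B : Type u) [CommRing B] [Algebra R B]

/-- `R_{f_j}`. -/
abbrev L (j : Fin t) : Type u := Localization.Away (f j)

/-- `B_{f_j}`. -/
abbrev BL (j : Fin t) : Type u := Localization.Away (algebraMap R B (f j))

/-- `R_{f_j f_k}`. -/
abbrev LL (j k : Fin t) : Type u := Localization.Away (f j * f k)

/-- `R → B → B_{f_j}`. -/
noncomputable def toBL (j : Fin t) : R →+* BL f B j :=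
  (algebraMap B (BL f B j)).comp (algebraMap R B)

theorem isUnit_toBL (j : Fin t) : IsUnit (toBL f B j (f j)) :=
  IsLocalization.Away.algebraMap_isUnit (S := BL f B j) (algebraMap R B (f j))

/-- `R_{f_j} → B_{f_j}`. -/
noncomputable def uMap (j : Fin t) : L f j →+* BL f B j :=
  IsLocalization.Away.lift (f j) (isUnit_toBL f B j)

theorem isUnit_left (j k : Fin t) : IsUnit (algebraMap R (LL f j k) (f j)) :=
  isUnit_of_mul_isUnit_left (by
    rw [← map_mul]
    exact IsLocalization.Away.algebraMap_isUnit (S := LL f j k) (f j * f k))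

theorem isUnit_right (j k : Fin t) : IsUnit (algebraMap R (LL f j k) (f k)) :=
  isUnit_of_mul_isUnit_right (by
    rw [← map_mul]
    exact IsLocalization.Away.algebraMap_isUnit (S := LL f j k) (f j * f k))

/-- `R_{f_j} → R_{f_j f_k}`. -/
noncomputable def rMap (j k : Fin t) : L f j →+* LL f j k :=
  IsLocalization.Away.lift (f j) (isUnit_left f j k)

/-- `R_{f_k} → R_{f_j f_k}`. -/
noncomputable def lMap (j k : Fin t) : L f k →+* LL f j k :=
  IsLocalization.Away.lift (f k) (isUnit_right f j k)

/-- The glued algebra, as a subalgebra of `B × ∏ R_{f_j}`. -/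
noncomputable def Csub : Subalgebra R (B × (∀ j, L f j)) where
  carrier := {p | (∀ j, algebraMap B (BL f B j) p.1 = uMap f B j (p.2 j)) ∧
    ∀ j k, rMap f j k (p.2 j) = lMap f j k (p.2 k)}
  mul_mem' := by
    rintro p q ⟨hp1, hp2⟩ ⟨hq1, hq2⟩
    refine ⟨fun j => ?_, fun j k => ?_⟩
    · simp only [Prod.fst_mul, Prod.snd_mul, Pi.mul_apply, map_mul, hp1 j, hq1 j]
    · simp only [Prod.snd_mul, Pi.mul_apply, map_mul, hp2 j k, hq2 j k]
  one_mem' := by
    refine ⟨fun j => ?_, fun j k => ?_⟩
    · simp only [Prod.fst_one, Prod.snd_one, Pi.one_apply, map_one]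
    · simp only [Prod.snd_one, Pi.one_apply, map_one]
  add_mem' := by
    rintro p q ⟨hp1, hp2⟩ ⟨hq1, hq2⟩
    refine ⟨fun j => ?_, fun j k => ?_⟩
    · simp only [Prod.fst_add, Prod.snd_add, Pi.add_apply, map_add, hp1 j, hq1 j]
    · simp only [Prod.snd_add, Pi.add_apply, map_add, hp2 j k, hq2 j k]
  zero_mem' := by
    refine ⟨fun j => ?_, fun j k => ?_⟩
    · simp only [Prod.fst_zero, Prod.snd_zero, Pi.zero_apply, map_zero]
    · simp only [Prod.snd_zero, Pi.zero_apply, map_zero]
  algebraMap_mem' := by
    intro a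
    refine ⟨fun j => ?_, fun j k => ?_⟩
    · show algebraMap B (BL f B j) (algebraMap R B a) = uMap f B j (algebraMap R (L f j) a)
      unfold uMap
      rw [IsLocalization.Away.lift_eq]
      rfl
    · show rMap f j k (algebraMap R (L f j) a) = lMap f j k (algebraMap R (L f k) a)
      unfold rMap lMap
      rw [IsLocalization.Away.lift_eq, IsLocalization.Away.lift_eq]

/-- The glued algebra. -/
abbrev Cc : Type u := ↥(Csub f B)

/-- projection to `B`. -/
noncomputable def iota : Cc f B →ₐ[R] B := (AlgHom.fst R B (∀ j, L f j)).comp (Csub f B).val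

theorem iota_apply (c : Cc f B) : iota f B c = c.1.1 := rfl

theorem iota_algebraMap (a : R) : iota f B (algebraMap R (Cc f B) a) = algebraMap R B a := by
  rw [AlgHom.commutes]

/-- membership, elementwise: given numerators `r j` and a common exponent. -/
theorem mem_Csub_of (b : B) (n : Fin t → ℕ) (r : Fin t → R) (a : ∀ j, L f j)
    (ha : ∀ j, a j * algebraMap R (L f j) (f j) ^ n j = algebraMap R (L f j) (r j))
    (h1 : ∀ j, ∃ e : ℕ, f j ^ e • (f j ^ n j • b - algebraMap R B (r j)) = 0)
    (h2 : ∀ j k, ∃ e : ℕ, (f j * f k) ^ e * (f k ^ n k * r j - f j ^ n j * r k) = 0) :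
    (b, a) ∈ Csub f B := by
  refine ⟨fun j => ?_, fun j k => ?_⟩
  · show algebraMap B (BL f B j) b = uMap f B j (a j)
    unfold uMap
    rw [eq_lift_iff (f j) (toBL f B j) (isUnit_toBL f B j) (a j) (n j) (r j) (ha j)]
    obtain ⟨e, he⟩ := h1 j
    have h3 : algebraMap B (BL f B j) (f j ^ n j • b - algebraMap R B (r j)) = 0 := by
      rw [IsLocalization.map_eq_zero_iff (Submonoid.powers (algebraMap R B (f j)))]
      refine ⟨⟨algebraMap R B (f j) ^ e, e, rfl⟩, ?_⟩
      show algebraMap R B (f j) ^ e * (f j ^ n j • b - algebraMap R B (r j)) = 0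
      rw [← map_pow, ← Algebra.smul_def]
      exact he
    rw [map_sub, sub_eq_zero, Algebra.smul_def, map_mul] at h3
    simp only [map_pow] at h3
    rw [mul_comm]
    exact h3
  · show rMap f j k (a j) = lMap f j k (a k)
    unfold rMap lMap
    have hu : IsUnit (algebraMap R (LL f j k) (f j) ^ n j * algebraMap R (LL f j k) (f k) ^ n k) :=
      ((isUnit_left f j k).pow _).mul ((isUnit_right f j k).pow _)
    apply hu.mul_left_injective
    have e1 : IsLocalization.Away.lift (f j) (isUnit_left f j k) (a j) *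
        algebraMap R (LL f j k) (f j) ^ n j = algebraMap R (LL f j k) (r j) :=
      (eq_lift_iff (f j) (algebraMap R (LL f j k)) (isUnit_left f j k) (a j) (n j) (r j) (ha j)
        _).mp rfl
    have e2 : IsLocalization.Away.lift (f k) (isUnit_right f j k) (a k) *
        algebraMap R (LL f j k) (f k) ^ n k = algebraMap R (LL f j k) (r k) :=
      (eq_lift_iff (f k) (algebraMap R (LL f j k)) (isUnit_right f j k) (a k) (n k) (r k) (ha k)
        _).mp rfl
    obtain ⟨e, he⟩ := h2 j k
    have h3 : algebraMap R (LL f j k) (f k ^ n k * r j - f j ^ n j * r k) = 0 := by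
      rw [IsLocalization.map_eq_zero_iff (Submonoid.powers (f j * f k))]
      exact ⟨⟨(f j * f k) ^ e, e, rfl⟩, he⟩
    rw [map_sub, sub_eq_zero, map_mul, map_mul, map_pow, map_pow] at h3
    show IsLocalization.Away.lift (f j) (isUnit_left f j k) (a j) *
        (algebraMap R (LL f j k) (f j) ^ n j * algebraMap R (LL f j k) (f k) ^ n k) =
      IsLocalization.Away.lift (f k) (isUnit_right f j k) (a k) *
        (algebraMap R (LL f j k) (f j) ^ n j * algebraMap R (LL f j k) (f k) ^ n k)
    rw [← mul_assoc, e1, mul_comm (algebraMap R (LL f j k) (f j) ^ n j), ← mul_assoc, e2, mul_comm,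
      h3, mul_comm]

/-- every element has a presentation with a common exponent, elementwise conditions. -/
theorem exists_rep (c : Cc f B) :
    ∃ (N : ℕ) (r : Fin t → R),
      (∀ j, c.1.2 j * algebraMap R (L f j) (f j) ^ N = algebraMap R (L f j) (r j)) ∧
      (∀ j, ∃ e : ℕ, f j ^ e • (f j ^ N • c.1.1 - algebraMap R B (r j)) = 0) ∧
      (∀ j k, ∃ e : ℕ, (f j * f k) ^ e * (f k ^ N * r j - f j ^ N * r k) = 0) := by
  choose n r hr using fun j => IsLocalization.Away.surj (S := L f j) (f j) (c.1.2 j)
  let N : ℕ := ∑ j, n j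
  have hle : ∀ j, n j ≤ N := fun j =>
    Finset.single_le_sum (f := n) (fun _ _ => Nat.zero_le _) (Finset.mem_univ j)
  let r' : Fin t → R := fun j => f j ^ (N - n j) * r j
  have hr' : ∀ j, c.1.2 j * algebraMap R (L f j) (f j) ^ N = algebraMap R (L f j) (r' j) := by
    intro j
    have : N = n j + (N - n j) := by have := hle j; omega
    rw [map_mul, ← hr j, map_pow]
    conv_lhs => rw [this, pow_add]
    ring
  clear_value r'
  obtain ⟨hc1, hc2⟩ := c.2
  refine ⟨N, r', hr', fun j => ?_, fun j k => ?_⟩
  · have h1 := hc1 j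
    unfold uMap at h1
    rw [eq_lift_iff (f j) (toBL f B j) (isUnit_toBL f B j) (c.1.2 j) N (r' j) (hr' j)] at h1
    have h3 : algebraMap B (BL f B j) (f j ^ N • c.1.1 - algebraMap R B (r' j)) = 0 := by
      rw [map_sub, sub_eq_zero, Algebra.smul_def, map_mul, mul_comm]
      simp only [map_pow]
      exact h1
    rw [IsLocalization.map_eq_zero_iff (Submonoid.powers (algebraMap R B (f j)))] at h3
    obtain ⟨⟨_, e, rfl⟩, he⟩ := h3
    refine ⟨e, ?_⟩
    rw [Algebra.smul_def, map_pow]
    exact he
  · have h2 := hc2 j k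
    unfold rMap lMap at h2
    have e1 := (eq_lift_iff (f j) (algebraMap R (LL f j k)) (isUnit_left f j k) (c.1.2 j) N (r' j)
      (hr' j) _).mp rfl
    have e2 := (eq_lift_iff (f k) (algebraMap R (LL f j k)) (isUnit_right f j k) (c.1.2 k) N (r' k)
      (hr' k) _).mp rfl
    have h3 : algebraMap R (LL f j k) (f k ^ N * r' j - f j ^ N * r' k) = 0 := by
      rw [map_sub, sub_eq_zero, map_mul, map_mul, map_pow, map_pow, ← e1, ← e2, h2]
      ring
    rw [IsLocalization.map_eq_zero_iff (Submonoid.powers (f j * f k))] at h3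
    obtain ⟨⟨_, e, rfl⟩, he⟩ := h3
    exact ⟨e, he⟩

end Groth.Agent.Lib.Helper79.AlgGlue
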