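import Mathlib
import Groth.Agent.Lib.Helper79.AlgGlueA

/-!
# Formal glueing of algebras, part B (helper79)

Kernel and cokernel of `R → Cc f B`, and injectivity of `S ⊗_R Cc f B → B`.
-/

set_option autoImplicit false
set_option maxSynthPendingDepth 3

universe u

namespace Groth.Agent.Lib.Helper79.AlgGlue

open TensorProduct Groth.Agent.Lib.Helper73.FlatGlue

variable {R : Type u} [CommRing R] {S : Type u} [CommRing S] [Algebra R S] [Module.Flat R S]
variable {t : ℕ} (f : Fin t → R)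
variable (hq : Function.Bijective
    (Ideal.quotientMap (Ideal.map (algebraMap R S) (Ideal.span (Set.range f))) (algebraMap R S)
      Ideal.le_comap_map))
variable (B : Type u) [CommRing B] [Algebra R B] [Algebra S B] [IsScalarTower R S B]

include hq in
/-- glueing elements of `R` from an element of `S` and compatible fractions. -/
theorem glueS (s : S) (N : ℕ) (m : Fin t → R)
    (h1 : ∀ j, ∃ e : ℕ, f j ^ e • (f j ^ N • s - algebraMap R S (m j)) = 0)
    (h2 : ∀ j k, ∃ e : ℕ, (f j * f k) ^ e * (f k ^ N * m j - f j ^ N * m k) = 0) :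
    ∃ μ : R, algebraMap R S μ = s ∧ ∀ j, ∃ e : ℕ, f j ^ e * (f j ^ N * μ - m j) = 0 := by
  have key : ∀ (a : R), (1 : S) ⊗ₜ[R] a = (algebraMap R S a) ⊗ₜ[R] (1 : R) := by
    intro a
    rw [Algebra.algebraMap_eq_smul_one, TensorProduct.smul_tmul, smul_eq_mul, mul_one]
  obtain ⟨μ, hμ1, hμ2⟩ := glueing_exact (S := S) f hq (M := R) (s ⊗ₜ[R] (1 : R)) N m
    (fun j => by
      obtain ⟨e, he⟩ := h1 j
      refine ⟨e, ?_⟩
      rw [key, TensorProduct.smul_tmul', ← TensorProduct.sub_tmul, TensorProduct.smul_tmul', he,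
        TensorProduct.zero_tmul])
    (fun j k => by
      obtain ⟨e, he⟩ := h2 j k
      refine ⟨e, ?_⟩
      simpa only [smul_eq_mul] using he)
  refine ⟨μ, ?_, fun j => ?_⟩
  · have := congrArg (TensorProduct.rid R S) hμ1
    rw [TensorProduct.rid_tmul, TensorProduct.rid_tmul, one_smul] at this
    rw [Algebra.algebraMap_eq_smul_one]
    exact this
  · obtain ⟨e, he⟩ := hμ2 j
    exact ⟨e, by simpa only [smul_eq_mul] using he⟩

variable {f}

theorem algebraMap_Cc_eq_zero_iff (a : R) :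
    algebraMap R (Cc f B) a = 0 ↔ algebraMap R B a = 0 ∧ ∀ j, ∃ e : ℕ, f j ^ e * a = 0 := by
  rw [Subtype.ext_iff]
  show (algebraMap R (B × (∀ j, L f j)) a = 0) ↔ _
  rw [Prod.ext_iff]
  show (algebraMap R B a = 0 ∧ algebraMap R (∀ j, L f j) a = 0) ↔ _
  refine and_congr Iff.rfl ?_
  rw [funext_iff]
  refine forall_congr' fun j => ?_
  show algebraMap R (L f j) a = 0 ↔ _
  exact away_algebraMap_eq_zero_iff (f j) a

variable (hK : ∀ x : S, algebraMap S B x = 0 → ∀ j, ∃ e : ℕ, f j ^ e • x = 0)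

include hq hK in
/-- An element of `Cc` whose image in `B` comes from `S` comes from `R`. -/
theorem exists_algebraMap_eq (c : Cc f B) (s : S) (h : iota f B c = algebraMap S B s) :
    ∃ a : R, algebraMap R (Cc f B) a = c ∧ algebraMap R S a = s := by
  obtain ⟨N, r, hr1, hr2, hr3⟩ := exists_rep f B c
  have hc : c.1.1 = algebraMap S B s := h
  have h1 : ∀ j, ∃ e : ℕ, f j ^ e • (f j ^ N • s - algebraMap R S (r j)) = 0 := by
    intro j
    obtain ⟨e₁, he₁⟩ := hr2 j
    have h3 : algebraMap S B (f j ^ e₁ • (f j ^ N • s - algebraMap R S (r j))) = 0 := by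
      rw [← he₁, hc, Algebra.smul_def, Algebra.smul_def, Algebra.smul_def, Algebra.smul_def,
        map_mul, map_sub, map_mul, ← IsScalarTower.algebraMap_apply,
        ← IsScalarTower.algebraMap_apply, ← IsScalarTower.algebraMap_apply]
    obtain ⟨e₂, he₂⟩ := hK _ h3 j
    refine ⟨e₂ + e₁, ?_⟩
    rw [pow_add, mul_smul]
    exact he₂
  obtain ⟨μ, hμ1, hμ2⟩ := glueS f hq s N r h1 hr3
  refine ⟨μ, ?_, hμ1⟩
  apply Subtype.ext
  apply Prod.ext
  · show algebraMap R B μ = c.1.1
    rw [hc, IsScalarTower.algebraMap_apply R S B, hμ1]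
  · funext j
    show algebraMap R (L f j) μ = c.1.2 j
    have hu : IsUnit (algebraMap R (L f j) (f j) ^ N) :=
      (IsLocalization.Away.algebraMap_isUnit (S := L f j) (f j)).pow N
    apply hu.mul_left_injective
    show algebraMap R (L f j) μ * algebraMap R (L f j) (f j) ^ N =
      c.1.2 j * algebraMap R (L f j) (f j) ^ N
    rw [hr1 j, ← map_pow, ← map_mul, ← sub_eq_zero, ← map_sub,
      away_algebraMap_eq_zero_iff (f j)]
    obtain ⟨e, he⟩ := hμ2 j
    refine ⟨e, ?_⟩
    rw [← he]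
    ring

variable (f) in
/-- the ideal of `y` with `y • c` in the image of `R`. -/
def colonI (c : Cc f B) : Ideal R where
  carrier := {y | ∃ a : R, algebraMap R (Cc f B) a = y • c}
  add_mem' := by
    rintro y z ⟨a, ha⟩ ⟨b, hb⟩
    exact ⟨a + b, by rw [map_add, ha, hb, add_smul]⟩
  zero_mem' := ⟨0, by rw [map_zero, zero_smul]⟩
  smul_mem' := by
    rintro x y ⟨a, ha⟩
    exact ⟨x * a, by rw [map_mul, ha, smul_eq_mul, mul_smul, ← Algebra.smul_def]⟩

variable (hQ : ∀ (b : B) (j : Fin t), ∃ (e : ℕ) (s : S), f j ^ e • b = algebraMap S B s)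

include hq hK hQ in
theorem exists_pow_le_colonI (c : Cc f B) :
    ∃ n : ℕ, Ideal.span (Set.range f) ^ n ≤ colonI f B c := by
  apply exists_pow_le_of_pow_mem
  intro j
  obtain ⟨e, s, hs⟩ := hQ (iota f B c) j
  refine ⟨e, ?_⟩
  obtain ⟨a, ha, -⟩ := exists_algebraMap_eq hq B hK (f j ^ e • c) s (by rw [map_smul, hs])
  exact ⟨a, ha⟩

omit [Module.Flat R S] in
include hq in
theorem range_sup_pow_smul_top (n : ℕ) :
    LinearMap.range (Algebra.linearMap R S) ⊔
      (Ideal.span (Set.range f) ^ n) • (⊤ : Submodule R S) = ⊤ := by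
  set I := Ideal.span (Set.range f) with hI
  set P := LinearMap.range (Algebra.linearMap R S) with hP
  have base : P ⊔ I • (⊤ : Submodule R S) = ⊤ := by
    rw [eq_top_iff]
    intro s _
    obtain ⟨y, hy⟩ := hq.2 (Ideal.Quotient.mk _ s)
    obtain ⟨a, rfl⟩ := Ideal.Quotient.mk_surjective y
    rw [Ideal.quotientMap_mk, Ideal.Quotient.eq] at hy
    have h1 : s = algebraMap R S a + (s - algebraMap R S a) := by ring
    rw [h1]
    refine Submodule.add_mem_sup ⟨a, rfl⟩ ?_
    rw [Ideal.smul_top_eq_map]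
    have := I.map (algebraMap R S) |>.neg_mem hy
    rwa [neg_sub] at this
  induction n with
  | zero =>
    rw [pow_zero, Ideal.one_eq_top, Submodule.top_smul, sup_top_eq]
  | succ n ih =>
    have h2 : I • (⊤ : Submodule R S) ≤ P ⊔ I ^ (n + 1) • (⊤ : Submodule R S) := by
      calc I • (⊤ : Submodule R S) = I • (P ⊔ I ^ n • (⊤ : Submodule R S)) := by rw [ih]
        _ = I • P ⊔ I • (I ^ n • (⊤ : Submodule R S)) := Submodule.smul_sup _ _ _
        _ ≤ P ⊔ I ^ (n + 1) • (⊤ : Submodule R S) := by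
            refine sup_le_sup Submodule.smul_le_right ?_
            rw [← Submodule.mul_smul, ← pow_succ']
    rw [eq_top_iff]
    calc (⊤ : Submodule R S) = P ⊔ I • (⊤ : Submodule R S) := base.symm
      _ ≤ P ⊔ I ^ (n + 1) • (⊤ : Submodule R S) := sup_le le_sup_left h2

/-- `S ⊗_R C → B`. -/
noncomputable def Theta : S ⊗[R] Cc f B →ₗ[S] B :=
  LinearMap.liftBaseChange S (iota f B).toLinearMap

omit [Module.Flat R S] in
theorem Theta_tmul (s : S) (c : Cc f B) : Theta (S := S) B (s ⊗ₜ[R] c) = s • iota f B c := by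
  unfold Theta
  rw [LinearMap.liftBaseChange_tmul]
  rfl

include hq hK hQ in
theorem exists_decomp (z : S ⊗[R] Cc f B) :
    ∃ (c : Cc f B) (s : S), z = (1 : S) ⊗ₜ[R] c + s ⊗ₜ[R] (1 : Cc f B) := by
  let D : Submodule R (S ⊗[R] Cc f B) :=
    LinearMap.range (TensorProduct.mk R S (Cc f B) 1) ⊔
      LinearMap.range ((TensorProduct.mk R S (Cc f B)).flip 1)
  suffices h : D = ⊤ by
    have hz : z ∈ D := h ▸ Submodule.mem_top
    obtain ⟨y₁, ⟨c, rfl⟩, y₂, ⟨s, rfl⟩, rfl⟩ := Submodule.mem_sup.1 hz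
    exact ⟨c, s, rfl⟩
  rw [eq_top_iff, ← TensorProduct.span_tmul_eq_top, Submodule.span_le]
  rintro _ ⟨s, c, rfl⟩
  let W : Submodule R S := Submodule.comap ((TensorProduct.mk R S (Cc f B)).flip c) D
  suffices hW : W = ⊤ by
    have : s ∈ W := hW ▸ Submodule.mem_top
    exact this
  obtain ⟨n, hn⟩ := exists_pow_le_colonI hq B hK hQ c
  rw [eq_top_iff, ← range_sup_pow_smul_top hq n]
  refine sup_le ?_ ?_
  · rintro _ ⟨a, rfl⟩
    show (algebraMap R S a) ⊗ₜ[R] c ∈ D
    refine Submodule.mem_sup_left ⟨a • c, ?_⟩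
    rw [Algebra.algebraMap_eq_smul_one, TensorProduct.smul_tmul]
    rfl
  · rw [Submodule.smul_le]
    intro y hy s' _
    show (y • s') ⊗ₜ[R] c ∈ D
    obtain ⟨a, ha⟩ := hn hy
    refine Submodule.mem_sup_right ⟨a • s', ?_⟩
    show (a • s') ⊗ₜ[R] (1 : Cc f B) = (y • s') ⊗ₜ[R] c
    rw [TensorProduct.smul_tmul, TensorProduct.smul_tmul, ← ha, Algebra.algebraMap_eq_smul_one]

include hq hK hQ in
theorem Theta_injective : Function.Injective (Theta (S := S) (f := f) B) := by
  rw [injective_iff_map_eq_zero]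
  intro z hz
  obtain ⟨c, s, rfl⟩ := exists_decomp hq B hK hQ z
  rw [map_add, Theta_tmul, Theta_tmul, one_smul, map_one, Algebra.smul_def, mul_one] at hz
  have h1 : iota f B c = algebraMap S B (-s) := by
    rw [map_neg]
    exact eq_neg_of_add_eq_zero_left hz
  obtain ⟨a, ha1, ha2⟩ := exists_algebraMap_eq hq B hK c (-s) h1
  rw [← ha1, Algebra.algebraMap_eq_smul_one, ← TensorProduct.smul_tmul, ← TensorProduct.add_tmul,
    ← Algebra.algebraMap_eq_smul_one, ha2, neg_add_cancel, TensorProduct.zero_tmul]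

end Groth.Agent.Lib.Helper79.AlgGlue
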