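import Mathlib
import Groth.Agent.Lib.Helper79.AlgGlueB
import Groth.Agent.Lib.Helper47.TorsExtLift

/-!
# Formal glueing of algebras, part C (helper79)

Every element of `B` is the image of an element of `Cc f B` plus an element of `S`
(via helper47's extension lifting lemma).
-/

set_option autoImplicit false
set_option maxSynthPendingDepth 3

universe u

namespace Groth.Agent.Lib.Helper79.AlgGlue

open TensorProduct Groth.Agent.Lib.Helper73.FlatGlue

variable {R : Type u} [CommRing R] {S : Type u} [CommRing S] [Algebra R S] [Module.Flat R S]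
variable {t : ℕ} {f : Fin t → R}
variable (hq : Function.Bijective
    (Ideal.quotientMap (Ideal.map (algebraMap R S) (Ideal.span (Set.range f))) (algebraMap R S)
      Ideal.le_comap_map))
variable (B : Type u) [CommRing B] [Algebra R B] [Algebra S B] [IsScalarTower R S B]
variable (hK : ∀ x : S, algebraMap S B x = 0 → ∀ j, ∃ e : ℕ, f j ^ e • x = 0)
variable (hQ : ∀ (b : B) (j : Fin t), ∃ (e : ℕ) (s : S), f j ^ e • b = algebraMap S B s)

include hq hK hQ in
theorem exists_iota_add (b : B) :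
    ∃ (c : Cc f B) (s : S), b = iota f B c + algebraMap S B s := by
  classical
  set I := Ideal.span (Set.range f) with hIdef
  have hI : I.FG := ⟨Finset.univ.image f, by simp [hIdef]⟩
  let K : Ideal R := RingHom.ker (algebraMap R (Cc f B))
  let V : Submodule S B := LinearMap.range (Algebra.linearMap S B)
  have hV : ∀ x : B, V.mkQ x = 0 ↔ ∃ s : S, algebraMap S B s = x := by
    intro x
    rw [Submodule.mkQ_apply, Submodule.Quotient.mk_eq_zero]
    exact Iff.rfl
  have mkQ_smul : ∀ (a : R) (x : B), V.mkQ (a • x) = a • V.mkQ x := fun a x => rfl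
  -- torsion of the quotient
  have htors : ∀ (q : B ⧸ V) (j : Fin t), ∃ e : ℕ, f j ^ e • q = 0 := by
    intro q j
    obtain ⟨x, rfl⟩ := V.mkQ_surjective q
    obtain ⟨e, s, hs⟩ := hQ x j
    refine ⟨e, ?_⟩
    rw [← mkQ_smul, hV]
    exact ⟨s, hs.symm⟩
  have hM : ∀ q : B ⧸ V, ∃ n : ℕ, ∀ a ∈ I ^ n, a • q = 0 := by
    intro q
    obtain ⟨n, hn⟩ := exists_pow_le_of_pow_mem f
      (LinearMap.ker (LinearMap.toSpanSingleton R (B ⧸ V) q)) (fun j => by
        obtain ⟨e, he⟩ := htors q j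
        exact ⟨e, by rw [LinearMap.mem_ker, LinearMap.toSpanSingleton_apply, he]⟩)
    refine ⟨n, fun a ha => ?_⟩
    have := hn ha
    rwa [LinearMap.mem_ker, LinearMap.toSpanSingleton_apply] at this
  -- the multiplication map `S ⊗ Q → Q`
  let μQ : S ⊗[R] (B ⧸ V) →ₗ[S] (B ⧸ V) :=
    LinearMap.liftBaseChange S (LinearMap.id : (B ⧸ V) →ₗ[R] (B ⧸ V))
  have hμQ1 : ∀ q : B ⧸ V, μQ ((1 : S) ⊗ₜ[R] q) = q := by
    intro q
    show LinearMap.liftBaseChange S (LinearMap.id : (B ⧸ V) →ₗ[R] (B ⧸ V)) ((1 : S) ⊗ₜ[R] q) = q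
    rw [LinearMap.liftBaseChange_tmul, one_smul, LinearMap.id_apply]
  have hmk := bijective_mk_of_powerTorsion (S := S) I hq (B ⧸ V) hM
  have hμQ : Function.Bijective μQ := by
    constructor
    · rw [injective_iff_map_eq_zero]
      intro z hz
      obtain ⟨q, rfl⟩ := hmk.2 z
      rw [TensorProduct.mk_apply, hμQ1] at hz
      rw [hz, map_zero]
    · intro q
      exact ⟨_, hμQ1 q⟩
  let eQ : (S ⊗[R] (B ⧸ V)) ≃ₗ[S] (B ⧸ V) := LinearEquiv.ofBijective μQ hμQ
  let p' : B →ₗ[S] S ⊗[R] (B ⧸ V) := eQ.symm.toLinearMap ∘ₗ V.mkQ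
  have hp'1 : ∀ x : B, p' x = (1 : S) ⊗ₜ[R] V.mkQ x := by
    intro x
    show eQ.symm (V.mkQ x) = _
    rw [LinearEquiv.symm_apply_eq]
    exact (hμQ1 _).symm
  have hp'0 : ∀ x : B, p' x = 0 ↔ ∃ s : S, algebraMap S B s = x := by
    intro x
    rw [← hV]
    show eQ.symm (V.mkQ x) = 0 ↔ _
    rw [LinearEquiv.map_eq_zero_iff]
  -- the map `S ⊗ R/K → B`
  have hKle : K ≤ LinearMap.ker (Algebra.linearMap R B) := by
    intro a ha
    rw [LinearMap.mem_ker, Algebra.linearMap_apply]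
    exact ((algebraMap_Cc_eq_zero_iff B a).1 ha).1
  let i' : S ⊗[R] (R ⧸ K) →ₗ[S] B :=
    LinearMap.liftBaseChange S (K.liftQ (Algebra.linearMap R B) hKle)
  have hi'1 : ∀ (s : S) (r : R), i' (s ⊗ₜ[R] (K.mkQ r)) = s • algebraMap R B r := by
    intro s r
    show LinearMap.liftBaseChange S (K.liftQ (Algebra.linearMap R B) hKle) (s ⊗ₜ[R] (K.mkQ r)) = _
    rw [LinearMap.liftBaseChange_tmul]
    rfl
  have hcyc : ∀ z : S ⊗[R] (R ⧸ K), ∃ s : S, z = s ⊗ₜ[R] (K.mkQ 1) := by
    intro z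
    induction z using TensorProduct.induction_on with
    | zero => exact ⟨0, by rw [TensorProduct.zero_tmul]⟩
    | tmul s n =>
      obtain ⟨r, rfl⟩ := K.mkQ_surjective n
      refine ⟨r • s, ?_⟩
      rw [TensorProduct.smul_tmul, ← map_smul, smul_eq_mul, mul_one]
    | add x y hx hy =>
      obtain ⟨s₁, rfl⟩ := hx
      obtain ⟨s₂, rfl⟩ := hy
      exact ⟨s₁ + s₂, by rw [TensorProduct.add_tmul]⟩
  have hi'2 : ∀ s : S, i' (s ⊗ₜ[R] (K.mkQ 1)) = algebraMap S B s := by
    intro s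
    rw [hi'1, map_one, Algebra.smul_def, mul_one]
  have hi' : Function.Injective i' := by
    rw [injective_iff_map_eq_zero]
    intro z hz
    obtain ⟨s, rfl⟩ := hcyc z
    rw [hi'2] at hz
    have h1 := hK s hz
    obtain ⟨μ, hμ1, hμ2⟩ := glueS f hq s 0 (fun _ => 0)
      (fun j => by
        obtain ⟨e, he⟩ := h1 j
        exact ⟨e, by rw [pow_zero, one_smul, map_zero, sub_zero, he]⟩)
      (fun j k => ⟨0, by simp⟩)
    have hμK : μ ∈ K := by
      show algebraMap R (Cc f B) μ = 0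
      rw [algebraMap_Cc_eq_zero_iff]
      refine ⟨by rw [IsScalarTower.algebraMap_apply R S B, hμ1, hz], fun j => ?_⟩
      obtain ⟨e, he⟩ := hμ2 j
      exact ⟨e, by simpa using he⟩
    rw [← hμ1, Algebra.algebraMap_eq_smul_one, TensorProduct.smul_tmul, ← map_smul, smul_eq_mul,
      mul_one]
    have : K.mkQ μ = 0 := by
      rw [Submodule.mkQ_apply, Submodule.Quotient.mk_eq_zero]
      exact hμK
    rw [this, TensorProduct.tmul_zero]
  have hp' : Function.Surjective p' := by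
    intro z
    obtain ⟨x, hx⟩ := V.mkQ_surjective (eQ z)
    refine ⟨x, ?_⟩
    show eQ.symm (V.mkQ x) = z
    rw [hx, LinearEquiv.symm_apply_apply]
  have hex' : LinearMap.range i' = LinearMap.ker p' := by
    ext x
    rw [LinearMap.mem_ker, hp'0]
    constructor
    · rintro ⟨z, rfl⟩
      obtain ⟨s, rfl⟩ := hcyc z
      exact ⟨s, (hi'2 s).symm⟩
    · rintro ⟨s, rfl⟩
      exact ⟨_, hi'2 s⟩
  obtain ⟨E, hE1, hE2, i, p, g, h1, h2, h3, h4, h5⟩ :=
    Groth.Agent.Lib.Helper47.TorsExt.extension_lift R S I hI hq (R ⧸ K) (B ⧸ V) hM B i' p' hi' hp'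
      hex'
  obtain ⟨e, he⟩ := h2 (V.mkQ b)
  -- `g e - b` comes from `S`
  have hA : ∃ s : S, algebraMap S B s = g e - b := by
    rw [← hp'0, map_sub, h5, he, hp'1, sub_self]
  obtain ⟨s, hs⟩ := hA
  -- the fractions
  have hB : ∀ j, ∃ (n : ℕ) (r : R), f j ^ n • e = i (K.mkQ r) := by
    intro j
    obtain ⟨n, hn⟩ := htors (V.mkQ b) j
    have h6 : f j ^ n • e ∈ LinearMap.ker p := by
      rw [LinearMap.mem_ker, map_smul, he, hn]
    rw [← h3] at h6
    obtain ⟨y, hy⟩ := h6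
    obtain ⟨r, rfl⟩ := K.mkQ_surjective y
    exact ⟨n, r, hy.symm⟩
  choose n r hr using hB
  let a : ∀ j, L f j := fun j => IsLocalization.mk' (L f j) (r j)
    (⟨f j ^ n j, n j, rfl⟩ : Submonoid.powers (f j))
  have ha : ∀ j, a j * algebraMap R (L f j) (f j) ^ n j = algebraMap R (L f j) (r j) := by
    intro j
    rw [← map_pow]
    exact IsLocalization.mk'_spec (L f j) (r j) (⟨f j ^ n j, n j, rfl⟩ : Submonoid.powers (f j))
  have hgi : ∀ x : R, g (i (K.mkQ x)) = algebraMap R B x := by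
    intro x
    rw [h4, hi'1, one_smul]
  have hmem : (g e, a) ∈ Csub f B := by
    apply mem_Csub_of f B (g e) n r a ha
    · intro j
      refine ⟨0, ?_⟩
      rw [← map_smul, hr j, hgi, sub_self, smul_zero]
    · intro j k
      have hd : f k ^ n k * r j - f j ^ n j * r k ∈ K := by
        have h7 : i (K.mkQ (f k ^ n k * r j - f j ^ n j * r k)) = 0 := by
          rw [map_sub, map_sub, ← smul_eq_mul, ← smul_eq_mul, map_smul, map_smul, map_smul,
            map_smul, ← hr j, ← hr k, smul_comm, sub_self]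
        have h8 := h1 (h7.trans (map_zero i).symm)
        rwa [Submodule.mkQ_apply, Submodule.Quotient.mk_eq_zero] at h8
      have hd' : algebraMap R (Cc f B) (f k ^ n k * r j - f j ^ n j * r k) = 0 := hd
      rw [algebraMap_Cc_eq_zero_iff] at hd'
      obtain ⟨e', he'⟩ := hd'.2 j
      refine ⟨e', ?_⟩
      rw [mul_pow, mul_right_comm, he', zero_mul]
  refine ⟨⟨(g e, a), hmem⟩, -s, ?_⟩
  show b = g e + algebraMap S B (-s)
  rw [map_neg, hs]
  ring

end Groth.Agent.Lib.Helper79.AlgGlue
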