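import Mathlib
import Groth.Agent.Lib.Helper79.AlgGlueC

/-!
# Formal glueing of algebras, part D (helper79): glueing at finitely many maximal ideals
-/

set_option autoImplicit false
set_option maxSynthPendingDepth 3

universe u

namespace Groth.Agent.Lib.Helper79.AlgGlue

open TensorProduct Groth.Agent.Lib.Helper73.FlatGlue

/-- A finite module over `R'` killed by an ideal `J` with `R → R'/J` surjective is finite over `R`. -/
theorem finite_of_killed {R R' M : Type*} [CommRing R] [CommRing R'] [Algebra R R']
    [AddCommGroup M] [Module R M] [Module R' M] [IsScalarTower R R' M] (J : Ideal R')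
    (hJ : ∀ s : R', ∃ a : R, s - algebraMap R R' a ∈ J) (hM : ∀ w ∈ J, ∀ x : M, w • x = 0)
    [Module.Finite R' M] : Module.Finite R M := by
  obtain ⟨G, hG⟩ := (Module.finite_def.1 ‹Module.Finite R' M›)
  refine ⟨⟨G, ?_⟩⟩
  rw [eq_top_iff]
  rintro x -
  have hx : x ∈ Submodule.span R' (G : Set M) := hG ▸ Submodule.mem_top
  induction hx using Submodule.span_induction with
  | mem x h => exact Submodule.subset_span h
  | zero => exact zero_mem _
  | add x y _ _ hx hy => exact add_mem hx hy
  | smul s x _ hx =>
    obtain ⟨a, ha⟩ := hJ s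
    have : s • x = a • x := by
      have h0 := hM _ ha x
      rw [sub_smul, algebraMap_smul, sub_eq_zero] at h0
      exact h0
    rw [this]
    exact Submodule.smul_mem _ a hx

section pi

variable {A : Type u} [CommRing A] {r : ℕ} (m : Fin r → Ideal A) [hm : ∀ i, (m i).IsMaximal]

/-- the product of the localizations. -/
abbrev PiLoc : Type u := ∀ i, Localization.AtPrime (m i)

instance flat_piLoc : Module.Flat A (PiLoc m) := by
  have : ∀ i, Module.Flat A (Localization.AtPrime (m i)) := fun i =>
    IsLocalization.flat (Localization.AtPrime (m i)) (m i).primeCompl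
  exact Module.Flat.of_linearEquiv
    (DirectSum.linearEquivFunOnFintype A (Fin r) (fun i => Localization.AtPrime (m i))).symm

theorem map_eq_top_of_ne (hinj : Function.Injective m) {i k : Fin r} (hk : k ≠ i) :
    (m k).map (algebraMap A (Localization.AtPrime (m i))) = ⊤ := by
  have h1 : ¬ m k ≤ m i := fun hle => hk (hinj ((hm k).eq_of_le (hm i).ne_top hle))
  obtain ⟨y, hy1, hy2⟩ := Set.not_subset.1 h1
  apply Ideal.eq_top_of_isUnit_mem _ (Ideal.mem_map_of_mem _ hy1)
  exact IsLocalization.map_units (Localization.AtPrime (m i)) (⟨y, hy2⟩ : (m i).primeCompl)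

theorem map_iInf_eq (hinj : Function.Injective m) (i : Fin r) :
    (⨅ k, m k).map (algebraMap A (Localization.AtPrime (m i))) =
      IsLocalRing.maximalIdeal (Localization.AtPrime (m i)) := by
  apply le_antisymm
  · rw [← Localization.AtPrime.map_eq_maximalIdeal]
    exact Ideal.map_mono (iInf_le _ i)
  · have h1 : (∏ k, m k).map (algebraMap A (Localization.AtPrime (m i))) =
        (m i).map (algebraMap A (Localization.AtPrime (m i))) := by
      have h0 := map_prod (Ideal.mapHom (algebraMap A (Localization.AtPrime (m i)))) m Finset.univ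
      simp only [Ideal.mapHom_apply] at h0
      rw [h0]
      apply Finset.prod_eq_single i
      · intro k _ hk
        rw [Ideal.one_eq_top]
        exact map_eq_top_of_ne m hinj hk
      · intro h
        exact absurd (Finset.mem_univ i) h
    rw [← Localization.AtPrime.map_eq_maximalIdeal, ← h1]
    apply Ideal.map_mono
    have := Ideal.prod_le_inf (s := Finset.univ) (f := m)
    rwa [Finset.inf_univ_eq_iInf] at this

theorem mem_map_piLoc_iff (hinj : Function.Injective m) (w : PiLoc m) :
    w ∈ (⨅ k, m k).map (algebraMap A (PiLoc m)) ↔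
      ∀ i, w i ∈ IsLocalRing.maximalIdeal (Localization.AtPrime (m i)) := by
  set J := (⨅ k, m k).map (algebraMap A (PiLoc m)) with hJ
  have h1 : Ideal.pi (fun i => J.map (Pi.evalRingHom (fun i => Localization.AtPrime (m i)) i)) = J :=
    Ideal.piOrderIso.symm_apply_apply J
  have h2 : ∀ i, J.map (Pi.evalRingHom (fun i => Localization.AtPrime (m i)) i) =
      IsLocalRing.maximalIdeal (Localization.AtPrime (m i)) := by
    intro i
    rw [hJ, Ideal.map_map, ← map_iInf_eq m hinj i]
    rfl
  rw [← h1, Ideal.mem_pi]
  exact forall_congr' fun i => by rw [h2 i]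

theorem pairwise_coprime (hinj : Function.Injective m) : Pairwise (Function.onFun IsCoprime m) := by
  intro i j hij
  exact Ideal.isCoprime_of_isMaximal (fun h => hij (hinj h))

theorem bijective_quotientMap_piLoc (hinj : Function.Injective m) :
    Function.Bijective (Ideal.quotientMap (Ideal.map (algebraMap A (PiLoc m)) (⨅ k, m k))
      (algebraMap A (PiLoc m)) Ideal.le_comap_map) := by
  constructor
  · apply Ideal.quotientMap_injective'
    intro a ha
    rw [Ideal.mem_comap, mem_map_piLoc_iff m hinj] at ha
    rw [Ideal.mem_iInf]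
    intro i
    have := ha i
    rwa [show algebraMap A (PiLoc m) a i = algebraMap A (Localization.AtPrime (m i)) a from rfl,
      IsLocalization.AtPrime.to_map_mem_maximal_iff (Localization.AtPrime (m i)) (m i)] at this
  · intro y
    obtain ⟨s, rfl⟩ := Ideal.Quotient.mk_surjective y
    have h1 : ∀ i, ∃ a : A, s i - algebraMap A (Localization.AtPrime (m i)) a ∈
        IsLocalRing.maximalIdeal (Localization.AtPrime (m i)) := by
      intro i
      obtain ⟨z, hz⟩ := (IsLocalization.AtPrime.equivQuotMaximalIdeal (m i)
        (Localization.AtPrime (m i))).surjective (Ideal.Quotient.mk _ (s i))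
      obtain ⟨a, rfl⟩ := Ideal.Quotient.mk_surjective z
      refine ⟨a, ?_⟩
      rw [IsLocalization.AtPrime.equivQuotMaximalIdeal_apply_mk, Ideal.Quotient.eq] at hz
      have := (IsLocalRing.maximalIdeal (Localization.AtPrime (m i))).neg_mem hz
      rwa [neg_sub] at this
    choose a ha using h1
    obtain ⟨b, hb⟩ := Ideal.exists_forall_sub_mem_ideal (pairwise_coprime m hinj) a
    refine ⟨Ideal.Quotient.mk _ b, ?_⟩
    rw [Ideal.quotientMap_mk, Ideal.Quotient.eq, mem_map_piLoc_iff m hinj]
    intro i
    have h2 : (algebraMap A (PiLoc m) b - s) i =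
        algebraMap A (Localization.AtPrime (m i)) (b - a i) -
          (s i - algebraMap A (Localization.AtPrime (m i)) (a i)) := by
      show algebraMap A (Localization.AtPrime (m i)) b - s i = _
      rw [map_sub]
      ring
    rw [h2]
    refine sub_mem ?_ (ha i)
    rw [IsLocalization.AtPrime.to_map_mem_maximal_iff (Localization.AtPrime (m i)) (m i)]
    exact hb i

theorem map_mem_pow (i : Fin r) {n k : ℕ} (hk : k ≤ n) {y : A} (hy : y ∈ (⨅ i, m i) ^ n) :
    algebraMap A (Localization.AtPrime (m i)) y ∈
      Ideal.map (algebraMap A (Localization.AtPrime (m i))) (m i) ^ k := by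
  have h1 := Ideal.mem_map_of_mem (algebraMap A (Localization.AtPrime (m i))) hy
  rw [Ideal.map_pow] at h1
  exact Ideal.pow_le_pow_right hk (Ideal.pow_right_mono (Ideal.map_mono (iInf_le m i)) n h1)

theorem one_tmul_eq (a : A) :
    (1 : PiLoc m) ⊗ₜ[A] a = (algebraMap A (PiLoc m) a) ⊗ₜ[A] (1 : A) := by
  rw [Algebra.algebraMap_eq_smul_one, TensorProduct.smul_tmul, smul_eq_mul, mul_one]

end pi

end Groth.Agent.Lib.Helper79.AlgGlue
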