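import Mathlib
import Groth.Agent.Lib.Helper79.AlgGlueD

/-!
# Formal glueing of algebras, part E (helper79): glueing at finitely many maximal ideals, main theorem
-/

set_option autoImplicit false
set_option maxSynthPendingDepth 3

universe u

namespace Groth.Agent.Lib.Helper79.AlgGlue

open TensorProduct Groth.Agent.Lib.Helper73.FlatGlue

variable {A : Type u} [CommRing A] {r : ℕ} (m : Fin r → Ideal A)
  [hm : ∀ i, (m i).IsMaximal]
  (B : Fin r → Type u) [∀ i, CommRing (B i)] [∀ i, Algebra (Localization.AtPrime (m i)) (B i)]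

/-- the componentwise structure map. -/
noncomputable def phiPi : PiLoc m →+* (∀ i, B i) :=
  RingHom.pi fun i => (algebraMap (Localization.AtPrime (m i)) (B i)).comp
    (Pi.evalRingHom (fun i => Localization.AtPrime (m i)) i)

/-- the componentwise algebra structure. -/
@[instance_reducible] noncomputable def algPi : Algebra (PiLoc m) (∀ i, B i) where
  toSMul := Pi.smul'
  algebraMap := phiPi m B
  commutes' _ _ := mul_comm _ _
  smul_def' s b := funext fun i => Algebra.smul_def (s i) (b i)

attribute [local instance] algPi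

theorem algebraMap_pi_apply (s : PiLoc m) (i : Fin r) :
    algebraMap (PiLoc m) (∀ i, B i) s i = algebraMap (Localization.AtPrime (m i)) (B i) (s i) :=
  rfl

theorem smul_pi_apply (s : PiLoc m) (b : ∀ i, B i) (i : Fin r) :
    (s • b) i = algebraMap (Localization.AtPrime (m i)) (B i) (s i) * b i :=
  Algebra.smul_def (s i) (b i)

variable [∀ i, Algebra A (B i)] [∀ i, IsScalarTower A (Localization.AtPrime (m i)) (B i)]

instance isScalarTower_pi : IsScalarTower A (PiLoc m) (∀ i, B i) := by
  refine IsScalarTower.of_algebraMap_eq fun a => ?_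
  funext i
  exact IsScalarTower.algebraMap_apply A (Localization.AtPrime (m i)) (B i) a

variable {t : ℕ} (f : Fin t → A) (hfm : ∀ j i, f j ∈ m i)

omit [∀ i, Algebra A (B i)] [∀ i, IsScalarTower A (Localization.AtPrime (m i)) (B i)] in
include hfm in
theorem hK_pi (hker : ∀ i, ∃ n : ℕ, ∀ x ∈ RingHom.ker (algebraMap (Localization.AtPrime (m i)) (B i)),
      ∀ y ∈ Ideal.map (algebraMap A (Localization.AtPrime (m i))) (m i) ^ n, y * x = 0)
    (x : PiLoc m) (hx : algebraMap (PiLoc m) (∀ i, B i) x = 0) (j : Fin t) :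
    ∃ e : ℕ, f j ^ e • x = 0 := by
  choose nK hnK using hker
  refine ⟨∑ i, nK i, funext fun i => ?_⟩
  have hxi : x i ∈ RingHom.ker (algebraMap (Localization.AtPrime (m i)) (B i)) := congrFun hx i
  have hle : nK i ≤ ∑ i, nK i :=
    Finset.single_le_sum (f := nK) (fun _ _ => Nat.zero_le _) (Finset.mem_univ i)
  have hy : algebraMap A (Localization.AtPrime (m i)) (f j) ^ (∑ i, nK i) ∈
      Ideal.map (algebraMap A (Localization.AtPrime (m i))) (m i) ^ nK i :=
    Ideal.pow_le_pow_right hle (Ideal.pow_mem_pow (Ideal.mem_map_of_mem _ (hfm j i)) _)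
  show (f j ^ (∑ i, nK i) • x) i = 0
  rw [Pi.smul_apply, Algebra.smul_def, map_pow]
  exact hnK i (x i) hxi _ hy

include hfm in
theorem hQ_pi (hcoker : ∀ i, ∃ n : ℕ, ∀ y ∈ Ideal.map (algebraMap A (Localization.AtPrime (m i)))
      (m i) ^ n, ∀ b : B i, y • b ∈ (algebraMap (Localization.AtPrime (m i)) (B i)).range)
    (b : ∀ i, B i) (j : Fin t) :
    ∃ (e : ℕ) (s : PiLoc m), f j ^ e • b = algebraMap (PiLoc m) (∀ i, B i) s := by
  choose nQ hnQ using hcoker
  have h1 : ∀ i, ∃ s : Localization.AtPrime (m i), algebraMap _ (B i) s =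
      algebraMap A (Localization.AtPrime (m i)) (f j) ^ (∑ i, nQ i) • b i := by
    intro i
    have hle : nQ i ≤ ∑ i, nQ i :=
      Finset.single_le_sum (f := nQ) (fun _ _ => Nat.zero_le _) (Finset.mem_univ i)
    have hy : algebraMap A (Localization.AtPrime (m i)) (f j) ^ (∑ i, nQ i) ∈
        Ideal.map (algebraMap A (Localization.AtPrime (m i))) (m i) ^ nQ i :=
      Ideal.pow_le_pow_right hle (Ideal.pow_mem_pow (Ideal.mem_map_of_mem _ (hfm j i)) _)
    exact hnQ i _ hy (b i)
  choose s hs using h1
  refine ⟨∑ i, nQ i, s, funext fun i => ?_⟩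
  show f j ^ (∑ i, nQ i) • b i = algebraMap _ (B i) (s i)
  rw [hs i, ← map_pow, algebraMap_smul]

variable [IsNoetherianRing A]

set_option maxHeartbeats 800000 in
theorem glue_max (hinj : Function.Injective m)
    (hker : ∀ i, ∃ n : ℕ, ∀ x ∈ RingHom.ker (algebraMap (Localization.AtPrime (m i)) (B i)),
      ∀ y ∈ Ideal.map (algebraMap A (Localization.AtPrime (m i))) (m i) ^ n, y * x = 0)
    (hcoker : ∀ i, ∃ n : ℕ, ∀ y ∈ Ideal.map (algebraMap A (Localization.AtPrime (m i)))
      (m i) ^ n, ∀ b : B i, y • b ∈ (algebraMap (Localization.AtPrime (m i)) (B i)).range) :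
    ∃ (C : Type u) (_ : CommRing C) (_ : Algebra A C),
      (∀ i, Nonempty ((Localization.AtPrime (m i)) ⊗[A] C ≃ₐ[Localization.AtPrime (m i)] B i)) ∧
      (∃ n : ℕ, (∀ x ∈ RingHom.ker (algebraMap A C), ∀ y ∈ (⨅ i, m i) ^ n, y * x = 0) ∧
        (∀ y ∈ (⨅ i, m i) ^ n, ∀ c : C, y • c ∈ (algebraMap A C).range)) ∧
      ((∀ i, (algebraMap (Localization.AtPrime (m i)) (B i)).Finite) → (algebraMap A C).Finite) ∧
      ((∀ i, Function.Injective (algebraMap (Localization.AtPrime (m i)) (B i))) →
        Function.Injective (algebraMap A C)) ∧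
      ((∀ i, Function.Surjective (algebraMap (Localization.AtPrime (m i)) (B i))) →
        Function.Surjective (algebraMap A C)) := by
  classical
  obtain ⟨t, f, hf⟩ := Submodule.fg_iff_exists_fin_generating_family.1
    (IsNoetherian.noetherian (⨅ i, m i))
  have hfI : Ideal.span (Set.range f) = ⨅ i, m i := hf
  have hfm : ∀ j i, f j ∈ m i := fun j i =>
    (Ideal.mem_iInf.1 (hfI ▸ Ideal.subset_span ⟨j, rfl⟩)) i
  have hq : Function.Bijective (Ideal.quotientMap
      (Ideal.map (algebraMap A (PiLoc m)) (Ideal.span (Set.range f)))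
      (algebraMap A (PiLoc m)) Ideal.le_comap_map) :=
    hfI.symm ▸ bijective_quotientMap_piLoc m hinj
  have hK := hK_pi m B f hfm hker
  have hQ := hQ_pi m B f hfm hcoker
  have hglue : ∀ (c : Cc f (∀ i, B i)) (s : PiLoc m),
      (∀ i, algebraMap (Localization.AtPrime (m i)) (B i) (s i) = (iota f (∀ i, B i) c) i) →
      ∃ a : A, algebraMap A (Cc f (∀ i, B i)) a = c := by
    intro c s hs
    obtain ⟨a, ha, -⟩ := exists_algebraMap_eq hq (∀ i, B i) hK c s (funext fun i => (hs i).symm)
    exact ⟨a, ha⟩
  refine ⟨Cc f (∀ i, B i), inferInstance, inferInstance, ?_, ?_, ?_, ?_, ?_⟩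
  · -- the localizations
    intro i
    let gi : Cc f (∀ i, B i) →ₐ[A] B i :=
      (Pi.evalAlgHom A (fun i => B i) i).comp (iota f (∀ i, B i))
    let θ : Localization.AtPrime (m i) ⊗[A] Cc f (∀ i, B i) →ₐ[Localization.AtPrime (m i)] B i :=
      Algebra.TensorProduct.lift (Algebra.ofId _ _) gi (fun _ _ => Commute.all _ _)
    have hθ : ∀ (x : Localization.AtPrime (m i)) (c : Cc f (∀ i, B i)),
        θ (x ⊗ₜ[A] c) = algebraMap _ (B i) x * (iota f (∀ i, B i) c) i := by
      intro x c
      show Algebra.TensorProduct.lift (Algebra.ofId _ _) gi (fun _ _ => Commute.all _ _)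
        (x ⊗ₜ[A] c) = _
      rw [Algebra.TensorProduct.lift_tmul]
      rfl
    refine ⟨AlgEquiv.ofBijective θ ⟨?_, ?_⟩⟩
    · rw [injective_iff_map_eq_zero]
      intro z hz
      let σ : Localization.AtPrime (m i) ⊗[A] Cc f (∀ i, B i) →ₗ[A]
          PiLoc m ⊗[A] Cc f (∀ i, B i) :=
        LinearMap.rTensor _ (LinearMap.single A (fun i => Localization.AtPrime (m i)) i)
      let π : PiLoc m ⊗[A] Cc f (∀ i, B i) →ₗ[A]
          Localization.AtPrime (m i) ⊗[A] Cc f (∀ i, B i) :=
        LinearMap.rTensor _ (LinearMap.proj i)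
      have hπσ : ∀ z, π (σ z) = z := by
        intro z
        show (π ∘ₗ σ) z = z
        rw [← LinearMap.rTensor_comp, LinearMap.proj_comp_single_same, LinearMap.rTensor_id]
        rfl
      have hΘσ : ∀ z, Theta (S := PiLoc m) (f := f) (∀ i, B i) (σ z) = Pi.single i (θ z) := by
        intro z
        induction z using TensorProduct.induction_on with
        | zero => rw [map_zero, map_zero, map_zero, Pi.single_zero]
        | add x y hx hy => rw [map_add, map_add, hx, hy, map_add, Pi.single_add]
        | tmul x c =>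
          show Theta (S := PiLoc m) (f := f) (∀ i, B i) ((Pi.single i x : PiLoc m) ⊗ₜ[A] c) = _
          rw [Theta_tmul, hθ]
          funext k
          rw [smul_pi_apply]
          by_cases hk : k = i
          · subst hk
            rw [Pi.single_eq_same, Pi.single_eq_same]
          · rw [Pi.single_eq_of_ne hk, Pi.single_eq_of_ne hk, map_zero, zero_mul]
      have h1 := hΘσ z
      rw [hz, Pi.single_zero] at h1
      have h0 := Theta_injective hq (∀ i, B i) hK hQ (h1.trans (map_zero _).symm)
      rw [← hπσ z, h0, map_zero]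
    · intro y
      obtain ⟨c, s, hcs⟩ := exists_iota_add hq (∀ i, B i) hK hQ (Pi.single i y)
      refine ⟨(1 : Localization.AtPrime (m i)) ⊗ₜ[A] c +
        (s i) ⊗ₜ[A] (1 : Cc f (∀ i, B i)), ?_⟩
      rw [map_add, hθ, hθ, map_one, one_mul, map_one, Pi.one_apply, mul_one]
      have h2 := congrFun hcs i
      rw [Pi.single_eq_same] at h2
      exact h2.symm
  · -- torsion bounds
    choose nK hnK using hker
    choose nQ hnQ using hcoker
    refine ⟨∑ i, nK i + ∑ i, nQ i, ?_, ?_⟩
    · intro x hx y hy
      have hx0 : algebraMap A (Cc f (∀ i, B i)) x = 0 := hx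
      rw [algebraMap_Cc_eq_zero_iff] at hx0
      obtain ⟨hx1, hx2⟩ := hx0
      apply eq_zero_of_tmul_eq_zero (S := PiLoc m) f hq (y * x)
      · have h3 : algebraMap A (PiLoc m) (y * x) = 0 := by
          funext i
          show algebraMap A (Localization.AtPrime (m i)) (y * x) = 0
          rw [map_mul]
          apply hnK i
          · rw [RingHom.mem_ker, ← IsScalarTower.algebraMap_apply]
            exact congrFun hx1 i
          · have hle : nK i ≤ ∑ i, nK i + ∑ i, nQ i :=
              (Finset.single_le_sum (f := nK) (fun _ _ => Nat.zero_le _)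
                (Finset.mem_univ i)).trans (Nat.le_add_right _ _)
            exact map_mem_pow m i hle hy
        rw [one_tmul_eq, h3, TensorProduct.zero_tmul]
      · intro j
        obtain ⟨e, he⟩ := hx2 j
        exact ⟨e, by rw [smul_eq_mul, mul_left_comm, he, mul_zero]⟩
    · intro y hy c
      have h1 : ∀ i, ∃ s : Localization.AtPrime (m i),
          algebraMap _ (B i) s = (iota f (∀ i, B i) (y • c)) i := by
        intro i
        have hle : nQ i ≤ ∑ i, nK i + ∑ i, nQ i :=
          (Finset.single_le_sum (f := nQ) (fun _ _ => Nat.zero_le _)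
            (Finset.mem_univ i)).trans (Nat.le_add_left _ _)
        obtain ⟨s, hs⟩ := hnQ i _ (map_mem_pow m i hle hy) ((iota f (∀ i, B i) c) i)
        refine ⟨s, ?_⟩
        rw [hs, map_smul, Pi.smul_apply, algebraMap_smul]
      choose s hs using h1
      obtain ⟨a, ha⟩ := hglue (y • c) s hs
      exact ⟨a, ha⟩
  · -- finiteness
    intro hfin
    rw [RingHom.finite_algebraMap]
    have hfin' : ∀ i, Module.Finite (Localization.AtPrime (m i)) (B i) := fun i =>
      RingHom.finite_algebraMap.1 (hfin i)
    choose nQ hnQ using hcoker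
    let V : ∀ i, Submodule (Localization.AtPrime (m i)) (B i) := fun i =>
      LinearMap.range (Algebra.linearMap (Localization.AtPrime (m i)) (B i))
    have hQfin : ∀ i, Module.Finite A (B i ⧸ V i) := by
      intro i
      have : Module.Finite (Localization.AtPrime (m i)) (B i ⧸ V i) := inferInstance
      apply finite_of_killed (R := A) (R' := Localization.AtPrime (m i))
        (IsLocalRing.maximalIdeal (Localization.AtPrime (m i)) ^ nQ i)
      · intro s
        obtain ⟨z, hz⟩ := (IsLocalization.AtPrime.equivQuotMaximalIdealPow (m i)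
          (Localization.AtPrime (m i)) (nQ i)).surjective (Ideal.Quotient.mk _ s)
        obtain ⟨a, rfl⟩ := Ideal.Quotient.mk_surjective z
        refine ⟨a, ?_⟩
        rw [IsLocalization.AtPrime.equivQuotMaximalIdealPow_apply_mk, Ideal.Quotient.eq] at hz
        have := (IsLocalRing.maximalIdeal (Localization.AtPrime (m i)) ^ nQ i).neg_mem hz
        rwa [neg_sub] at this
      · intro w hw x
        obtain ⟨b, rfl⟩ := (V i).mkQ_surjective x
        rw [← map_smul, Submodule.mkQ_apply, Submodule.Quotient.mk_eq_zero]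
        rw [← Localization.AtPrime.map_eq_maximalIdeal] at hw
        obtain ⟨s, hs⟩ := hnQ i w hw b
        exact ⟨s, hs⟩
    let ιQ : Cc f (∀ i, B i) →ₗ[A] (∀ i, B i ⧸ V i) :=
      LinearMap.pi fun i => ((V i).mkQ.restrictScalars A) ∘ₗ (LinearMap.proj i) ∘ₗ
        (iota f (∀ i, B i)).toLinearMap
    have hιQ : ∀ c i, ιQ c i = (V i).mkQ ((iota f (∀ i, B i) c) i) := fun c i => rfl
    have hkerι : LinearMap.ker ιQ = LinearMap.range (Algebra.linearMap A (Cc f (∀ i, B i))) := by
      ext c
      rw [LinearMap.mem_ker, LinearMap.mem_range]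
      constructor
      · intro hc
        have h1 : ∀ i, ∃ s : Localization.AtPrime (m i),
            algebraMap _ (B i) s = (iota f (∀ i, B i) c) i := by
          intro i
          have h2 := congrFun hc i
          rw [hιQ, Pi.zero_apply, Submodule.mkQ_apply, Submodule.Quotient.mk_eq_zero] at h2
          exact h2
        choose s hs using h1
        exact hglue c s hs
      · rintro ⟨a, rfl⟩
        funext i
        rw [hιQ, Pi.zero_apply, Algebra.linearMap_apply, iota_algebraMap, Submodule.mkQ_apply,
          Submodule.Quotient.mk_eq_zero]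
        exact ⟨algebraMap A (Localization.AtPrime (m i)) a,
          (IsScalarTower.algebraMap_apply A (Localization.AtPrime (m i)) (B i) a).symm⟩
    have hnoeth : IsNoetherian A (∀ i, B i ⧸ V i) := isNoetherian_of_isNoetherianRing_of_finite A _
    have htop : (⊤ : Submodule A (Cc f (∀ i, B i))).FG := by
      apply Submodule.fg_of_fg_map_of_fg_inf_ker ιQ
      · exact IsNoetherian.noetherian _
      · rw [top_inf_eq, hkerι, LinearMap.range_eq_map]
        exact Submodule.FG.map _ Module.Finite.fg_top
    exact ⟨htop⟩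
  · -- injectivity
    intro hinjφ
    rw [injective_iff_map_eq_zero]
    intro a ha
    rw [algebraMap_Cc_eq_zero_iff] at ha
    obtain ⟨ha1, ha2⟩ := ha
    apply eq_zero_of_tmul_eq_zero (S := PiLoc m) f hq a
    · have h3 : algebraMap A (PiLoc m) a = 0 := by
        funext i
        apply hinjφ i
        show algebraMap (Localization.AtPrime (m i)) (B i)
          (algebraMap A (Localization.AtPrime (m i)) a) =
          algebraMap (Localization.AtPrime (m i)) (B i) 0
        rw [map_zero, ← IsScalarTower.algebraMap_apply]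
        exact congrFun ha1 i
      rw [one_tmul_eq, h3, TensorProduct.zero_tmul]
    · intro j
      obtain ⟨e, he⟩ := ha2 j
      exact ⟨e, by rw [smul_eq_mul]; exact he⟩
  · -- surjectivity
    intro hsurj c
    have h1 : ∀ i, ∃ s : Localization.AtPrime (m i),
        algebraMap _ (B i) s = (iota f (∀ i, B i) c) i := fun i => hsurj i _
    choose s hs using h1
    exact hglue c s hs

end Groth.Agent.Lib.Helper79.AlgGlue
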