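import Mathlib
import Groth.Agent.Lib.Helper79.CanonUFDB
import Groth.Agent.Lib.Helper79.CanonExplicit
import Groth.Agent.Lib.Helper89.CMCatenary
import Groth.Agent.Lib.Helper28.RegularCM
import Groth.Agent.S7703
import Groth.Agent.S0342

set_option autoImplicit false
universe u

namespace Groth.Agent.Lib.Helper79.CanonIdeal

open IsLocalRing CategoryTheory
open scoped Pointwise

section general

variable {A : Type u} [CommRing A] [IsDomain A] {K : Type u} [AddCommGroup K] [Module A K]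

/-- If `x, y` is a regular pair on `K ↪ A` and `xa, ya` lie in the image, so does `a`. -/
theorem mem_range_of_regular_pair (ψ : K →ₗ[A] A) (hψ : Function.Injective ψ) (x y a : A)
    (hx0 : x ≠ 0) (hxa : x * a ∈ LinearMap.range ψ) (hya : y * a ∈ LinearMap.range ψ)
    (hyreg : IsSMulRegular (QuotSMulTop x K) y) : a ∈ LinearMap.range ψ := by
  obtain ⟨k₁, hk₁⟩ := hxa
  obtain ⟨k₂, hk₂⟩ := hya
  have hcomm : y • k₁ = x • k₂ :=
    hψ (by rw [map_smul, map_smul, smul_eq_mul, smul_eq_mul, hk₁, hk₂]; ring)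
  have h0 : (Submodule.Quotient.mk k₁ : QuotSMulTop x K) = 0 := by
    apply hyreg
    change y • (Submodule.Quotient.mk k₁ : QuotSMulTop x K) = y • 0
    rw [smul_zero, ← Submodule.Quotient.mk_smul, hcomm, Submodule.Quotient.mk_eq_zero]
    exact Submodule.smul_mem_pointwise_smul _ _ _ Submodule.mem_top
  rw [Submodule.Quotient.mk_eq_zero, Submodule.mem_smul_pointwise_iff_exists] at h0
  obtain ⟨k₃, -, hk₃⟩ := h0
  refine ⟨k₃, ?_⟩
  have h1 : x * ψ k₃ = x * a := by rw [← smul_eq_mul, ← map_smul, hk₃, hk₁]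
  exact mul_left_cancel₀ hx0 h1

end general

section unmixed

variable {A : Type u} [CommRing A] [IsDomain A] [IsNoetherianRing A] [IsLocalRing A]
  {E : Type u} [AddCommGroup E] [Module A E]
  {K : Type u} [AddCommGroup K] [Module A K] [Module.Finite A K]

/-- The image of a canonical module embedded in a local domain is unmixed of height one. -/
theorem height_eq_one_of_mem_associatedPrimes (n : ℕ) (hn : ringKrullDim A = n)
    (f : ResidueField A →ₗ[A] E) (hf : InjHull.IsInjectiveHull f)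
    (eK : (K →ₗ[A] E) ≃ₗ[A] LocCoh.H (maximalIdeal A) n A) [Nontrivial K]
    (ψ : K →ₗ[A] A) (hψ : Function.Injective ψ) (q : Ideal A)
    (hq : q ∈ associatedPrimes A (A ⧸ LinearMap.range ψ)) : q.height = 1 := by
  classical
  have hcog : ∀ (M : Type u) [AddCommGroup M] [Module A M] (z : M), z ≠ 0 →
      ∃ φ : M →ₗ[A] E, φ z ≠ 0 := fun M _ _ z hz =>
    Groth.Agent.Lib.Helper2.exists_hom_apply_ne_zero hf z hz
  have hmin : minimalPrimes A = {⊥} := IsDomain.minimalPrimes_eq_singleton_bot A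
  have hx_of_ne : ∀ x : A, x ≠ 0 → ∀ Q ∈ minimalPrimes A, x ∉ Q := by
    intro x hx Q hQ
    rw [hmin, Set.mem_singleton_iff] at hQ
    rw [hQ]
    exact hx
  rw [AssociatedPrimes.mem_iff, isAssociatedPrime_iff] at hq
  obtain ⟨hqp, z, hz⟩ := hq
  obtain ⟨a, rfl⟩ := Submodule.Quotient.mk_surjective _ z
  have hmem : ∀ r : A, r ∈ q ↔ r * a ∈ LinearMap.range ψ := by
    intro r
    rw [hz, Submodule.mem_colon_singleton, Submodule.mem_bot, ← Submodule.Quotient.mk_smul,
      Submodule.Quotient.mk_eq_zero, smul_eq_mul]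
  have haJ : a ∉ LinearMap.range ψ := by
    intro ha
    apply hqp.ne_top
    rw [Ideal.eq_top_iff_one, hmem, one_mul]
    exact ha
  obtain ⟨k₁, hk₁⟩ := exists_ne (0 : K)
  set x := ψ k₁ with hx
  have hx0 : x ≠ 0 := fun h => hk₁ (hψ (by rw [← hx, h, map_zero]))
  have hxq : x ∈ q := by
    rw [hmem]
    exact ⟨a • k₁, by rw [map_smul, smul_eq_mul, mul_comm]⟩
  have h1 : q.height ≠ 0 := by
    rw [Ne, Ideal.height_eq_zero_iff, hmin, Set.mem_singleton_iff]
    intro hq0
    apply hx0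
    rw [hq0] at hxq
    exact hxq
  apply le_antisymm _ (Order.one_le_iff_ne_zero.mpr h1)
  by_contra hgt
  have hnot : ∀ Q ∈ (Ideal.span {x}).minimalPrimes, ¬ q ≤ Q := by
    intro Q hQ hle
    have h2 := Ideal.height_le_one_of_isPrincipal_of_mem_minimalPrimes (Ideal.span {x}) Q hQ
    exact hgt ((Ideal.height_mono hle).trans h2)
  obtain ⟨y, hyq, hy⟩ := CanonS2.exists_mem_forall_notMem q _
    (Ideal.finite_minimalPrimes_of_isNoetherianRing A _) (fun Q hQ => hQ.1.1) hnot
  have hn2 : 2 ≤ n := by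
    have h3 := Ideal.height_le_ringKrullDim_of_ne_top hqp.ne_top
    rw [hn] at h3
    by_contra hlt
    apply hgt
    have h4 : (q.height : WithBot ℕ∞) ≤ ((1 : ℕ) : WithBot ℕ∞) :=
      h3.trans (by exact_mod_cast (by omega : n ≤ 1))
    exact_mod_cast h4
  obtain ⟨k, rfl⟩ : ∃ k, n = k + 2 := ⟨n - 2, by omega⟩
  have hann : Module.annihilator A (QuotSMulTop x A) = Ideal.span {x} := by
    rw [Ideal.annihilator_quotient]
    ext r
    rw [Submodule.mem_smul_pointwise_iff_exists, Ideal.mem_span_singleton']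
    constructor
    · rintro ⟨a, -, rfl⟩
      exact ⟨a, by rw [smul_eq_mul, mul_comm]⟩
    · rintro ⟨a, rfl⟩
      exact ⟨a, Submodule.mem_top, by rw [smul_eq_mul, mul_comm]⟩
  have hyreg : IsSMulRegular (QuotSMulTop x K) y :=
    CanonS2.isSMulRegular_quotSMulTop_of_notMem k hn x y (hcog _) eK (hx_of_ne x hx0)
      (by rw [hann]; exact hy)
  exact haJ (mem_range_of_regular_pair ψ hψ x y a hx0 ((hmem x).mp hxq) ((hmem y).mp hyq) hyreg)

end unmixed

section assembly

open Groth.Agent.Lib.Helper79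

/-- For a regular local ring `B` and a prime `p` of height `r` with `B/p` Cohen–Macaulay,
`Ext^r_B(B/p, B)` is either `B/p` or a proper ideal of `B/p` unmixed of height one. -/
theorem ext_equiv_or (B : Type u) [CommRing B] [IsRegularLocalRing B] (p : Ideal B) [p.IsPrime]
    [LocCoh.IsCohenMacaulayLocalRing (B ⧸ p)] (r : ℕ) (hr : p.height = r) :
    Nonempty (Abelian.Ext (ModuleCat.of B (B ⧸ p)) (ModuleCat.of B B) r ≃ₗ[B] (B ⧸ p)) ∨
    ∃ I : Ideal (B ⧸ p), I ≠ ⊤ ∧
      (∀ q ∈ associatedPrimes (B ⧸ p) ((B ⧸ p) ⧸ I), q.height = 1) ∧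
      Nonempty (Abelian.Ext (ModuleCat.of B (B ⧸ p)) (ModuleCat.of B B) r ≃ₗ[B] I) := by
  classical
  have : IsNoetherianRing (B ⧸ p) := inferInstance
  have : IsLocalRing (B ⧸ p) := inferInstance
  have : IsDomain (B ⧸ p) := Ideal.Quotient.isDomain p
  obtain ⟨n, hn⟩ := CanonUFD.exists_ringKrullDim_eq (B ⧸ p)
  obtain ⟨n', hn'⟩ := CanonUFD.exists_ringKrullDim_eq B
  have hd : n + r = n' := by
    have h := Groth.Agent.Lib.Helper89.CMCatenary.ringKrullDim_quotient_add_height B B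
      (Groth.Agent.Lib.Helper28.isCohenMacaulayModule_self_of_isRegularLocalRing B)
      (Groth.Agent.Lib.Helper89.CMCatenary.support_self_eq_univ B) ⟨p, inferInstance⟩
    simp only at h
    rw [hn, hn', hr] at h
    exact_mod_cast h
  obtain ⟨E, _, _, f, hf⟩ := CanonUFD.exists_injectiveHull_residueField (B ⧸ p)
  have : LocCoh.IsGorensteinLocalRing B := Groth.Agent.S0342.result B
  obtain ⟨K, _, _, _, _, hKfin, ⟨eK⟩, ⟨eExt⟩⟩ := CanonExplicit.main_explicit B (B ⧸ p)
    Ideal.Quotient.mk_surjective n n' r hn hn' hd E f hf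
  have := hKfin
  have hEnd := Groth.Agent.S7703.result (B ⧸ p) n hn E f hf K eK
  have hcog : ∀ z : K, z ≠ 0 → ∃ φ : K →ₗ[B ⧸ p] E, φ z ≠ 0 := fun z hz =>
    Groth.Agent.Lib.Helper2.exists_hom_apply_ne_zero hf z hz
  have hmin : minimalPrimes (B ⧸ p) = {⊥} := IsDomain.minimalPrimes_eq_singleton_bot (B ⧸ p)
  have htf : ∀ x : B ⧸ p, x ≠ 0 → IsSMulRegular K x := fun x hx =>
    CanonS2.isSMulRegular_of_notMem_minimalPrimes n hn hcog eK x (by
      intro Q hQ
      rw [hmin, Set.mem_singleton_iff] at hQ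
      rw [hQ]
      exact hx)
  have : Nontrivial K := by
    by_contra hK
    rw [not_nontrivial_iff_subsingleton] at hK
    have h10 : (1 : B ⧸ p) = 0 := hEnd.1 (LinearMap.ext fun k => Subsingleton.elim _ _)
    exact one_ne_zero h10
  obtain ⟨ψ, hψ⟩ := CanonUFD.exists_injective_of_end htf hEnd.2
  by_cases hJ : LinearMap.range ψ = ⊤
  · left
    have hbij : Function.Bijective ψ := ⟨hψ, LinearMap.range_eq_top.mp hJ⟩
    exact ⟨eExt.symm.trans ((LinearEquiv.ofBijective ψ hbij).restrictScalars B)⟩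
  · right
    exact ⟨LinearMap.range ψ, hJ,
      fun q hq => height_eq_one_of_mem_associatedPrimes n hn f hf eK ψ hψ q hq,
      ⟨eExt.symm.trans ((LinearEquiv.ofInjective ψ hψ).restrictScalars B)⟩⟩

end assembly

end Groth.Agent.Lib.Helper79.CanonIdeal
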