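import Mathlib
import Groth.Agent.Lib.Helper60.HL5
import Groth.Agent.Lib.Helper60.LocalCohArtinian
import Groth.Agent.Lib.Helper60.LocalCohLES

/-!
# Annihilators of top local cohomology over a complete local ring (helper79)

For a complete Noetherian local ring `S`, an ideal `J` and a finite module `N` with
`dim N ≤ n`, there is an ideal `𝔞` killing `H^n_J(N)` with `J + 𝔞` primary to the maximal ideal.
-/

set_option autoImplicit false
universe u

namespace Groth.Agent.Lib.Helper79.DM

open CategoryTheory CategoryTheory.Limits Abelian IsLocalRing Groth.Agent.Lib.Helper60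

section Ann

variable {S : Type u} [CommRing S]

/-- scalars killing a module kill its local cohomology -/
lemma smul_lc_eq_zero (J : Ideal S) (i : ℕ) (N : ModuleCat.{u} S) (a : S) (ha : a • 𝟙 N = 0)
    (y : (localCohomology J i).obj N) : a • y = 0 := by
  obtain ⟨n, x, rfl⟩ := lcMk_surj J i N y
  rw [← lcMk_smul, Ext.smul_eq_comp_mk₀, ha, Ext.mk₀_zero, Ext.comp_zero, lcMk_zero]

lemma smul_lc_eq_zero' (J : Ideal S) (i : ℕ) (N : Type u) [AddCommGroup N] [Module S N] (a : S)
    (ha : ∀ x : N, a • x = 0) (y : LocCoh.H J i N) : a • y = 0 := by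
  apply smul_lc_eq_zero J i (ModuleCat.of S N) a _ y
  apply ModuleCat.hom_ext
  apply LinearMap.ext
  intro x
  exact ha x

/-- local cohomology of isomorphic modules -/
lemma subsingleton_lc_of_equiv (J : Ideal S) (i : ℕ) {N N' : Type u} [AddCommGroup N] [Module S N]
    [AddCommGroup N'] [Module S N'] (e : N ≃ₗ[S] N') (h : Subsingleton (LocCoh.H J i N')) :
    Subsingleton (LocCoh.H J i N) := by
  let φ := (localCohomology J i).mapIso e.toModuleIso
  exact (ConcreteCategory.bijective_of_isIso φ.hom).1.subsingleton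

end Ann

section Complete

variable {S : Type u} [CommRing S] [IsLocalRing S] [IsNoetherianRing S]

/-- the property propagated along prime filtrations -/
def Good (J : Ideal S) (n : ℕ) (N : Type u) [AddCommGroup N] [Module S N] : Prop :=
  ∃ (𝔞 : Ideal S) (k : ℕ), (∀ a ∈ 𝔞, ∀ y : LocCoh.H J n N, a • y = 0) ∧
    maximalIdeal S ^ k ≤ J ⊔ 𝔞

omit [IsLocalRing S] [IsNoetherianRing S] in
lemma good_of_subsingleton [IsLocalRing S] (J : Ideal S) (n : ℕ) (N : Type u) [AddCommGroup N]
    [Module S N] (h : Subsingleton (LocCoh.H J n N)) : Good J n N :=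
  ⟨⊤, 0, fun a _ y => Subsingleton.elim _ _, by rw [pow_zero, Ideal.one_eq_top]; exact le_sup_right⟩

/-- a proper ideal all of whose primes are maximal contains a power of the maximal ideal -/
lemma exists_pow_le_or_exists_prime (K : Ideal S) :
    (∃ k : ℕ, maximalIdeal S ^ k ≤ K) ∨
      ∃ 𝔮 : Ideal S, 𝔮.IsPrime ∧ K ≤ 𝔮 ∧ 𝔮 ≠ maximalIdeal S := by
  by_cases h : ∃ 𝔮 : Ideal S, 𝔮.IsPrime ∧ K ≤ 𝔮 ∧ 𝔮 ≠ maximalIdeal S
  · exact Or.inr h
  · left
    have hle : maximalIdeal S ≤ K.radical := by
      rw [Ideal.radical_eq_sInf]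
      apply le_sInf
      rintro 𝔮 ⟨hK, h𝔮⟩
      by_contra hne
      exact h ⟨𝔮, h𝔮, hK, fun heq => hne (by rw [heq])⟩
    exact Ideal.exists_pow_le_of_le_radical_of_fg hle (IsNoetherian.noetherian _)

variable [IsAdicComplete (maximalIdeal S) S]

/-- the case of `S ⧸ p` -/
lemma good_quotient_prime (J : Ideal S) (n : ℕ) (p : Ideal S) [p.IsPrime]
    (hdim : ringKrullDim (S ⧸ p) ≤ (n : WithBot ℕ∞)) : Good J n (S ⧸ p) := by
  rcases lt_or_eq_of_le hdim with hlt | heq
  · apply good_of_subsingleton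
    apply lc_subsingleton_of_supportDim_lt J n (S ⧸ p)
    rwa [Module.supportDim_quotient_eq_ringKrullDim]
  · rcases exists_pow_le_or_exists_prime (J ⊔ p) with ⟨k, hk⟩ | ⟨𝔮, h𝔮prime, h𝔮le, h𝔮ne⟩
    · refine ⟨p, k, fun a ha y => ?_, hk⟩
      apply smul_lc_eq_zero' J n (S ⧸ p) a _ y
      intro x
      obtain ⟨x, rfl⟩ := Ideal.Quotient.mk_surjective x
      rw [Algebra.smul_def, Ideal.Quotient.algebraMap_eq, ← map_mul,
        Ideal.Quotient.eq_zero_iff_mem]
      exact Ideal.mul_mem_right _ _ ha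
    · apply good_of_subsingleton
      have hp : p.IsPrime := inferInstance
      have hTloc : IsLocalRing (S ⧸ p) := isLocalRing_quotient' S p hp.ne_top
      have hTcomp : IsAdicComplete (maximalIdeal (S ⧸ p)) (S ⧸ p) := isAdicComplete_quotient' S p
      have hTdom : IsDomain (S ⧸ p) := Ideal.Quotient.isDomain p
      have hp𝔮 : p ≤ 𝔮 := le_sup_right.trans h𝔮le
      have hker : RingHom.ker (Ideal.Quotient.mk p) ≤ 𝔮 := by rw [Ideal.mk_ker]; exact hp𝔮
      have h𝔮'prime : (𝔮.map (Ideal.Quotient.mk p)).IsPrime :=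
        Ideal.map_isPrime_of_surjective Ideal.Quotient.mk_surjective hker
      have h𝔮'comap : (𝔮.map (Ideal.Quotient.mk p)).comap (Ideal.Quotient.mk p) = 𝔮 := by
        rw [Ideal.comap_map_of_surjective _ Ideal.Quotient.mk_surjective,
          ← RingHom.ker_eq_comap_bot]
        exact sup_eq_left.mpr hker
      have hJ' : J.map (algebraMap S (S ⧸ p)) ≤ 𝔮.map (Ideal.Quotient.mk p) :=
        Ideal.map_mono (le_sup_left.trans h𝔮le)
      have h𝔮'ne : 𝔮.map (Ideal.Quotient.mk p) ≠ maximalIdeal (S ⧸ p) := by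
        intro heq'
        apply h𝔮ne
        rw [← h𝔮'comap, heq']
        have : ((maximalIdeal (S ⧸ p)).comap (Ideal.Quotient.mk p)).IsMaximal :=
          Ideal.comap_isMaximal_of_surjective _ Ideal.Quotient.mk_surjective
        exact IsLocalRing.eq_maximalIdeal this
      have hvan := lc_top_subsingleton_of_complete_domain (S ⧸ p) n heq
        (J.map (algebraMap S (S ⧸ p))) ⟨_, h𝔮'prime, hJ', h𝔮'ne⟩ (S ⧸ p)
      obtain ⟨φ, -⟩ := exists_lc_baseChange (R := S) (R' := S ⧸ p) J n (S ⧸ p)
      exact φ.symm.toEquiv.subsingleton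

/-- **Key annihilator statement** over a complete local ring. -/
theorem good_of_supportDim_le (J : Ideal S) (n : ℕ) (N : Type u) [AddCommGroup N] [Module S N]
    [Module.Finite S N] (hdim : Module.supportDim S N ≤ (n : WithBot ℕ∞)) : Good J n N := by
  revert hdim
  induction ‹Module.Finite S N› using
    IsNoetherianRing.induction_on_isQuotientEquivQuotientPrime S with
  | subsingleton N =>
    intro _
    apply good_of_subsingleton
    refine ⟨fun y z => ?_⟩
    have h1 : ∀ y : LocCoh.H J n N, y = 0 := fun y => by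
      have := smul_lc_eq_zero' J n N 1 (fun x => Subsingleton.elim _ _) y
      rwa [one_smul] at this
    rw [h1 y, h1 z]
  | quotient N p f =>
    intro hdim
    haveI := p.2
    rw [Module.supportDim_eq_of_equiv f, Module.supportDim_quotient_eq_ringKrullDim] at hdim
    obtain ⟨𝔞, k, h1, h2⟩ := good_quotient_prime J n p.1 hdim
    refine ⟨𝔞, k, fun a ha y => ?_, h2⟩
    let φ := (localCohomology J n).mapIso f.toModuleIso
    have h3 : φ.hom.hom (a • y) = 0 := by
      rw [map_smul]
      exact h1 a ha _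
    exact (ConcreteCategory.bijective_of_isIso φ.hom).1 (by rw [h3, map_zero])
  | exact N₁ N₂ N₃ f g hf hg hfg h₁ h₃ =>
    intro hdim
    obtain ⟨𝔞₁, k₁, h11, h12⟩ := h₁ ((Module.supportDim_le_of_injective f hf).trans hdim)
    obtain ⟨𝔞₃, k₃, h31, h32⟩ := h₃ ((Module.supportDim_le_of_surjective g hg).trans hdim)
    refine ⟨𝔞₁ * 𝔞₃, k₁ + k₃, ?_, ?_⟩
    · intro a ha y
      let T : ShortComplex (ModuleCat.{u} S) :=
        ShortComplex.mk (ModuleCat.ofHom f) (ModuleCat.ofHom g) (by
          ext x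
          exact hfg.apply_apply_eq_zero x)
      have hT : T.ShortExact := ModuleCat.shortComplex_shortExact T hfg hf hg
      refine Submodule.mul_induction_on ha ?_ ?_
      · intro a₁ ha₁ a₃ ha₃
        have hz : ((localCohomology J n).map T.g).hom (a₃ • y) = 0 := by
          rw [map_smul]
          exact h31 a₃ ha₃ _
        obtain ⟨x, hx⟩ := lc_exact₂ J hT n (a₃ • y) hz
        rw [mul_smul, ← hx, ← map_smul, h11 a₁ ha₁ x, map_zero]
      · intro a b ha hb
        rw [add_smul, ha, hb, add_zero]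
    · rw [pow_add]
      calc maximalIdeal S ^ k₁ * maximalIdeal S ^ k₃ ≤ (J ⊔ 𝔞₁) * (J ⊔ 𝔞₃) :=
            Ideal.mul_mono h12 h32
        _ ≤ J ⊔ 𝔞₁ * 𝔞₃ := by
          rw [Ideal.sup_mul, Ideal.mul_sup, Ideal.mul_sup]
          refine sup_le (sup_le ?_ ?_) (sup_le ?_ ?_)
          · exact Ideal.mul_le_right.trans le_sup_left
          · exact Ideal.mul_le_left.trans le_sup_left
          · exact Ideal.mul_le_right.trans le_sup_left
          · exact le_sup_right

end Complete

end Groth.Agent.Lib.Helper79.DM
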