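import Mathlib
import Groth.Agent.Lib.Helper60.ExtFG
import Groth.Agent.Lib.Helper2.MatlisComplete

/-!
# `Ext` from a finite module into an Artinian module (helper79)
-/

set_option autoImplicit false
universe u

namespace Groth.Agent.Lib.Helper79.DM

open CategoryTheory CategoryTheory.Limits Abelian IsLocalRing Groth.Agent.Lib.Helper60

section FL

variable {R : Type u} [CommRing R] [IsLocalRing R] [IsNoetherianRing R]

/-- an Artinian module killed by a power of the maximal ideal has finite length -/
theorem isFiniteLength_of_isArtinian_of_pow_smul (k : ℕ) (E : Type u) [AddCommGroup E]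
    [Module R E] [IsArtinian R E] (h : ∀ a ∈ maximalIdeal R ^ k, ∀ x : E, a • x = 0) :
    IsFiniteLength R E := by
  have hart : IsArtinianRing (R ⧸ maximalIdeal R ^ k) :=
    Groth.Agent.Lib.Helper2.isArtinianRing_quot_maximalIdeal_pow R k
  have hM : Module.IsTorsionBySet R E ((maximalIdeal R ^ k : Ideal R) : Set R) := by
    intro x a
    exact h a.1 a.2 x
  letI := hM.module
  have hbij : Function.Bijective hM.semilinearMap := Function.bijective_id
  have h1 : IsArtinian (R ⧸ maximalIdeal R ^ k) E :=
    (hM.semilinearMap.isArtinian_iff_of_bijective hbij).mp inferInstance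
  have h2 : IsNoetherian (R ⧸ maximalIdeal R ^ k) E :=
    ((IsArtinianRing.tfae (R ⧸ maximalIdeal R ^ k) E).out 1 2).mpr h1
  have h3 : IsNoetherian R E :=
    (hM.semilinearMap.isNoetherian_iff_of_bijective hbij).mpr h2
  exact isFiniteLength_iff_isNoetherian_isArtinian.mpr ⟨h3, inferInstance⟩

end FL

section ExtArt

variable {R : Type u} [CommRing R] [IsNoetherianRing R]

/-- `Ext^i(N, A)` is Artinian for `N` finite and `A` Artinian -/
theorem ext_isArtinian (i : ℕ) :
    ∀ (N : Type u) [AddCommGroup N] [Module R N] [Module.Finite R N] (A : ModuleCat.{u} R)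
      [IsArtinian R A], IsArtinian R (Abelian.Ext (ModuleCat.of R N) A i) := by
  induction i with
  | zero =>
    intro N _ _ _ A _
    obtain ⟨n, f, hf⟩ := Module.Finite.exists_fin' R N
    let e1 : Abelian.Ext (ModuleCat.of R N) A 0 ≃ₗ[R] (N →ₗ[R] A) :=
      (Ext.linearEquiv₀ (R := R) (X := ModuleCat.of R N) (Y := A)).trans
        (ModuleCat.homLinearEquiv (S := R) (M := ModuleCat.of R N) (N := A))
    let ψ : (N →ₗ[R] A) →ₗ[R] ((Fin n → R) →ₗ[R] A) := LinearMap.lcomp R A f
    let e2 : ((Fin n → R) →ₗ[R] A) ≃ₗ[R] (Fin n → A) := LinearEquiv.piRing R A (Fin n) R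
    have hψ : Function.Injective ψ := by
      intro g g' hgg'
      apply LinearMap.ext
      intro y
      obtain ⟨x, rfl⟩ := hf y
      exact LinearMap.congr_fun hgg' x
    exact isArtinian_of_injective (e2.toLinearMap ∘ₗ ψ ∘ₗ e1.toLinearMap)
      (e2.injective.comp (hψ.comp e1.injective))
  | succ i ih =>
    intro N _ _ _ A _
    obtain ⟨n, f, hf⟩ := Module.Finite.exists_fin' R N
    have hS := sesOfSurjective_shortExact f hf
    have hproj : Projective (sesOfSurjective f).X₂ :=
      (IsProjective.iff_projective (R := R) (Fin n → R)).mp inferInstance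
    let δ : Abelian.Ext (ModuleCat.of R (LinearMap.ker f)) A i →ₗ[R]
        Abelian.Ext (ModuleCat.of R N) A (i + 1) :=
      { toFun := fun y => hS.extClass.comp y (by omega)
        map_add' := fun y z => Ext.comp_add _ _ _ _
        map_smul' := fun r y => Ext.comp_smul _ _ _ _ }
    have hδ : Function.Surjective δ := by
      intro x
      have h0 : (Ext.mk₀ (sesOfSurjective f).g).comp x (zero_add (i + 1)) = 0 :=
        Ext.eq_zero_of_projective _
      obtain ⟨y, hy⟩ := Ext.contravariant_sequence_exact₃ hS A x h0 (n₀ := i) (by omega)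
      exact ⟨y, hy⟩
    have := ih (LinearMap.ker f) A
    exact isArtinian_of_surjective _ δ hδ

end ExtArt

end Groth.Agent.Lib.Helper79.DM
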