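import Mathlib
import Groth.Agent.Lib.Helper79.DM1
import Groth.Agent.Lib.Helper79.DM2
import Groth.Agent.Lib.Helper60.FlatBC2
import Groth.Agent.Lib.Helper60.ExtBridge2
import Groth.Agent.Lib.Helper29.CplCM
import Groth.Agent.Lib.Helper2.MatlisArtinian
import Groth.Agent.S0543

/-!
# Finite length of `Ext^i(R/I, H^n_I(M))` for `n = dim M` (Delfino–Marley) (helper79)
-/

set_option autoImplicit false
universe u

namespace Groth.Agent.Lib.Helper79.DM

open CategoryTheory CategoryTheory.Limits Abelian IsLocalRing TensorProduct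
  Groth.Agent.Lib.Helper60

section Transfer

variable {R R' : Type u} [CommRing R] [CommRing R'] [Algebra R R']

/-- multiplication by `s : R'` as an `R`-linear endomorphism -/
def mulEnd (A : Type u) [AddCommGroup A] [Module R A] [Module R' A] [IsScalarTower R R' A]
    (s : R') : A →ₗ[R] A where
  toFun a := s • a
  map_add' := smul_add s
  map_smul' r a := by
    simp only [RingHom.id_apply]
    rw [← algebraMap_smul R' r a, ← algebraMap_smul R' r (s • a), smul_smul, smul_smul, mul_comm]

/-- `x` kills `Ext^i(R/I, A)` as soon as `x` lies in `I R' + Ann_{R'}(A)` -/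
theorem smul_ext_eq_zero_of_mem (I : Ideal R) (A : Type u) [AddCommGroup A] [Module R A]
    [Module R' A] [IsScalarTower R R' A] (𝔞 : Ideal R') (h𝔞 : ∀ s ∈ 𝔞, ∀ a : A, s • a = 0)
    (x : R) (hx : algebraMap R R' x ∈ I.map (algebraMap R R') ⊔ 𝔞) (i : ℕ)
    (e : Abelian.Ext (ModuleCat.of R (R ⧸ I)) (ModuleCat.of R A) i) : x • e = 0 := by
  let 𝔡 : Ideal R' :=
    { carrier := {s | ∀ e : Abelian.Ext (ModuleCat.of R (R ⧸ I)) (ModuleCat.of R A) i,
        e.comp (Ext.mk₀ (ModuleCat.ofHom (mulEnd (R := R) A s))) (add_zero i) = 0}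
      add_mem' := by
        intro s t hs ht e
        have : ModuleCat.ofHom (mulEnd (R := R) A (s + t)) =
            ModuleCat.ofHom (mulEnd (R := R) A s) + ModuleCat.ofHom (mulEnd (R := R) A t) := by
          apply ModuleCat.hom_ext
          apply LinearMap.ext
          intro a
          exact add_smul s t a
        rw [this, Ext.mk₀_add, Ext.comp_add, hs e, ht e, add_zero]
      zero_mem' := by
        intro e
        have : ModuleCat.ofHom (mulEnd (R := R) A (0 : R')) = 0 := by
          apply ModuleCat.hom_ext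
          apply LinearMap.ext
          intro a
          exact zero_smul R' a
        rw [this, Ext.mk₀_zero, Ext.comp_zero]
      smul_mem' := by
        intro c s hs e
        have : ModuleCat.ofHom (mulEnd (R := R) A (c • s)) =
            ModuleCat.ofHom (mulEnd (R := R) A s) ≫ ModuleCat.ofHom (mulEnd (R := R) A c) := by
          apply ModuleCat.hom_ext
          apply LinearMap.ext
          intro a
          exact mul_smul c s a
        rw [this, ← Ext.mk₀_comp_mk₀, ← Ext.comp_assoc_of_third_deg_zero, hs e, Ext.zero_comp] }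
  have h1 : 𝔞 ≤ 𝔡 := by
    intro s hs e
    have : ModuleCat.ofHom (mulEnd (R := R) A s) = 0 := by
      apply ModuleCat.hom_ext
      apply LinearMap.ext
      intro a
      exact h𝔞 s hs a
    rw [this, Ext.mk₀_zero, Ext.comp_zero]
  have hsmul : ∀ r : R, ModuleCat.ofHom (mulEnd (R := R) A (algebraMap R R' r)) =
      r • 𝟙 (ModuleCat.of R A) := by
    intro r
    apply ModuleCat.hom_ext
    apply LinearMap.ext
    intro a
    exact algebraMap_smul R' r a
  have h2 : I.map (algebraMap R R') ≤ 𝔡 := by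
    rw [Ideal.map_le_iff_le_comap]
    intro r hr e
    rw [hsmul, ← Ext.smul_eq_comp_mk₀]
    have h3 : r • e = (Ext.mk₀ (r • 𝟙 (ModuleCat.of R (R ⧸ I)))).comp e (zero_add i) := by
      rw [Ext.mk₀_smul, Ext.smul_comp, Ext.mk₀_id_comp]
    have h4 : r • 𝟙 (ModuleCat.of R (R ⧸ I)) = 0 := by
      apply ModuleCat.hom_ext
      apply LinearMap.ext
      intro y
      obtain ⟨y, rfl⟩ := Ideal.Quotient.mk_surjective (y : R ⧸ I)
      show r • (Ideal.Quotient.mk I y) = 0
      rw [Algebra.smul_def, Ideal.Quotient.algebraMap_eq, ← map_mul,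
        Ideal.Quotient.eq_zero_iff_mem]
      exact Ideal.mul_mem_right _ _ hr
    rw [h3, h4, Ext.mk₀_zero, Ext.zero_comp]
  have h5 := (sup_le h2 h1) hx e
  rw [hsmul, ← Ext.smul_eq_comp_mk₀] at h5
  exact h5

end Transfer

section Completion

variable {R : Type u} [CommRing R] [IsLocalRing R] [IsNoetherianRing R]

/-- a power-torsion module is unchanged by tensoring with the completion -/
theorem tensor_mk_bijective (A : Type u) [AddCommGroup A] [Module R A]
    (hA : LocCoh.IsPowerTorsion (maximalIdeal R) A) :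
    Function.Bijective (TensorProduct.mk R (AdicCompletion (maximalIdeal R) R) A 1) := by
  have hff : Module.FaithfullyFlat R (AdicCompletion (maximalIdeal R) R) :=
    Module.FaithfullyFlat.of_flat_of_isLocalHom
  refine ⟨Module.FaithfullyFlat.tensorProduct_mk_injective A, ?_⟩
  intro z
  induction z using TensorProduct.induction_on with
  | zero => exact ⟨0, map_zero _⟩
  | add z w hz hw =>
    obtain ⟨a, rfl⟩ := hz
    obtain ⟨b, rfl⟩ := hw
    exact ⟨a + b, map_add _ _ _⟩
  | tmul s a =>
    obtain ⟨k, hk⟩ := hA a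
    obtain ⟨r, hr⟩ := Submodule.Quotient.mk_surjective _
      (AdicCompletion.eval (maximalIdeal R) R k s)
    have hker : s - AdicCompletion.of (maximalIdeal R) R r ∈
        (maximalIdeal R ^ k • ⊤ : Submodule R (AdicCompletion (maximalIdeal R) R)) := by
      rw [AdicCompletion.pow_smul_top_eq_ker_eval (IsNoetherian.noetherian _), LinearMap.mem_ker,
        map_sub, ← hr, AdicCompletion.eval_of]
      exact sub_self _
    have hzero : ∀ t ∈ (maximalIdeal R ^ k • ⊤ :
        Submodule R (AdicCompletion (maximalIdeal R) R)), t ⊗ₜ[R] a = 0 := by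
      intro t ht
      refine Submodule.smul_induction_on ht ?_ ?_
      · intro x hx t' _
        rw [TensorProduct.smul_tmul, hk x hx, TensorProduct.tmul_zero]
      · intro t₁ t₂ h₁ h₂
        rw [TensorProduct.add_tmul, h₁, h₂, add_zero]
    refine ⟨r • a, ?_⟩
    have h1 : s ⊗ₜ[R] a = (s - AdicCompletion.of (maximalIdeal R) R r) ⊗ₜ[R] a +
        (AdicCompletion.of (maximalIdeal R) R r) ⊗ₜ[R] a := by
      rw [← TensorProduct.add_tmul, sub_add_cancel]
    rw [h1, hzero _ hker, zero_add, TensorProduct.mk_apply, TensorProduct.tmul_smul,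
      TensorProduct.smul_tmul']
    congr 1
    rw [Algebra.smul_def, mul_one]
    rfl

end Completion

section Main

variable (R : Type u) [CommRing R] [IsNoetherianRing R] [IsLocalRing R]

/-- **Delfino–Marley**: `Ext^i(R/I, H^n_I(M))` has finite length for `n = dim M`. -/
theorem isFiniteLength_ext_lc_top (I : Ideal R) (M : Type u) [AddCommGroup M] [Module R M]
    [Module.Finite R M] (n : ℕ) (hn : Module.supportDim R M ≤ (n : WithBot ℕ∞)) (i : ℕ) :
    IsFiniteLength R (Abelian.Ext (ModuleCat.of R (R ⧸ I))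
      (ModuleCat.of R (LocCoh.H I n M)) i) := by
  have hN : IsNoetherianRing (AdicCompletion (maximalIdeal R) R) := Groth.Agent.S0543.result R _
  have hArt : IsArtinian R (LocCoh.H I n M) := lc_top_isArtinian I n M hn
  have hPT : LocCoh.IsPowerTorsion (maximalIdeal R) (LocCoh.H I n M) :=
    Groth.Agent.Lib.Helper2.isPowerTorsion_of_isArtinian _
  have hι := tensor_mk_bijective (LocCoh.H I n M) hPT
  obtain ⟨e⟩ := nonempty_lc_flatBaseChange (R := R) (R' := AdicCompletion (maximalIdeal R) R) I n M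
  have hdim : Module.supportDim (AdicCompletion (maximalIdeal R) R)
      (AdicCompletion (maximalIdeal R) R ⊗[R] M) ≤ (n : WithBot ℕ∞) := by
    rw [Groth.Agent.Lib.Helper29.supportDim_cpl_tensor R M]
    exact hn
  obtain ⟨𝔞, k, h1, h2⟩ := good_of_supportDim_le
    (I.map (algebraMap R (AdicCompletion (maximalIdeal R) R))) n
    (AdicCompletion (maximalIdeal R) R ⊗[R] M) hdim
  -- `𝔞` kills `R' ⊗ A`
  have h𝔞 : ∀ s ∈ 𝔞, ∀ z : AdicCompletion (maximalIdeal R) R ⊗[R] LocCoh.H I n M, s • z = 0 := by
    intro s hs z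
    apply e.injective
    rw [map_smul, map_zero]
    exact h1 s hs _
  -- every `x ∈ 𝔪^k` kills `Ext^i(R/I, R' ⊗ A)`
  have hkill' : ∀ x ∈ maximalIdeal R ^ k,
      ∀ ε : Abelian.Ext (ModuleCat.of R (R ⧸ I))
        (ModuleCat.of R (AdicCompletion (maximalIdeal R) R ⊗[R] LocCoh.H I n M)) i,
        x • ε = 0 := by
    intro x hx ε
    apply smul_ext_eq_zero_of_mem (R' := AdicCompletion (maximalIdeal R) R) I _ 𝔞 h𝔞 x _ i ε
    apply h2
    rw [AdicCompletion.maximalIdeal_eq_map, ← Ideal.map_pow]
    exact Ideal.mem_map_of_mem _ hx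
  -- transport to `A`
  let ιL : LocCoh.H I n M ≃ₗ[R] AdicCompletion (maximalIdeal R) R ⊗[R] LocCoh.H I n M :=
    LinearEquiv.ofBijective (TensorProduct.mk R (AdicCompletion (maximalIdeal R) R) _ 1) hι
  let ιC : ModuleCat.of R (LocCoh.H I n M) ≅
      ModuleCat.of R (AdicCompletion (maximalIdeal R) R ⊗[R] LocCoh.H I n M) := ιL.toModuleIso
  have hkill : ∀ x ∈ maximalIdeal R ^ k,
      ∀ ε : Abelian.Ext (ModuleCat.of R (R ⧸ I)) (ModuleCat.of R (LocCoh.H I n M)) i,
        x • ε = 0 := by
    intro x hx ε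
    have h3 : (x • ε).comp (Ext.mk₀ ιC.hom) (add_zero i) = 0 := by
      rw [Ext.smul_comp]
      exact hkill' x hx _
    have h4 : x • ε = ((x • ε).comp (Ext.mk₀ ιC.hom) (add_zero i)).comp (Ext.mk₀ ιC.inv)
        (add_zero i) := by
      rw [Ext.comp_assoc_of_third_deg_zero, Ext.mk₀_comp_mk₀, Iso.hom_inv_id, Ext.comp_mk₀_id]
    rw [h4, h3, Ext.zero_comp]
  have hArtE : IsArtinian R (Abelian.Ext (ModuleCat.of R (R ⧸ I))
      (ModuleCat.of R (LocCoh.H I n M)) i) :=
    ext_isArtinian i (R ⧸ I) (ModuleCat.of R (LocCoh.H I n M))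
  exact isFiniteLength_of_isArtinian_of_pow_smul k _ hkill

end Main

end Groth.Agent.Lib.Helper79.DM
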