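import Mathlib
import Groth.Agent.Lib.Helper29.DepthRees
import Groth.Agent.Lib.Helper29.DepthLoc2

/-!
# Ideal depth and height under a flat ring map `A → B` with `V(I)` in the image of `Spec B`
-/

set_option autoImplicit false
universe u v

namespace Groth.Agent.Lib.Helper79.DepthFlatIdeal

open RingTheory.Sequence TensorProduct Groth.Agent.Lib.Helper29
open scoped Pointwise

section Zero

variable {R : Type u} [CommRing R]

theorem idealDepth_eq_zero_of_forall_not_isSMulRegular (I : Ideal R) (M : Type v)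
    [AddCommGroup M] [Module R M] (hIM : I • (⊤ : Submodule R M) ≠ ⊤)
    (h : ∀ b ∈ I, ¬ IsSMulRegular M b) : LocCoh.idealDepth I M = 0 := by
  rw [idealDepth_of_smul_top_ne I M hIM]
  simp only [ENat.iSup_eq_zero, Nat.cast_eq_zero, List.length_eq_zero_iff]
  intro rs hrs
  cases rs with
  | nil => rfl
  | cons r rs' =>
    exfalso
    exact h r (hrs.2 r (by simp)) ((isWeaklyRegular_cons_iff M r rs').mp hrs.1).1

theorem not_isSMulRegular_of_idealDepth_eq_zero (I : Ideal R) (M : Type v)
    [AddCommGroup M] [Module R M] (h0 : LocCoh.idealDepth I M = 0) :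
    ∀ b ∈ I, ¬ IsSMulRegular M b := by
  intro b hb hreg
  have := length_le_idealDepth I M [b] ((isWeaklyRegular_singleton_iff M b).mpr hreg)
    (by simpa using hb)
  rw [h0] at this
  simp at this

end Zero

variable (A B : Type u) [CommRing A] [CommRing B] [Algebra A B]

/-- Key lemma: an associated prime `p` of `N` in the image of `Spec B` gives a nonzero element of
`B ⊗ N` killed by `pB` (for `B` flat). -/
theorem exists_ne_zero_smul_eq_zero [IsNoetherianRing A] [Module.Flat A B]
    (N : Type v) [AddCommGroup N] [Module A N] (p : Ideal A)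
    (hp : p ∈ associatedPrimes A N) (q : Ideal B) [hq : q.IsPrime]
    (hqp : q.comap (algebraMap A B) = p) :
    ∃ y : B ⊗[A] N, y ≠ 0 ∧ ∀ b ∈ p.map (algebraMap A B), b • y = 0 := by
  obtain ⟨hpp, f, hf⟩ := (isAssociatedPrime_iff_exists_injective_linearMap p N).1 hp
  have hfB : Function.Injective (f.lTensor B) :=
    Module.Flat.lTensor_preserves_injective_linearMap f hf
  -- the map `A ⧸ p → B ⧸ q`
  let g₀ : A →ₗ[A] B ⧸ q := (Algebra.linearMap A (B ⧸ q))
  have hg₀ : p ≤ LinearMap.ker g₀ := by
    intro a ha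
    rw [LinearMap.mem_ker]
    change algebraMap A (B ⧸ q) a = 0
    rw [IsScalarTower.algebraMap_apply A B (B ⧸ q), Ideal.Quotient.algebraMap_eq,
      Ideal.Quotient.eq_zero_iff_mem]
    rw [← hqp] at ha
    exact ha
  let g : A ⧸ p →ₗ[A] B ⧸ q := Submodule.liftQ p g₀ hg₀
  let G : B ⊗[A] (A ⧸ p) →ₗ[B] B ⧸ q := LinearMap.liftBaseChange B g
  have hz : (1 : B) ⊗ₜ[A] (Ideal.Quotient.mk p 1) ≠ 0 := by
    intro h
    have h1 : G ((1 : B) ⊗ₜ[A] (Ideal.Quotient.mk p 1)) = 1 := by
      rw [LinearMap.liftBaseChange_tmul, one_smul]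
      change g (Submodule.Quotient.mk 1) = 1
      rw [Submodule.liftQ_apply]
      change algebraMap A (B ⧸ q) 1 = 1
      exact map_one _
    rw [h, map_zero] at h1
    have : Nontrivial (B ⧸ q) := Ideal.Quotient.nontrivial_iff.mpr hq.ne_top
    exact zero_ne_one h1
  refine ⟨(1 : B) ⊗ₜ[A] f (Ideal.Quotient.mk p 1), ?_, ?_⟩
  · intro h
    apply hz
    apply hfB
    rw [LinearMap.lTensor_tmul, h, map_zero]
  · have hle : p.map (algebraMap A B) ≤
        LinearMap.ker (LinearMap.toSpanSingleton B (B ⊗[A] N)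
          ((1 : B) ⊗ₜ[A] f (Ideal.Quotient.mk p 1))) := by
      rw [Ideal.map_le_iff_le_comap]
      intro a ha
      change algebraMap A B a ∈ LinearMap.ker _
      rw [LinearMap.mem_ker, LinearMap.toSpanSingleton_apply, algebraMap_smul,
        ← TensorProduct.tmul_smul, ← map_smul]
      have : a • (Ideal.Quotient.mk p 1 : A ⧸ p) = 0 := by
        rw [Algebra.smul_def, map_one, mul_one, Ideal.Quotient.algebraMap_eq,
          Ideal.Quotient.eq_zero_iff_mem]
        exact ha
      rw [this, map_zero, TensorProduct.tmul_zero]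
    intro b hb
    have := hle hb
    rwa [LinearMap.mem_ker, LinearMap.toSpanSingleton_apply] at this

/-- `IG = G` implies `(IB)(B ⊗ G) = B ⊗ G`. -/
theorem map_smul_top_eq_top (I : Ideal A) (G : Type v) [AddCommGroup G] [Module A G]
    (h : I • (⊤ : Submodule A G) = ⊤) :
    (I.map (algebraMap A B)) • (⊤ : Submodule B (B ⊗[A] G)) = ⊤ := by
  have key : ∀ g ∈ I • (⊤ : Submodule A G), ∀ b : B,
      b ⊗ₜ[A] g ∈ (I.map (algebraMap A B)) • (⊤ : Submodule B (B ⊗[A] G)) := by
    intro g hg b
    refine Submodule.smul_induction_on hg ?_ ?_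
    · intro a ha g' _
      have : b ⊗ₜ[A] (a • g') = algebraMap A B a • (b ⊗ₜ[A] g') := by
        rw [algebraMap_smul, TensorProduct.tmul_smul]
      rw [this]
      exact Submodule.smul_mem_smul (Ideal.mem_map_of_mem _ ha) Submodule.mem_top
    · intro g₁ g₂ h₁ h₂
      rw [TensorProduct.tmul_add]
      exact add_mem h₁ h₂
  rw [eq_top_iff]
  intro z _
  induction z using TensorProduct.induction_on with
  | zero => exact zero_mem _
  | tmul b g => exact key g (by rw [h]; exact Submodule.mem_top) b
  | add z₁ z₂ h₁ h₂ => exact add_mem (h₁ Submodule.mem_top) (h₂ Submodule.mem_top)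

variable {A B} in
/-- the hypothesis: `V(I)` lies in the image of `Spec B`. -/
def InImage (I : Ideal A) : Prop :=
  ∀ p : PrimeSpectrum A, I ≤ p.asIdeal →
    ∃ q : PrimeSpectrum B, q.asIdeal.comap (algebraMap A B) = p.asIdeal

/-- `IG ≠ G` implies `(IB)(B ⊗ G) ≠ B ⊗ G`. -/
theorem map_smul_top_ne_top [IsNoetherianRing A] [Module.Flat A B] (I : Ideal A)
    (hI : InImage (B := B) I) (G : Type v) [AddCommGroup G] [Module A G]
    (h : I • (⊤ : Submodule A G) ≠ ⊤) :
    (I.map (algebraMap A B)) • (⊤ : Submodule B (B ⊗[A] G)) ≠ ⊤ := by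
  intro htop
  set N := G ⧸ (I • (⊤ : Submodule A G)) with hN
  have hnt : Nontrivial N := Submodule.Quotient.nontrivial_iff.mpr h
  obtain ⟨p, hp⟩ := associatedPrimes.nonempty A N
  have hpp : p.IsPrime := hp.isPrime
  have hIp : I ≤ p := by
    obtain ⟨-, x, hx⟩ := isAssociatedPrime_iff.mp hp
    intro a ha
    rw [hx, Submodule.mem_colon_singleton, Submodule.mem_bot]
    obtain ⟨g, rfl⟩ := Submodule.Quotient.mk_surjective _ x
    rw [← Submodule.Quotient.mk_smul, Submodule.Quotient.mk_eq_zero]
    exact Submodule.smul_mem_smul ha Submodule.mem_top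
  obtain ⟨q, hq⟩ := hI ⟨p, hpp⟩ hIp
  obtain ⟨y, hy0, -⟩ := exists_ne_zero_smul_eq_zero A B N p hp q.asIdeal hq
  -- `IB` kills `B ⊗ N`
  have hann : ∀ b ∈ I.map (algebraMap A B), ∀ z : B ⊗[A] N, b • z = 0 := by
    have hle : I.map (algebraMap A B) ≤ Module.annihilator B (B ⊗[A] N) := by
      rw [Ideal.map_le_iff_le_comap]
      intro a ha
      rw [Ideal.mem_comap, Module.mem_annihilator]
      intro z
      induction z using TensorProduct.induction_on with
      | zero => simp
      | tmul b n =>
        rw [algebraMap_smul, ← TensorProduct.tmul_smul]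
        obtain ⟨g, rfl⟩ := Submodule.Quotient.mk_surjective _ n
        have : a • (Submodule.Quotient.mk g : N) = 0 := by
          rw [← Submodule.Quotient.mk_smul, Submodule.Quotient.mk_eq_zero]
          exact Submodule.smul_mem_smul ha Submodule.mem_top
        rw [this, TensorProduct.tmul_zero]
      | add z₁ z₂ h₁ h₂ => rw [smul_add, h₁, h₂, add_zero]
    intro b hb z
    exact Module.mem_annihilator.mp (hle hb) z
  let φ : B ⊗[A] G →ₗ[B] B ⊗[A] N :=
    LinearMap.baseChange B (Submodule.mkQ (I • (⊤ : Submodule A G)))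
  have hφ : Function.Surjective φ := by
    have := LinearMap.lTensor_surjective B (Submodule.mkQ_surjective (I • (⊤ : Submodule A G)))
    exact this
  obtain ⟨z, rfl⟩ := hφ y
  apply hy0
  have hz : z ∈ (I.map (algebraMap A B)) • (⊤ : Submodule B (B ⊗[A] G)) := by
    rw [htop]; exact Submodule.mem_top
  refine Submodule.smul_induction_on hz ?_ ?_
  · intro b hb w _
    rw [map_smul]
    exact hann b hb _
  · intro z₁ z₂ h₁ h₂
    rw [map_add, h₁, h₂, add_zero]

/-- Depth comparison, inductive form. -/
theorem natCast_le_idealDepth_iff [IsNoetherianRing A] [IsNoetherianRing B] [Module.Flat A B]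
    (I : Ideal A) (hI : InImage (B := B) I) (n : ℕ) :
    ∀ (G : Type u) [AddCommGroup G] [Module A G] [Module.Finite A G],
      ((n : ℕ∞) ≤ LocCoh.idealDepth I G ↔
        (n : ℕ∞) ≤ LocCoh.idealDepth (I.map (algebraMap A B)) (B ⊗[A] G)) := by
  induction n with
  | zero => intro G _ _ _; simp
  | succ n ih =>
    intro G _ _ _
    by_cases hIG : I • (⊤ : Submodule A G) = ⊤
    · rw [idealDepth_of_smul_top_eq I G hIG,
        idealDepth_of_smul_top_eq _ _ (map_smul_top_eq_top A B I G hIG)]
    have hIBG := map_smul_top_ne_top A B I hI G hIG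
    have hntG : Nontrivial G := by
      by_contra hcon
      rw [not_nontrivial_iff_subsingleton] at hcon
      exact hIG (Subsingleton.elim _ _)
    by_cases h0 : LocCoh.idealDepth I G = 0
    · have hnr := not_isSMulRegular_of_idealDepth_eq_zero I G h0
      obtain ⟨p, hp, hIp⟩ := exists_le_mem_associatedPrimes_of_forall_not_isSMulRegular A G I hnr
      have hpp : p.IsPrime := hp.isPrime
      obtain ⟨q, hq⟩ := hI ⟨p, hpp⟩ hIp
      obtain ⟨y, hy0, hy⟩ := exists_ne_zero_smul_eq_zero A B G p hp q.asIdeal hq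
      have h0' : LocCoh.idealDepth (I.map (algebraMap A B)) (B ⊗[A] G) = 0 := by
        apply idealDepth_eq_zero_of_forall_not_isSMulRegular _ _ hIBG
        intro b hb hreg
        apply hy0
        apply hreg
        change b • y = b • 0
        rw [smul_zero]
        exact hy b (Ideal.map_mono hIp hb)
      rw [h0, h0']
    · have h1 : (1 : ℕ∞) ≤ LocCoh.idealDepth I G := Order.one_le_iff_ne_zero.mpr h0
      have h1' : ((1 : ℕ) : ℕ∞) ≤ LocCoh.idealDepth I G := by exact_mod_cast h1
      rcases (le_idealDepth_iff I G 1).mp h1' with h | ⟨rs, hlen, hmem, hreg⟩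
      · exact absurd h hIG
      match rs, hlen, hmem, hreg with
      | [x], _, hmem, hreg =>
        have hx : x ∈ I := hmem x (by simp)
        have hxreg : IsSMulRegular G x := (isWeaklyRegular_singleton_iff G x).mp hreg
        have hy : algebraMap A B x ∈ I.map (algebraMap A B) := Ideal.mem_map_of_mem _ hx
        have hyreg : IsSMulRegular (B ⊗[A] G) (algebraMap A B x) :=
          hxreg.of_flat_of_isBaseChange (TensorProduct.isBaseChange A G B)
        have e1 := idealDepth_quotSMulTop_add_one I G hx hxreg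
        have e2 := idealDepth_quotSMulTop_add_one (I.map (algebraMap A B)) (B ⊗[A] G) hy hyreg
        have e := QuotSMulTop.algebraMapTensorEquivTensorQuotSMulTop x G B
        have e3 : LocCoh.idealDepth (I.map (algebraMap A B))
            (QuotSMulTop ((algebraMap A B) x) (B ⊗[A] G)) =
            LocCoh.idealDepth (I.map (algebraMap A B)) (B ⊗[A] QuotSMulTop x G) :=
          idealDepth_congr _ e
        rw [← e1, ← e2, e3]
        have := ih (QuotSMulTop x G)
        push_cast
        rw [ENat.add_le_add_iff_right ENat.one_ne_top, ENat.add_le_add_iff_right ENat.one_ne_top]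
        exact this

/-- Depth comparison. -/
theorem idealDepth_baseChange_eq [IsNoetherianRing A] [IsNoetherianRing B] [Module.Flat A B]
    (I : Ideal A) (hI : InImage (B := B) I)
    (G : Type u) [AddCommGroup G] [Module A G] [Module.Finite A G] :
    LocCoh.idealDepth (I.map (algebraMap A B)) (B ⊗[A] G) = LocCoh.idealDepth I G := by
  apply le_antisymm
  · exact ENat.forall_natCast_le_iff_le.mp
      (fun n hn => (natCast_le_idealDepth_iff A B I hI n G).mpr hn)
  · exact ENat.forall_natCast_le_iff_le.mp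
      (fun n hn => (natCast_le_idealDepth_iff A B I hI n G).mp hn)

section Height

variable [IsNoetherianRing A] [IsNoetherianRing B] [Module.Flat A B]

theorem height_comap_le (q : Ideal B) [q.IsPrime] :
    (q.comap (algebraMap A B)).height ≤ q.height := by
  have : q.LiesOver (q.comap (algebraMap A B)) := ⟨rfl⟩
  rw [Ideal.height_eq_height_add_of_liesOver_of_hasGoingDown (q.comap (algebraMap A B)) q]
  exact le_self_add

theorem height_le_height_map (I : Ideal A) : I.height ≤ (I.map (algebraMap A B)).height := by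
  rw [Ideal.height_eq_inf_minimalPrimes (I := I.map (algebraMap A B))]
  refine le_iInf₂ (fun q hq => ?_)
  have : q.IsPrime := hq.1.1
  have h1 : I ≤ q.comap (algebraMap A B) := Ideal.map_le_iff_le_comap.1 hq.1.2
  exact (Ideal.height_mono h1).trans (height_comap_le A B q)

theorem height_map_le (I : Ideal A) (hI : InImage (B := B) I) :
    (I.map (algebraMap A B)).height ≤ I.height := by
  by_cases hItop : I = ⊤
  · subst hItop
    simp [Ideal.map_top]
  obtain ⟨n, hn⟩ := ENat.ne_top_iff_exists.1 (Ideal.height_ne_top hItop)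
  obtain ⟨p, hp, hIp, hph⟩ := Ideal.exists_isPrime_height_eq hn.symm
  obtain ⟨q, hq⟩ := hI ⟨p, hp⟩ hIp
  have hpq : p.map (algebraMap A B) ≤ q.asIdeal := Ideal.map_le_iff_le_comap.2 hq.ge
  obtain ⟨P, hP, hPq⟩ := Ideal.exists_minimalPrimes_le hpq
  have hPprime : P.IsPrime := hP.1.1
  have hle : p ≤ P.under A := Ideal.map_le_iff_le_comap.mp hP.1.2
  have hlo : P.LiesOver (P.under A) := ⟨rfl⟩
  obtain ⟨P₀, hP₀le, hP₀prime, hP₀lo⟩ := Ideal.exists_ideal_le_liesOver_of_le P hle
  have hP₀ : p = P₀.under A := P₀.over_def p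
  have h1 : p.map (algebraMap A B) ≤ P₀ := by
    rw [Ideal.map_le_iff_le_comap]; exact hP₀.le
  have h2 : P ≤ P₀ := hP.2 ⟨hP₀prime, h1⟩ hP₀le
  have h3 : P = P₀ := le_antisymm h2 hP₀le
  have hPlo : P.LiesOver p := h3 ▸ hP₀lo
  have hht := Ideal.height_eq_height_add_of_liesOver_of_hasGoingDown p P
  have hIP : I.map (algebraMap A B) ≤ P := (Ideal.map_mono hIp).trans hP.1.2
  rw [Ideal.minimalPrimes_eq_comap] at hP
  obtain ⟨P', hP', rfl⟩ := hP
  have hP'prime : P'.IsPrime := hP'.1.1
  rw [Ideal.map_comap_of_surjective _ Ideal.Quotient.mk_surjective,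
    Ideal.height_eq_zero_iff.2 hP', add_zero] at hht
  calc (I.map (algebraMap A B)).height
      ≤ (Ideal.comap (Ideal.Quotient.mk (p.map (algebraMap A B))) P').height :=
        Ideal.height_mono hIP
    _ = p.height := hht
    _ = I.height := by rw [hph, hn]

theorem height_map_eq (I : Ideal A) (hI : InImage (B := B) I) :
    (I.map (algebraMap A B)).height = I.height :=
  le_antisymm (height_map_le A B I hI) (height_le_height_map A B I)

end Height

end Groth.Agent.Lib.Helper79.DepthFlatIdeal
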