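import Groth.Agent.Lib.Helper79.InvTwistUniq
import Groth.Agent.Lib.Helper6.LocDual2
import Groth.Agent.Lib.Helper6.UniqDual
import Groth.Agent.Lib.Helper6.HomBC8
import Groth.Agent.Lib.Helper35.ExtFin

/-!
# Dualizing complexes on a connected spectrum differ by an invertible twist and a shift (helper79)

* `exists_global_shift` : on a connected spectrum the local shifts `ω'_q ≅ ω_q[n_q]` are constant.
* `sumComp_id` : if `X_m ≅ Y_m` for all maximal `m` (both dualizing) then `𝟙 X` is a finite sum of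
  composites `X ⟶ Y ⟶ X`.
* `pairing_bijective` : Morita argument, `Hom(X, Y) ⊗ Hom(Y, X) ≃ A`.
* `twistIso` : `X ⊗ P₀ ≅ Y` for `P₀ ≃ Hom(X, Y)`.
* `exists_invertible_shift` : the final statement.
-/

set_option autoImplicit false
set_option linter.unusedSectionVars false
set_option linter.style.haveILetI false
universe u
open CategoryTheory CategoryTheory.Limits DerivedCategory Pretriangulated TensorProduct
  MonoidalCategory
attribute [local instance] HasDerivedCategory.standard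

namespace Groth.Agent.Lib.Helper79.DualUniq

open Groth.Agent.Lib.Helper35 Groth.Agent.Lib.Helper35.FlatBC Groth.Agent.Lib.Helper6
open Groth.Agent.Lib.Helper6.LocDual Groth.Agent.Lib.Helper6.HomBC
open Groth.Agent.Lib.Helper79.InvTwist

section formal

variable {A : Type u} [CommRing A]

section morita

variable {X Y : Dual.D A}

/-- `A ≃ End(X)`. -/
noncomputable def endEquiv (hX : Function.Bijective (fun a : A => a • 𝟙 X)) : A ≃ₗ[A] (X ⟶ X) :=
  LinearEquiv.ofBijective (LinearMap.toSpanSingleton A (X ⟶ X) (𝟙 X)) hX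

@[simp] lemma endEquiv_apply (hX : Function.Bijective (fun a : A => a • 𝟙 X)) (a : A) :
    endEquiv hX a = a • 𝟙 X := rfl

lemma endEquiv_symm_smul (hX : Function.Bijective (fun a : A => a • 𝟙 X)) (h : X ⟶ X) :
    ((endEquiv hX).symm h) • 𝟙 X = h := by
  rw [← endEquiv_apply hX, LinearEquiv.apply_symm_apply]

variable (hX : Function.Bijective (fun a : A => a • 𝟙 X))
  (hY : Function.Bijective (fun a : A => a • 𝟙 Y))

/-- the composition pairing `Hom(X, Y) ⊗ Hom(Y, X) → End(X) ≃ A`. -/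
noncomputable def pairing : (X ⟶ Y) ⊗[A] (Y ⟶ X) →ₗ[A] A :=
  (endEquiv hX).symm.toLinearMap ∘ₗ TensorProduct.lift (Linear.comp X Y X)

lemma pairing_tmul_smul (f : X ⟶ Y) (g : Y ⟶ X) :
    (pairing hX (f ⊗ₜ g)) • 𝟙 X = f ≫ g := by
  simp only [pairing, LinearMap.coe_comp, LinearEquiv.coe_coe, Function.comp_apply,
    TensorProduct.lift.tmul]
  rw [endEquiv_symm_smul]
  rfl

include hY in
/-- Morita: if `𝟙 X` is a sum of composites `X ⟶ Y ⟶ X`, the pairing is bijective. -/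
theorem pairing_bijective {ι : Type} [Fintype ι] (f : ι → (X ⟶ Y)) (g : ι → (Y ⟶ X))
    (hfg : 𝟙 X = ∑ i, f i ≫ g i) : Function.Bijective (pairing hX (Y := Y)) := by
  let z : (X ⟶ Y) ⊗[A] (Y ⟶ X) := ∑ i, f i ⊗ₜ g i
  have hz : pairing hX z = 1 := by
    have h1 : (pairing hX z) • 𝟙 X = (1 : A) • 𝟙 X := by
      simp only [z, map_sum, Finset.sum_smul, pairing_tmul_smul, one_smul]
      exact hfg.symm
    exact hX.1 h1
  have key : ∀ x : (X ⟶ Y) ⊗[A] (Y ⟶ X), x = pairing hX x • z := by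
    intro x
    induction x using TensorProduct.induction_on with
    | zero => simp
    | tmul p n =>
      -- scalars `d i` with `n ≫ f i = d i • 𝟙 Y`
      have hd : ∀ i, ∃ d : A, d • 𝟙 Y = n ≫ f i := fun i => hY.2 _
      choose d hd using hd
      have hn : n = ∑ i, d i • g i := by
        calc n = n ≫ 𝟙 X := (Category.comp_id n).symm
          _ = ∑ i, (n ≫ f i) ≫ g i := by
              rw [hfg, Preadditive.comp_sum]
              simp
          _ = ∑ i, d i • g i := by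
              refine Finset.sum_congr rfl (fun i _ => ?_)
              rw [← hd i, Linear.smul_comp, Category.id_comp]
      have hp : ∀ i, d i • p = pairing hX (p ⊗ₜ n) • f i := by
        intro i
        calc d i • p = p ≫ (d i • 𝟙 Y) := by rw [Linear.comp_smul, Category.comp_id]
          _ = (p ≫ n) ≫ f i := by rw [hd i, Category.assoc]
          _ = (pairing hX (p ⊗ₜ n) • 𝟙 X) ≫ f i := by rw [pairing_tmul_smul]
          _ = pairing hX (p ⊗ₜ n) • f i := by rw [Linear.smul_comp, Category.id_comp]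
      calc p ⊗ₜ[A] n = ∑ i, p ⊗ₜ[A] (d i • g i) := by
            conv_lhs => rw [hn, TensorProduct.tmul_sum]
        _ = ∑ i, (d i • p) ⊗ₜ[A] g i := by
            refine Finset.sum_congr rfl (fun i _ => ?_)
            rw [TensorProduct.tmul_smul, TensorProduct.smul_tmul']
        _ = ∑ i, pairing hX (p ⊗ₜ n) • (f i ⊗ₜ[A] g i) := by
            refine Finset.sum_congr rfl (fun i _ => ?_)
            rw [hp i, TensorProduct.smul_tmul']
        _ = pairing hX (p ⊗ₜ n) • z := by rw [Finset.smul_sum]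
    | add x y hx hy =>
      rw [map_add, add_smul, ← hx, ← hy]
  constructor
  · rw [injective_iff_map_eq_zero]
    intro x hx
    rw [key x, hx, zero_smul]
  · intro a
    exact ⟨a • z, by rw [map_smul, hz, smul_eq_mul, mul_one]⟩

end morita

section evcoev

variable {X Y : Dual.D A} (hX : Function.Bijective (fun a : A => a • 𝟙 X))
  (P₀ : Type u) [AddCommGroup P₀] [Module A P₀] [Module.Flat A P₀]
  (lam : P₀ ≃ₗ[A] (X ⟶ Y))
  {ι : Type} [Fintype ι] (f' : ι → (X ⟶ Y)) (g' : ι → (Y ⟶ X))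
  (hfg : 𝟙 Y = ∑ k, g' k ≫ f' k)

lemma rEquiv_comp_ofHom (Q : Type u) [AddCommGroup Q] [Module A Q] (q : Q) (φ : Q →ₗ[A] A) :
    rEquiv Q q ≫ (ModuleCat.ofHom φ : ModuleCat.of A Q ⟶ 𝟙_ (ModuleCat.{u} A)) =
      (φ q) • 𝟙 (𝟙_ (ModuleCat.{u} A)) := by
  ext
  simp only [ModuleCat.hom_comp, LinearMap.coe_comp, Function.comp_apply, ModuleCat.hom_ofHom,
    ModuleCat.hom_smul, LinearMap.smul_apply]
  rw [rEquiv_hom_apply]
  simp only [smul_eq_mul, one_smul]
  exact (mul_one (φ q)).symm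

lemma ofHom_sum' {M N : Type u} [AddCommGroup M] [Module A M] [AddCommGroup N] [Module A N]
    {κ : Type} [Fintype κ] (φ : κ → (M →ₗ[A] N)) :
    (ModuleCat.ofHom (∑ k, φ k) : ModuleCat.of A M ⟶ ModuleCat.of A N) =
      ∑ k, ModuleCat.ofHom (φ k) := by
  ext x
  simp [ModuleCat.hom_sum]

lemma ofHom_smul' {M N : Type u} [AddCommGroup M] [Module A M] [AddCommGroup N] [Module A N]
    (a : A) (φ : M →ₗ[A] N) :
    (ModuleCat.ofHom (a • φ) : ModuleCat.of A M ⟶ ModuleCat.of A N) =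
      a • ModuleCat.ofHom φ := by
  ext x
  simp [ModuleCat.hom_smul]

/-- the coefficient functionals `h ↦ (h ≫ g' k)` read in `End X = A`. -/
noncomputable def sLin (k : ι) : (X ⟶ Y) →ₗ[A] A :=
  (endEquiv hX).symm.toLinearMap ∘ₗ Linear.rightComp A X (g' k)

lemma sLin_smul (k : ι) (h : X ⟶ Y) : (sLin hX g' k h) • 𝟙 X = h ≫ g' k := by
  simp only [sLin, LinearMap.coe_comp, LinearEquiv.coe_coe, Function.comp_apply,
    Linear.rightComp_apply]
  rw [endEquiv_symm_smul]

include hfg in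
lemma expansion (h : X ⟶ Y) : h = ∑ l, sLin hX g' l h • f' l := by
  calc h = h ≫ 𝟙 Y := (Category.comp_id h).symm
    _ = ∑ l, (h ≫ g' l) ≫ f' l := by
        rw [hfg, Preadditive.comp_sum]
        simp
    _ = ∑ l, sLin hX g' l h • f' l := by
        refine Finset.sum_congr rfl (fun l _ => ?_)
        rw [← sLin_smul hX g' l h, Linear.smul_comp, Category.id_comp]

/-- the functionals on `P₀`. -/
noncomputable def sigma (k : ι) : P₀ →ₗ[A] A := sLin hX g' k ∘ₗ lam.toLinearMap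

/-- the dual basis elements of `P₀`. -/
noncomputable def qel (k : ι) : P₀ := lam.symm (f' k)

include hfg in
lemma dualBasis (p : P₀) : p = ∑ l, sigma hX P₀ lam g' l p • qel P₀ lam f' l := by
  apply lam.injective
  rw [map_sum]
  simp only [map_smul, qel, LinearEquiv.apply_symm_apply]
  exact expansion hX f' g' hfg (lam p)

include hfg in
lemma sum_ofHom_comp_rEquiv :
    ∑ l, (ModuleCat.ofHom (sigma hX P₀ lam g' l) : ModuleCat.of A P₀ ⟶ 𝟙_ (ModuleCat.{u} A)) ≫
      rEquiv P₀ (qel P₀ lam f' l) = 𝟙 (ModuleCat.of A P₀) := by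
  ext p
  have := dualBasis hX P₀ lam f' g' hfg p
  simp only [ModuleCat.hom_id, LinearMap.id_coe, id_eq, ModuleCat.hom_sum,
    LinearMap.coe_sum, Finset.sum_apply, ModuleCat.hom_comp, LinearMap.coe_comp,
    Function.comp_apply, ModuleCat.hom_ofHom]
  conv_rhs => rw [this]
  refine Finset.sum_congr rfl (fun j _ => ?_)
  exact rEquiv_hom_apply P₀ _ _

include hfg in
lemma sum_smul_sigma (l : ι) :
    ∑ k, sLin hX g' l (f' k) • sigma hX P₀ lam g' k = sigma hX P₀ lam g' l := by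
  ext p
  simp only [LinearMap.coe_sum, Finset.sum_apply, LinearMap.smul_apply, smul_eq_mul]
  have h1 := congrArg (sLin hX g' l) (expansion hX f' g' hfg (lam p))
  rw [map_sum] at h1
  simp only [map_smul, smul_eq_mul] at h1
  change _ = sLin hX g' l (lam p)
  rw [h1]
  refine Finset.sum_congr rfl (fun k _ => ?_)
  rw [mul_comm]
  rfl

/-- evaluation `X ⊗ P₀ ⟶ Y`. -/
noncomputable def ev : (tensorRight (ModuleCat.of A P₀)).mapDerivedCategory.obj X ⟶ Y :=
  ∑ k, twistMap X (ModuleCat.of A P₀) (𝟙_ (ModuleCat.{u} A))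
      (ModuleCat.ofHom (sigma hX P₀ lam g' k)) ≫ unitTwistIso.hom.app X ≫ f' k

/-- coevaluation `Y ⟶ X ⊗ P₀`. -/
noncomputable def coev : Y ⟶ (tensorRight (ModuleCat.of A P₀)).mapDerivedCategory.obj X :=
  ∑ k, g' k ≫ unitTwistIso.inv.app X ≫
    twistMap X (𝟙_ (ModuleCat.{u} A)) (ModuleCat.of A P₀) (rEquiv P₀ (qel P₀ lam f' k))

include hfg in
lemma ev_comp_g (l : ι) :
    ev hX P₀ lam f' g' ≫ g' l =
      twistMap X (ModuleCat.of A P₀) (𝟙_ (ModuleCat.{u} A))
        (ModuleCat.ofHom (sigma hX P₀ lam g' l)) ≫ unitTwistIso.hom.app X := by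
  rw [ev, Preadditive.sum_comp]
  have h1 : ∀ k, (twistMap X (ModuleCat.of A P₀) (𝟙_ (ModuleCat.{u} A))
      (ModuleCat.ofHom (sigma hX P₀ lam g' k)) ≫ unitTwistIso.hom.app X ≫ f' k) ≫ g' l =
      twistMap X (ModuleCat.of A P₀) (𝟙_ (ModuleCat.{u} A))
        (ModuleCat.ofHom (sLin hX g' l (f' k) • sigma hX P₀ lam g' k)) ≫
          unitTwistIso.hom.app X := by
    intro k
    rw [Category.assoc, Category.assoc, ← sLin_smul hX g' l (f' k), Linear.comp_smul,
      Linear.comp_smul]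
    erw [Category.comp_id]
    rw [ofHom_smul' (M := P₀) (N := A), map_smul, Linear.smul_comp]
  rw [Finset.sum_congr rfl (fun k _ => h1 k), ← Preadditive.sum_comp, ← map_sum]
  have h2 : (∑ k, (ModuleCat.ofHom (sLin hX g' l (f' k) • sigma hX P₀ lam g' k) :
      ModuleCat.of A P₀ ⟶ 𝟙_ (ModuleCat.{u} A))) =
      ModuleCat.ofHom (sigma hX P₀ lam g' l) := by
    rw [← sum_smul_sigma hX P₀ lam f' g' hfg l]
    exact (ofHom_sum' (M := P₀) (N := A) _).symm
  rw [h2]

include hfg in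
lemma twist_rEquiv_comp_ev (p : P₀) :
    twistMap X (𝟙_ (ModuleCat.{u} A)) (ModuleCat.of A P₀) (rEquiv P₀ p) ≫ ev hX P₀ lam f' g' =
      unitTwistIso.hom.app X ≫ lam p := by
  rw [ev, Preadditive.comp_sum]
  have h1 : ∀ k, twistMap X (𝟙_ (ModuleCat.{u} A)) (ModuleCat.of A P₀) (rEquiv P₀ p) ≫
      twistMap X (ModuleCat.of A P₀) (𝟙_ (ModuleCat.{u} A))
        (ModuleCat.ofHom (sigma hX P₀ lam g' k)) ≫ unitTwistIso.hom.app X ≫ f' k =
      unitTwistIso.hom.app X ≫ (sLin hX g' k (lam p) • f' k) := by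
    intro k
    rw [← Category.assoc, ← twistMap_comp, rEquiv_comp_ofHom, map_smul, twistMap_id,
      Linear.smul_comp, Category.id_comp, Linear.comp_smul]
    rfl
  rw [Finset.sum_congr rfl (fun k _ => h1 k), ← Preadditive.comp_sum,
    ← expansion hX f' g' hfg (lam p)]

include hfg in
/-- **`X ⊗ P₀ ≅ Y`.** -/
noncomputable def twistIso : (tensorRight (ModuleCat.of A P₀)).mapDerivedCategory.obj X ≅ Y where
  hom := ev hX P₀ lam f' g'
  inv := coev P₀ lam f' g'
  hom_inv_id := by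
    rw [coev, Preadditive.comp_sum]
    have h1 : ∀ k, ev hX P₀ lam f' g' ≫ g' k ≫ unitTwistIso.inv.app X ≫
        twistMap X (𝟙_ (ModuleCat.{u} A)) (ModuleCat.of A P₀) (rEquiv P₀ (qel P₀ lam f' k)) =
        twistMap X (ModuleCat.of A P₀) (ModuleCat.of A P₀)
          ((ModuleCat.ofHom (sigma hX P₀ lam g' k) : ModuleCat.of A P₀ ⟶ 𝟙_ (ModuleCat.{u} A)) ≫
            rEquiv P₀ (qel P₀ lam f' k)) := by
      intro k
      rw [← Category.assoc, ev_comp_g hX P₀ lam f' g' hfg k, Category.assoc,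
        Iso.hom_inv_id_app_assoc, ← twistMap_comp]
    rw [Finset.sum_congr rfl (fun k _ => h1 k), ← map_sum,
      sum_ofHom_comp_rEquiv hX P₀ lam f' g' hfg, twistMap_id]
  inv_hom_id := by
    rw [coev, Preadditive.sum_comp]
    have h1 : ∀ k, (g' k ≫ unitTwistIso.inv.app X ≫
        twistMap X (𝟙_ (ModuleCat.{u} A)) (ModuleCat.of A P₀) (rEquiv P₀ (qel P₀ lam f' k))) ≫
          ev hX P₀ lam f' g' = g' k ≫ f' k := by
      intro k
      rw [Category.assoc, Category.assoc, twist_rEquiv_comp_ev hX P₀ lam f' g' hfg,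
        Iso.inv_hom_id_app_assoc, qel, LinearEquiv.apply_symm_apply]
    rw [Finset.sum_congr rfl (fun k _ => h1 k), ← hfg]

end evcoev


end formal

variable {A : Type u} [CommRing A] [IsNoetherianRing A]

section local_

variable (ω ω' : Dual.D A) (hω : Dual.IsDualizing A ω) (hω' : Dual.IsDualizing A ω')

include hω hω' in
lemma exists_local_shift (q : Ideal A) [q.IsPrime] :
    ∃ n : ℤ, Nonempty (Gat q ω' ≅ (Gat q ω)⟦n⟧) := by
  haveI : IsNoetherianRing (Localization.AtPrime q) :=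
    IsLocalization.isNoetherianRing q.primeCompl (Localization.AtPrime q) inferInstance
  exact UniqDual.exists_iso_shift (Gat q ω) (Gat q ω') (isDualizing_Gat q ω hω)
    (isDualizing_Gat q ω' hω')

include hω hω' in
/-- `A_q ⊗ Hom(ω, ω'[i]) ≃ Hom(ω_q, ω_q[n + i])` when `ω'_q ≅ ω_q[n]`. -/
lemma nonempty_equiv_local (q : Ideal A) [q.IsPrime] (n : ℤ)
    (e : Gat q ω' ≅ (Gat q ω)⟦n⟧) (i : ℤ) :
    Nonempty ((Localization.AtPrime q) ⊗[A] (ω ⟶ ω'⟦i⟧) ≃ (Gat q ω ⟶ (Gat q ω)⟦n + i⟧)) := by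
  obtain ⟨a', b', hge', hle', hab'⟩ := isDualizing_bounds hω'
  haveI : (ω'⟦i⟧).IsGE (a' - i) := TStructure.t.isGE_shift ω' a' i (a' - i) (by omega)
  have hb := bijective_Phi_of_isPC (B := Localization.AtPrime q) ω (ω'⟦i⟧) (a' - i)
    (isDualizing_isPC hω _)
  have e1 : (Localization.AtPrime q) ⊗[A] (ω ⟶ ω'⟦i⟧) ≃
      (Gat q ω ⟶ (G A (Localization.AtPrime q)).obj (ω'⟦i⟧)) := Equiv.ofBijective _ hb
  have e2 : (Gat q ω ⟶ (G A (Localization.AtPrime q)).obj (ω'⟦i⟧)) ≃
      (Gat q ω ⟶ (Gat q ω)⟦n + i⟧) :=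
    Iso.homCongr (Iso.refl _) (GShiftIso (B := Localization.AtPrime q) ω' i ≪≫
      (shiftFunctor _ i).mapIso e ≪≫
      ((shiftFunctorAdd' (Dual.D (Localization.AtPrime q)) n i (n + i) rfl).app (Gat q ω)).symm)
  exact ⟨e1.trans e2⟩

include hω hω' in
lemma subsingleton_tensor_hom_iff (q : Ideal A) [q.IsPrime] (n : ℤ)
    (e : Gat q ω' ≅ (Gat q ω)⟦n⟧) (i : ℤ) :
    Subsingleton ((Localization.AtPrime q) ⊗[A] (ω ⟶ ω'⟦i⟧)) ↔ n + i ≠ 0 := by
  haveI : IsNoetherianRing (Localization.AtPrime q) :=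
    IsLocalization.isNoetherianRing q.primeCompl (Localization.AtPrime q) inferInstance
  obtain ⟨eq⟩ := nonempty_equiv_local ω ω' hω hω' q n e i
  have hd := isDualizing_Gat q ω hω
  rw [eq.subsingleton_congr]
  constructor
  · intro hs h0
    rw [h0] at hs
    -- `End(ω_q)` is nontrivial
    have e0 : (Gat q ω ⟶ (Gat q ω)⟦(0 : ℤ)⟧) ≃ (Gat q ω ⟶ Gat q ω) :=
      Iso.homCongr (Iso.refl _) ((shiftFunctorZero (Dual.D (Localization.AtPrime q)) ℤ).app _)
    have hs' : Subsingleton (Gat q ω ⟶ Gat q ω) := e0.symm.subsingleton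
    have h1 : (1 : Localization.AtPrime q) • 𝟙 (Gat q ω) =
        (0 : Localization.AtPrime q) • 𝟙 (Gat q ω) := Subsingleton.elim _ _
    exact one_ne_zero (hd.toEnd_bijective.1 h1)
  · intro hne
    exact hd.ext_self_subsingleton _ hne

end local_

section global

variable (ω ω' : Dual.D A) (hω : Dual.IsDualizing A ω) (hω' : Dual.IsDualizing A ω')

include hω hω' in
lemma finite_hom (i : ℤ) : Module.Finite A (ω ⟶ ω'⟦i⟧) := by
  obtain ⟨a', b', hab'⟩ := hω'.finite_injective_dimension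
  have hIA : KL.IA a' b' ω' :=
    ((KL.IA_tfae ω' a' b').out 1 0).1 (fun (N : ModuleCat.{u} A) i hi => hab' N i hi)
  exact KL.finite_hom_shift ω ω' hω.finite_cohomology hω'.finite_cohomology
    ⟨a', b', (KL.IA_iff a' b' ω').1 hIA⟩ i

include hω hω' in
lemma exists_range : ∃ lo hi : ℤ, ∀ i : ℤ, (i < lo ∨ hi < i) → Subsingleton (ω ⟶ ω'⟦i⟧) := by
  obtain ⟨a, b, hge, hle, -⟩ := isDualizing_bounds hω
  obtain ⟨a', b', hab'⟩ := hω'.finite_injective_dimension
  have hIA : KL.IA a' b' ω' :=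
    ((KL.IA_tfae ω' a' b').out 1 0).1 (fun (N : ModuleCat.{u} A) i hi => hab' N i hi)
  have hge' : ω'.IsGE a' := hIA.isGE
  refine ⟨a' - b, b' - a, fun i hi => ?_⟩
  rcases hi with hi | hi
  · haveI : (ω'⟦i⟧).IsGE (a' - i) := TStructure.t.isGE_shift ω' a' i (a' - i) (by omega)
    exact ⟨fun f g => (TStructure.t.zero f b (a' - i) (by omega)).trans
      (TStructure.t.zero g b (a' - i) (by omega)).symm⟩
  · have hIAi : KL.IA (a' - i) (b' - i) (ω'⟦i⟧) := hIA.shift i
    haveI : ω.IsGE (b' - i + 1) := TStructure.t.isGE_of_ge ω (b' - i + 1) a (by omega)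
    exact ⟨fun f g => (KL.hom_eq_zero_of_injAmp _ _ _ hIAi ω f).trans
      (KL.hom_eq_zero_of_injAmp _ _ _ hIAi ω g).symm⟩

/-- the local shift at a prime. -/
noncomputable def locShift (q : PrimeSpectrum A) : ℤ :=
  Classical.choose (exists_local_shift ω ω' hω hω' q.asIdeal)

lemma locShift_spec (q : PrimeSpectrum A) :
    Nonempty (Gat q.asIdeal ω' ≅ (Gat q.asIdeal ω)⟦locShift ω ω' hω hω' q⟧) :=
  Classical.choose_spec (exists_local_shift ω ω' hω hω' q.asIdeal)

lemma mem_support_iff (q : PrimeSpectrum A) (i : ℤ) :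
    q ∈ Module.support A (ω ⟶ ω'⟦i⟧) ↔ locShift ω ω' hω hω' q + i = 0 := by
  obtain ⟨e⟩ := locShift_spec ω ω' hω hω' q
  have h1 := subsingleton_tensor_hom_iff ω ω' hω hω' q.asIdeal _ e i
  rw [Module.mem_support_iff, ← not_subsingleton_iff_nontrivial,
    (LocalizedModule.equivTensorProduct q.asIdeal.primeCompl (ω ⟶ ω'⟦i⟧)).toEquiv.subsingleton_congr]
  change ¬ Subsingleton ((Localization.AtPrime q.asIdeal) ⊗[A] (ω ⟶ ω'⟦i⟧)) ↔ _
  rw [h1]
  exact not_not

/-- **Constancy of the local shift** on a connected spectrum. -/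
theorem exists_global_shift [ConnectedSpace (PrimeSpectrum A)] :
    ∃ i₀ : ℤ, ∀ q : PrimeSpectrum A, locShift ω ω' hω hω' q = -i₀ := by
  obtain ⟨lo, hi, hrange⟩ := exists_range ω ω' hω hω'
  let f : PrimeSpectrum A → ℤ := fun q => -locShift ω ω' hω hω' q
  have hfib : ∀ i : ℤ, f ⁻¹' {i} = Module.support A (ω ⟶ ω'⟦i⟧) := by
    intro i
    ext q
    rw [mem_support_iff ω ω' hω hω']
    simp only [f, Set.mem_preimage, Set.mem_singleton_iff]
    constructor <;> intro h <;> omega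
  have hclosed : ∀ i : ℤ, IsClosed (f ⁻¹' {i}) := by
    intro i
    rw [hfib]
    haveI := finite_hom ω ω' hω hω' i
    exact Module.isClosed_support
  have hmem : ∀ q, f q ∈ Finset.Icc lo hi := by
    intro q
    rw [Finset.mem_Icc]
    by_contra hcon
    have hout : f q < lo ∨ hi < f q := by omega
    have hs := hrange (f q) hout
    have hq : q ∈ f ⁻¹' {f q} := rfl
    rw [hfib] at hq
    rw [Module.mem_support_iff] at hq
    exact (not_subsingleton_iff_nontrivial.2 hq) inferInstance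
  have hlc : IsLocallyConstant f := by
    rw [IsLocallyConstant.iff_isOpen_fiber]
    intro i
    have : f ⁻¹' {i} = (⋃ j ∈ (Finset.Icc lo hi).erase i, f ⁻¹' {j})ᶜ := by
      ext q
      simp only [Set.mem_preimage, Set.mem_singleton_iff, Set.mem_compl_iff, Set.mem_iUnion,
        Finset.mem_erase, exists_prop, not_exists, not_and]
      constructor
      · intro h j hj hq
        exact hj.1 (hq.symm.trans h)
      · intro h
        by_contra hne
        exact h (f q) ⟨hne, hmem q⟩ rfl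
    rw [this, isOpen_compl_iff]
    exact Set.Finite.isClosed_biUnion (Finset.finite_toSet _) (fun j _ => hclosed j)
  obtain ⟨i₀, hi₀⟩ := hlc.exists_eq_const
  refine ⟨i₀, fun q => ?_⟩
  have := congrFun hi₀ q
  simp only [f, Function.const_apply] at this
  omega

end global


section sumComp

variable (X Y : Dual.D A)

/-- `h : X ⟶ X` is a finite sum of morphisms factoring through `Y`. -/
def SumComp (h : X ⟶ X) : Prop :=
  ∃ (ι : Type) (_ : Fintype ι) (f : ι → (X ⟶ Y)) (g : ι → (Y ⟶ X)), h = ∑ i, f i ≫ g i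

variable {X Y}

lemma SumComp.zero : SumComp X Y 0 :=
  ⟨PEmpty, inferInstance, PEmpty.elim, PEmpty.elim, by simp⟩

lemma SumComp.comp (f : X ⟶ Y) (g : Y ⟶ X) : SumComp X Y (f ≫ g) :=
  ⟨Unit, inferInstance, fun _ => f, fun _ => g, by simp⟩

lemma SumComp.add {h h' : X ⟶ X} (H : SumComp X Y h) (H' : SumComp X Y h') :
    SumComp X Y (h + h') := by
  obtain ⟨ι, _, f, g, rfl⟩ := H
  obtain ⟨ι', _, f', g', rfl⟩ := H'
  exact ⟨ι ⊕ ι', inferInstance, Sum.elim f f', Sum.elim g g', by simp [Fintype.sum_sum_type]⟩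

lemma SumComp.smul (a : A) {h : X ⟶ X} (H : SumComp X Y h) : SumComp X Y (a • h) := by
  obtain ⟨ι, _, f, g, rfl⟩ := H
  exact ⟨ι, inferInstance, fun i => a • f i, g, by simp [Finset.smul_sum]⟩

variable (X Y)

/-- The ideal of scalars `a` such that `a • 𝟙 X` is a sum of morphisms factoring through `Y`. -/
def traceIdeal : Ideal A where
  carrier := {a | SumComp X Y (a • 𝟙 X)}
  add_mem' := fun {a b} ha hb => by
    change SumComp X Y ((a + b) • 𝟙 X)
    rw [add_smul]
    exact ha.add hb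
  zero_mem' := by
    change SumComp X Y ((0 : A) • 𝟙 X)
    rw [zero_smul]
    exact SumComp.zero
  smul_mem' := fun c {a} ha => by
    change SumComp X Y ((c • a) • 𝟙 X)
    rw [smul_eq_mul, mul_smul]
    exact ha.smul c

lemma mem_traceIdeal (a : A) : a ∈ traceIdeal X Y ↔ SumComp X Y (a • 𝟙 X) := Iff.rfl

variable (hX : Dual.IsDualizing A X) (hY : Dual.IsDualizing A Y)

include hX in
/-- composites of base-changed maps are scalars in the extended trace ideal. -/
lemma Phi_comp_Phi (B : Type u) [CommRing B] [Algebra A B] [Module.Flat A B]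
    (x : B ⊗[A] (X ⟶ Y)) (y : B ⊗[A] (Y ⟶ X)) :
    ∃ β ∈ (traceIdeal X Y).map (algebraMap A B),
      Phi A B X Y x ≫ Phi A B Y X y = β • 𝟙 ((G A B).obj X) := by
  induction x using TensorProduct.induction_on with
  | zero => exact ⟨0, Ideal.zero_mem _, by simp⟩
  | tmul b f =>
    induction y using TensorProduct.induction_on with
    | zero => exact ⟨0, Ideal.zero_mem _, by simp⟩
    | tmul b' g =>
      obtain ⟨a, ha⟩ := hX.toEnd_bijective.2 (f ≫ g)
      have ha' : a • 𝟙 X = f ≫ g := ha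
      have hmem : a ∈ traceIdeal X Y := by
        rw [mem_traceIdeal, ha']
        exact SumComp.comp f g
      refine ⟨b * b' * algebraMap A B a,
        Ideal.mul_mem_left _ _ (Ideal.mem_map_of_mem _ hmem), ?_⟩
      rw [Phi_tmul, Phi_tmul, Linear.smul_comp, Linear.comp_smul, ← Functor.map_comp, ← ha',
        G_map_smul_id, smul_smul, smul_smul]
    | add y₁ y₂ h₁ h₂ =>
      obtain ⟨β₁, hβ₁, e₁⟩ := h₁
      obtain ⟨β₂, hβ₂, e₂⟩ := h₂
      exact ⟨β₁ + β₂, Ideal.add_mem _ hβ₁ hβ₂, by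
        rw [map_add, Preadditive.comp_add, e₁, e₂, add_smul]⟩
  | add x₁ x₂ h₁ h₂ =>
    obtain ⟨β₁, hβ₁, e₁⟩ := h₁
    obtain ⟨β₂, hβ₂, e₂⟩ := h₂
    exact ⟨β₁ + β₂, Ideal.add_mem _ hβ₁ hβ₂, by
      rw [map_add, Preadditive.add_comp, e₁, e₂, add_smul]⟩

include hX hY in
/-- **Local isomorphisms glue to a partition of the identity.** -/
theorem sumComp_id (hloc : ∀ (m : Ideal A) [m.IsMaximal], Nonempty (Gat m X ≅ Gat m Y)) :
    SumComp X Y (𝟙 X) := by
  have htop : traceIdeal X Y = ⊤ := by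
    by_contra hne
    obtain ⟨m, hm, hle⟩ := Ideal.exists_le_maximal _ hne
    haveI := hm
    haveI : IsNoetherianRing (Localization.AtPrime m) :=
      IsLocalization.isNoetherianRing m.primeCompl (Localization.AtPrime m) inferInstance
    obtain ⟨θ⟩ := hloc m
    obtain ⟨a, b, hgeX, hleX, -⟩ := isDualizing_bounds hX
    obtain ⟨a', b', hgeY, hleY, -⟩ := isDualizing_bounds hY
    have hb₁ := bijective_Phi_of_isPC (B := Localization.AtPrime m) X Y a' (isDualizing_isPC hX _)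
    have hb₂ := bijective_Phi_of_isPC (B := Localization.AtPrime m) Y X a (isDualizing_isPC hY _)
    obtain ⟨x, hx⟩ := hb₁.2 θ.hom
    obtain ⟨y, hy⟩ := hb₂.2 θ.inv
    obtain ⟨β, hβ, hβe⟩ := Phi_comp_Phi X Y hX (Localization.AtPrime m) x y
    rw [hx, hy, θ.hom_inv_id] at hβe
    have hd := isDualizing_Gat m X hX
    have h1 : (1 : Localization.AtPrime m) • 𝟙 (Gat m X) = β • 𝟙 (Gat m X) := by
      rw [one_smul]; exact hβe
    have hβ1 : (1 : Localization.AtPrime m) = β := hd.toEnd_bijective.1 h1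
    have hβm : β ∈ IsLocalRing.maximalIdeal (Localization.AtPrime m) := by
      rw [← Localization.AtPrime.map_eq_maximalIdeal]
      exact Ideal.map_mono hle hβ
    rw [← hβ1] at hβm
    exact (Ideal.ne_top_iff_one _).1 (IsLocalRing.maximalIdeal.isMaximal _).ne_top hβm
  have h1 : (1 : A) ∈ traceIdeal X Y := by rw [htop]; trivial
  rw [mem_traceIdeal, one_smul] at h1
  exact h1

end sumComp


section final

open Groth.Agent.Lib.Helper79.InvTwist

/-- **Two dualizing complexes on a connected spectrum differ by an invertible twist and a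
shift.** -/
theorem exists_invertible_shift [ConnectedSpace (PrimeSpectrum A)] (ω ω' : Dual.D A)
    (hω : Dual.IsDualizing A ω) (hω' : Dual.IsDualizing A ω') :
    ∃ (P : ModuleCat.{u} A) (_ : Module.Invertible A P) (n : ℤ),
      ∀ [DRing.HasLTensor A P], Nonempty (ω' ≅ ((DRing.LTensor A P).obj ω)⟦n⟧) := by
  obtain ⟨i₀, hi₀⟩ := exists_global_shift ω ω' hω hω'
  have hY : Dual.IsDualizing A (ω'⟦i₀⟧) := InvTwist.isDualizing_shift ω' hω' i₀
  have hloc : ∀ (m : Ideal A) [m.IsMaximal], Nonempty (Gat m ω ≅ Gat m (ω'⟦i₀⟧)) := by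
    intro m hm
    obtain ⟨e⟩ := locShift_spec ω ω' hω hω' ⟨m, hm.isPrime⟩
    rw [hi₀] at e
    change Gat m ω' ≅ (Gat m ω)⟦-i₀⟧ at e
    exact ⟨(GShiftIso (B := Localization.AtPrime m) ω' i₀ ≪≫
      (shiftFunctor _ i₀).mapIso e ≪≫
      (shiftFunctorCompIsoId (Dual.D (Localization.AtPrime m)) (-i₀) i₀ (by omega)).app
        (Gat m ω)).symm⟩
  have h1 := sumComp_id ω (ω'⟦i₀⟧) hω hY hloc
  have h2 := sumComp_id (ω'⟦i₀⟧) ω hY hω (fun m _ => (hloc m).map Iso.symm)
  obtain ⟨ι, _, f, g, hfg⟩ := h1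
  obtain ⟨ι', _, f'', g'', hfg'⟩ := h2
  have hbij := pairing_bijective hω.toEnd_bijective hY.toEnd_bijective f g hfg
  let e : (ω ⟶ ω'⟦i₀⟧) ⊗[A] (ω'⟦i₀⟧ ⟶ ω) ≃ₗ[A] A := LinearEquiv.ofBijective _ hbij
  haveI : Module.Invertible A (ω ⟶ ω'⟦i₀⟧) := Module.Invertible.left e
  obtain ⟨n, π, hπ⟩ := Module.Finite.exists_fin' A (ω ⟶ ω'⟦i₀⟧)
  let lam : ((Fin n → A) ⧸ LinearMap.ker π) ≃ₗ[A] (ω ⟶ ω'⟦i₀⟧) :=
    π.quotKerEquivOfSurjective hπ
  haveI : Module.Invertible A ((Fin n → A) ⧸ LinearMap.ker π) :=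
    Module.Invertible.congr lam.symm
  refine ⟨ModuleCat.of A ((Fin n → A) ⧸ LinearMap.ker π), inferInstance, -i₀, ?_⟩
  intro _
  have iso1 := twistIso hω.toEnd_bijective ((Fin n → A) ⧸ LinearMap.ker π) lam g'' f'' hfg'
  exact ⟨((shiftFunctorCompIsoId (Dual.D A) i₀ (-i₀) (by omega)).app ω').symm ≪≫
    (shiftFunctor (Dual.D A) (-i₀)).mapIso iso1.symm ≪≫
    (shiftFunctor (Dual.D A) (-i₀)).mapIso
      ((ltensorIso A (ModuleCat.of A ((Fin n → A) ⧸ LinearMap.ker π))).app ω).symm⟩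

end final

end Groth.Agent.Lib.Helper79.DualUniq
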