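import Mathlib

/-!
# Exact functors and derived categories: composition, identity, equivalences (helper79)

* `mapDerivedCategoryCompIso F G H e` : for exact functors and `e : F ⋙ G ≅ H`,
  `F.mapDerivedCategory ⋙ G.mapDerivedCategory ≅ H.mapDerivedCategory`.
* `mapDerivedCategoryIdIso` : `(𝟭 C).mapDerivedCategory ≅ 𝟭 (DerivedCategory C)`.
* `mapDerivedCategoryEquivalence F G η ε` : the equivalence of derived categories induced by a pair
  of mutually inverse exact functors.
-/

set_option autoImplicit false
universe w₁ w₂ w₃ v₁ v₂ v₃ u₁ u₂ u₃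
open CategoryTheory Category Limits

namespace Groth.Agent.Lib.Helper79.ExactEquivD

variable {C₁ : Type u₁} [Category.{v₁} C₁] [Abelian C₁] [HasDerivedCategory.{w₁} C₁]
  {C₂ : Type u₂} [Category.{v₂} C₂] [Abelian C₂] [HasDerivedCategory.{w₂} C₂]
  {C₃ : Type u₃} [Category.{v₃} C₃] [Abelian C₃] [HasDerivedCategory.{w₃} C₃]

section comp

variable (F : C₁ ⥤ C₂) [F.Additive] [PreservesFiniteLimits F] [PreservesFiniteColimits F]
  (G : C₂ ⥤ C₃) [G.Additive] [PreservesFiniteLimits G] [PreservesFiniteColimits G]
  (H : C₁ ⥤ C₃) [H.Additive] [PreservesFiniteLimits H] [PreservesFiniteColimits H]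

/-- The composition of the induced functors is induced by the composition of the functors on
complexes. -/
noncomputable def compFactors :
    DerivedCategory.Q ⋙ (F.mapDerivedCategory ⋙ G.mapDerivedCategory) ≅
      (F.mapHomologicalComplex (ComplexShape.up ℤ) ⋙
        G.mapHomologicalComplex (ComplexShape.up ℤ)) ⋙ DerivedCategory.Q :=
  (Functor.associator _ _ _).symm ≪≫ Functor.isoWhiskerRight F.mapDerivedCategoryFactors _ ≪≫
    Functor.associator _ _ _ ≪≫ Functor.isoWhiskerLeft _ G.mapDerivedCategoryFactors ≪≫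
      (Functor.associator _ _ _).symm

/-- `F.mapDerivedCategory ⋙ G.mapDerivedCategory ≅ H.mapDerivedCategory` when `F ⋙ G ≅ H`. -/
noncomputable def mapDerivedCategoryCompIso (e : F ⋙ G ≅ H) :
    F.mapDerivedCategory ⋙ G.mapDerivedCategory ≅ H.mapDerivedCategory :=
  letI : Localization.Lifting DerivedCategory.Q
      (HomologicalComplex.quasiIso C₁ (ComplexShape.up ℤ))
      ((F.mapHomologicalComplex (ComplexShape.up ℤ) ⋙
        G.mapHomologicalComplex (ComplexShape.up ℤ)) ⋙ DerivedCategory.Q)
      (F.mapDerivedCategory ⋙ G.mapDerivedCategory) := ⟨compFactors F G⟩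
  Localization.liftNatIso DerivedCategory.Q (HomologicalComplex.quasiIso C₁ (ComplexShape.up ℤ))
    ((F.mapHomologicalComplex (ComplexShape.up ℤ) ⋙
        G.mapHomologicalComplex (ComplexShape.up ℤ)) ⋙ DerivedCategory.Q)
    (H.mapHomologicalComplex (ComplexShape.up ℤ) ⋙ DerivedCategory.Q) _ _
    (Functor.isoWhiskerRight (Functor.mapHomologicalComplexCompIso e (ComplexShape.up ℤ)) _)

end comp

section id

variable (C₁)

/-- `(𝟭 C).mapDerivedCategory ≅ 𝟭 (DerivedCategory C)`. -/
noncomputable def mapDerivedCategoryIdIso :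
    (𝟭 C₁).mapDerivedCategory ≅ 𝟭 (DerivedCategory C₁) :=
  Localization.liftNatIso DerivedCategory.Q (HomologicalComplex.quasiIso C₁ (ComplexShape.up ℤ))
    ((𝟭 C₁).mapHomologicalComplex (ComplexShape.up ℤ) ⋙ DerivedCategory.Q)
    DerivedCategory.Q _ _
    (Functor.isoWhiskerRight (Functor.mapHomologicalComplexIdIso C₁ (ComplexShape.up ℤ)) _ ≪≫
      Functor.leftUnitor _)

end id

section equiv

variable (F : C₁ ⥤ C₂) [F.Additive] [PreservesFiniteLimits F] [PreservesFiniteColimits F]
  (G : C₂ ⥤ C₁) [G.Additive] [PreservesFiniteLimits G] [PreservesFiniteColimits G]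

/-- Mutually inverse exact functors induce an equivalence of derived categories. -/
noncomputable def mapDerivedCategoryEquivalence (η : F ⋙ G ≅ 𝟭 C₁) (ε : G ⋙ F ≅ 𝟭 C₂) :
    DerivedCategory C₁ ≌ DerivedCategory C₂ :=
  CategoryTheory.Equivalence.mk F.mapDerivedCategory G.mapDerivedCategory
    (mapDerivedCategoryCompIso F G (𝟭 C₁) η ≪≫ mapDerivedCategoryIdIso C₁).symm
    (mapDerivedCategoryCompIso G F (𝟭 C₂) ε ≪≫ mapDerivedCategoryIdIso C₂)

@[simp]
lemma mapDerivedCategoryEquivalence_functor (η : F ⋙ G ≅ 𝟭 C₁) (ε : G ⋙ F ≅ 𝟭 C₂) :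
    (mapDerivedCategoryEquivalence F G η ε).functor = F.mapDerivedCategory := rfl

lemma isEquivalence_mapDerivedCategory (η : F ⋙ G ≅ 𝟭 C₁) (ε : G ⋙ F ≅ 𝟭 C₂) :
    F.mapDerivedCategory.IsEquivalence :=
  (mapDerivedCategoryEquivalence F G η ε).isEquivalence_functor

end equiv

section homology

variable (F : C₁ ⥤ C₂) [F.Additive] [PreservesFiniteLimits F] [PreservesFiniteColimits F]

/-- complex-level comparison of homology for an exact functor. -/
noncomputable def homologyIsoCx (i : ℤ) :
    F.mapHomologicalComplex (ComplexShape.up ℤ) ⋙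
        HomologicalComplex.homologyFunctor C₂ (ComplexShape.up ℤ) i ≅
      HomologicalComplex.homologyFunctor C₁ (ComplexShape.up ℤ) i ⋙ F :=
  NatIso.ofComponents (fun K => (K.sc i).mapHomologyIso F)
    (fun f => ShortComplex.mapHomologyIso_hom_naturality
      ((HomologicalComplex.shortComplexFunctor _ _ i).map f) F)

/-- derived-level comparison of homology for an exact functor:
`H^i (F K) ≅ F (H^i K)`. -/
noncomputable def mapDerivedCategoryHomologyIso (i : ℤ) :
    F.mapDerivedCategory ⋙ DerivedCategory.homologyFunctor C₂ i ≅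
      DerivedCategory.homologyFunctor C₁ i ⋙ F :=
  let _ : Localization.Lifting DerivedCategory.Q
      (HomologicalComplex.quasiIso C₁ (ComplexShape.up ℤ))
      (F.mapHomologicalComplex (ComplexShape.up ℤ) ⋙
        HomologicalComplex.homologyFunctor C₂ (ComplexShape.up ℤ) i)
      (F.mapDerivedCategory ⋙ DerivedCategory.homologyFunctor C₂ i) :=
    ⟨(Functor.associator _ _ _).symm ≪≫
      Functor.isoWhiskerRight F.mapDerivedCategoryFactors _ ≪≫
      Functor.associator _ _ _ ≪≫
      Functor.isoWhiskerLeft _ (DerivedCategory.homologyFunctorFactors C₂ i)⟩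
  let _ : Localization.Lifting DerivedCategory.Q
      (HomologicalComplex.quasiIso C₁ (ComplexShape.up ℤ))
      (HomologicalComplex.homologyFunctor C₁ (ComplexShape.up ℤ) i ⋙ F)
      (DerivedCategory.homologyFunctor C₁ i ⋙ F) :=
    ⟨(Functor.associator _ _ _).symm ≪≫
      Functor.isoWhiskerRight (DerivedCategory.homologyFunctorFactors C₁ i) _⟩
  Localization.liftNatIso DerivedCategory.Q
    (HomologicalComplex.quasiIso C₁ (ComplexShape.up ℤ)) _ _ _ _
    (homologyIsoCx F i)

end homology

end Groth.Agent.Lib.Helper79.ExactEquivD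

/-! ## Natural transformations between exact functors (appended) -/

set_option linter.unusedSectionVars false

namespace Groth.Agent.Lib.Helper79.ExactEquivD

variable {C₁ : Type u₁} [Category.{v₁} C₁] [Abelian C₁] [HasDerivedCategory.{w₁} C₁]
  {C₂ : Type u₂} [Category.{v₂} C₂] [Abelian C₂] [HasDerivedCategory.{w₂} C₂]

section natTrans

variable {F G H : C₁ ⥤ C₂} [F.Additive] [PreservesFiniteLimits F] [PreservesFiniteColimits F]
  [G.Additive] [PreservesFiniteLimits G] [PreservesFiniteColimits G]
  [H.Additive] [PreservesFiniteLimits H] [PreservesFiniteColimits H]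

/-- The natural transformation `F.mapDerivedCategory ⟶ G.mapDerivedCategory` induced by a natural
transformation `F ⟶ G` of exact functors. -/
noncomputable def mapDerivedCategoryNatTrans (α : F ⟶ G) :
    F.mapDerivedCategory ⟶ G.mapDerivedCategory :=
  Localization.liftNatTrans DerivedCategory.Q (HomologicalComplex.quasiIso C₁ (ComplexShape.up ℤ))
    (F.mapHomologicalComplex (ComplexShape.up ℤ) ⋙ DerivedCategory.Q)
    (G.mapHomologicalComplex (ComplexShape.up ℤ) ⋙ DerivedCategory.Q) _ _
    (Functor.whiskerRight (NatTrans.mapHomologicalComplex α (ComplexShape.up ℤ)) _)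

lemma mapDerivedCategoryNatTrans_app_Q (α : F ⟶ G) (K : CochainComplex C₁ ℤ) :
    (mapDerivedCategoryNatTrans α).app (DerivedCategory.Q.obj K) =
      F.mapDerivedCategoryFactors.hom.app K ≫
        DerivedCategory.Q.map ((NatTrans.mapHomologicalComplex α (ComplexShape.up ℤ)).app K) ≫
          G.mapDerivedCategoryFactors.inv.app K := by
  simp only [mapDerivedCategoryNatTrans, Localization.liftNatTrans_app]
  rfl

lemma mapDerivedCategoryNatTrans_id :
    mapDerivedCategoryNatTrans (𝟙 F) = 𝟙 F.mapDerivedCategory := by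
  apply Localization.natTrans_ext DerivedCategory.Q
    (HomologicalComplex.quasiIso C₁ (ComplexShape.up ℤ))
  intro K
  rw [mapDerivedCategoryNatTrans_app_Q, NatTrans.mapHomologicalComplex_id]
  simp

lemma mapDerivedCategoryNatTrans_comp (α : F ⟶ G) (β : G ⟶ H) :
    mapDerivedCategoryNatTrans (α ≫ β) =
      mapDerivedCategoryNatTrans α ≫ mapDerivedCategoryNatTrans β := by
  apply Localization.natTrans_ext DerivedCategory.Q
    (HomologicalComplex.quasiIso C₁ (ComplexShape.up ℤ))
  intro K
  rw [NatTrans.comp_app, mapDerivedCategoryNatTrans_app_Q, mapDerivedCategoryNatTrans_app_Q,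
    mapDerivedCategoryNatTrans_app_Q, NatTrans.mapHomologicalComplex_comp]
  simp

lemma mapHomologicalComplex_add (α β : F ⟶ G) (K : CochainComplex C₁ ℤ) :
    (NatTrans.mapHomologicalComplex (α + β) (ComplexShape.up ℤ)).app K =
      (NatTrans.mapHomologicalComplex α (ComplexShape.up ℤ)).app K +
        (NatTrans.mapHomologicalComplex β (ComplexShape.up ℤ)).app K := by
  ext i
  simp
  rfl

lemma mapDerivedCategoryNatTrans_add (α β : F ⟶ G) :
    mapDerivedCategoryNatTrans (α + β) =
      mapDerivedCategoryNatTrans α + mapDerivedCategoryNatTrans β := by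
  apply Localization.natTrans_ext DerivedCategory.Q
    (HomologicalComplex.quasiIso C₁ (ComplexShape.up ℤ))
  intro K
  rw [NatTrans.app_add, mapDerivedCategoryNatTrans_app_Q, mapDerivedCategoryNatTrans_app_Q,
    mapDerivedCategoryNatTrans_app_Q, mapHomologicalComplex_add]
  simp

/-- The natural isomorphism `F.mapDerivedCategory ≅ G.mapDerivedCategory` induced by a natural
isomorphism `F ≅ G` of exact functors. -/
noncomputable def mapDerivedCategoryNatIso (e : F ≅ G) :
    F.mapDerivedCategory ≅ G.mapDerivedCategory where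
  hom := mapDerivedCategoryNatTrans e.hom
  inv := mapDerivedCategoryNatTrans e.inv
  hom_inv_id := by
    rw [← mapDerivedCategoryNatTrans_comp, e.hom_inv_id, mapDerivedCategoryNatTrans_id]
  inv_hom_id := by
    rw [← mapDerivedCategoryNatTrans_comp, e.inv_hom_id, mapDerivedCategoryNatTrans_id]

end natTrans

section linear

variable (R : Type*) [CommRing R] [CategoryTheory.Linear R C₁] [CategoryTheory.Linear R C₂]
  {F G : C₁ ⥤ C₂} [F.Additive] [PreservesFiniteLimits F] [PreservesFiniteColimits F]
  [G.Additive] [PreservesFiniteLimits G] [PreservesFiniteColimits G]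

lemma mapHomologicalComplex_smul (a : R) (α : F ⟶ G) (K : CochainComplex C₁ ℤ) :
    (NatTrans.mapHomologicalComplex (a • α) (ComplexShape.up ℤ)).app K =
      a • (NatTrans.mapHomologicalComplex α (ComplexShape.up ℤ)).app K := by
  ext i
  simp
  rfl

lemma mapDerivedCategoryNatTrans_smul (a : R) (α : F ⟶ G) :
    mapDerivedCategoryNatTrans (a • α) = a • mapDerivedCategoryNatTrans α := by
  apply Localization.natTrans_ext DerivedCategory.Q
    (HomologicalComplex.quasiIso C₁ (ComplexShape.up ℤ))
  intro K
  rw [NatTrans.app_smul, mapDerivedCategoryNatTrans_app_Q, mapDerivedCategoryNatTrans_app_Q,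
    mapHomologicalComplex_smul]
  simp

end linear

end Groth.Agent.Lib.Helper79.ExactEquivD
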