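import Mathlib

/-!
# Descent along a finite jointly faithfully flat family of algebras

`R` a commutative ring, `S i` a finite family of `R`-algebras such that `Π i, S i` is faithfully
flat over `R`.  Injectivity / surjectivity / bijectivity of linear maps, vanishing, flatness,
faithful flatness, finiteness of modules and étaleness of algebras can be tested after base change
to every `S i`.
-/

open TensorProduct

namespace Groth.Agent.Lib.Helper79.FFPi

universe u

variable {R : Type u} [CommRing R] {ι : Type u} [Finite ι] (S : ι → Type u)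
  [∀ i, CommRing (S i)] [∀ i, Algebra R (S i)]

section maps

variable {N N' : Type u} [AddCommGroup N] [Module R N] [AddCommGroup N'] [Module R N']

theorem piLeft_lTensor [Fintype ι] [DecidableEq ι] (f : N →ₗ[R] N') (x : (Π i, S i) ⊗[R] N) :
    (TensorProduct.piLeft R N' S) (f.lTensor _ x) =
      fun i => f.lTensor (S i) ((TensorProduct.piLeft R N S) x i) := by
  induction x using TensorProduct.induction_on with
  | zero =>
    rw [map_zero, map_zero, map_zero]
    ext i
    simp
  | tmul p n => ext i; simp
  | add a b ha hb =>
    rw [map_add, map_add, ha, hb, map_add]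
    ext i
    simp

variable [hff : Module.FaithfullyFlat R (Π i, S i)]

include hff in
theorem injective_of_forall_lTensor (f : N →ₗ[R] N')
    (h : ∀ i, Function.Injective (f.lTensor (S i))) : Function.Injective f := by
  classical
  cases nonempty_fintype ι
  rw [← Module.FaithfullyFlat.lTensor_injective_iff_injective R (Π i, S i)]
  intro x y hxy
  apply (TensorProduct.piLeft R N S).injective
  funext i
  apply h i
  have := congrFun (congrArg (TensorProduct.piLeft R N' S) hxy) i
  rw [piLeft_lTensor, piLeft_lTensor] at this
  exact this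

include hff in
theorem surjective_of_forall_lTensor (f : N →ₗ[R] N')
    (h : ∀ i, Function.Surjective (f.lTensor (S i))) : Function.Surjective f := by
  classical
  cases nonempty_fintype ι
  rw [← Module.FaithfullyFlat.lTensor_surjective_iff_surjective R (Π i, S i)]
  intro y
  choose w hw using fun i => h i ((TensorProduct.piLeft R N' S) y i)
  refine ⟨(TensorProduct.piLeft R N S).symm w, ?_⟩
  apply (TensorProduct.piLeft R N' S).injective
  rw [piLeft_lTensor]
  funext i
  rw [LinearEquiv.apply_symm_apply, hw]

include hff in
theorem bijective_of_forall_lTensor (f : N →ₗ[R] N')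
    (h : ∀ i, Function.Bijective (f.lTensor (S i))) : Function.Bijective f :=
  ⟨injective_of_forall_lTensor S f fun i => (h i).1,
    surjective_of_forall_lTensor S f fun i => (h i).2⟩

include hff in
theorem subsingleton_of_forall_tensor (N : Type u) [AddCommGroup N] [Module R N]
    (h : ∀ i, Subsingleton (S i ⊗[R] N)) : Subsingleton N := by
  have : Function.Injective (0 : N →ₗ[R] PUnit.{u+1}) := by
    apply injective_of_forall_lTensor (R := R) S
    intro i x y _
    exact Subsingleton.elim _ _
  exact this.subsingleton

include hff in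
theorem flat_component (i : ι) : Module.Flat R (S i) := by
  classical
  haveI : Module.Flat R (Π i, S i) := inferInstance
  exact Module.Flat.of_retract (LinearMap.single R S i) (LinearMap.proj i) (by ext; simp)

end maps

section modules

variable [hff : Module.FaithfullyFlat R (Π i, S i)] (N : Type u) [AddCommGroup N] [Module R N]

include hff in
theorem flat_of_forall_tensor (h : ∀ i, Module.Flat R (S i ⊗[R] N)) : Module.Flat R N := by
  rw [Module.Flat.iff_lTensor_preserves_injective_linearMap]
  intro N₁ N₂ _ _ _ _ f hf
  apply injective_of_forall_lTensor (R := R) S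
  intro i
  have e := LinearMap.lTensor_tensor (R := R) (M := S i) (N := N) f
  have hinj : Function.Injective (f.lTensor (S i ⊗[R] N)) :=
    Module.Flat.lTensor_preserves_injective_linearMap f hf
  rw [e] at hinj
  intro x y hxy
  have := @hinj ((TensorProduct.assoc R (S i) N N₁).symm x)
    ((TensorProduct.assoc R (S i) N N₁).symm y) (by simp [hxy])
  simpa using this

include hff in
theorem flat_of_forall_tensor' (h : ∀ i, Module.Flat (S i) (S i ⊗[R] N)) : Module.Flat R N := by
  apply flat_of_forall_tensor (R := R) S
  intro i
  haveI := flat_component (R := R) S i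
  haveI := h i
  exact Module.Flat.trans R (S i) (S i ⊗[R] N)

include hff in
theorem finite_of_forall_tensor (h : ∀ i, Module.Finite (S i) (S i ⊗[R] N)) :
    Module.Finite R N := by
  classical
  cases nonempty_fintype ι
  -- for every `i` a finite subset of `N` whose images generate `S i ⊗ N`
  have hG : ∀ i, ∃ G : Set N, G.Finite ∧
      Submodule.span (S i) ((fun n : N => (1 : S i) ⊗ₜ[R] n) '' G) = ⊤ := by
    intro i
    have hspan : Submodule.span (S i) (Set.range fun n : N => (1 : S i) ⊗ₜ[R] n) = ⊤ := by
      have h1 := Submodule.baseChange_eq_span (A := S i) (⊤ : Submodule R N)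
      rw [Submodule.baseChange_top] at h1
      rw [h1]
      congr 1
      ext x
      simp
    have hfg : (Submodule.span (S i) (Set.range fun n : N => (1 : S i) ⊗ₜ[R] n)).FG := by
      rw [hspan]
      exact (h i).1
    obtain ⟨s', hs', hs'eq⟩ := (Submodule.fg_span_iff_fg_span_finset_subset _).mp hfg
    choose! pre hpre using fun x (hx : x ∈ (s' : Set (S i ⊗[R] N))) => hs' hx
    refine ⟨pre '' (s' : Set (S i ⊗[R] N)), s'.finite_toSet.image pre, ?_⟩
    rw [← hspan, hs'eq]
    congr 1
    ext x
    constructor
    · rintro ⟨n, ⟨y, hy, rfl⟩, rfl⟩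
      change (1 : S i) ⊗ₜ[R] pre y ∈ (s' : Set (S i ⊗[R] N))
      have := hpre y hy
      simp only at this
      rw [this]
      exact hy
    · intro hx
      exact ⟨pre x, ⟨x, hx, rfl⟩, hpre x hx⟩
  choose G hGfin hG using hG
  let N' : Submodule R N := Submodule.span R (⋃ i, G i)
  haveI : Module.Finite R N' :=
    Module.Finite.span_of_finite R (Set.finite_iUnion fun i => hGfin i)
  have hsurj : Function.Surjective N'.subtype := by
    apply surjective_of_forall_lTensor (R := R) S
    intro i
    have hrange : LinearMap.range (N'.subtype.baseChange (S i)) = ⊤ := by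
      rw [eq_top_iff, ← hG i, Submodule.span_le]
      rintro _ ⟨n, hn, rfl⟩
      have hn' : n ∈ N' := Submodule.subset_span (Set.mem_iUnion.mpr ⟨i, hn⟩)
      exact ⟨(1 : S i) ⊗ₜ[R] (⟨n, hn'⟩ : N'), by simp⟩
    intro y
    have : y ∈ LinearMap.range (N'.subtype.baseChange (S i)) := by rw [hrange]; trivial
    obtain ⟨x, hx⟩ := this
    exact ⟨x, by rw [← hx, LinearMap.baseChange_eq_ltensor]⟩
  exact Module.Finite.of_surjective N'.subtype hsurj

include hff in
theorem faithfullyFlat_of_forall_tensor (h : ∀ i, Module.FaithfullyFlat (S i) (S i ⊗[R] N)) :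
    Module.FaithfullyFlat R N := by
  rw [Module.FaithfullyFlat.iff_flat_and_lTensor_reflects_triviality]
  refine ⟨flat_of_forall_tensor' S N fun i => inferInstance, ?_⟩
  intro N' _ _ hN'
  apply subsingleton_of_forall_tensor (R := R) S
  intro i
  haveI := h i
  have e := TensorProduct.AlgebraTensorModule.distribBaseChange R (S i) N N'
  haveI : Subsingleton ((S i ⊗[R] N) ⊗[S i] (S i ⊗[R] N')) := e.symm.injective.subsingleton
  exact Module.FaithfullyFlat.lTensor_reflects_triviality (S i) (S i ⊗[R] N) _

end modules

section algebras

variable [hff : Module.FaithfullyFlat R (Π i, S i)] (B : Type u) [CommRing B] [Algebra R B]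

include hff in
theorem finiteType_of_forall_tensor (h : ∀ i, Algebra.FiniteType (S i) (S i ⊗[R] B)) :
    Algebra.FiniteType R B := by
  classical
  have hs : ∀ i, ∃ s : Finset (S i ⊗[R] B), Algebra.adjoin (S i) (s : Set (S i ⊗[R] B)) = ⊤ :=
    fun i => (h i).out
  choose s hs using hs
  have hx : ∀ (i) (x : s i), ∃ (k : ℕ) (t : Fin k → S i) (m : Fin k → B),
      x.1 = ∑ j, t j ⊗ₜ[R] m j := fun i x => TensorProduct.exists_sum_tmul_eq x.1
  choose k t m hm using hx
  let J := Σ i, Σ x : s i, Fin (k i x)
  let f : MvPolynomial J R →ₐ[R] B := MvPolynomial.aeval (fun j : J => m j.1 j.2.1 j.2.2)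
  haveI : Finite J := inferInstance
  apply Algebra.FiniteType.of_surjective f
  apply surjective_of_forall_lTensor (R := R) S f.toLinearMap
  intro i
  have hf : Function.Surjective (Algebra.TensorProduct.map (AlgHom.id (S i) (S i)) f) := by
    rw [← AlgHom.range_eq_top, eq_top_iff, ← hs i, Algebra.adjoin_le_iff]
    intro x hx
    refine ⟨∑ j : Fin (k i ⟨x, hx⟩), t i ⟨x, hx⟩ j ⊗ₜ[R]
      MvPolynomial.X (⟨i, ⟨x, hx⟩, j⟩ : J), ?_⟩
    rw [map_sum]
    refine Eq.trans ?_ (hm i ⟨x, hx⟩).symm
    refine Finset.sum_congr rfl fun j _ => ?_
    simp [f]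
  intro y
  obtain ⟨x, rfl⟩ := hf y
  refine ⟨x, ?_⟩
  induction x using TensorProduct.induction_on with
  | zero => simp
  | tmul a b => simp
  | add a b ha hb => rw [map_add, map_add, ha, hb]

include hff in
theorem etale_of_forall_tensor [IsNoetherianRing R] (h : ∀ i, Algebra.Etale (S i) (S i ⊗[R] B)) :
    Algebra.Etale R B := by
  haveI : Algebra.FiniteType R B := finiteType_of_forall_tensor S B fun i => inferInstance
  haveI : Algebra.FinitePresentation R B := Algebra.FinitePresentation.of_finiteType.mp inferInstance
  haveI : Module.Flat R B := flat_of_forall_tensor' S B fun i => inferInstance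
  haveI : Algebra.FormallyUnramified R B := by
    constructor
    apply subsingleton_of_forall_tensor (R := R) S
    intro i
    let _ : Algebra B (S i ⊗[R] B) := Algebra.TensorProduct.rightAlgebra
    exact (KaehlerDifferential.tensorKaehlerEquivBase R (S i) B (S i ⊗[R] B)).subsingleton
  exact Algebra.Etale.of_formallyUnramified_of_flat

end algebras

end Groth.Agent.Lib.Helper79.FFPi
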