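import Mathlib

/-!
# F-finiteness: finiteness of the absolute Frobenius

* `finite_iff_exists_finset`: an elementwise criterion for a ring hom to be finite.
* `frobenius_finite_of_surjective`: F-finiteness passes to quotients (surjective images).
* `frobenius_finite_powerSeries`: `k⟦X⟧` is F-finite for a perfect field `k`.
* `frobenius_finite_polynomial`, `frobenius_finite_mvPolynomial`: polynomial rings over F-finite rings.
-/

open Polynomial

namespace Groth.Agent.Lib.Helper79.FFinite

universe u v

section Crit

variable {A : Type u} {B : Type v} [CommRing A] [CommRing B]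

theorem finite_of_exists_finset (φ : A →+* B)
    (h : ∃ s : Finset B, ∀ b : B, ∃ c : B → A, b = ∑ i ∈ s, φ (c i) * i) : φ.Finite := by
  obtain ⟨s, hs⟩ := h
  letI := φ.toAlgebra
  change Module.Finite A B
  refine ⟨⟨s, ?_⟩⟩
  rw [eq_top_iff]
  intro b _
  obtain ⟨c, hc⟩ := hs b
  rw [hc]
  refine Submodule.sum_mem _ fun i hi => ?_
  have : φ (c i) * i = c i • i := (Algebra.smul_def (c i) i).symm
  rw [this]
  exact Submodule.smul_mem _ _ (Submodule.subset_span hi)

theorem exists_finset_of_finite (φ : A →+* B) (h : φ.Finite) :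
    ∃ s : Finset B, ∀ b : B, ∃ c : B → A, b = ∑ i ∈ s, φ (c i) * i := by
  letI := φ.toAlgebra
  have h' : Module.Finite A B := h
  obtain ⟨s, hs⟩ := h'.1
  refine ⟨s, fun b => ?_⟩
  have hb : b ∈ Submodule.span A (s : Set B) := by rw [hs]; trivial
  obtain ⟨c, -, hc⟩ := Submodule.mem_span_finset.mp hb
  refine ⟨c, ?_⟩
  rw [← hc]
  refine Finset.sum_congr rfl fun i _ => ?_
  exact (Algebra.smul_def (c i) i).symm

/-- the `A`-span of a subset of `B`, `B` being an `A`-module through `φ` -/
def spanφ (φ : A →+* B) (G : Set B) : Set B :=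
  letI := φ.toAlgebra
  ↑(Submodule.span A G)

theorem subset_spanφ (φ : A →+* B) (G : Set B) {x : B} (hx : x ∈ G) : x ∈ spanφ φ G := by
  letI := φ.toAlgebra
  exact Submodule.subset_span hx

theorem zero_mem_spanφ (φ : A →+* B) (G : Set B) : (0 : B) ∈ spanφ φ G := by
  letI := φ.toAlgebra
  exact Submodule.zero_mem _

theorem add_mem_spanφ (φ : A →+* B) (G : Set B) {x y : B} (hx : x ∈ spanφ φ G)
    (hy : y ∈ spanφ φ G) : x + y ∈ spanφ φ G := by
  letI := φ.toAlgebra
  exact Submodule.add_mem _ hx hy

theorem mul_mem_spanφ (φ : A →+* B) (G : Set B) (r : A) {x : B} (hx : x ∈ spanφ φ G) :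
    φ r * x ∈ spanφ φ G := by
  letI := φ.toAlgebra
  have : φ r * x = r • x := (Algebra.smul_def r x).symm
  rw [this]
  exact Submodule.smul_mem _ r hx

theorem sum_mem_spanφ (φ : A →+* B) (G : Set B) {ι : Type*} (t : Finset ι) (f : ι → B)
    (h : ∀ i ∈ t, f i ∈ spanφ φ G) : ∑ i ∈ t, f i ∈ spanφ φ G := by
  letI := φ.toAlgebra
  exact Submodule.sum_mem _ h

theorem finite_of_spanφ (φ : A →+* B) (G : Finset B) (h : ∀ b, b ∈ spanφ φ (G : Set B)) :
    φ.Finite := by
  letI := φ.toAlgebra
  change Module.Finite A B
  refine ⟨⟨G, ?_⟩⟩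
  rw [eq_top_iff]
  intro b _
  exact h b

end Crit

section Frob

variable (p : ℕ) [Fact p.Prime]

theorem frobenius_finite_of_surjective {A B : Type u} [CommRing A] [CommRing B] [CharP A p] [CharP B p]
    (π : A →+* B) (hπ : Function.Surjective π) (hF : (frobenius A p).Finite) :
    (frobenius B p).Finite := by
  have h1 : ((frobenius B p).comp π) = π.comp (frobenius A p) := by
    ext a; simp [frobenius_def]
  apply RingHom.Finite.of_comp_finite (f := π)
  rw [h1]
  exact (RingHom.Finite.of_surjective _ hπ).comp hF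

theorem frobenius_finite_polynomial {R : Type u} [CommRing R] [CharP R p]
    (hF : (frobenius R p).Finite) : (frobenius R[X] p).Finite := by
  classical
  obtain ⟨s, hs⟩ := exists_finset_of_finite _ hF
  -- generators `C a * X^i`, `a ∈ s`, `i < p`
  let G : Finset R[X] := (s ×ˢ Finset.range p).image (fun ai => C ai.1 * X ^ ai.2)
  apply finite_of_spanφ _ G
  intro q
  have hp : 0 < p := (Fact.out : p.Prime).pos
  induction q using Polynomial.induction_on' with
  | add a b ha hb => exact add_mem_spanφ _ _ ha hb
  | monomial m c =>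
    obtain ⟨coef, hc⟩ := hs c
    have e : monomial m c =
        ∑ a ∈ s, (frobenius R[X] p) (C (coef a) * X ^ (m / p)) * (C a * X ^ (m % p)) := by
      rw [← C_mul_X_pow_eq_monomial]
      conv_lhs => rw [hc]
      rw [map_sum, Finset.sum_mul]
      refine Finset.sum_congr rfl fun a _ => ?_
      rw [frobenius_def, frobenius_def, mul_pow, ← pow_mul, map_mul, map_pow]
      have hm : X ^ m = (X : R[X]) ^ (m / p * p) * X ^ (m % p) := by
        rw [← pow_add, Nat.div_add_mod']
      rw [hm]
      ring
    rw [e]
    refine sum_mem_spanφ _ _ _ _ fun a ha => ?_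
    refine mul_mem_spanφ _ _ _ (subset_spanφ _ _ ?_)
    rw [Finset.mem_coe, Finset.mem_image]
    exact ⟨(a, m % p), Finset.mem_product.mpr ⟨ha, Finset.mem_range.mpr (Nat.mod_lt _ hp)⟩, rfl⟩

theorem frobenius_finite_mvPolynomial {R : Type u} [CommRing R] [CharP R p]
    (hF : (frobenius R p).Finite) (n : ℕ) : (frobenius (MvPolynomial (Fin n) R) p).Finite := by
  induction n with
  | zero =>
    exact frobenius_finite_of_surjective p
      ((MvPolynomial.isEmptyAlgEquiv R (Fin 0)).symm : R →+* MvPolynomial (Fin 0) R)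
      (MvPolynomial.isEmptyAlgEquiv R (Fin 0)).symm.surjective hF
  | succ n ih =>
    have h1 := frobenius_finite_polynomial p ih
    exact frobenius_finite_of_surjective p
      ((MvPolynomial.finSuccEquiv R n).symm :
        Polynomial (MvPolynomial (Fin n) R) →+* MvPolynomial (Fin (n + 1)) R)
      (MvPolynomial.finSuccEquiv R n).symm.surjective h1

theorem frobenius_finite_powerSeries (k : Type u) [Field k] [CharP k p] [PerfectRing k p]
    [CharP (PowerSeries k) p] : (frobenius (PowerSeries k) p).Finite := by
  classical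
  have hp : 0 < p := (Fact.out : p.Prime).pos
  have hp0 : p ≠ 0 := hp.ne'
  let G : Finset (PowerSeries k) := (Finset.range p).image (fun i => (PowerSeries.X : PowerSeries k) ^ i)
  apply finite_of_spanφ _ G
  intro f
  let g : ℕ → PowerSeries k := fun i =>
    PowerSeries.mk (fun n => (frobeniusEquiv k p).symm (PowerSeries.coeff (p * n + i) f))
  have hpow : ∀ (h : PowerSeries k) (d : ℕ), PowerSeries.coeff d (h ^ p) =
      if p ∣ d then (PowerSeries.coeff (d / p) h) ^ p else 0 := by
    intro h d
    have e1 : PowerSeries.map (frobenius k p) (PowerSeries.expand p hp0 h) = h ^ p :=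
      MvPowerSeries.map_frobenius_expand p hp0
    rw [← e1, PowerSeries.coeff_map, PowerSeries.coeff_expand]
    split_ifs
    · rfl
    · rw [map_zero]
  have e : f = ∑ i ∈ Finset.range p,
      (frobenius (PowerSeries k) p) (g i) * (PowerSeries.X : PowerSeries k) ^ i := by
    ext m
    rw [map_sum]
    rw [Finset.sum_eq_single (m % p)]
    · rw [PowerSeries.coeff_mul_X_pow', if_pos (Nat.mod_le m p), frobenius_def, hpow,
        if_pos (Nat.dvd_sub_mod m)]
      have h1 : (m - m % p) / p = m / p := by
        have h2 : m - m % p = p * (m / p) := by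
          have := Nat.div_add_mod m p
          omega
        rw [h2, Nat.mul_div_cancel_left _ hp]
      rw [h1]
      have h4 : PowerSeries.coeff (m / p) (g (m % p)) =
          (frobeniusEquiv k p).symm (PowerSeries.coeff (p * (m / p) + m % p) f) :=
        PowerSeries.coeff_mk _ _
      rw [h4, Nat.div_add_mod]
      exact (frobenius_apply_frobeniusEquiv_symm k p _).symm
    · intro i hi hne
      rw [PowerSeries.coeff_mul_X_pow']
      split_ifs with hle
      · rw [frobenius_def, hpow, if_neg]
        intro hdvd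
        apply hne
        have hi' : i < p := Finset.mem_range.mp hi
        have hmod : (m - i) % p = 0 := Nat.mod_eq_zero_of_dvd hdvd
        have : m % p = i % p := by
          have h3 : m = (m - i) + i := by omega
          rw [h3, Nat.add_mod, hmod, zero_add, Nat.mod_mod]
        rw [this, Nat.mod_eq_of_lt hi']
      · rfl
    · intro hnot
      exact absurd (Finset.mem_range.mpr (Nat.mod_lt m hp)) hnot
  rw [e]
  refine sum_mem_spanφ _ _ _ _ fun i hi => ?_
  refine mul_mem_spanφ _ _ _ (subset_spanφ _ _ ?_)
  rw [Finset.mem_coe, Finset.mem_image]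
  exact ⟨i, hi, rfl⟩

end Frob

end Groth.Agent.Lib.Helper79.FFinite
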