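import Mathlib

set_option autoImplicit false
set_option linter.style.haveILetI false
universe u v

namespace Groth.Agent.Lib.Helper79.Fitting

/-- a finitely generated torsion module over a one-dimensional Noetherian ring is Artinian -/
theorem isArtinian_of_fg_torsion {R : Type u} {M : Type v} [CommRing R] [IsNoetherianRing R]
    [Ring.KrullDimLE 1 R] [AddCommGroup M] [Module R M] [Module.Finite R M]
    (hM : Module.IsTorsion R M) : IsArtinian R M := by
  obtain ⟨x, hx1, hx2⟩ := Submodule.annihilator_top_inter_nonZeroDivisors hM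
  have hfl := isFiniteLength_quotient_span_singleton (R := R) hx2
  have hart : IsArtinian R (R ⧸ Ideal.span {x}) :=
    (isFiniteLength_iff_isNoetherian_isArtinian.1 hfl).2
  haveI : IsArtinianRing (R ⧸ Ideal.span {x}) := isArtinian_of_tower R hart
  have hxm : ∀ m : M, x • m = 0 := fun m =>
    (Submodule.mem_annihilator.1 hx1) m Submodule.mem_top
  have htors : Module.IsTorsionBySet R M (Ideal.span {x} : Set R) := by
    intro m a
    obtain ⟨c, hc⟩ := Ideal.mem_span_singleton'.1 a.2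
    change (a : R) • m = 0
    rw [← hc, mul_smul, hxm, smul_zero]
  letI : Module (R ⧸ Ideal.span {x}) M := htors.module
  haveI : IsScalarTower R (R ⧸ Ideal.span {x}) M := htors.isScalarTower
  haveI : Module.Finite (R ⧸ Ideal.span {x}) M :=
    Module.Finite.of_restrictScalars_finite R (R ⧸ Ideal.span {x}) M
  haveI : IsArtinian (R ⧸ Ideal.span {x}) M := inferInstance
  exact isArtinian_of_surjective_algebraMap (R := R ⧸ Ideal.span {x}) (S := R)
    Ideal.Quotient.mk_surjective

section Semilinear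
variable {R : Type u} {M : Type v} [CommRing R] [AddCommGroup M] [Module R M]
  (τ : R ≃+* R) (φ : M →ₛₗ[(τ : R →+* R)] M)

theorem iter_smul (n : ℕ) (a : R) (m : M) : (⇑φ)^[n] (a • m) = ((⇑τ)^[n] a) • (⇑φ)^[n] m := by
  induction n generalizing a m with
  | zero => rfl
  | succ n ih =>
      rw [Function.iterate_succ_apply, Function.iterate_succ_apply, Function.iterate_succ_apply,
        LinearMap.map_smulₛₗ, ih]
      rfl

theorem iter_zero (n : ℕ) : (⇑φ)^[n] (0 : M) = 0 := by
  induction n with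
  | zero => rfl
  | succ n ih => rw [Function.iterate_succ_apply, map_zero, ih]

theorem iter_add (n : ℕ) (x y : M) : (⇑φ)^[n] (x + y) = (⇑φ)^[n] x + (⇑φ)^[n] y := by
  induction n generalizing x y with
  | zero => rfl
  | succ n ih =>
      rw [Function.iterate_succ_apply, Function.iterate_succ_apply, Function.iterate_succ_apply,
        map_add, ih]

theorem iter_sub (n : ℕ) (x y : M) : (⇑φ)^[n] (x - y) = (⇑φ)^[n] x - (⇑φ)^[n] y := by
  induction n generalizing x y with
  | zero => rfl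
  | succ n ih =>
      rw [Function.iterate_succ_apply, Function.iterate_succ_apply, Function.iterate_succ_apply,
        map_sub, ih]

/-- kernel of the `n`-th iterate -/
def kerIter (n : ℕ) : Submodule R M where
  carrier := {m | (⇑φ)^[n] m = 0}
  add_mem' {x y} hx hy := by
    change (⇑φ)^[n] (x + y) = 0
    rw [iter_add, hx, hy, add_zero]
  zero_mem' := iter_zero τ φ n
  smul_mem' a m hm := by
    change (⇑φ)^[n] (a • m) = 0
    rw [iter_smul, hm, smul_zero]

/-- range of the `n`-th iterate -/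
def rangeIter (n : ℕ) : Submodule R M where
  carrier := {m | ∃ m', (⇑φ)^[n] m' = m}
  add_mem' := by
    rintro _ _ ⟨x, rfl⟩ ⟨y, rfl⟩
    exact ⟨x + y, iter_add τ φ n x y⟩
  zero_mem' := ⟨0, iter_zero τ φ n⟩
  smul_mem' := by
    rintro a _ ⟨x, rfl⟩
    refine ⟨((⇑τ.symm)^[n] a) • x, ?_⟩
    rw [iter_smul]
    congr 1
    exact (Function.RightInverse.iterate τ.right_inv n) a

theorem kerIter_mono {m n : ℕ} (h : m ≤ n) : kerIter τ φ m ≤ kerIter τ φ n := by
  intro x hx
  obtain ⟨d, rfl⟩ := Nat.exists_eq_add_of_le h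
  change (⇑φ)^[m + d] x = 0
  rw [add_comm, Function.iterate_add_apply]
  have hx' : (⇑φ)^[m] x = 0 := hx
  rw [hx', iter_zero]

theorem rangeIter_anti {m n : ℕ} (h : m ≤ n) : rangeIter τ φ n ≤ rangeIter τ φ m := by
  rintro _ ⟨x, rfl⟩
  obtain ⟨d, rfl⟩ := Nat.exists_eq_add_of_le h
  exact ⟨(⇑φ)^[d] x, (Function.iterate_add_apply _ m d x).symm⟩

/-- Fitting decomposition for a semilinear endomorphism of a module of finite length -/
theorem fitting [IsNoetherian R M] [IsArtinian R M] :
    ∃ Ms Mn : Submodule R M, IsCompl Ms Mn ∧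
      Set.MapsTo φ Ms Ms ∧ Set.MapsTo φ Mn Mn ∧ Set.BijOn φ Ms Ms ∧
      ∃ r : ℕ, ∀ x ∈ Mn, (⇑φ)^[r] x = 0 := by
  obtain ⟨r₁, hr₁⟩ := monotone_stabilizes_iff_noetherian.2 (inferInstance : IsNoetherian R M)
    ⟨fun n => kerIter τ φ n, fun _ _ h => kerIter_mono τ φ h⟩
  obtain ⟨r₂, hr₂⟩ := IsArtinian.monotone_stabilizes
    (⟨fun n => OrderDual.toDual (rangeIter τ φ n), fun _ _ h => rangeIter_anti τ φ h⟩ :
      ℕ →o (Submodule R M)ᵒᵈ)
  set r := max r₁ r₂ + 1 with hr
  have hK : ∀ m, r ≤ m → kerIter τ φ r = kerIter τ φ m := by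
    intro m hm
    have e1 := hr₁ r (by omega)
    have e2 := hr₁ m (by omega)
    exact e1.symm.trans e2
  have hI : ∀ m, r ≤ m → rangeIter τ φ r = rangeIter τ φ m := by
    intro m hm
    have e1 : rangeIter τ φ r₂ = rangeIter τ φ r := hr₂ r (by omega)
    have e2 : rangeIter τ φ r₂ = rangeIter τ φ m := hr₂ m (by omega)
    exact e1.symm.trans e2
  have hdisj : ∀ x, x ∈ rangeIter τ φ r → x ∈ kerIter τ φ r → x = 0 := by
    rintro _ ⟨y, rfl⟩ hy
    have h2 : y ∈ kerIter τ φ (r + r) := by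
      change (⇑φ)^[r + r] y = 0
      rw [Function.iterate_add_apply]
      exact hy
    rw [← hK (r + r) (by omega)] at h2
    exact h2
  refine ⟨rangeIter τ φ r, kerIter τ φ r, ⟨?_, ?_⟩, ?_, ?_, ⟨?_, ?_, ?_⟩, r, fun x hx => hx⟩
  · rw [Submodule.disjoint_def]
    exact hdisj
  · rw [codisjoint_iff, eq_top_iff]
    intro m _
    have h1 : (⇑φ)^[r] m ∈ rangeIter τ φ (r + r) := by
      rw [← hI (r + r) (by omega)]
      exact ⟨m, rfl⟩
    obtain ⟨y, hy⟩ := h1
    rw [Function.iterate_add_apply] at hy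
    have h2 : m - (⇑φ)^[r] y ∈ kerIter τ φ r := by
      change (⇑φ)^[r] (m - (⇑φ)^[r] y) = 0
      rw [iter_sub, hy, sub_self]
    have : m = (⇑φ)^[r] y + (m - (⇑φ)^[r] y) := by abel
    rw [this]
    exact Submodule.add_mem_sup ⟨y, rfl⟩ h2
  · rintro _ ⟨y, rfl⟩
    exact ⟨φ y, (Function.iterate_succ_apply _ r y).symm.trans
      (Function.iterate_succ_apply' _ r y)⟩
  · intro x hx
    change (⇑φ)^[r] (φ x) = 0
    rw [← Function.iterate_succ_apply, Function.iterate_succ_apply']
    have hx' : (⇑φ)^[r] x = 0 := hx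
    rw [hx', map_zero]
  · rintro _ ⟨y, rfl⟩
    exact ⟨φ y, (Function.iterate_succ_apply _ r y).symm.trans
      (Function.iterate_succ_apply' _ r y)⟩
  · intro x hx y hy hxy
    have h1 : x - y ∈ rangeIter τ φ r := Submodule.sub_mem _ hx hy
    have h2 : x - y ∈ kerIter τ φ r := by
      apply kerIter_mono τ φ (show 1 ≤ r by omega)
      change (⇑φ)^[1] (x - y) = 0
      rw [Function.iterate_one, map_sub, hxy, sub_self]
    exact sub_eq_zero.1 (hdisj _ h1 h2)
  · intro y hy
    have hy' : y ∈ rangeIter τ φ (r + 1) := by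
      rw [← hI (r + 1) (by omega)]
      exact hy
    obtain ⟨z, hz⟩ := hy'
    rw [Function.iterate_succ_apply'] at hz
    exact ⟨(⇑φ)^[r] z, ⟨z, rfl⟩, hz⟩

end Semilinear

end Groth.Agent.Lib.Helper79.Fitting
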