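import Mathlib
import Groth.Agent.Lib.Helper89.FlatKer

/-!
# Flatness over `A` of `B`-modules regarded via `RestrictScalars` (helper79)

* `flat_rs_of_exact`: kernel of a surjection of `A`-flat `B`-modules is `A`-flat
  (stated for `RestrictScalars A B X`).
* `flat_localizedModule`: a localization (at a submonoid of `B`) of an `A`-flat `B`-module is `A`-flat
  (equational criterion).
* `flat_rs_localizedModule`: same for `RestrictScalars A B (LocalizedModule S X)`.
-/

set_option autoImplicit false
set_option linter.style.haveILetI false
universe u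

namespace Groth.Agent.Lib.Helper79.FlatRS



theorem flat_rs_of_exact (A B : Type u) [CommRing A] [CommRing B] [Algebra A B]
    (X Y Z : Type u) [AddCommGroup X] [Module B X]
    [AddCommGroup Y] [Module A Y] [Module B Y] [IsScalarTower A B Y]
    [AddCommGroup Z] [Module A Z] [Module B Z] [IsScalarTower A B Z]
    [Module.Flat A Y] [Module.Flat A Z]
    (φ : X →ₗ[B] Y) (ψ : Y →ₗ[B] Z) (hφ : Function.Injective φ) (hψ : Function.Surjective ψ)
    (hex : Function.Exact φ ψ) : Module.Flat A (RestrictScalars A B X) := by
  letI : Module B (RestrictScalars A B X) := RestrictScalars.moduleOrig A B X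
  haveI : IsScalarTower A B (RestrictScalars A B X) := RestrictScalars.isScalarTower A B X
  let φ' : RestrictScalars A B X →ₗ[B] Y := φ
  let φ'' : RestrictScalars A B X →ₗ[A] Y := LinearMap.restrictScalars A φ'
  let ψ' : Y →ₗ[A] Z := LinearMap.restrictScalars A ψ
  exact @Groth.Agent.Lib.Helper89.flat_of_exact_of_flat A _ (RestrictScalars A B X) Y Z _
    (RestrictScalars.module A B X) _ _ _ _ _ _ φ'' ψ' hφ hψ hex

/-- Localization of an `A`-flat `B`-module is `A`-flat. -/
theorem flat_localizedModule (A B : Type u) [CommRing A] [CommRing B] [Algebra A B]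
    (S : Submonoid B) (N : Type u) [AddCommGroup N] [Module A N] [Module B N] [IsScalarTower A B N]
    [Module.Flat A N] (N' : Type u) [AddCommGroup N'] [Module A N'] [Module B N']
    [IsScalarTower A B N'] (g : N →ₗ[B] N') [IsLocalizedModule S g] : Module.Flat A N' := by
  rw [Module.Flat.iff_forall_isTrivialRelation]
  intro l f x hx
  obtain ⟨b, hb⟩ := IsLocalizedModule.exist_integer_multiples_of_finite S g x
  choose n hn using hb
  replace hn : ∀ i, g (n i) = (b : B) • x i := hn
  have h1 : g (∑ i, f i • n i) = 0 := by
    rw [map_sum]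
    have : ∀ i, g (f i • n i) = (b : B) • (f i • x i) := by
      intro i
      rw [← algebraMap_smul B (f i) (n i), map_smul, hn i, algebraMap_smul, smul_comm]
    simp_rw [this]
    rw [← Finset.smul_sum, hx, smul_zero]
  obtain ⟨t, ht⟩ := (IsLocalizedModule.eq_zero_iff S g).mp h1
  replace ht : (t : B) • ∑ i, f i • n i = 0 := ht
  have h2 : ∑ i, f i • ((t : B) • n i) = 0 := by
    have : ∀ i, f i • ((t : B) • n i) = (t : B) • (f i • n i) := fun i => smul_comm _ _ _
    simp_rw [this]
    rw [← Finset.smul_sum]
    exact ht
  obtain ⟨k, a, y, hy1, hy2⟩ := Module.Flat.isTrivialRelation_of_sum_smul_eq_zero h2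
  have hu : IsUnit (algebraMap B (Module.End B N') ((t * b : S) : B)) :=
    IsLocalizedModule.map_units g (t * b)
  refine ⟨k, a, fun j => hu.unit⁻¹.1 (g (y j)), ?_, hy2⟩
  intro i
  have h3 : ∀ z : N', hu.unit⁻¹.1 (hu.unit.1 z) = z := by
    intro z
    rw [← Module.End.mul_apply]
    simp
  have h4 : hu.unit.1 (x i) = g ((t : B) • n i) := by
    change (algebraMap B (Module.End B N') ((t * b : S) : B)) (x i) = _
    rw [Module.algebraMap_end_apply, map_smul, hn i, Submonoid.coe_mul, mul_smul]
  have hy1' : (t : B) • n i = ∑ j, a i j • y j := hy1 i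
  rw [← h3 (x i), h4, hy1', map_sum, map_sum]
  refine Finset.sum_congr rfl fun j _ => ?_
  rw [← algebraMap_smul B (a i j) (y j), map_smul, map_smul, algebraMap_smul]

theorem flat_rs_localizedModule (A B : Type u) [CommRing A] [CommRing B] [Algebra A B]
    (S : Submonoid B) (X : Type u) [AddCommGroup X] [Module B X]
    (h : Module.Flat A (RestrictScalars A B X)) :
    Module.Flat A (RestrictScalars A B (LocalizedModule S X)) := by
  letI : Module B (RestrictScalars A B X) := RestrictScalars.moduleOrig A B X
  haveI : IsScalarTower A B (RestrictScalars A B X) := RestrictScalars.isScalarTower A B X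
  letI : Module B (RestrictScalars A B (LocalizedModule S X)) :=
    RestrictScalars.moduleOrig A B (LocalizedModule S X)
  haveI : IsScalarTower A B (RestrictScalars A B (LocalizedModule S X)) :=
    RestrictScalars.isScalarTower A B (LocalizedModule S X)
  let g : RestrictScalars A B X →ₗ[B] RestrictScalars A B (LocalizedModule S X) :=
    LocalizedModule.mkLinearMap S X
  have : IsLocalizedModule S g :=
    inferInstanceAs (IsLocalizedModule S (LocalizedModule.mkLinearMap S X))
  exact @flat_localizedModule A B _ _ _ S (RestrictScalars A B X) _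
    (RestrictScalars.module A B X) (RestrictScalars.moduleOrig A B X)
    (RestrictScalars.isScalarTower A B X) h (RestrictScalars A B (LocalizedModule S X)) _
    (RestrictScalars.module A B (LocalizedModule S X))
    (RestrictScalars.moduleOrig A B (LocalizedModule S X))
    (RestrictScalars.isScalarTower A B (LocalizedModule S X)) g this

end Groth.Agent.Lib.Helper79.FlatRS
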