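import Mathlib
import Groth.Prelude.Def_GrMod3
import Groth.Agent.Lib.Helper79.GrSect2

/-!
# `ℤ`-indexed homogeneous components and gluing of sections of `M(n)~` (helper79)

* `comp ℳ x d` : the degree `d : ℤ` component of `x` (zero for `d < 0`), with `comp_smul`.
* `glue` : a global section of `M(n)~` from compatible fractions `p l / b l ^ K` on a cover `D_+(b l)`.
-/

set_option autoImplicit false
universe u
open CategoryTheory AlgebraicGeometry Opposite TopologicalSpace

namespace Groth.Agent.Lib.Helper79.GrLC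

variable {R σ : Type u} [CommRing R] [SetLike σ R] [AddSubgroupClass σ R]
    (𝒜 : ℕ → σ) [GradedRing 𝒜] {M τ : Type u} [AddCommGroup M] [Module R M] [SetLike τ M] [AddSubgroupClass τ M]
    (ℳ : ℕ → τ) [SetLike.GradedSMul 𝒜 ℳ]

/-- components of `a • m` in degrees below the degree of `a` vanish. -/
theorem decompose_smul_lt [DirectSum.Decomposition ℳ] {e : ℕ} {a : R} (ha : a ∈ 𝒜 e) (m : M) (D : ℕ)
    (hD : D < e) : ((DirectSum.decompose ℳ (a • m) D : ℳ D) : M) = 0 := by
  classical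
  have hsum : m = ∑ l ∈ (DirectSum.decompose ℳ m).support, ((DirectSum.decompose ℳ m l : ℳ l) : M) :=
    (DirectSum.sum_support_decompose ℳ m).symm
  have hmem : ∀ l, a • ((DirectSum.decompose ℳ m l : ℳ l) : M) ∈ ℳ (e + l) :=
    fun l => SetLike.GradedSMul.smul_mem ha (DirectSum.decompose ℳ m l).2
  have h0 : a • m = ∑ l ∈ (DirectSum.decompose ℳ m).support,
      a • ((DirectSum.decompose ℳ m l : ℳ l) : M) := by
    conv_lhs => rw [hsum]
    rw [Finset.smul_sum]
  have h1 := congrArg (fun y => ((DirectSum.decompose ℳ y D : ℳ D) : M)) h0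
  simp only [DirectSum.decompose_sum] at h1
  rw [DFinsupp.finsetSum_apply, AddSubmonoidClass.coe_finsetSum] at h1
  rw [h1]
  refine Finset.sum_eq_zero fun l _ => ?_
  exact DirectSum.decompose_of_mem_ne ℳ (hmem l) (by omega)

variable [DirectSum.Decomposition ℳ]

/-- the degree `d : ℤ` component of `x`; zero for negative `d`. -/
noncomputable def comp (x : M) (d : ℤ) : M :=
  if 0 ≤ d then ((DirectSum.decompose ℳ x d.toNat : ℳ d.toNat) : M) else 0

theorem comp_of_nonneg (x : M) {d : ℤ} (hd : 0 ≤ d) :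
    comp ℳ x d = ((DirectSum.decompose ℳ x d.toNat : ℳ d.toNat) : M) := if_pos hd

theorem comp_natCast (x : M) (D : ℕ) :
    comp ℳ x (D : ℤ) = ((DirectSum.decompose ℳ x D : ℳ D) : M) := by
  rw [comp_of_nonneg ℳ x (by positivity), Int.toNat_natCast]

theorem comp_of_neg (x : M) {d : ℤ} (hd : d < 0) : comp ℳ x d = 0 := if_neg (by omega)

theorem comp_add (x y : M) (d : ℤ) : comp ℳ (x + y) d = comp ℳ x d + comp ℳ y d := by
  unfold comp
  split_ifs
  · rw [DirectSum.decompose_add, DirectSum.add_apply, AddMemClass.coe_add]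
  · rw [add_zero]

theorem comp_zero (d : ℤ) : comp ℳ (0 : M) d = 0 := by
  unfold comp
  split_ifs
  · rw [DirectSum.decompose_zero, DirectSum.zero_apply, ZeroMemClass.coe_zero]
  · rfl

theorem comp_mem (x : M) {d : ℤ} {D : ℕ} (hD : (D : ℤ) = d) : comp ℳ x d ∈ ℳ D := by
  subst hD
  rw [comp_natCast]
  exact (DirectSum.decompose ℳ x D).2

theorem comp_smul {e : ℕ} {a : R} (ha : a ∈ 𝒜 e) (x : M) (d : ℤ) :
    comp ℳ (a • x) ((e : ℤ) + d) = a • comp ℳ x d := by
  by_cases hd : 0 ≤ d
  · obtain ⟨D, rfl⟩ := Int.eq_ofNat_of_zero_le hd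
    have h1 : ((e : ℤ) + (D : ℤ)) = ((e + D : ℕ) : ℤ) := by push_cast; rfl
    rw [h1, comp_natCast, comp_natCast]
    exact GrSect.decompose_smul 𝒜 ℳ ha x D
  · have hd' : d < 0 := by omega
    rw [comp_of_neg ℳ x hd', smul_zero]
    by_cases h2 : 0 ≤ (e : ℤ) + d
    · obtain ⟨D, hD⟩ := Int.eq_ofNat_of_zero_le h2
      rw [hD, comp_natCast]
      exact decompose_smul_lt 𝒜 ℳ ha x D (by omega)
    · exact comp_of_neg ℳ _ (by omega)

theorem comp_of_mem {x : M} {D : ℕ} (hx : x ∈ ℳ D) (d : ℤ) :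
    comp ℳ x d = if d = (D : ℤ) then x else 0 := by
  by_cases hd : 0 ≤ d
  · obtain ⟨D', rfl⟩ := Int.eq_ofNat_of_zero_le hd
    rw [comp_natCast]
    split_ifs with h
    · have : D' = D := by exact_mod_cast h
      subst this
      exact DirectSum.decompose_of_mem_same ℳ hx
    · exact DirectSum.decompose_of_mem_ne ℳ hx (fun h' => h (by rw [h']))
  · rw [comp_of_neg ℳ x (by omega), if_neg (by omega)]

open Classical in
/-- `x` is the sum of its components. -/
theorem sum_comp (x : M) : ∑ D ∈ (DirectSum.decompose ℳ x).support, comp ℳ x (D : ℤ) = x := by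
  conv_rhs => rw [← DirectSum.sum_support_decompose ℳ x]
  exact Finset.sum_congr rfl fun D _ => comp_natCast ℳ x D

open Classical in
theorem comp_ne_zero (x : M) {d : ℤ} (h : comp ℳ x d ≠ 0) :
    ∃ D ∈ (DirectSum.decompose ℳ x).support, d = (D : ℤ) := by
  by_cases hd : 0 ≤ d
  · obtain ⟨D, rfl⟩ := Int.eq_ofNat_of_zero_le hd
    refine ⟨D, ?_, rfl⟩
    rw [DFinsupp.mem_support_iff]
    intro h0
    apply h
    rw [comp_natCast, h0, ZeroMemClass.coe_zero]
  · exact absurd (comp_of_neg ℳ x (by omega)) h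

end Groth.Agent.Lib.Helper79.GrLC
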