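import Mathlib
import Groth.Prelude.Def_GrMod3
import Groth.Agent.Lib.Helper79.GrLC1

/-!
# Gluing global sections of `M(n)~` from compatible fractions on a cover by `D_+(b l)` (helper79)
-/

set_option autoImplicit false
universe u
open CategoryTheory AlgebraicGeometry Opposite TopologicalSpace

namespace Groth.Agent.Lib.Helper79.GrLC

variable {R σ : Type u} [CommRing R] [SetLike σ R] [AddSubgroupClass σ R]
    (𝒜 : ℕ → σ) [GradedRing 𝒜] {M τ : Type u} [AddCommGroup M] [Module R M] [SetLike τ M] [AddSubgroupClass τ M]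
    (ℳ : ℕ → τ) [SetLike.GradedSMul 𝒜 ℳ]

theorem pow_notMem {z : ProjectiveSpectrum 𝒜} {g : R} (hg : g ∉ z.asHomogeneousIdeal) (K : ℕ) :
    g ^ K ∉ z.asHomogeneousIdeal := fun h => hg (z.isPrime.mem_of_pow_mem _ h)

theorem pow_mem_graded' {e : ℕ} {g : R} (hg : g ∈ 𝒜 e) (K : ℕ) : g ^ K ∈ 𝒜 (K * e) := by
  have := SetLike.pow_mem_graded K hg
  simpa [smul_eq_mul] using this

/-- two sections with the same values are equal. -/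
theorem sect_ext {n : ℤ} {U : (Opens (ProjectiveSpectrum.top 𝒜))ᵒᵖ} (s t : GrMod.sect 𝒜 ℳ n U)
    (h : ∀ z : U.unop, ((s.1 z).1 : GrMod.LocMod 𝒜 (M := M) z.1) = (t.1 z).1) : s = t :=
  Subtype.ext (funext fun z => Subtype.ext (h z))

/-- Gluing: compatible fractions `p l / b l ^ K` on the cover `D_+(b l)` define a global section. -/
theorem exists_glue (n : ℤ) {ι : Type*} (b : ι → R) (e : ι → ℕ) (hb : ∀ l, b l ∈ 𝒜 (e l))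
    (hcov : ∀ z : ProjectiveSpectrum 𝒜, ∃ l, b l ∉ z.asHomogeneousIdeal) (K : ℕ) (p : ι → M)
    (hp : ∀ l, (∃ D : ℕ, (D : ℤ) = K * e l + n ∧ p l ∈ ℳ D) ∨ p l = 0)
    (hcompat : ∀ l k, b k ^ K • p l = b l ^ K • p k) :
    ∃ s : GrMod.sect 𝒜 ℳ n (op ⊤), ∀ (z : (⊤ : Opens (ProjectiveSpectrum.top 𝒜))) (l : ι)
      (hl : b l ∉ z.1.asHomogeneousIdeal),
      ((s.1 z).1 : GrMod.LocMod 𝒜 (M := M) z.1) =
        LocalizedModule.mk (p l) ⟨b l ^ K, pow_notMem 𝒜 hl K⟩ := by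
  classical
  choose l₀ hl₀ using hcov
  have key : ∀ (z : ProjectiveSpectrum 𝒜) (l l' : ι) (hl : b l ∉ z.asHomogeneousIdeal)
      (hl' : b l' ∉ z.asHomogeneousIdeal),
      (LocalizedModule.mk (p l) ⟨b l ^ K, pow_notMem 𝒜 hl K⟩ : GrMod.LocMod 𝒜 (M := M) z) =
        LocalizedModule.mk (p l') ⟨b l' ^ K, pow_notMem 𝒜 hl' K⟩ := by
    intro z l l' hl hl'
    rw [LocalizedModule.mk_eq]
    refine ⟨1, ?_⟩
    rw [one_smul, one_smul]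
    exact hcompat l l'
  have hmem : ∀ (z : ProjectiveSpectrum 𝒜) (l : ι) (hl : b l ∉ z.asHomogeneousIdeal),
      (LocalizedModule.mk (p l) ⟨b l ^ K, pow_notMem 𝒜 hl K⟩ : GrMod.LocMod 𝒜 (M := M) z) ∈
        GrMod.tildeAt 𝒜 ℳ n z := by
    intro z l hl
    rcases hp l with ⟨D, hD, hpl⟩ | h0
    · exact GrSect.mk_mem_tildeAt 𝒜 ℳ n z hpl (pow_mem_graded' 𝒜 (hb l) K) (pow_notMem 𝒜 hl K)
        (by rw [hD]; push_cast; rfl)
    · rw [h0, LocalizedModule.zero_mk]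
      exact zero_mem _
  refine ⟨⟨fun z => ⟨LocalizedModule.mk (p (l₀ z.1)) ⟨b (l₀ z.1) ^ K, pow_notMem 𝒜 (hl₀ z.1) K⟩,
    hmem z.1 _ (hl₀ z.1)⟩, ?_⟩, fun z l hl => key z.1 _ _ (hl₀ z.1) hl⟩
  intro z
  have hzV : z.1 ∈ Proj.basicOpen 𝒜 (b (l₀ z.1)) := (Proj.mem_basicOpen 𝒜 _ z.1).2 (hl₀ z.1)
  have hnin : ∀ y : Proj.basicOpen 𝒜 (b (l₀ z.1)), b (l₀ z.1) ^ K ∉ y.1.asHomogeneousIdeal :=
    fun y => GrSect.pow_notMem_of_mem_basicOpen 𝒜 y K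
  rcases hp (l₀ z.1) with ⟨D, hD, hpl⟩ | h0
  · refine ⟨Proj.basicOpen 𝒜 (b (l₀ z.1)), hzV, homOfLE le_top, D, K * e (l₀ z.1), ⟨p (l₀ z.1), hpl⟩,
      ⟨b (l₀ z.1) ^ K, pow_mem_graded' 𝒜 (hb _) K⟩, hnin, Or.inl (by rw [hD]; push_cast; rfl), fun y => ?_⟩
    exact key y.1 _ _ (hl₀ y.1) ((Proj.mem_basicOpen 𝒜 _ y.1).1 y.2)
  · refine ⟨Proj.basicOpen 𝒜 (b (l₀ z.1)), hzV, homOfLE le_top, 0, K * e (l₀ z.1),
      ⟨p (l₀ z.1), by rw [h0]; exact zero_mem _⟩,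
      ⟨b (l₀ z.1) ^ K, pow_mem_graded' 𝒜 (hb _) K⟩, hnin, Or.inr h0, fun y => ?_⟩
    exact key y.1 _ _ (hl₀ y.1) ((Proj.mem_basicOpen 𝒜 _ y.1).1 y.2)

end Groth.Agent.Lib.Helper79.GrLC
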