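import Mathlib
import Groth.Prelude.Def_GrMod3
import Groth.Prelude.Def_W4bk5brsh16IT
import Groth.Agent.Lib.Helper60.LocalCohDT
import Groth.Agent.Lib.Helper79.GrLC2

/-!
# From `Hom(J^N, M)` to global sections of the `M(n)~` (helper79)

`J` the irrelevant ideal, generated by homogeneous `b l` of positive degrees `e l`.  For
`f : J^N → M` the fractions `f(b_l^N)_{n + N e_l} / b_l^N` glue to a global section `sec f n` of `M(n)~`.
-/

set_option autoImplicit false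
universe u
open CategoryTheory AlgebraicGeometry Opposite TopologicalSpace

namespace Groth.Agent.Lib.Helper79.GrLC

open Groth.Agent.Lib.Helper60 LocCoh

section dtDescAdd

variable {R : Type u} [CommRing R] (I : Ideal R) (M : ModuleCat.{u} R) {T : Type*} [AddCommGroup T]
  (φ : ∀ n, (↥(I ^ n) →ₗ[R] M) →+ T)
  (hφ : ∀ (n k : ℕ) (h : n ≤ k) (f : ↥(I ^ n) →ₗ[R] M), φ k (dtRes I h f) = φ n f)

/-- underlying function of `dtDescAdd`. -/
noncomputable def dtDescAddFun (y : (idealTransform I).obj M) : T :=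
  φ (dtMk_surj I M y).choose (dtMk_surj I M y).choose_spec.choose

include hφ in
lemma dtDescAddFun_dtMk (n : ℕ) (f : ↥(I ^ n) →ₗ[R] M) :
    dtDescAddFun I M φ (dtMk I M n f) = φ n f := by
  unfold dtDescAddFun
  have hspec := (dtMk_surj I M (dtMk I M n f)).choose_spec.choose_spec
  rw [dtMk_eq_iff] at hspec
  obtain ⟨k, hn, hm, h⟩ := hspec
  rw [← hφ _ k hn, ← hφ n k hm, h]

/-- A compatible family of additive maps out of `Hom(I^n, M)` induces an additive map out of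
`D_I(M)`. -/
noncomputable def dtDescAdd : (idealTransform I).obj M →+ T where
  toFun := dtDescAddFun I M φ
  map_zero' := by
    rw [← dtMk_zero I M 0, dtDescAddFun_dtMk I M φ hφ, map_zero]
  map_add' y y' := by
    obtain ⟨n, f, rfl⟩ := dtMk_surj I M y
    obtain ⟨m, f', rfl⟩ := dtMk_surj I M y'
    have hn : n ≤ max n m := le_max_left _ _
    have hm : m ≤ max n m := le_max_right _ _
    rw [← dtMk_res I M hn f, ← dtMk_res I M hm f', ← dtMk_add, dtDescAddFun_dtMk I M φ hφ,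
      dtDescAddFun_dtMk I M φ hφ, dtDescAddFun_dtMk I M φ hφ, map_add]

@[simp]
lemma dtDescAdd_dtMk (n : ℕ) (f : ↥(I ^ n) →ₗ[R] M) :
    dtDescAdd I M φ hφ (dtMk I M n f) = φ n f :=
  dtDescAddFun_dtMk I M φ hφ n f

end dtDescAdd

variable {R σ : Type u} [CommRing R] [SetLike σ R] [AddSubgroupClass σ R]
    (𝒜 : ℕ → σ) [GradedRing 𝒜] {M τ : Type u} [AddCommGroup M] [Module R M] [SetLike τ M] [AddSubgroupClass τ M]
    (ℳ : ℕ → τ) [SetLike.GradedSMul 𝒜 ℳ]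

/-- the irrelevant ideal. -/
abbrev irr : Ideal R := (HomogeneousIdeal.irrelevant 𝒜).toIdeal

theorem mk_add_mk_same {S : Submonoid R} (m m' : M) (s : S) :
    (LocalizedModule.mk m s : LocalizedModule S M) + LocalizedModule.mk m' s =
      LocalizedModule.mk (m + m') s := by
  rw [LocalizedModule.mk_add_mk, ← smul_add, LocalizedModule.mk_cancel_common_left]

section gens

variable {ι : Type u} (b : ι → R) (e : ι → ℕ) (hb : ∀ l, b l ∈ 𝒜 (e l))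
  (hspan : Ideal.span (Set.range b) = irr 𝒜)

include hspan in
theorem b_mem (l : ι) : b l ∈ irr 𝒜 := by
  rw [← hspan]; exact Ideal.subset_span ⟨l, rfl⟩

/-- `b l ^ N` as an element of `J ^ N`. -/
def bpow (l : ι) (N : ℕ) : ↥(irr 𝒜 ^ N) := ⟨b l ^ N, Ideal.pow_mem_pow (b_mem 𝒜 b hspan l) N⟩

@[simp] theorem bpow_coe (l : ι) (N : ℕ) : ((bpow 𝒜 b hspan l N : ↥(irr 𝒜 ^ N)) : R) = b l ^ N := rfl

variable [DirectSum.Decomposition ℳ]

/-- numerators of the local fractions. -/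
noncomputable def P {N : ℕ} (f : ↥(irr 𝒜 ^ N) →ₗ[R] M) (n : ℤ) (l : ι) : M :=
  comp ℳ (f (bpow 𝒜 b hspan l N)) (n + N * e l)

theorem P_mem_or {N : ℕ} (f : ↥(irr 𝒜 ^ N) →ₗ[R] M) (n : ℤ) (l : ι) :
    (∃ D : ℕ, (D : ℤ) = N * e l + n ∧ P 𝒜 ℳ b e hspan f n l ∈ ℳ D) ∨ P 𝒜 ℳ b e hspan f n l = 0 := by
  by_cases h : 0 ≤ n + N * e l
  · obtain ⟨D, hD⟩ := Int.eq_ofNat_of_zero_le h
    exact Or.inl ⟨D, by rw [← hD]; ring, comp_mem ℳ _ hD.symm⟩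
  · exact Or.inr (comp_of_neg ℳ _ (by omega))

include hb in
theorem smul_bpow {N : ℕ} (f : ↥(irr 𝒜 ^ N) →ₗ[R] M) (l k : ι) :
    b k ^ N • f (bpow 𝒜 b hspan l N) = b l ^ N • f (bpow 𝒜 b hspan k N) := by
  rw [← map_smul, ← map_smul]
  congr 1
  apply Subtype.ext
  simp only [SetLike.val_smul, bpow_coe, smul_eq_mul]
  ring

include hb in
theorem P_compat {N : ℕ} (f : ↥(irr 𝒜 ^ N) →ₗ[R] M) (n : ℤ) (l k : ι) :
    b k ^ N • P 𝒜 ℳ b e hspan f n l = b l ^ N • P 𝒜 ℳ b e hspan f n k := by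
  unfold P
  rw [← comp_smul 𝒜 ℳ (pow_mem_graded' 𝒜 (hb k) N), ← comp_smul 𝒜 ℳ (pow_mem_graded' 𝒜 (hb l) N),
    smul_bpow 𝒜 b e hb hspan f l k]
  congr 1
  push_cast
  ring

include hspan in
theorem cover (z : ProjectiveSpectrum 𝒜) : ∃ l, b l ∉ z.asHomogeneousIdeal :=
  GrSect.exists_notMem_of_span_eq 𝒜 b hspan z

/-- the degree `n` part of the section defined by `f : J^N → M`. -/
noncomputable def sec {N : ℕ} (f : ↥(irr 𝒜 ^ N) →ₗ[R] M) (n : ℤ) : GrMod.sect 𝒜 ℳ n (op ⊤) :=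
  (exists_glue 𝒜 ℳ n b e hb (cover 𝒜 b hspan) N (P 𝒜 ℳ b e hspan f n) (P_mem_or 𝒜 ℳ b e hspan f n)
    (P_compat 𝒜 ℳ b e hb hspan f n)).choose

theorem sec_val {N : ℕ} (f : ↥(irr 𝒜 ^ N) →ₗ[R] M) (n : ℤ)
    (z : (⊤ : Opens (ProjectiveSpectrum.top 𝒜))) (l : ι) (hl : b l ∉ z.1.asHomogeneousIdeal) :
    (((sec 𝒜 ℳ b e hb hspan f n).1 z).1 : GrMod.LocMod 𝒜 (M := M) z.1) =
      LocalizedModule.mk (P 𝒜 ℳ b e hspan f n l) ⟨b l ^ N, pow_notMem 𝒜 hl N⟩ :=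
  (exists_glue 𝒜 ℳ n b e hb (cover 𝒜 b hspan) N (P 𝒜 ℳ b e hspan f n) (P_mem_or 𝒜 ℳ b e hspan f n)
    (P_compat 𝒜 ℳ b e hb hspan f n)).choose_spec z l hl

theorem P_add {N : ℕ} (f g : ↥(irr 𝒜 ^ N) →ₗ[R] M) (n : ℤ) (l : ι) :
    P 𝒜 ℳ b e hspan (f + g) n l = P 𝒜 ℳ b e hspan f n l + P 𝒜 ℳ b e hspan g n l := by
  unfold P
  rw [LinearMap.add_apply, comp_add]

theorem sec_add {N : ℕ} (f g : ↥(irr 𝒜 ^ N) →ₗ[R] M) (n : ℤ) :
    sec 𝒜 ℳ b e hb hspan (f + g) n = sec 𝒜 ℳ b e hb hspan f n + sec 𝒜 ℳ b e hb hspan g n := by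
  apply sect_ext
  intro z
  obtain ⟨l, hl⟩ := cover 𝒜 b hspan z.1
  rw [Submodule.coe_add, Pi.add_apply, Submodule.coe_add, sec_val 𝒜 ℳ b e hb hspan _ n z l hl,
    sec_val 𝒜 ℳ b e hb hspan _ n z l hl, sec_val 𝒜 ℳ b e hb hspan _ n z l hl, mk_add_mk_same, P_add]

include hb in
theorem P_res {N k : ℕ} (h : N ≤ k) (f : ↥(irr 𝒜 ^ N) →ₗ[R] M) (n : ℤ) (l : ι) :
    P 𝒜 ℳ b e hspan (dtRes (irr 𝒜) h f) n l = b l ^ (k - N) • P 𝒜 ℳ b e hspan f n l := by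
  unfold P
  rw [← comp_smul 𝒜 ℳ (pow_mem_graded' 𝒜 (hb l) (k - N)), ← map_smul]
  have h1 : dtRes (irr 𝒜) h f (bpow 𝒜 b hspan l k) = f (b l ^ (k - N) • bpow 𝒜 b hspan l N) := by
    rw [dtRes_apply]
    congr 1
    apply Subtype.ext
    simp only [SetLike.val_smul, bpow_coe, smul_eq_mul]
    rw [← pow_add]
    congr 1
    omega
  rw [h1]
  congr 1
  have : ((k - N : ℕ) : ℤ) = (k : ℤ) - N := by omega
  push_cast
  rw [this]
  ring

theorem sec_res {N k : ℕ} (h : N ≤ k) (f : ↥(irr 𝒜 ^ N) →ₗ[R] M) (n : ℤ) :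
    sec 𝒜 ℳ b e hb hspan (dtRes (irr 𝒜) h f) n = sec 𝒜 ℳ b e hb hspan f n := by
  apply sect_ext
  intro z
  obtain ⟨l, hl⟩ := cover 𝒜 b hspan z.1
  rw [sec_val 𝒜 ℳ b e hb hspan _ n z l hl, sec_val 𝒜 ℳ b e hb hspan _ n z l hl, P_res 𝒜 ℳ b e hb hspan h,
    LocalizedModule.mk_eq]
  refine ⟨1, ?_⟩
  rw [one_smul, one_smul]
  change b l ^ N • (b l ^ (k - N) • P 𝒜 ℳ b e hspan f n l) = b l ^ k • P 𝒜 ℳ b e hspan f n l
  rw [← mul_smul, ← pow_add]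
  congr 2
  omega

end gens

end Groth.Agent.Lib.Helper79.GrLC
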