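import Mathlib
import Groth.Prelude.Def_GrMod3
import Groth.Prelude.Def_W4bk5brsh16IT
import Groth.Agent.Lib.Helper79.GrLC3

/-!
# The map `Ψ : D_J(M) → ⊕_n Γ(Proj, M(n)~)` (helper79)
-/

set_option autoImplicit false
universe u
open CategoryTheory AlgebraicGeometry Opposite TopologicalSpace

namespace Groth.Agent.Lib.Helper79.GrLC

open Groth.Agent.Lib.Helper60 LocCoh

variable {R σ : Type u} [CommRing R] [SetLike σ R] [AddSubgroupClass σ R]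
    (𝒜 : ℕ → σ) [GradedRing 𝒜] {M τ : Type u} [AddCommGroup M] [Module R M] [SetLike τ M] [AddSubgroupClass τ M]
    (ℳ : ℕ → τ) [SetLike.GradedSMul 𝒜 ℳ]

/-- global sections of `M(n)~`, in the form used by the statement. -/
abbrev Gam (n : ℤ) : Type u := ((GrMod.tilde 𝒜 ℳ n).val.obj (op ⊤) : Type u)

/-- identity map from sections to `Gam`. -/
def toGam (n : ℤ) : GrMod.sect 𝒜 ℳ n (op ⊤) →+ Gam 𝒜 ℳ n where
  toFun s := s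
  map_zero' := rfl
  map_add' _ _ := rfl

/-- identity map back. -/
def ofGam (n : ℤ) : Gam 𝒜 ℳ n →+ GrMod.sect 𝒜 ℳ n (op ⊤) where
  toFun s := s
  map_zero' := rfl
  map_add' _ _ := rfl

theorem ofGam_toGam (n : ℤ) (s : GrMod.sect 𝒜 ℳ n (op ⊤)) : ofGam 𝒜 ℳ n (toGam 𝒜 ℳ n s) = s := rfl
theorem toGam_ofGam (n : ℤ) (s : Gam 𝒜 ℳ n) : toGam 𝒜 ℳ n (ofGam 𝒜 ℳ n s) = s := rfl

theorem alpha_eq (i : ℕ) (m : ℳ i) :
    GrMod.alpha 𝒜 ℳ i m = toGam 𝒜 ℳ i (GrMod.globalOf 𝒜 ℳ m) := rfl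

/-- the target of `Ψ`. -/
abbrev Tot : Type u := DirectSum ℤ (fun n : ℤ => Gam 𝒜 ℳ n)

section gens

variable {ι : Type u} [Fintype ι] (b : ι → R) (e : ι → ℕ) (hb : ∀ l, b l ∈ 𝒜 (e l))
  (hspan : Ideal.span (Set.range b) = irr 𝒜) [DirectSum.Decomposition ℳ]

open Classical in
/-- the finite set of degrees where `sec f n` can be nonzero. -/
noncomputable def Sup {N : ℕ} (f : ↥(irr 𝒜 ^ N) →ₗ[R] M) : Finset ℤ :=
  Finset.univ.biUnion fun l : ι =>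
    ((DirectSum.decompose ℳ (f (bpow 𝒜 b hspan l N))).support).image (fun D : ℕ => (D : ℤ) - N * e l)

theorem P_eq_zero_of_notMem {N : ℕ} (f : ↥(irr 𝒜 ^ N) →ₗ[R] M) (n : ℤ)
    (hn : n ∉ Sup 𝒜 ℳ b e hspan f) (l : ι) : P 𝒜 ℳ b e hspan f n l = 0 := by
  classical
  by_contra h
  obtain ⟨D, hD, hnD⟩ := comp_ne_zero ℳ _ h
  apply hn
  unfold Sup
  rw [Finset.mem_biUnion]
  refine ⟨l, Finset.mem_univ _, ?_⟩
  rw [Finset.mem_image]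
  exact ⟨D, hD, by omega⟩

theorem sec_eq_zero_of_P {N : ℕ} (f : ↥(irr 𝒜 ^ N) →ₗ[R] M) (n : ℤ)
    (h : ∀ l, P 𝒜 ℳ b e hspan f n l = 0) : sec 𝒜 ℳ b e hb hspan f n = 0 := by
  apply sect_ext
  intro z
  obtain ⟨l, hl⟩ := cover 𝒜 b hspan z.1
  rw [sec_val 𝒜 ℳ b e hb hspan _ n z l hl, h l, LocalizedModule.zero_mk]
  rfl

theorem sec_eq_zero_of_notMem {N : ℕ} (f : ↥(irr 𝒜 ^ N) →ₗ[R] M) (n : ℤ)
    (hn : n ∉ Sup 𝒜 ℳ b e hspan f) : sec 𝒜 ℳ b e hb hspan f n = 0 :=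
  sec_eq_zero_of_P 𝒜 ℳ b e hb hspan f n (P_eq_zero_of_notMem 𝒜 ℳ b e hspan f n hn)

/-- the total section attached to `f : J^N → M`. -/
noncomputable def psiFun {N : ℕ} (f : ↥(irr 𝒜 ^ N) →ₗ[R] M) : Tot 𝒜 ℳ :=
  DirectSum.mk (fun n : ℤ => Gam 𝒜 ℳ n) (Sup 𝒜 ℳ b e hspan f)
    (fun n => toGam 𝒜 ℳ n.1 (sec 𝒜 ℳ b e hb hspan f n.1))

theorem psiFun_apply {N : ℕ} (f : ↥(irr 𝒜 ^ N) →ₗ[R] M) (n : ℤ) :
    psiFun 𝒜 ℳ b e hb hspan f n = toGam 𝒜 ℳ n (sec 𝒜 ℳ b e hb hspan f n) := by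
  unfold psiFun
  by_cases hn : n ∈ Sup 𝒜 ℳ b e hspan f
  · rw [DirectSum.mk_apply_of_mem hn]
  · rw [DirectSum.mk_apply_of_notMem hn, sec_eq_zero_of_notMem 𝒜 ℳ b e hb hspan f n hn, map_zero]

/-- `psiFun` as an additive map. -/
noncomputable def psiN (N : ℕ) : (↥(irr 𝒜 ^ N) →ₗ[R] M) →+ Tot 𝒜 ℳ where
  toFun f := psiFun 𝒜 ℳ b e hb hspan f
  map_zero' := by
    apply DirectSum.ext
    intro n
    rw [psiFun_apply, DirectSum.zero_apply]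
    rw [sec_eq_zero_of_P 𝒜 ℳ b e hb hspan 0 n (fun l => by unfold P; rw [LinearMap.zero_apply, comp_zero]),
      map_zero]
  map_add' f g := by
    apply DirectSum.ext
    intro n
    rw [DirectSum.add_apply, psiFun_apply, psiFun_apply, psiFun_apply, sec_add, map_add]

theorem psiN_apply {N : ℕ} (f : ↥(irr 𝒜 ^ N) →ₗ[R] M) (n : ℤ) :
    psiN 𝒜 ℳ b e hb hspan N f n = toGam 𝒜 ℳ n (sec 𝒜 ℳ b e hb hspan f n) :=
  psiFun_apply 𝒜 ℳ b e hb hspan f n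

theorem psiN_res {N k : ℕ} (h : N ≤ k) (f : ↥(irr 𝒜 ^ N) →ₗ[R] M) :
    psiN 𝒜 ℳ b e hb hspan k (dtRes (irr 𝒜) h f) = psiN 𝒜 ℳ b e hb hspan N f := by
  apply DirectSum.ext
  intro n
  rw [psiN_apply, psiN_apply, sec_res]

/-- `Ψ : D_J(M) → ⊕_n Γ(Proj, M(n)~)`. -/
noncomputable def Psi : (idealTransform (irr 𝒜)).obj (ModuleCat.of R M) →+ Tot 𝒜 ℳ :=
  dtDescAdd (irr 𝒜) (ModuleCat.of R M) (fun N => psiN 𝒜 ℳ b e hb hspan N)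
    (fun _ _ h f => psiN_res 𝒜 ℳ b e hb hspan h f)

theorem Psi_dtMk (N : ℕ) (f : ↥(irr 𝒜 ^ N) →ₗ[R] M) :
    Psi 𝒜 ℳ b e hb hspan (dtMk (irr 𝒜) (ModuleCat.of R M) N f) = psiN 𝒜 ℳ b e hb hspan N f :=
  dtDescAdd_dtMk (irr 𝒜) (ModuleCat.of R M) (fun N => psiN 𝒜 ℳ b e hb hspan N)
    (fun _ _ h f => psiN_res 𝒜 ℳ b e hb hspan h f) N f

theorem Psi_dtMk_apply (N : ℕ) (f : ↥(irr 𝒜 ^ N) →ₗ[R] M) (n : ℤ) :
    Psi 𝒜 ℳ b e hb hspan (dtMk (irr 𝒜) (ModuleCat.of R M) N f) n =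
      toGam 𝒜 ℳ n (sec 𝒜 ℳ b e hb hspan f n) := by
  rw [Psi_dtMk, psiN_apply]

/-- on homogeneous elements, `Ψ ∘ η` is `α`. -/
theorem Psi_toDT_of_mem {i : ℕ} (m : ℳ i) :
    Psi 𝒜 ℳ b e hb hspan (toDT (irr 𝒜) M (m : M)) =
      DirectSum.of (fun n : ℤ => Gam 𝒜 ℳ n) (i : ℤ) (GrMod.alpha 𝒜 ℳ i m) := by
  rw [toDT_eq_dtMk]
  apply DirectSum.ext
  intro n
  rw [Psi_dtMk_apply]
  have hP : ∀ l, P 𝒜 ℳ b e hspan ((LinearMap.lsmul R M).flip (m : M) ∘ₗ (irr 𝒜 ^ 0).subtype) n l =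
      if n = (i : ℤ) then (m : M) else 0 := by
    intro l
    unfold P
    have h1 : ((LinearMap.lsmul R M).flip (m : M) ∘ₗ (irr 𝒜 ^ 0).subtype) (bpow 𝒜 b hspan l 0) =
        (m : M) := by
      simp only [bpow, pow_zero, LinearMap.comp_apply, Submodule.subtype_apply, LinearMap.flip_apply,
        LinearMap.lsmul_apply, one_smul]
    rw [h1, comp_of_mem ℳ m.2]
    simp
  by_cases hn : n = (i : ℤ)
  · subst hn
    rw [DirectSum.of_eq_same, alpha_eq]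
    congr 1
    apply sect_ext
    intro z
    obtain ⟨l, hl⟩ := cover 𝒜 b hspan z.1
    rw [sec_val 𝒜 ℳ b e hb hspan _ _ z l hl, hP l, if_pos rfl, GrMod.globalOf_apply_coe]
    simp only [pow_zero]
    rfl
  · rw [DirectSum.of_eq_of_ne _ _ _ hn,
      sec_eq_zero_of_P 𝒜 ℳ b e hb hspan _ n (fun l => by rw [hP l, if_neg hn]), map_zero]

end gens

end Groth.Agent.Lib.Helper79.GrLC
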