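import Mathlib
import Groth.Prelude.Def_GrMod3
import Groth.Prelude.Def_W4bk5brsh16IT
import Groth.Agent.Lib.Helper79.GrLC4

/-!
# Injectivity of `Ψ : D_J(M) → ⊕_n Γ(Proj, M(n)~)` (helper79)
-/

set_option autoImplicit false
universe u
open CategoryTheory AlgebraicGeometry Opposite TopologicalSpace

namespace Groth.Agent.Lib.Helper79.GrLC

open Groth.Agent.Lib.Helper60 LocCoh

variable {R σ : Type u} [CommRing R] [SetLike σ R] [AddSubgroupClass σ R]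
    (𝒜 : ℕ → σ) [GradedRing 𝒜] {M τ : Type u} [AddCommGroup M] [Module R M] [SetLike τ M] [AddSubgroupClass τ M]
    (ℳ : ℕ → τ) [SetLike.GradedSMul 𝒜 ℳ]

section gens

variable {ι : Type u} [Fintype ι] (b : ι → R) (e : ι → ℕ) (hb : ∀ l, b l ∈ 𝒜 (e l))
  (hspan : Ideal.span (Set.range b) = irr 𝒜) [DirectSum.Decomposition ℳ]

include hspan in
/-- a power of `J` lies in the ideal generated by the `b l ^ K`. -/
theorem exists_pow_le_span_pow [IsNoetherianRing R] (K : ℕ) :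
    ∃ k : ℕ, irr 𝒜 ^ k ≤ Ideal.span (Set.range fun l => b l ^ K) := by
  apply Ideal.exists_pow_le_of_le_radical_of_fg _ (IsNoetherian.noetherian _)
  rw [← hspan, Ideal.span_le]
  rintro _ ⟨l, rfl⟩
  exact ⟨K, Ideal.subset_span ⟨l, rfl⟩⟩

/-- a map `J^N → M` killing all `b l ^ K` (`K ≥ N`) vanishes on a power of `J`. -/
theorem exists_res_eq_zero [IsNoetherianRing R] {N : ℕ} (f : ↥(irr 𝒜 ^ N) →ₗ[R] M) (K : ℕ) (hK : N ≤ K)
    (h : ∀ l, f ⟨b l ^ K, Ideal.pow_le_pow_right hK (Ideal.pow_mem_pow (b_mem 𝒜 b hspan l) K)⟩ = 0) :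
    ∃ (k : ℕ) (hN : N ≤ k), dtRes (irr 𝒜) hN f = 0 := by
  obtain ⟨k, hk⟩ := exists_pow_le_span_pow 𝒜 b hspan K
  refine ⟨max k N, le_max_right _ _, ?_⟩
  ext ⟨x, hx⟩
  rw [dtRes_apply, LinearMap.zero_apply]
  have hx' : x ∈ Ideal.span (Set.range fun l => b l ^ K) :=
    hk (Ideal.pow_le_pow_right (le_max_left _ _) hx)
  obtain ⟨a, ha⟩ := (Ideal.mem_span_range_iff_exists_fun).1 hx'
  have hxe : (⟨x, Ideal.pow_le_pow_right (le_max_right k N) hx⟩ : ↥(irr 𝒜 ^ N)) =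
      ∑ l, a l • (⟨b l ^ K, Ideal.pow_le_pow_right hK (Ideal.pow_mem_pow (b_mem 𝒜 b hspan l) K)⟩ :
        ↥(irr 𝒜 ^ N)) := by
    apply Subtype.ext
    rw [AddSubmonoidClass.coe_finsetSum]
    simp only [SetLike.val_smul, smul_eq_mul]
    exact ha.symm
  rw [hxe, map_sum]
  refine Finset.sum_eq_zero fun l _ => ?_
  rw [map_smul, h l, smul_zero]

theorem toGam_injective (n : ℤ) : Function.Injective (toGam 𝒜 ℳ n) := fun _ _ h => h

include hb in
/-- vanishing of all `sec f n` kills `f(b_l^N)` up to a power of `b l`. -/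
theorem exists_pow_smul_eq_zero_of_sec (he : ∀ l, 0 < e l) {N : ℕ} (f : ↥(irr 𝒜 ^ N) →ₗ[R] M)
    (h0 : ∀ n, sec 𝒜 ℳ b e hb hspan f n = 0) (l : ι) :
    ∃ L : ℕ, b l ^ L • f (bpow 𝒜 b hspan l N) = 0 := by
  classical
  have hD : ∀ D : ℕ, ∃ L : ℕ, b l ^ L • comp ℳ (f (bpow 𝒜 b hspan l N)) (D : ℤ) = 0 := by
    intro D
    apply GrSect.exists_pow_smul_eq_zero 𝒜 ℳ (comp_mem ℳ _ rfl) (he l) (hb l)
    intro z hz
    have hs := sec_val 𝒜 ℳ b e hb hspan f ((D : ℤ) - N * e l) ⟨z, trivial⟩ l hz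
    rw [h0] at hs
    have hP : P 𝒜 ℳ b e hspan f ((D : ℤ) - N * e l) l = comp ℳ (f (bpow 𝒜 b hspan l N)) (D : ℤ) := by
      unfold P
      congr 1
      ring
    rw [hP] at hs
    have hs' : (LocalizedModule.mk (comp ℳ (f (bpow 𝒜 b hspan l N)) (D : ℤ))
        ⟨b l ^ N, pow_notMem 𝒜 hz N⟩ : GrMod.LocMod 𝒜 (M := M) z) = 0 := hs.symm
    rw [← LocalizedModule.zero_mk (1 : z.asHomogeneousIdeal.toIdeal.primeCompl),
      LocalizedModule.mk_eq] at hs' ⊢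
    obtain ⟨u, hu⟩ := hs'
    refine ⟨u, ?_⟩
    simp only [one_smul, smul_zero] at hu ⊢
    exact hu
  choose L hL using hD
  refine ⟨(DirectSum.decompose ℳ (f (bpow 𝒜 b hspan l N))).support.sup L, ?_⟩
  set S := (DirectSum.decompose ℳ (f (bpow 𝒜 b hspan l N))).support.sup L with hS
  have hsum : b l ^ S • f (bpow 𝒜 b hspan l N) =
      b l ^ S • ∑ D ∈ (DirectSum.decompose ℳ (f (bpow 𝒜 b hspan l N))).support,
        comp ℳ (f (bpow 𝒜 b hspan l N)) (D : ℤ) := by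
    rw [sum_comp]
  rw [hsum, Finset.smul_sum]
  refine Finset.sum_eq_zero fun D hDs => ?_
  have hle : L D ≤ S := Finset.le_sup hDs
  obtain ⟨c, hc⟩ := Nat.exists_eq_add_of_le hle
  rw [hc, pow_add, mul_comm, mul_smul, hL D, smul_zero]

theorem Psi_injective [IsNoetherianRing R] (he : ∀ l, 0 < e l) :
    Function.Injective (Psi 𝒜 ℳ b e hb hspan) := by
  classical
  rw [injective_iff_map_eq_zero]
  intro y hy
  obtain ⟨N, f, rfl⟩ := dtMk_surj (irr 𝒜) (ModuleCat.of R M) y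
  have h0 : ∀ n, sec 𝒜 ℳ b e hb hspan f n = 0 := by
    intro n
    apply toGam_injective 𝒜 ℳ n
    rw [← Psi_dtMk_apply, hy, map_zero]
    rfl
  choose L hL using exists_pow_smul_eq_zero_of_sec 𝒜 ℳ b e hb hspan he f h0
  set L₀ := Finset.univ.sup L with hL₀
  have hkill : ∀ l, f ⟨b l ^ (N + L₀), Ideal.pow_le_pow_right (Nat.le_add_right N L₀)
      (Ideal.pow_mem_pow (b_mem 𝒜 b hspan l) (N + L₀))⟩ = 0 := by
    intro l
    have hle : L l ≤ L₀ := Finset.le_sup (Finset.mem_univ l)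
    obtain ⟨c, hc⟩ := Nat.exists_eq_add_of_le hle
    have h1 : (⟨b l ^ (N + L₀), Ideal.pow_le_pow_right (Nat.le_add_right N L₀)
        (Ideal.pow_mem_pow (b_mem 𝒜 b hspan l) (N + L₀))⟩ : ↥(irr 𝒜 ^ N)) =
        (b l ^ c * b l ^ L l) • bpow 𝒜 b hspan l N := by
      apply Subtype.ext
      simp only [SetLike.val_smul, bpow_coe, smul_eq_mul]
      rw [hc]
      ring
    rw [h1, map_smul, mul_smul, hL l, smul_zero]
  obtain ⟨k, hN, hk⟩ := exists_res_eq_zero 𝒜 b hspan f (N + L₀) (Nat.le_add_right N L₀) hkill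
  exact (dtMk_eq_zero_iff (irr 𝒜) (ModuleCat.of R M) f).2 ⟨k, hN, hk⟩

end gens

end Groth.Agent.Lib.Helper79.GrLC
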