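import Mathlib

/-!
# Extending compatible data `m l / b l ^ K` to a map `J^N → M` (helper79)

`J = (b l)` an ideal of a Noetherian ring, `m l ∈ M` with `b k ^ K • m l = b l ^ K • m k`.  Then there is
`f : J^N → M` with `f (b l ^ (K + c)) = b l ^ c • m l` for all `l` (Artin–Rees).
-/

set_option autoImplicit false
universe u

namespace Groth.Agent.Lib.Helper79.GrLC

theorem exists_hom_of_compat {R : Type u} [CommRing R] [IsNoetherianRing R] {M : Type*} [AddCommGroup M]
    [Module R M] {ι : Type*} [Fintype ι] (J : Ideal R) (b : ι → R) (hbJ : ∀ l, b l ∈ J)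
    (hspan : Ideal.span (Set.range b) = J) (K : ℕ) (m : ι → M)
    (hcompat : ∀ l k, b k ^ K • m l = b l ^ K • m k) :
    ∃ (N c : ℕ) (hNc : N ≤ K + c) (f : ↥(J ^ N) →ₗ[R] M),
      ∀ l, f ⟨b l ^ (K + c), Ideal.pow_le_pow_right hNc (Ideal.pow_mem_pow (hbJ l) (K + c))⟩ =
        b l ^ c • m l := by
  classical
  let h : (ι → R) →ₗ[R] R := Fintype.linearCombination R (fun l => b l ^ K)
  let g : (ι → R) →ₗ[R] M := Fintype.linearCombination R m
  have hh : ∀ a, h a = ∑ l, a l * b l ^ K := fun a => by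
    simp only [h, Fintype.linearCombination_apply, smul_eq_mul]
  have hg : ∀ a, g a = ∑ l, a l • m l := fun a => by
    simp only [g, Fintype.linearCombination_apply]
  set I' : Ideal R := Ideal.span (Set.range fun l => b l ^ K) with hI'
  have hrange_h : LinearMap.range h = I' := Fintype.range_linearCombination R _
  -- elements of `g (ker h)` are killed by `I'`
  have hkill : ∀ a, h a = 0 → ∀ k, b k ^ K • g a = 0 := by
    intro a ha k
    rw [hg, Finset.smul_sum]
    have : ∀ l ∈ Finset.univ, b k ^ K • a l • m l = (a l * b l ^ K) • m k := by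
      intro l _
      rw [smul_comm, hcompat l k, ← mul_smul]
    rw [Finset.sum_congr rfl this, ← Finset.sum_smul, ← hh, ha, zero_smul]
  have hkill' : ∀ a, h a = 0 → ∀ x ∈ I', x • g a = 0 := by
    intro a ha x hx
    induction hx using Submodule.span_induction with
    | mem x hx =>
      obtain ⟨k, rfl⟩ := hx
      exact hkill a ha k
    | zero => rw [zero_smul]
    | add x y _ _ hx hy => rw [add_smul, hx, hy, add_zero]
    | smul r x _ hx => rw [smul_eq_mul, mul_smul, hx, smul_zero]
  obtain ⟨N₀, hN₀⟩ : ∃ N₀ : ℕ, J ^ N₀ ≤ I' := by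
    apply Ideal.exists_pow_le_of_le_radical_of_fg _ (IsNoetherian.noetherian _)
    rw [← hspan, Ideal.span_le]
    rintro _ ⟨l, rfl⟩
    exact ⟨K, Ideal.subset_span ⟨l, rfl⟩⟩
  obtain ⟨k₀, hk₀⟩ := Ideal.exists_pow_inf_eq_pow_smul J (LinearMap.ker h)
  set n := k₀ + N₀ with hn
  have hzero : ∀ a ∈ (J ^ n • ⊤ : Submodule R (ι → R)), h a = 0 → g a = 0 := by
    intro a ha hha
    have hmem : a ∈ (J ^ n • ⊤ ⊓ LinearMap.ker h : Submodule R (ι → R)) := ⟨ha, hha⟩
    rw [hk₀ n (by omega)] at hmem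
    have hnk : n - k₀ = N₀ := by omega
    rw [hnk] at hmem
    refine Submodule.smul_induction_on (p := fun a => g a = 0) hmem ?_ ?_
    · intro r hr a' ha'
      rw [map_smul]
      exact hkill' a' ha'.2 r (hN₀ hr)
    · intro x y hx hy
      rw [map_add, hx, hy, add_zero]
  set A : Submodule R (ι → R) := J ^ n • ⊤ with hA
  let hA' : ↥A →ₗ[R] R := h.domRestrict A
  let gA : ↥A →ₗ[R] M := g.domRestrict A
  have hker : LinearMap.ker hA' ≤ LinearMap.ker gA := by
    intro a ha
    rw [LinearMap.mem_ker] at ha ⊢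
    exact hzero a.1 a.2 ha
  let f₀ : ↥(LinearMap.range hA') →ₗ[R] M :=
    ((LinearMap.ker hA').liftQ gA hker).comp (hA'.quotKerEquivRange.symm : _ →ₗ[R] _)
  have f₀_spec : ∀ (a : ↥A) (hm : hA' a ∈ LinearMap.range hA'), f₀ ⟨hA' a, hm⟩ = g a.1 := by
    intro a hm
    simp only [f₀, LinearMap.comp_apply, LinearEquiv.coe_coe]
    rw [LinearMap.quotKerEquivRange_symm_apply_image, Submodule.mkQ_apply, Submodule.liftQ_apply]
    rfl
  have hrange : (J ^ (n + N₀) : Submodule R R) ≤ LinearMap.range hA' := by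
    rw [pow_add]
    intro x hx
    refine Submodule.mul_induction_on (C := fun x => x ∈ LinearMap.range hA') hx ?_ ?_
    · intro r hr y hy
      have hy' : y ∈ LinearMap.range h := by rw [hrange_h]; exact hN₀ hy
      obtain ⟨a, rfl⟩ := hy'
      refine ⟨⟨r • a, Submodule.smul_mem_smul hr Submodule.mem_top⟩, ?_⟩
      change h (r • a) = r * h a
      rw [map_smul, smul_eq_mul]
    · intro x y hx hy
      exact add_mem hx hy
  refine ⟨n + N₀, n + N₀, Nat.le_add_left _ _, f₀.comp (Submodule.inclusion hrange), ?_⟩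
  intro l
  have hbc : b l ^ (n + N₀) ∈ J ^ n :=
    Ideal.pow_le_pow_right (Nat.le_add_right n N₀) (Ideal.pow_mem_pow (hbJ l) (n + N₀))
  let a₀ : ↥A := ⟨b l ^ (n + N₀) • Pi.single l 1, Submodule.smul_mem_smul hbc Submodule.mem_top⟩
  have ha₀ : hA' a₀ = b l ^ (K + (n + N₀)) := by
    change h (b l ^ (n + N₀) • Pi.single l 1) = _
    rw [map_smul]
    simp only [h, Fintype.linearCombination_apply_single, smul_eq_mul, one_mul]
    rw [← pow_add, add_comm]
  rw [LinearMap.comp_apply]
  have hsub : Submodule.inclusion hrange ⟨b l ^ (K + (n + N₀)),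
      Ideal.pow_le_pow_right (Nat.le_add_left _ _) (Ideal.pow_mem_pow (hbJ l) (K + (n + N₀)))⟩ =
      ⟨hA' a₀, LinearMap.mem_range_self hA' a₀⟩ := by
    apply Subtype.ext
    rw [Submodule.coe_inclusion]
    exact ha₀.symm
  rw [hsub, f₀_spec]
  change g (b l ^ (n + N₀) • Pi.single l 1) = _
  rw [map_smul]
  simp only [g, Fintype.linearCombination_apply_single, one_smul]

end Groth.Agent.Lib.Helper79.GrLC
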