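import Mathlib
import Groth.Prelude.Def_GrMod3
import Groth.Prelude.Def_W4bk5brsh16IT
import Groth.Agent.Lib.Helper79.GrLC5
import Groth.Agent.Lib.Helper79.GrLC6

/-!
# Surjectivity of `Ψ : D_J(M) → ⊕_n Γ(Proj, M(n)~)` (helper79)
-/

set_option autoImplicit false
universe u
open CategoryTheory AlgebraicGeometry Opposite TopologicalSpace

namespace Groth.Agent.Lib.Helper79.GrLC

open Groth.Agent.Lib.Helper60 LocCoh

variable {R σ : Type u} [CommRing R] [SetLike σ R] [AddSubgroupClass σ R]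
    (𝒜 : ℕ → σ) [GradedRing 𝒜] {M τ : Type u} [AddCommGroup M] [Module R M] [SetLike τ M] [AddSubgroupClass τ M]
    (ℳ : ℕ → τ) [SetLike.GradedSMul 𝒜 ℳ]

section gens

variable {ι : Type u} [Fintype ι] (b : ι → R) (e : ι → ℕ) (hb : ∀ l, b l ∈ 𝒜 (e l))
  (hspan : Ideal.span (Set.range b) = irr 𝒜) [DirectSum.Decomposition ℳ]

include hb in
/-- a global section is given by compatible fractions `m l / b l ^ K` with a common exponent. -/
theorem exists_compatible_fracs (he : ∀ l, 0 < e l) (n : ℤ) (s : GrMod.sect 𝒜 ℳ n (op ⊤)) :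
    ∃ (K : ℕ) (m : ι → M), (∀ l, ∃ D : ℕ, (D : ℤ) = K * e l + n ∧ m l ∈ ℳ D) ∧
      (∀ l k, b k ^ K • m l = b l ^ K • m k) ∧
      ∀ (z : (⊤ : Opens (ProjectiveSpectrum.top 𝒜))) (l : ι) (hl : b l ∉ z.1.asHomogeneousIdeal),
        ((s.1 z).1 : GrMod.LocMod 𝒜 (M := M) z.1) =
          LocalizedModule.mk (m l) ⟨b l ^ K, pow_notMem 𝒜 hl K⟩ := by
  classical
  -- Step 1: a single fraction on each `D_+(b l)`
  have h1 : ∀ l, ∃ (K D : ℕ) (m : M), (D : ℤ) = K * e l + n ∧ m ∈ ℳ D ∧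
      ∀ (z : (⊤ : Opens (ProjectiveSpectrum.top 𝒜))) (hl : b l ∉ z.1.asHomogeneousIdeal),
        ((s.1 z).1 : GrMod.LocMod 𝒜 (M := M) z.1) =
          LocalizedModule.mk m ⟨b l ^ K, pow_notMem 𝒜 hl K⟩ := by
    intro l
    obtain ⟨K, D, m, hD, hm, hval⟩ := GrSect.exists_global_frac 𝒜 ℳ n (he l) (hb l)
      (GrMod.res 𝒜 ℳ n (homOfLE (le_top : Proj.basicOpen 𝒜 (b l) ≤ ⊤)).op s)
    exact ⟨K, D, m, hD, hm, fun z hl => hval ⟨z.1, (Proj.mem_basicOpen 𝒜 _ z.1).2 hl⟩⟩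
  choose K₁ D₁ m₁ hD₁ hm₁ hval₁ using h1
  -- Step 2: common exponent
  set K₂ := Finset.univ.sup K₁ with hK₂
  have hc : ∀ l, ∃ c : ℕ, K₂ = K₁ l + c := fun l =>
    Nat.exists_eq_add_of_le (Finset.le_sup (Finset.mem_univ l))
  choose c hc using hc
  let m₂ : ι → M := fun l => b l ^ c l • m₁ l
  let D₂ : ι → ℕ := fun l => c l * e l + D₁ l
  have hm₂ : ∀ l, m₂ l ∈ ℳ (D₂ l) := fun l =>
    SetLike.GradedSMul.smul_mem (pow_mem_graded' 𝒜 (hb l) (c l)) (hm₁ l)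
  have hD₂ : ∀ l, (D₂ l : ℤ) = K₂ * e l + n := by
    intro l
    have hK : (K₂ : ℤ) = K₁ l + c l := by exact_mod_cast hc l
    simp only [D₂]
    push_cast
    linear_combination (hD₁ l) - (e l : ℤ) * hK
  have hval₂ : ∀ (z : (⊤ : Opens (ProjectiveSpectrum.top 𝒜))) (l : ι)
      (hl : b l ∉ z.1.asHomogeneousIdeal),
      ((s.1 z).1 : GrMod.LocMod 𝒜 (M := M) z.1) =
        LocalizedModule.mk (m₂ l) ⟨b l ^ K₂, pow_notMem 𝒜 hl K₂⟩ := by
    intro z l hl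
    rw [hval₁ l z hl, LocalizedModule.mk_eq]
    refine ⟨1, ?_⟩
    rw [one_smul, one_smul]
    change b l ^ K₂ • m₁ l = b l ^ K₁ l • (b l ^ c l • m₁ l)
    rw [← mul_smul, ← pow_add, ← hc l]
  -- Step 3: the overlaps
  let w : ι → ι → M := fun l k => b k ^ K₂ • m₂ l - b l ^ K₂ • m₂ k
  have hdeg : ∀ l k, K₂ * e k + D₂ l = K₂ * e l + D₂ k := by
    intro l k
    have : ((K₂ * e k + D₂ l : ℕ) : ℤ) = ((K₂ * e l + D₂ k : ℕ) : ℤ) := by
      push_cast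
      rw [hD₂ l, hD₂ k]
      ring
    exact_mod_cast this
  have hw : ∀ l k, w l k ∈ ℳ (K₂ * e k + D₂ l) := by
    intro l k
    refine sub_mem (SetLike.GradedSMul.smul_mem (pow_mem_graded' 𝒜 (hb k) K₂) (hm₂ l)) ?_
    rw [hdeg l k]
    exact SetLike.GradedSMul.smul_mem (pow_mem_graded' 𝒜 (hb l) K₂) (hm₂ k)
  have hL : ∀ l k, ∃ L : ℕ, (b l * b k) ^ L • w l k = 0 := by
    intro l k
    apply GrSect.exists_pow_smul_eq_zero 𝒜 ℳ (hw l k) (show 0 < e l + e k by have := he l; omega)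
      (SetLike.mul_mem_graded (hb l) (hb k))
    intro z hz
    have hl : b l ∉ z.asHomogeneousIdeal := fun h => hz (Ideal.mul_mem_right _ _ h)
    have hk : b k ∉ z.asHomogeneousIdeal := fun h => hz (Ideal.mul_mem_left _ _ h)
    have h2 := (hval₂ ⟨z, trivial⟩ l hl).symm.trans (hval₂ ⟨z, trivial⟩ k hk)
    rw [LocalizedModule.mk_eq] at h2
    obtain ⟨u, hu⟩ := h2
    rw [← LocalizedModule.zero_mk (1 : z.asHomogeneousIdeal.toIdeal.primeCompl), LocalizedModule.mk_eq]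
    refine ⟨u, ?_⟩
    simp only [one_smul, smul_zero]
    change u • (b k ^ K₂ • m₂ l) = u • (b l ^ K₂ • m₂ k) at hu
    simp only [w]
    rw [smul_sub, hu, sub_self]
  choose L hL using hL
  set L₃ := Finset.univ.sup (fun p : ι × ι => L p.1 p.2) with hL₃
  have hL' : ∀ l k, (b l * b k) ^ L₃ • w l k = 0 := by
    intro l k
    have hle : L l k ≤ L₃ := Finset.le_sup (f := fun p : ι × ι => L p.1 p.2) (Finset.mem_univ (l, k))
    obtain ⟨d, hd⟩ := Nat.exists_eq_add_of_le hle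
    rw [hd, pow_add, mul_comm, mul_smul, hL l k, smul_zero]
  -- Step 4
  refine ⟨K₂ + L₃, fun l => b l ^ L₃ • m₂ l, fun l => ⟨L₃ * e l + D₂ l, ?_, ?_⟩, ?_, ?_⟩
  · push_cast
    rw [hD₂ l]
    ring
  · exact SetLike.GradedSMul.smul_mem (pow_mem_graded' 𝒜 (hb l) L₃) (hm₂ l)
  · intro l k
    rw [← sub_eq_zero]
    have : b k ^ (K₂ + L₃) • b l ^ L₃ • m₂ l - b l ^ (K₂ + L₃) • b k ^ L₃ • m₂ k =
        (b l * b k) ^ L₃ • w l k := by
      simp only [w]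
      rw [smul_sub]
      simp only [← mul_smul]
      congr 2 <;> ring
    rw [this, hL' l k]
  · intro z l hl
    rw [hval₂ z l hl, LocalizedModule.mk_eq]
    refine ⟨1, ?_⟩
    rw [one_smul, one_smul]
    change b l ^ (K₂ + L₃) • m₂ l = b l ^ K₂ • (b l ^ L₃ • m₂ l)
    generalize m₂ l = y
    rw [← mul_smul, ← pow_add]

end gens

end Groth.Agent.Lib.Helper79.GrLC
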