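import Mathlib
import Groth.Prelude.Def_GrMod3
import Groth.Prelude.Def_Wider
import Groth.Prelude.Def_W4bk5brsh16IT
import Groth.Agent.Lib.Helper79.GrLC7

/-!
# `coker (M → ⊕_n Γ(Proj, M(n)~)) ≅ H^1_{R_+}(M)` (helper79)
-/

set_option autoImplicit false
universe u
open CategoryTheory AlgebraicGeometry Opposite TopologicalSpace

namespace Groth.Agent.Lib.Helper79.GrLC

open Groth.Agent.Lib.Helper60 LocCoh

variable {R σ : Type u} [CommRing R] [SetLike σ R] [AddSubgroupClass σ R]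
    (𝒜 : ℕ → σ) [GradedRing 𝒜] {M τ : Type u} [AddCommGroup M] [Module R M] [SetLike τ M] [AddSubgroupClass τ M]
    (ℳ : ℕ → τ) [SetLike.GradedSMul 𝒜 ℳ]

section gens

variable {ι : Type u} [Fintype ι] (b : ι → R) (e : ι → ℕ) (hb : ∀ l, b l ∈ 𝒜 (e l))
  (hspan : Ideal.span (Set.range b) = irr 𝒜) [DirectSum.Decomposition ℳ]

theorem Psi_of_mem_range [IsNoetherianRing R] (he : ∀ l, 0 < e l) (n : ℤ) (s : Gam 𝒜 ℳ n) :
    ∃ y, Psi 𝒜 ℳ b e hb hspan y = DirectSum.of (fun n : ℤ => Gam 𝒜 ℳ n) n s := by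
  obtain ⟨K, m, hmD, hcompat, hval⟩ := exists_compatible_fracs 𝒜 ℳ b e hb he n (ofGam 𝒜 ℳ n s)
  obtain ⟨N, c, hNc, f, hf⟩ :=
    exists_hom_of_compat (irr 𝒜) b (b_mem 𝒜 b hspan) hspan K m hcompat
  refine ⟨dtMk (irr 𝒜) (ModuleCat.of R M) N f, ?_⟩
  rw [← dtMk_res (irr 𝒜) (ModuleCat.of R M) hNc f]
  apply DirectSum.ext
  intro n'
  rw [Psi_dtMk_apply]
  have hP : ∀ l, P 𝒜 ℳ b e hspan (dtRes (irr 𝒜) hNc f) n' l =
      if n' = n then b l ^ c • m l else 0 := by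
    intro l
    unfold P
    have h1 : dtRes (irr 𝒜) hNc f (bpow 𝒜 b hspan l (K + c)) = b l ^ c • m l := by
      rw [dtRes_apply]
      exact hf l
    rw [h1]
    obtain ⟨D, hD, hmem⟩ := hmD l
    have hmem' : b l ^ c • m l ∈ ℳ (c * e l + D) :=
      SetLike.GradedSMul.smul_mem (pow_mem_graded' 𝒜 (hb l) c) hmem
    rw [comp_of_mem ℳ hmem']
    by_cases hn : n' = n
    · rw [if_pos hn, if_pos]
      subst hn
      push_cast
      rw [hD]
      ring
    · rw [if_neg hn, if_neg]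
      intro h
      apply hn
      push_cast at h
      rw [hD] at h
      linear_combination h
  by_cases hn : n' = n
  · subst hn
    rw [DirectSum.of_eq_same]
    have hsec : sec 𝒜 ℳ b e hb hspan (dtRes (irr 𝒜) hNc f) n' = ofGam 𝒜 ℳ n' s := by
      apply sect_ext
      intro z
      obtain ⟨l, hl⟩ := cover 𝒜 b hspan z.1
      rw [sec_val 𝒜 ℳ b e hb hspan _ _ z l hl, hP l, if_pos rfl, hval z l hl, LocalizedModule.mk_eq]
      refine ⟨1, ?_⟩
      rw [one_smul, one_smul]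
      change b l ^ K • (b l ^ c • m l) = b l ^ (K + c) • m l
      rw [← mul_smul, ← pow_add]
    rw [hsec]
    rfl
  · rw [DirectSum.of_eq_of_ne _ _ _ hn,
      sec_eq_zero_of_P 𝒜 ℳ b e hb hspan _ n' (fun l => by rw [hP l, if_neg hn]), map_zero]

theorem Psi_surjective [IsNoetherianRing R] (he : ∀ l, 0 < e l) :
    Function.Surjective (Psi 𝒜 ℳ b e hb hspan) := by
  intro t
  induction t using DirectSum.induction_on with
  | zero => exact ⟨0, map_zero _⟩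
  | of n s => exact Psi_of_mem_range 𝒜 ℳ b e hb hspan he n s
  | add x y hx hy =>
    obtain ⟨x', rfl⟩ := hx
    obtain ⟨y', rfl⟩ := hy
    exact ⟨x' + y', map_add _ _ _⟩

end gens

/-- **`coker (α : M → ⊕_n Γ(Proj, M(n)~)) ≅ H^1_{R_+}(M)`** (additively). -/
theorem main [IsNoetherianRing R] [DirectSum.Decomposition ℳ] :
    Nonempty ((DirectSum ℤ (fun n : ℤ => ((GrMod.tilde 𝒜 ℳ n).val.obj (op ⊤) : Type u)) ⧸
        AddSubgroup.closure (⋃ i : ℕ, Set.range (fun m : ℳ i =>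
          DirectSum.of (fun n : ℤ => ((GrMod.tilde 𝒜 ℳ n).val.obj (op ⊤) : Type u)) (i : ℤ)
            (GrMod.alpha 𝒜 ℳ i m)))) ≃+
      LocCoh.H (HomogeneousIdeal.irrelevant 𝒜).toIdeal 1 M) := by
  classical
  obtain ⟨ι, _, b, e, he, hb, hspan⟩ := GrSect.exists_generators 𝒜
  have hspan' : Ideal.span (Set.range b) = irr 𝒜 := hspan
  let E : (idealTransform (irr 𝒜)).obj (ModuleCat.of R M) ≃+ Tot 𝒜 ℳ :=
    AddEquiv.ofBijective (Psi 𝒜 ℳ b e hb hspan')
      ⟨Psi_injective 𝒜 ℳ b e hb hspan' he, Psi_surjective 𝒜 ℳ b e hb hspan' he⟩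
  let χ : Tot 𝒜 ℳ →+ LocCoh.H (irr 𝒜) 1 M :=
    (dtToH1 (irr 𝒜) (ModuleCat.of R M)).toAddMonoidHom.comp E.symm.toAddMonoidHom
  have hχ : ∀ x, χ x = dtToH1 (irr 𝒜) (ModuleCat.of R M) (E.symm x) := fun _ => rfl
  have hχsurj : Function.Surjective χ :=
    (dtToH1_surjective (irr 𝒜) (ModuleCat.of R M)).comp E.symm.surjective
  set C : AddSubgroup (Tot 𝒜 ℳ) := AddSubgroup.closure (⋃ i : ℕ, Set.range (fun m : ℳ i =>
      DirectSum.of (fun n : ℤ => Gam 𝒜 ℳ n) (i : ℤ) (GrMod.alpha 𝒜 ℳ i m))) with hC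
  have hgen : ∀ (i : ℕ) (m : ℳ i),
      DirectSum.of (fun n : ℤ => Gam 𝒜 ℳ n) (i : ℤ) (GrMod.alpha 𝒜 ℳ i m) ∈ C :=
    fun i m => AddSubgroup.subset_closure (Set.mem_iUnion.2 ⟨i, m, rfl⟩)
  have key : ∀ m : M, E (toDT (irr 𝒜) M m) ∈ C := by
    intro m
    have hm : m = ∑ i ∈ (DirectSum.decompose ℳ m).support, ((DirectSum.decompose ℳ m i : ℳ i) : M) :=
      (DirectSum.sum_support_decompose ℳ m).symm
    have h2 : E (toDT (irr 𝒜) M m) = ∑ i ∈ (DirectSum.decompose ℳ m).support,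
        E (toDT (irr 𝒜) M ((DirectSum.decompose ℳ m i : ℳ i) : M)) := by
      conv_lhs => rw [hm]
      rw [map_sum, map_sum]
    rw [h2]
    refine sum_mem fun i _ => ?_
    have : E (toDT (irr 𝒜) M ((DirectSum.decompose ℳ m i : ℳ i) : M)) =
        DirectSum.of (fun n : ℤ => Gam 𝒜 ℳ n) (i : ℤ) (GrMod.alpha 𝒜 ℳ i (DirectSum.decompose ℳ m i)) :=
      Psi_toDT_of_mem 𝒜 ℳ b e hb hspan' (DirectSum.decompose ℳ m i)
    rw [this]
    exact hgen i _
  have hker : χ.ker = C := by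
    apply le_antisymm
    · intro x hx
      rw [AddMonoidHom.mem_ker, hχ] at hx
      have hx' : E.symm x ∈ LinearMap.range (toDT (irr 𝒜) M) := by
        rw [← ker_dtToH1 (irr 𝒜) (ModuleCat.of R M)]
        exact hx
      obtain ⟨m, hm⟩ := hx'
      have := key m
      rw [hm, AddEquiv.apply_symm_apply] at this
      exact this
    · rw [hC, AddSubgroup.closure_le]
      intro x hx
      obtain ⟨i, m, rfl⟩ := Set.mem_iUnion.1 hx
      change _ ∈ χ.ker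
      rw [AddMonoidHom.mem_ker, hχ]
      have : E.symm (DirectSum.of (fun n : ℤ => Gam 𝒜 ℳ n) (i : ℤ) (GrMod.alpha 𝒜 ℳ i m)) =
          toDT (irr 𝒜) M (m : M) := by
        rw [AddEquiv.symm_apply_eq]
        exact (Psi_toDT_of_mem 𝒜 ℳ b e hb hspan' m).symm
      rw [this]
      exact dtToH1_toDT (irr 𝒜) (ModuleCat.of R M) (m : M)
  exact ⟨(QuotientAddGroup.quotientAddEquivOfEq hker.symm).trans
    (QuotientAddGroup.quotientKerEquivOfSurjective χ hχsurj)⟩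

end Groth.Agent.Lib.Helper79.GrLC
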