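import Mathlib
import Groth.Prelude.Def_GrMod3
import Groth.Agent.Lib.Helper79.GrSerre

/-!
# Sections of `M(n)~` are eventually generated over the degree one part (helper79)
-/

set_option autoImplicit false
universe u
open CategoryTheory AlgebraicGeometry Opposite TopologicalSpace

namespace Groth.Agent.Lib.Helper79.GrSerre

open Groth.Agent.Lib.Helper79.GrSect

variable {R σ : Type u} [CommRing R] [SetLike σ R] [AddSubgroupClass σ R]
    (𝒜 : ℕ → σ) [GradedRing 𝒜] {M τ : Type u} [AddCommGroup M] [Module R M] [SetLike τ M] [AddSubgroupClass τ M]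
    (ℳ : ℕ → τ) [SetLike.GradedSMul 𝒜 ℳ]

/-- R1: if the irrelevant ideal is generated in degree one, `A_{p+1} = A_1 A_p`. -/
theorem mem_closure_mul_of_mem_succ
    (hgen : (HomogeneousIdeal.irrelevant 𝒜).toIdeal = Ideal.span (𝒜 1 : Set R)) (p d : ℕ) (hd : d = p + 1)
    {x : R} (hx : x ∈ 𝒜 d) :
    x ∈ AddSubgroup.closure {y : R | ∃ a ∈ 𝒜 1, ∃ q ∈ 𝒜 p, y = a * q} := by
  classical
  subst hd
  have hx' : x ∈ Ideal.span (𝒜 1 : Set R) :=
    hgen ▸ mem_irrelevant_of_mem_pos 𝒜 (Nat.succ_pos p) hx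
  obtain ⟨N, r, y, hsum⟩ := Submodule.mem_span_set'.1 hx'
  have h2 : x = ∑ i, ((DirectSum.decompose 𝒜 (r i) p : 𝒜 p) : R) * (y i : R) := by
    have h1 := congrArg (fun t => ((DirectSum.decompose 𝒜 t (p + 1) : 𝒜 (p + 1)) : R)) hsum.symm
    simp only [DirectSum.decompose_sum] at h1
    rw [DFinsupp.finsetSum_apply, AddSubmonoidClass.coe_finsetSum,
      DirectSum.decompose_of_mem_same 𝒜 hx] at h1
    rw [h1]
    refine Finset.sum_congr rfl fun i _ => ?_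
    exact decompose_smul_of_mem' 𝒜 𝒜 (r i) (y i).2 p (p + 1) rfl
  rw [h2]
  refine sum_mem fun i _ => AddSubgroup.subset_closure
    ⟨(y i : R), (y i).2, _, (DirectSum.decompose 𝒜 (r i) p).2, mul_comm _ _⟩

/-- M1: under (TF), and generation in degree one, `M_{n+1} = A_1 M_n` for large `n`. -/
theorem exists_bound_mem_closure_smul [DirectSum.Decomposition ℳ]
    (hgen : (HomogeneousIdeal.irrelevant 𝒜).toIdeal = Ideal.span (𝒜 1 : Set R))
    (k : ℕ) (hTF : (Submodule.span R (⋃ i ∈ Set.Ici k, (ℳ i : Set M))).FG) :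
    ∃ c : ℕ, ∀ n, c ≤ n → ∀ x ∈ ℳ (n + 1),
      x ∈ AddSubgroup.closure {y : M | ∃ a ∈ 𝒜 1, ∃ m' ∈ ℳ n, y = a • m'} := by
  classical
  obtain ⟨S', hS's, hspan⟩ := (Submodule.fg_span_iff_fg_span_finset_subset _).1 hTF
  have hdeg : ∀ u ∈ S', ∃ i, k ≤ i ∧ u ∈ ℳ i := by
    intro u hu
    have := hS's hu
    simp only [Set.mem_iUnion, Set.mem_Ici] at this
    obtain ⟨i, hi, hu'⟩ := this
    exact ⟨i, hi, hu'⟩
  choose cdeg hk hcu using hdeg
  set c := max k (S'.attach.sup fun u => cdeg u.1 u.2) with hc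
  have hcle : ∀ u (hu : u ∈ S'), cdeg u hu ≤ c := fun u hu =>
    le_trans (Finset.le_sup (f := fun u : {u // u ∈ S'} => cdeg u.1 u.2) (Finset.mem_attach S' ⟨u, hu⟩))
      (le_max_right _ _)
  refine ⟨c, fun n hn x hx => ?_⟩
  have hkc : k ≤ c := le_max_left _ _
  have hxS : x ∈ Submodule.span R (⋃ i ∈ Set.Ici k, (ℳ i : Set M)) := by
    refine Submodule.subset_span ?_
    simp only [Set.mem_iUnion, Set.mem_Ici]
    exact ⟨n + 1, by omega, hx⟩
  rw [hspan] at hxS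
  obtain ⟨N, a, u, hsum⟩ := Submodule.mem_span_set'.1 hxS
  have huS : ∀ i, (u i : M) ∈ S' := fun i => Finset.mem_coe.1 (u i).2
  have h2 : x = ∑ i, ((DirectSum.decompose 𝒜 (a i) (n + 1 - cdeg _ (huS i)) :
      𝒜 (n + 1 - cdeg _ (huS i))) : R) • (u i : M) := by
    have h1 := congrArg (fun t => ((DirectSum.decompose ℳ t (n + 1) : ℳ (n + 1)) : M)) hsum.symm
    simp only [DirectSum.decompose_sum] at h1
    rw [DFinsupp.finsetSum_apply, AddSubmonoidClass.coe_finsetSum,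
      DirectSum.decompose_of_mem_same ℳ hx] at h1
    rw [h1]
    refine Finset.sum_congr rfl fun i _ => ?_
    exact decompose_smul_of_mem' 𝒜 ℳ (a i) (hcu _ (huS i)) _ (n + 1)
      (by have := hcle _ (huS i); omega)
  rw [h2]
  refine sum_mem fun i _ => ?_
  have hci : cdeg _ (huS i) ≤ n := le_trans (hcle _ (huS i)) hn
  have hR1 := mem_closure_mul_of_mem_succ 𝒜 hgen (n - cdeg _ (huS i)) (n + 1 - cdeg _ (huS i))
    (by omega) (DirectSum.decompose 𝒜 (a i) (n + 1 - cdeg _ (huS i))).2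
  have hle : AddSubgroup.closure {y : R | ∃ a ∈ 𝒜 1, ∃ q ∈ 𝒜 (n - cdeg _ (huS i)), y = a * q} ≤
      (AddSubgroup.closure {y : M | ∃ a ∈ 𝒜 1, ∃ m' ∈ ℳ n, y = a • m'}).comap
        (LinearMap.toSpanSingleton R M (u i : M)).toAddMonoidHom := by
    refine (AddSubgroup.closure_le _).2 ?_
    rintro y ⟨a', ha', q, hq, rfl⟩
    rw [SetLike.mem_coe, AddSubgroup.mem_comap]
    change (a' * q) • (u i : M) ∈ AddSubgroup.closure {y : M | ∃ a ∈ 𝒜 1, ∃ m' ∈ ℳ n, y = a • m'}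
    rw [mul_smul]
    refine AddSubgroup.subset_closure ⟨a', ha', q • (u i : M), ?_, rfl⟩
    have : q • (u i : M) ∈ ℳ (n - cdeg _ (huS i) + cdeg _ (huS i)) :=
      SetLike.GradedSMul.smul_mem hq (hcu _ (huS i))
    have hd : n - cdeg _ (huS i) + cdeg _ (huS i) = n := by omega
    rw [hd] at this
    exact this
  have := hle hR1
  rw [AddSubgroup.mem_comap] at this
  exact this

/-- M2: `M_{n+e} = A_e M_n` for `n` beyond the bound of M1. -/
theorem mem_closure_smul_of_le (c : ℕ)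
    (hc : ∀ n, c ≤ n → ∀ x ∈ ℳ (n + 1),
      x ∈ AddSubgroup.closure {y : M | ∃ a ∈ 𝒜 1, ∃ m' ∈ ℳ n, y = a • m'})
    (n : ℕ) (hn : c ≤ n) (e : ℕ) :
    ∀ x ∈ ℳ (n + e), x ∈ AddSubgroup.closure {y : M | ∃ a ∈ 𝒜 e, ∃ m' ∈ ℳ n, y = a • m'} := by
  induction e with
  | zero =>
    intro x hx
    exact AddSubgroup.subset_closure ⟨1, SetLike.GradedOne.one_mem, x, hx, (one_smul _ _).symm⟩
  | succ e ih =>
    intro x hx
    have h1 := hc (n + e) (by omega) x hx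
    refine (AddSubgroup.closure_le _).2 ?_ h1
    rintro y ⟨a, ha, m'', hm'', rfl⟩
    have h2 := ih m'' hm''
    clear hm'' h1 hx
    induction h2 using AddSubgroup.closure_induction with
    | mem y hy =>
      obtain ⟨a₂, ha₂, m', hm', rfl⟩ := hy
      refine AddSubgroup.subset_closure ⟨a * a₂, ?_, m', hm', (mul_smul _ _ _).symm⟩
      have := SetLike.mul_mem_graded ha ha₂
      rw [Nat.add_comm] at this
      exact this
    | zero => rw [smul_zero]; exact zero_mem _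
    | add x y _ _ hx hy => rw [smul_add]; exact add_mem hx hy
    | neg x _ hx => rw [smul_neg]; exact neg_mem hx

/-- A global section of `M(nz)~`, `nz = n`, in the range of `alpha_n`, has values `m / 1`. -/
theorem exists_mk_of_sect (n : ℕ) (hs : Function.Surjective (GrMod.alpha 𝒜 ℳ n)) (nz : ℤ) (hnz : nz = n)
    (s : GrMod.sect 𝒜 ℳ nz (op (⊤ : Opens (ProjectiveSpectrum.top 𝒜)))) :
    ∃ m ∈ ℳ n, ∀ z : ProjectiveSpectrum 𝒜, gval 𝒜 ℳ s z = LocalizedModule.mk m 1 := by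
  subst hnz
  obtain ⟨m, hm⟩ := hs s
  refine ⟨m, m.2, fun z => ?_⟩
  have := congrArg (fun f : GrMod.sect 𝒜 ℳ (n : ℤ) (op (⊤ : Opens (ProjectiveSpectrum.top 𝒜))) =>
    gval 𝒜 ℳ f z) hm
  exact this.symm

set_option maxHeartbeats 2000000 in
set_option synthInstance.maxHeartbeats 200000 in
/-- Sections of `M(k+e)~` are generated by `A_e` times sections of `M(k)~`, for `k` large. -/
theorem iSup_range_smulSect_eq_top [IsNoetherianRing R] [DirectSum.Decomposition ℳ]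
    (hgen : (HomogeneousIdeal.irrelevant 𝒜).toIdeal = Ideal.span (𝒜 1 : Set R))
    (hTF : ∃ k : ℕ, (Submodule.span R (⋃ i ∈ Set.Ici k, (ℳ i : Set M))).FG) :
    ∃ k : ℕ, ∀ e : ℕ,
      (⨆ a : 𝒜 e, (GrMod.smulSect 𝒜 ℳ a (k : ℤ)
        (op (⊤ : Opens (ProjectiveSpectrum.top 𝒜)))).range) = ⊤ := by
  classical
  obtain ⟨k0, hk0⟩ := hTF
  obtain ⟨ι, _, b, eb, he, hb, hspan⟩ := exists_generators 𝒜
  obtain ⟨D2, h2⟩ := exists_bound_alpha_surjective 𝒜 ℳ b eb he hb hspan k0 hk0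
  obtain ⟨c, hc⟩ := exists_bound_mem_closure_smul 𝒜 ℳ hgen k0 hk0
  obtain ⟨k, hk⟩ : ∃ k, k = max (D2 + 1) c := ⟨_, rfl⟩
  have hk1 : D2 < k := by rw [hk]; exact lt_of_lt_of_le (Nat.lt_succ_self _) (le_max_left _ _)
  have hk2 : c ≤ k := by rw [hk]; exact le_max_right _ _
  refine ⟨k, fun e => ?_⟩
  rw [eq_top_iff]
  intro t _
  obtain ⟨m, hm, hval⟩ := exists_mk_of_sect 𝒜 ℳ (k + e) (h2 (k + e) (by omega)) ((k : ℤ) + (e : ℤ))
    (by push_cast; rfl) t
  have hmem := mem_closure_smul_of_le 𝒜 ℳ c hc k hk2 e m hm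
  have key : ∀ m ∈ AddSubgroup.closure {y : M | ∃ a ∈ 𝒜 e, ∃ m' ∈ ℳ k, y = a • m'},
      ∃ t' ∈ (⨆ a : 𝒜 e, (GrMod.smulSect 𝒜 ℳ a (k : ℤ)
        (op (⊤ : Opens (ProjectiveSpectrum.top 𝒜)))).range),
        ∀ z : ProjectiveSpectrum 𝒜, gval 𝒜 ℳ t' z = LocalizedModule.mk m 1 := by
    intro m hm
    induction hm using AddSubgroup.closure_induction with
    | mem y hy =>
      obtain ⟨a, ha, m', hm', rfl⟩ := hy
      refine ⟨GrMod.smulSect 𝒜 ℳ ⟨a, ha⟩ (k : ℤ) (op ⊤) (GrMod.globalOf 𝒜 ℳ ⟨m', hm'⟩),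
        AddSubgroup.mem_iSup_of_mem ⟨a, ha⟩ ⟨_, rfl⟩, fun z => ?_⟩
      change (Localization.mk a 1 : GrTwist.Loc 𝒜 z) •
        (LocalizedModule.mk m' 1 : GrMod.LocMod 𝒜 (M := M) z) = _
      rw [LocalizedModule.mk_smul_mk, one_mul]
    | zero =>
      exact ⟨0, zero_mem _, fun z => by rw [LocalizedModule.zero_mk]; rfl⟩
    | add x y _ _ hx hy =>
      obtain ⟨t1, ht1, h1⟩ := hx
      obtain ⟨t2, ht2, h2⟩ := hy
      refine ⟨t1 + t2, add_mem ht1 ht2, fun z => ?_⟩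
      have : gval 𝒜 ℳ (t1 + t2) z = gval 𝒜 ℳ t1 z + gval 𝒜 ℳ t2 z := rfl
      rw [this, h1, h2, ← LocalizedModule.mkLinearMap_apply, ← LocalizedModule.mkLinearMap_apply,
        ← map_add, LocalizedModule.mkLinearMap_apply]
    | neg x _ hx =>
      obtain ⟨t1, ht1, h1⟩ := hx
      refine ⟨-t1, neg_mem ht1, fun z => ?_⟩
      have : gval 𝒜 ℳ (-t1) z = - gval 𝒜 ℳ t1 z := rfl
      rw [this, h1, ← LocalizedModule.mkLinearMap_apply, ← map_neg, LocalizedModule.mkLinearMap_apply]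
  obtain ⟨t', ht', hval'⟩ := key m hmem
  have htt' : t = t' := by
    refine Subtype.ext (funext fun z => Subtype.ext ?_)
    exact (hval z.1).trans (hval' z.1).symm
  rw [htt']
  exact ht'

end Groth.Agent.Lib.Helper79.GrSerre
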