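import Mathlib
import Groth.Agent.Lib.Helper2.MatlisFlat
import Groth.Agent.Lib.Helper2.InjTorsion

/-!
# Huneke–Sharp, part 1 (helper79): flat base change of torsion submodules

For a flat algebra `A → B`, a finitely generated ideal `I` of `A` and an `A`-module `M`, the
`IB`-torsion of `B ⊗ M` is `B ⊗ (0 :_M I)`.  Hence if `(0 :_M I)` is `A/I`-free so is the
`IB`-torsion of any `B`-module isomorphic to `B ⊗ M`.
-/

set_option autoImplicit false
universe u

namespace Groth.Agent.Lib.Helper79.HS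

open TensorProduct

section FlatTorsion

variable {A B : Type u} [CommRing A] [CommRing B] [Algebra A B]
variable {M : Type u} [AddCommGroup M] [Module A M]

/-- elements of `B ⊗ (0 :_M I)` are killed by `I B` -/
lemma smul_tensor_torsion_eq_zero (I : Ideal A) (c : B) (hc : c ∈ I.map (algebraMap A B))
    (y : B ⊗[A] (Submodule.torsionBySet A M (I : Set A))) : c • y = 0 := by
  induction y using TensorProduct.induction_on with
  | zero => exact smul_zero c
  | tmul b t =>
    refine Groth.Agent.Lib.Helper2.map_smul_tmul_eq_zero I t ?_ b c hc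
    intro a ha
    apply Subtype.ext
    rw [Submodule.coe_smul, Submodule.coe_zero]
    exact (Submodule.mem_torsionBySet_iff _ _).mp t.2 ⟨a, ha⟩
  | add x y hx hy => rw [smul_add, hx, hy, add_zero]

variable [Module.Flat A B]

/-- the torsion of a flat base change is the base change of the torsion -/
lemma torsion_baseChange_eq (I : Ideal A) (hI : I.FG) :
    Submodule.torsionBySet B (B ⊗[A] M) ((I.map (algebraMap A B) : Ideal B) : Set B) =
      LinearMap.range ((Submodule.torsionBySet A M (I : Set A)).subtype.baseChange B) := by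
  classical
  obtain ⟨s, rfl⟩ := hI
  apply le_antisymm
  · intro x hx
    have hx' : ∀ a ∈ s, (algebraMap A B a) • x = 0 := by
      intro a ha
      exact (Submodule.mem_torsionBySet_iff _ _).mp hx
        ⟨algebraMap A B a, Ideal.mem_map_of_mem _ (Ideal.subset_span ha)⟩
    obtain ⟨y, rfl⟩ := Groth.Agent.Lib.Helper2.mem_range_baseChange_torsionBySet s x hx'
    have hle : Submodule.torsionBySet A M (s : Set A) ≤
        Submodule.torsionBySet A M ((Ideal.span (s : Set A) : Ideal A) : Set A) :=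
      le_of_eq (Submodule.torsionBySet_eq_torsionBySet_span (R := A) (M := M) (s : Set A))
    refine ⟨(Submodule.inclusion hle).baseChange B y, ?_⟩
    rw [← LinearMap.comp_apply, ← LinearMap.baseChange_comp]
    rfl
  · rintro _ ⟨y, rfl⟩
    rw [Submodule.mem_torsionBySet_iff]
    rintro ⟨c, hc⟩
    change c • _ = 0
    rw [← map_smul, smul_tensor_torsion_eq_zero _ c hc y, map_zero]

/-- transport of freeness of torsion submodules along a flat base change -/
theorem nonempty_torsion_equiv {N : Type u} [AddCommGroup N] [Module B N]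
    (θ : (B ⊗[A] M) ≃ₗ[B] N) (I : Ideal A) (hI : I.FG) (ι : Type u)
    (e₀ : Submodule.torsionBySet A M (I : Set A) ≃ₗ[A] (ι →₀ A ⧸ I)) :
    Nonempty (Submodule.torsionBySet B N ((I.map (algebraMap A B) : Ideal B) : Set B) ≃ₗ[B]
      (ι →₀ B ⧸ I.map (algebraMap A B))) := by
  classical
  set J : Ideal B := I.map (algebraMap A B) with hJ
  set j := (Submodule.torsionBySet A M (I : Set A)).subtype.baseChange B with hj
  have hinj : Function.Injective j :=
    Module.Flat.lTensor_preserves_injective_linearMap _ (Submodule.injective_subtype _)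
  -- step 1: move along θ
  have hmap : (Submodule.torsionBySet B N (J : Set B)).map θ.symm.toLinearMap =
      Submodule.torsionBySet B (B ⊗[A] M) (J : Set B) := by
    ext x
    constructor
    · rintro ⟨y, hy, rfl⟩
      rw [Submodule.mem_torsionBySet_iff]
      intro c
      change (c : B) • θ.symm y = 0
      rw [← map_smul]
      have := (Submodule.mem_torsionBySet_iff _ _).mp hy c
      rw [this, map_zero]
    · intro hx
      refine ⟨θ x, ?_, by simp⟩
      show θ x ∈ Submodule.torsionBySet B N (J : Set B)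
      rw [Submodule.mem_torsionBySet_iff]
      intro c
      change (c : B) • θ x = 0
      rw [← map_smul]
      have := (Submodule.mem_torsionBySet_iff _ _).mp hx c
      rw [this, map_zero]
  have e1 : Submodule.torsionBySet B N (J : Set B) ≃ₗ[B]
      Submodule.torsionBySet B (B ⊗[A] M) (J : Set B) :=
    LinearEquiv.ofSubmodules θ.symm _ _ hmap
  have e2 : Submodule.torsionBySet B (B ⊗[A] M) (J : Set B) ≃ₗ[B] LinearMap.range j :=
    LinearEquiv.ofEq _ _ (torsion_baseChange_eq I hI)
  have e3 : (B ⊗[A] Submodule.torsionBySet A M (I : Set A)) ≃ₗ[B] LinearMap.range j :=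
    LinearEquiv.ofInjective j hinj
  have e4 : (B ⊗[A] Submodule.torsionBySet A M (I : Set A)) ≃ₗ[B] B ⊗[A] (ι →₀ A ⧸ I) :=
    TensorProduct.AlgebraTensorModule.congr (LinearEquiv.refl B B) e₀
  have e5 : B ⊗[A] (ι →₀ A ⧸ I) ≃ₗ[B] (ι →₀ B ⊗[A] (A ⧸ I)) :=
    TensorProduct.finsuppRight A B B (A ⧸ I) ι
  have e6 : (B ⊗[A] (A ⧸ I)) ≃ₗ[B] (B ⧸ J) :=
    (Algebra.TensorProduct.quotIdealMapEquivTensorQuot B I).symm.toLinearEquiv
  exact ⟨e1 ≪≫ₗ e2 ≪≫ₗ e3.symm ≪≫ₗ e4 ≪≫ₗ e5 ≪≫ₗ Finsupp.mapRange.linearEquiv e6⟩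

end FlatTorsion

section RelBaer

variable {R : Type u} [CommRing R]

/-- relative Baer property: `Q` behaves like an injective `R ⧸ I`-module -/
def RelBaer (I : Ideal R) (Q : Type u) [AddCommGroup Q] [Module R Q] : Prop :=
  ∀ (J : Ideal R) (g : J →ₗ[R] Q), (∀ x : J, (x : R) ∈ I → g x = 0) →
    ∃ y : Q, ∀ x : J, g x = (x : R) • y

lemma RelBaer.of_equiv {I : Ideal R} {Q Q' : Type u} [AddCommGroup Q] [Module R Q]
    [AddCommGroup Q'] [Module R Q'] (h : RelBaer I Q) (e : Q ≃ₗ[R] Q') : RelBaer I Q' := by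
  intro J g hg
  obtain ⟨y, hy⟩ := h J (e.symm.toLinearMap ∘ₗ g) (fun x hx => by
    rw [LinearMap.comp_apply, hg x hx]; exact map_zero _)
  refine ⟨e y, fun x => ?_⟩
  have := hy x
  rw [LinearMap.comp_apply] at this
  rw [← map_smul, ← this]
  exact (e.apply_symm_apply _).symm

lemma RelBaer.finsupp [IsNoetherianRing R] {I : Ideal R} {Q : Type u} [AddCommGroup Q]
    [Module R Q] (h : RelBaer I Q) (ι : Type u) : RelBaer I (ι →₀ Q) := by
  classical
  intro J g hg
  obtain ⟨s, rfl⟩ := (IsNoetherian.noetherian J : J.FG)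
  -- coordinate maps
  let gi : ι → (↥(Submodule.span R (s : Set R)) →ₗ[R] Q) := fun i => (Finsupp.lapply i) ∘ₗ g
  have hgi : ∀ i, ∀ x : ↥(Submodule.span R (s : Set R)), (x : R) ∈ I → gi i x = 0 := by
    intro i x hx
    change (g x) i = 0
    rw [hg x hx]; rfl
  -- finite support
  let S : Finset ι := s.attach.biUnion
    (fun a => (g ⟨a.1, Submodule.subset_span a.2⟩).support)
  have hS : ∀ i, i ∉ S → gi i = 0 := by
    intro i hi
    have key : ∀ (x : R) (hx : x ∈ Submodule.span R (s : Set R)), gi i ⟨x, hx⟩ = 0 := by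
      intro x hx
      induction hx using Submodule.span_induction with
      | mem x h =>
        change (g ⟨x, _⟩) i = 0
        by_contra hne
        apply hi
        rw [Finset.mem_biUnion]
        exact ⟨⟨x, h⟩, Finset.mem_attach _ _, Finsupp.mem_support_iff.mpr hne⟩
      | zero => exact map_zero (gi i)
      | add x y hx hy ihx ihy =>
        have : (⟨x + y, Submodule.add_mem _ hx hy⟩ : ↥(Submodule.span R (s : Set R))) =
          ⟨x, hx⟩ + ⟨y, hy⟩ := rfl
        rw [this, map_add, ihx, ihy, add_zero]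
      | smul a x hx ih =>
        have : (⟨a • x, Submodule.smul_mem _ a hx⟩ : ↥(Submodule.span R (s : Set R))) =
          a • ⟨x, hx⟩ := rfl
        rw [this, map_smul, ih, smul_zero]
    ext ⟨x, hx⟩
    exact key x hx
  have hex : ∀ i, ∃ y : Q, ∀ x : ↥(Submodule.span R (s : Set R)), gi i x = (x : R) • y :=
    fun i => h _ (gi i) (hgi i)
  let yi : ι → Q := fun i => if gi i = 0 then 0 else (hex i).choose
  have hyi : ∀ i, ∀ x : ↥(Submodule.span R (s : Set R)), gi i x = (x : R) • yi i := by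
    intro i x
    by_cases h0 : gi i = 0
    · simp only [yi, if_pos h0, smul_zero, h0, LinearMap.zero_apply]
    · simp only [yi, if_neg h0]
      exact (hex i).choose_spec x
  let y : ι →₀ Q := Finsupp.onFinset S yi (by
    intro i hi
    by_contra hiS
    apply hi
    simp only [yi, if_pos (hS i hiS)])
  refine ⟨y, fun x => ?_⟩
  ext i
  rw [Finsupp.smul_apply]
  exact hyi i x

/-- a self-injective quotient ring has the relative Baer property -/
lemma RelBaer.self_of_injective (I : Ideal R) (h : Module.Injective (R ⧸ I) (R ⧸ I)) :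
    RelBaer I (R ⧸ I) := by
  classical
  intro J g hg
  have key : ∀ (a b : R) (ha : a ∈ J) (hb : b ∈ J),
      Ideal.Quotient.mk I a = Ideal.Quotient.mk I b → g ⟨a, ha⟩ = g ⟨b, hb⟩ := by
    intro a b ha hb hab
    have h1 : a - b ∈ I := Ideal.Quotient.eq.mp hab
    have h2 : g (⟨a, ha⟩ - ⟨b, hb⟩) = 0 := hg _ h1
    rw [map_sub, sub_eq_zero] at h2
    exact h2
  let Jb : Ideal (R ⧸ I) := J.map (Ideal.Quotient.mk I)
  have hrep : ∀ z : Jb, ∃ a : R, a ∈ J ∧ Ideal.Quotient.mk I a = z.1 := fun z =>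
    (Ideal.mem_map_iff_of_surjective (Ideal.Quotient.mk I) Ideal.Quotient.mk_surjective).mp z.2
  let rep : Jb → R := fun z => (hrep z).choose
  have hrepJ : ∀ z, rep z ∈ J := fun z => (hrep z).choose_spec.1
  have hrepmk : ∀ z, Ideal.Quotient.mk I (rep z) = z.1 := fun z => (hrep z).choose_spec.2
  let gb : Jb →ₗ[R ⧸ I] (R ⧸ I) :=
    { toFun := fun z => g ⟨rep z, hrepJ z⟩
      map_add' := by
        intro z w
        have h1 : g ⟨rep z + rep w, J.add_mem (hrepJ z) (hrepJ w)⟩ =
            g ⟨rep z, hrepJ z⟩ + g ⟨rep w, hrepJ w⟩ := by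
          rw [← map_add]; rfl
        rw [← h1]
        apply key
        rw [map_add, hrepmk, hrepmk, hrepmk]; rfl
      map_smul' := by
        intro c z
        obtain ⟨r, rfl⟩ := Ideal.Quotient.mk_surjective c
        have h1 : g ⟨r * rep z, J.mul_mem_left r (hrepJ z)⟩ = r • g ⟨rep z, hrepJ z⟩ := by
          rw [← map_smul]; rfl
        rw [RingHom.id_apply]
        change g ⟨rep (Ideal.Quotient.mk I r • z), _⟩ = Ideal.Quotient.mk I r • g ⟨rep z, hrepJ z⟩
        rw [show Ideal.Quotient.mk I r • g ⟨rep z, hrepJ z⟩ = r • g ⟨rep z, hrepJ z⟩ from rfl,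
          ← h1]
        apply key
        rw [map_mul, hrepmk, hrepmk]; rfl }
  obtain ⟨g', hg'⟩ := Module.Baer.of_injective h Jb gb
  refine ⟨g' 1, fun x => ?_⟩
  have hxb : Ideal.Quotient.mk I (x : R) ∈ Jb := Ideal.mem_map_of_mem _ x.2
  have h1 : g x = gb ⟨Ideal.Quotient.mk I (x : R), hxb⟩ := by
    change g ⟨(x : R), x.2⟩ = g ⟨rep _, _⟩
    apply key
    exact (hrepmk ⟨Ideal.Quotient.mk I (x : R), hxb⟩).symm
  rw [h1, ← hg' _ hxb]
  have h2 : Ideal.Quotient.mk I (x : R) = Ideal.Quotient.mk I (x : R) • (1 : R ⧸ I) := by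
    rw [smul_eq_mul, mul_one]
  conv_lhs => rw [h2]
  rw [map_smul]
  rfl

/-- **Baer criterion along an exhaustive chain of ideals.** -/
theorem injective_of_relBaer_chain [IsNoetherianRing R] (m : Ideal R) (M : Type u)
    [AddCommGroup M] [Module R M] (hM : ∀ x : M, ∃ n : ℕ, ∀ a ∈ m ^ n, a • x = 0)
    (Ie : ℕ → Ideal R) (hIe : ∀ n : ℕ, ∃ e : ℕ, Ie e ≤ m ^ n)
    (hRB : ∀ e, RelBaer (Ie e) (Submodule.torsionBySet R M ((Ie e : Ideal R) : Set R))) :
    Module.Injective R M := by
  apply Module.Baer.injective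
  intro J g
  -- the image of `g` is killed by `m ^ N`
  have hfg : (LinearMap.range g).FG := by
    rw [LinearMap.range_eq_map]
    exact Submodule.FG.map _ (Module.Finite.fg_top)
  obtain ⟨N, hN⟩ := Groth.Agent.Lib.Helper2.exists_pow_le_torsionBySet m hfg (by
    rintro _ ⟨a, rfl⟩
    exact (Groth.Agent.Lib.Helper2.mem_powTorsion_iff m).mpr (hM (g a)))
  have hN' : ∀ x : J, ∀ a ∈ m ^ N, a • g x = 0 := by
    intro x a ha
    exact (Submodule.mem_torsionBySet_iff _ _).mp (hN ⟨x, rfl⟩) ⟨a, ha⟩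
  -- Artin–Rees
  obtain ⟨k, hk⟩ := Ideal.exists_pow_inf_eq_pow_smul m (J : Submodule R R)
  obtain ⟨e, he⟩ := hIe (N + k)
  have hker : ∀ x : J, (x : R) ∈ Ie e → g x = 0 := by
    intro x hx
    have h1 : (x : R) ∈ (m ^ (N + k) • ⊤ ⊓ (J : Submodule R R) : Submodule R R) := by
      refine ⟨?_, x.2⟩
      have : (x : R) ∈ m ^ (N + k) := he hx
      show (x : R) ∈ m ^ (N + k) • (⊤ : Ideal R)
      rw [smul_eq_mul, Ideal.mul_top]
      exact this
    rw [hk (N + k) (Nat.le_add_left k N), Nat.add_sub_cancel] at h1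
    have key : ∀ z : R, z ∈ (m ^ N • (m ^ k • ⊤ ⊓ (J : Submodule R R)) : Submodule R R) →
        ∃ hz : z ∈ J, g ⟨z, hz⟩ = 0 := by
      intro z hz
      refine Submodule.smul_induction_on hz ?_ ?_
      · intro a ha w hw
        have hwJ : w ∈ J := hw.2
        refine ⟨J.mul_mem_left a hwJ, ?_⟩
        have : (⟨a • w, J.mul_mem_left a hwJ⟩ : J) = a • ⟨w, hwJ⟩ := rfl
        rw [this, map_smul]
        exact hN' _ a ha
      · intro z w hz hw
        obtain ⟨hz1, hz2⟩ := hz
        obtain ⟨hw1, hw2⟩ := hw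
        refine ⟨J.add_mem hz1 hw1, ?_⟩
        have : (⟨z + w, J.add_mem hz1 hw1⟩ : J) = ⟨z, hz1⟩ + ⟨w, hw1⟩ := rfl
        rw [this, map_add, hz2, hw2, add_zero]
    obtain ⟨_, h2⟩ := key _ h1
    exact h2
  -- `g` lands in the torsion
  have hland : ∀ x : J, g x ∈ Submodule.torsionBySet R M ((Ie e : Ideal R) : Set R) := by
    intro x
    rw [Submodule.mem_torsionBySet_iff]
    rintro ⟨b, hb⟩
    exact hN' x b (Ideal.pow_le_pow_right (Nat.le_add_right N k) (he hb))
  let g₁ : J →ₗ[R] Submodule.torsionBySet R M ((Ie e : Ideal R) : Set R) :=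
    g.codRestrict _ hland
  obtain ⟨y, hy⟩ := hRB e J g₁ (fun x hx => by
    apply Subtype.ext
    change g x = 0
    exact hker x hx)
  refine ⟨LinearMap.toSpanSingleton R M y.1, fun x hx => ?_⟩
  rw [LinearMap.toSpanSingleton_apply]
  have := congrArg Subtype.val (hy ⟨x, hx⟩)
  exact this.symm

end RelBaer

end Groth.Agent.Lib.Helper79.HS
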