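import Mathlib
import Groth.Agent.Lib.Helper2.MatlisDecomp
import Groth.Agent.Lib.Helper2.InjHullPrime
import Groth.Agent.Lib.Helper2.InjHull

/-!
# Huneke–Sharp, part 2 (helper79): injective power-torsion modules over a Noetherian local ring
are direct sums of copies of the injective hull of the residue field.
-/

set_option autoImplicit false
universe u

namespace Groth.Agent.Lib.Helper79.HS

open InjHull Groth.Agent.Lib.Helper2

theorem exists_equiv_finsupp_of_injective_powerTorsion {R : Type u} [CommRing R]
    [IsNoetherianRing R] [IsLocalRing R] {E : Type u} [AddCommGroup E] [Module R E]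
    (f : IsLocalRing.ResidueField R →ₗ[R] E) (hf : IsInjectiveHull f)
    (M : Type u) [AddCommGroup M] [Module R M]
    (hM : LocCoh.IsPowerTorsion (IsLocalRing.maximalIdeal R) M) (hinj : Module.Injective R M) :
    ∃ ι : Type u, Nonempty (M ≃ₗ[R] (ι →₀ E)) := by
  classical
  obtain ⟨S, hind, hsup, hS⟩ := exists_sSupIndep_indecomposable hinj
  -- every member of `S` is a copy of `E`
  have hE : ∀ N ∈ S, Nonempty (↥N ≃ₗ[R] E) := by
    intro N hN
    obtain ⟨hindec, hNinj⟩ := hS N hN
    obtain ⟨P, hP, g, hg⟩ := exists_isInjectiveHull_quot_of_isIndecomposable hindec hNinj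
    have hPm : P = IsLocalRing.maximalIdeal R := by
      obtain ⟨n, hn⟩ := hM ((g 1 : N) : M)
      have hle : IsLocalRing.maximalIdeal R ^ n ≤ P := by
        intro a ha
        have h1 : a • (g 1) = 0 := by
          apply Subtype.ext
          rw [Submodule.coe_smul, Submodule.coe_zero]
          exact hn a ha
        rw [← map_smul] at h1
        have h2 : a • (1 : R ⧸ P) = 0 := hg.injective (h1.trans (map_zero g).symm)
        have h3 : Ideal.Quotient.mk P a = 0 := by
          rw [← h2, Algebra.smul_def, mul_one]; rfl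
        exact Ideal.Quotient.eq_zero_iff_mem.mp h3
      have hle' : IsLocalRing.maximalIdeal R ≤ P := hP.le_of_pow_le hle
      exact ((IsLocalRing.maximalIdeal.isMaximal R).eq_of_le hP.ne_top hle').symm
    subst hPm
    obtain ⟨e, -⟩ := IsInjectiveHull.exists_equiv
      (f := (g : IsLocalRing.ResidueField R →ₗ[R] ↥N)) hg hf
    exact ⟨e⟩
  -- the internal direct sum
  have hind' : iSupIndep (fun i : S => (i : Submodule R M)) := (sSupIndep_iff S).mp hind
  have hsup' : (⨆ i : S, (i : Submodule R M)) = ⊤ := by rw [← sSup_eq_iSup']; exact hsup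
  have hint := DirectSum.isInternal_submodule_of_iSupIndep_of_iSup_eq_top hind' hsup'
  let e1 : (DirectSum S fun i : S => ↥(i : Submodule R M)) ≃ₗ[R] M :=
    LinearEquiv.ofBijective (DirectSum.coeLinearMap fun i : S => (i : Submodule R M)) hint
  let e2 : (DirectSum S fun i : S => ↥(i : Submodule R M)) ≃ₗ[R] (Π₀ _ : S, E) :=
    DFinsupp.mapRange.linearEquiv (fun i : S => Classical.choice (hE i.1 i.2))
  exact ⟨S, ⟨e1.symm ≪≫ₗ e2 ≪≫ₗ (finsuppLequivDFinsupp R).symm⟩⟩

end Groth.Agent.Lib.Helper79.HS
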