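import Mathlib
import Groth.Agent.Lib.Helper79.HS1

/-!
# Huneke–Sharp, part 3 (helper79): the Frobenius target as an algebra
-/

set_option autoImplicit false
universe u

namespace Groth.Agent.Lib.Helper79.HS

open TensorProduct CategoryTheory

/-- the target of Frobenius, as an `R`-algebra -/
def FrobTarget (_p : ℕ) (R : Type u) : Type u := R

namespace FrobTarget
variable (p : ℕ) [Fact p.Prime] (R : Type u) [CommRing R] [CharP R p]

noncomputable instance : CommRing (FrobTarget p R) := inferInstanceAs (CommRing R)
noncomputable instance : Algebra R (FrobTarget p R) := (frobenius R p).toAlgebra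

variable (M : Type u) [AddCommGroup M] [Module R M]

/-- an `R`-module viewed as a module over the Frobenius target -/
@[reducible] def modM : Module (FrobTarget p R) M := inferInstanceAs (Module R M)

/-- identification with Mathlib's restriction of scalars -/
noncomputable def cEquiv : FrobTarget p R ≃ₗ[R]
    ((ModuleCat.restrictScalars (frobenius R p)).obj (ModuleCat.of R R)) where
  toFun x := x
  invFun x := x
  map_add' _ _ := rfl
  map_smul' _ _ := rfl
  left_inv _ := rfl
  right_inv _ := rfl

/-- identification with Mathlib's extension of scalars (additive) -/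
noncomputable def kappaA : (FrobTarget p R ⊗[R] M) ≃+
    ((ModuleCat.extendScalars (frobenius R p)).obj (ModuleCat.of R M)) :=
  (TensorProduct.congr (cEquiv p R) (LinearEquiv.refl R M)).toAddEquiv

/-- the underlying element -/
def toR {p : ℕ} {R : Type u} (b : FrobTarget p R) : R := b

variable (h : (ModuleCat.extendScalars (frobenius R p)).obj (ModuleCat.of R M) ≅ ModuleCat.of R M)

/-- the structure isomorphism, additively -/
noncomputable def thetaA : (FrobTarget p R ⊗[R] M) ≃+ M :=
  (kappaA p R M).trans h.toLinearEquiv.toAddEquiv

lemma thetaA_smul (b : FrobTarget p R) (t : FrobTarget p R ⊗[R] M) :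
    thetaA p R M h (b • t) = toR b • thetaA p R M h t := by
  induction t using TensorProduct.induction_on with
  | zero => rw [smul_zero, map_zero, smul_zero]
  | tmul s m =>
    rw [TensorProduct.smul_tmul']
    change h.hom.hom (kappaA p R M ((b • s) ⊗ₜ[R] m)) =
      toR b • h.hom.hom (kappaA p R M (s ⊗ₜ[R] m))
    have h1 : kappaA p R M ((b • s) ⊗ₜ[R] m) = toR b • kappaA p R M (s ⊗ₜ[R] m) := rfl
    rw [h1, map_smul]
  | add x y hx hy => rw [smul_add, map_add, map_add, smul_add, hx, hy]

/-- the structure isomorphism, linear over the Frobenius target -/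
noncomputable def theta : @LinearEquiv (FrobTarget p R) (FrobTarget p R) _ _ (RingHom.id _)
    (RingHom.id _) _ _ (FrobTarget p R ⊗[R] M) M _ _ _ (modM p R M) :=
  letI := modM p R M
  { thetaA p R M h with
    map_smul' := fun b t => thetaA_smul p R M h b t }

include h in
/-- one Frobenius step for freeness of torsion submodules -/
theorem nonempty_torsion_equiv_frobenius (hflat : (frobenius R p).Flat) (I : Ideal R) (hI : I.FG)
    (ι : Type u) (e₀ : Submodule.torsionBySet R M (I : Set R) ≃ₗ[R] (ι →₀ R ⧸ I)) :
    Nonempty (Submodule.torsionBySet R M ((I.map (frobenius R p) : Ideal R) : Set R) ≃ₗ[R]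
      (ι →₀ R ⧸ I.map (frobenius R p))) := by
  have : Module.Flat R (FrobTarget p R) := hflat
  exact @nonempty_torsion_equiv R (FrobTarget p R) _ _ _ M _ _ _ M _ (modM p R M)
    (theta p R M h) I hI ι e₀

end FrobTarget

end Groth.Agent.Lib.Helper79.HS
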