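import Mathlib
import Groth.Agent.Lib.Helper79.HS1
import Groth.Agent.Lib.Helper79.HS2
import Groth.Agent.Lib.Helper79.HS3
import Groth.Agent.Lib.Helper85.Kunz.RegularFlat
import Groth.Agent.Lib.Helper85.RegularSeq
import Groth.Agent.Lib.Helper85.RegularGens
import Groth.Agent.Lib.Helper73.GorenLCI1
import Groth.Agent.H34.DoubleAnn
import Groth.Agent.S0342

/-!
# Huneke–Sharp, part 4 (helper79): Frobenius-stable power-torsion modules over a regular local
ring of characteristic `p` are direct sums of copies of `E`.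
-/

set_option autoImplicit false
universe u

namespace Groth.Agent.Lib.Helper79.HS

open IsLocalRing RingTheory.Sequence CategoryTheory

section Frob

variable (p : ℕ) [Fact p.Prime] (R : Type u) [CommRing R] [IsRegularLocalRing R] [CharP R p]

/-- Frobenius powers of the maximal ideal -/
noncomputable def Ie (e : ℕ) : Ideal R := (Ideal.map (frobenius R p))^[e] (maximalIdeal R)

lemma Ie_zero : Ie p R 0 = maximalIdeal R := rfl

lemma Ie_succ (e : ℕ) : Ie p R (e + 1) = (Ie p R e).map (frobenius R p) :=
  Function.iterate_succ_apply' _ _ _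

lemma map_frobenius_maximalIdeal_le :
    (maximalIdeal R).map (frobenius R p) ≤ maximalIdeal R ^ p := by
  rw [Ideal.map_le_iff_le_comap]
  intro a ha
  rw [Ideal.mem_comap, frobenius_def]
  exact Ideal.pow_mem_pow ha p

lemma Ie_le (e : ℕ) : Ie p R e ≤ maximalIdeal R ^ (e + 1) := by
  induction e with
  | zero => rw [Ie_zero, zero_add, pow_one]
  | succ e ih =>
    rw [Ie_succ]
    calc (Ie p R e).map (frobenius R p)
        ≤ (maximalIdeal R ^ (e + 1)).map (frobenius R p) := Ideal.map_mono ih
      _ = ((maximalIdeal R).map (frobenius R p)) ^ (e + 1) := Ideal.map_pow _ _ _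
      _ ≤ (maximalIdeal R ^ p) ^ (e + 1) :=
          Ideal.pow_right_mono (map_frobenius_maximalIdeal_le p R) _
      _ = maximalIdeal R ^ (p * (e + 1)) := (pow_mul _ _ _).symm
      _ ≤ maximalIdeal R ^ (e + 1 + 1) := by
          apply Ideal.pow_le_pow_right
          have : 2 ≤ p := (Fact.out : p.Prime).two_le
          nlinarith

lemma le_of_Ie_le (P : Ideal R) [P.IsPrime] (e : ℕ) (h : Ie p R e ≤ P) : maximalIdeal R ≤ P := by
  induction e with
  | zero => exact h
  | succ e ih =>
    apply ih
    intro a ha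
    have h1 : frobenius R p a ∈ P := by
      apply h
      rw [Ie_succ]
      exact Ideal.mem_map_of_mem _ ha
    rw [frobenius_def] at h1
    exact Ideal.IsPrime.mem_of_pow_mem inferInstance p h1

lemma Ie_le_maximalIdeal (e : ℕ) : Ie p R e ≤ maximalIdeal R :=
  (Ie_le p R e).trans (Ideal.pow_le_self (Nat.succ_ne_zero e))

/-- the generating lists -/
noncomputable def Le (l : List R) (e : ℕ) : List R := (List.map (frobenius R p))^[e] l

lemma Le_succ (l : List R) (e : ℕ) : Le p R l (e + 1) = (Le p R l e).map (frobenius R p) :=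
  Function.iterate_succ_apply' _ _ _

lemma Ie_eq_ofList (l : List R) (hl : Ideal.ofList l = maximalIdeal R) (e : ℕ) :
    Ie p R e = Ideal.ofList (Le p R l e) := by
  induction e with
  | zero => exact hl.symm
  | succ e ih => rw [Ie_succ, ih, Ideal.map_ofList, Le_succ]

lemma Le_mem (l : List R) (hl : ∀ r ∈ l, r ∈ maximalIdeal R) (e : ℕ) :
    ∀ r ∈ Le p R l e, r ∈ maximalIdeal R := by
  induction e with
  | zero => exact hl
  | succ e ih =>
    intro r hr
    rw [Le_succ] at hr
    obtain ⟨a, ha, rfl⟩ := List.mem_map.mp hr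
    rw [frobenius_def]
    exact Ideal.pow_mem_of_mem _ (ih a ha) p (Fact.out : p.Prime).pos

lemma Le_isWeaklyRegular (hflat : (frobenius R p).Flat) (l : List R)
    (hl : IsWeaklyRegular R l) (e : ℕ) : IsWeaklyRegular R (Le p R l e) := by
  induction e with
  | zero => exact hl
  | succ e ih =>
    rw [Le_succ]
    have : Module.Flat R (FrobTarget p R) := hflat
    exact @IsWeaklyRegular.of_flat R (FrobTarget p R) _ _ _ this (Le p R l e) ih

omit [IsRegularLocalRing R] [Fact p.Prime] [CharP R p] in
/-- the socle is a vector space over the residue field -/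
lemma exists_socle_equiv [IsLocalRing R] (M : Type u) [AddCommGroup M] [Module R M] :
    ∃ ι : Type u, Nonempty (Submodule.torsionBySet R M ((maximalIdeal R : Ideal R) : Set R) ≃ₗ[R]
      (ι →₀ R ⧸ maximalIdeal R)) := by
  have hT : Module.IsTorsionBySet R
      (Submodule.torsionBySet R M ((maximalIdeal R : Ideal R) : Set R))
      ((maximalIdeal R : Ideal R) : Set R) := Submodule.torsionBySet_isTorsionBySet _
  letI : Module (R ⧸ maximalIdeal R)
      (Submodule.torsionBySet R M ((maximalIdeal R : Ideal R) : Set R)) := hT.module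
  haveI : IsScalarTower R (R ⧸ maximalIdeal R)
      (Submodule.torsionBySet R M ((maximalIdeal R : Ideal R) : Set R)) := hT.isScalarTower
  letI : Field (R ⧸ maximalIdeal R) := Ideal.Quotient.field (maximalIdeal R)
  let b := Module.Free.chooseBasis (R ⧸ maximalIdeal R)
    (Submodule.torsionBySet R M ((maximalIdeal R : Ideal R) : Set R))
  exact ⟨_, ⟨b.repr.restrictScalars R⟩⟩

/-- the Frobenius-power quotients of a regular local ring are self-injective -/
lemma injective_quotient_Ie (hflat : (frobenius R p).Flat) (e : ℕ) :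
    Module.Injective (R ⧸ Ie p R e) (R ⧸ Ie p R e) := by
  obtain ⟨d, hd⟩ := Groth.Agent.Lib.Helper85.Kunz.exists_nat_ringKrullDim_eq' R
  have hsf : (maximalIdeal R).spanFinrank = d := by
    have h1 : ((maximalIdeal R).spanFinrank : WithBot ℕ∞) = (d : WithBot ℕ∞) := by
      rw [IsRegularLocalRing.spanFinrank_maximalIdeal, hd]
    exact_mod_cast h1
  obtain ⟨x, hx⟩ := Groth.Agent.Lib.Helper85.exists_fin_span_range_eq (maximalIdeal R)
    (maximalIdeal R).fg_of_isNoetherianRing hsf
  have hreg : IsRegular R (List.ofFn x) :=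
    Groth.Agent.Lib.Helper85.isRegular_ofFn_of_span_eq_maximalIdeal d hd x hx
  have hl : Ideal.ofList (List.ofFn x) = maximalIdeal R := by
    rw [← hx]
    unfold Ideal.ofList
    congr 1
    ext r
    simp [List.mem_ofFn]
  have hmem0 : ∀ r ∈ List.ofFn x, r ∈ maximalIdeal R := by
    intro r hr
    rw [← hl]
    exact Ideal.subset_span hr
  have hIe := Ie_eq_ofList p R (List.ofFn x) hl e
  have hG : LocCoh.IsGorensteinLocalRing (R ⧸ Ie p R e) := by
    rw [hIe]
    exact Groth.Agent.Lib.Helper73.GorenLCI.isGorensteinLocalRing_quotient_ofList _ R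
      (Le p R (List.ofFn x) e) rfl (Le_mem p R _ hmem0 e)
      (Le_isWeaklyRegular p R hflat _ hreg.toIsWeaklyRegular e) (Groth.Agent.S0342.result R)
  have hne : Ie p R e ≠ ⊤ := by
    intro htop
    have := Ie_le_maximalIdeal p R e
    rw [htop] at this
    exact (IsLocalRing.maximalIdeal.isMaximal R).ne_top (top_le_iff.mp this)
  haveI : Nontrivial (R ⧸ Ie p R e) := Ideal.Quotient.nontrivial_iff.mpr hne
  have hdim : ringKrullDim (R ⧸ Ie p R e) = 0 := by
    rw [← ringKrullDimZero_iff_ringKrullDim_eq_zero, Ring.krullDimLE_zero_iff]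
    intro Q hQ
    have hP : (Q.comap (Ideal.Quotient.mk (Ie p R e))).IsPrime := Ideal.comap_isPrime _ _
    have hle : Ie p R e ≤ Q.comap (Ideal.Quotient.mk (Ie p R e)) := by
      intro a ha
      rw [Ideal.mem_comap, Ideal.Quotient.eq_zero_iff_mem.mpr ha]
      exact Q.zero_mem
    have hm := le_of_Ie_le p R _ e hle
    have hPm : Q.comap (Ideal.Quotient.mk (Ie p R e)) = maximalIdeal R :=
      ((IsLocalRing.maximalIdeal.isMaximal R).eq_of_le hP.ne_top hm).symm
    have hQ' : Q = (maximalIdeal R).map (Ideal.Quotient.mk (Ie p R e)) := by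
      rw [← hPm, Ideal.map_comap_of_surjective _ Ideal.Quotient.mk_surjective]
    rcases Ideal.map_eq_top_or_isMaximal_of_surjective (Ideal.Quotient.mk (Ie p R e))
      Ideal.Quotient.mk_surjective (IsLocalRing.maximalIdeal.isMaximal R) with h1 | h1
    · exact absurd (hQ'.trans h1) hQ.ne_top
    · rw [hQ']; exact h1
  exact Groth.Agent.H34.DoubleAnn.injective_of_gorenstein_dim_zero (R ⧸ Ie p R e) hdim

/-- **Huneke–Sharp**: a Frobenius-stable power-torsion module over a regular local ring of
characteristic `p` is a direct sum of copies of the injective hull of the residue field. -/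
theorem exists_equiv_finsupp_of_frobenius_stable {E : Type u} [AddCommGroup E] [Module R E]
    (f : IsLocalRing.ResidueField R →ₗ[R] E) (hf : InjHull.IsInjectiveHull f)
    (M : Type u) [AddCommGroup M] [Module R M]
    (hM : LocCoh.IsPowerTorsion (maximalIdeal R) M)
    (h : (ModuleCat.extendScalars (frobenius R p)).obj (ModuleCat.of R M) ≅ ModuleCat.of R M) :
    ∃ ι : Type u, Nonempty (M ≃ₗ[R] (ι →₀ E)) := by
  have hflat : (frobenius R p).Flat :=
    Groth.Agent.Lib.Helper85.Kunz.frobenius_flat_of_isRegularLocalRing (A := R) (p := p)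
  obtain ⟨ι, ⟨e0⟩⟩ := exists_socle_equiv R M
  have hT : ∀ e : ℕ, Nonempty (Submodule.torsionBySet R M ((Ie p R e : Ideal R) : Set R) ≃ₗ[R]
      (ι →₀ R ⧸ Ie p R e)) := by
    intro e
    induction e with
    | zero => exact ⟨e0⟩
    | succ e ih =>
      obtain ⟨e1⟩ := ih
      rw [Ie_succ]
      exact FrobTarget.nonempty_torsion_equiv_frobenius p R M h hflat (Ie p R e)
        (Ie p R e).fg_of_isNoetherianRing ι e1
  have hRB : ∀ e : ℕ, RelBaer (Ie p R e)
      (Submodule.torsionBySet R M ((Ie p R e : Ideal R) : Set R)) := by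
    intro e
    exact ((RelBaer.self_of_injective _ (injective_quotient_Ie p R hflat e)).finsupp ι).of_equiv
      (hT e).some.symm
  have hinjM : Module.Injective R M :=
    injective_of_relBaer_chain (maximalIdeal R) M hM (Ie p R)
      (fun n => ⟨n, (Ie_le p R n).trans (Ideal.pow_le_pow_right (Nat.le_succ n))⟩) hRB
  exact exists_equiv_finsupp_of_injective_powerTorsion f hf M hM hinjM

end Frob

end Groth.Agent.Lib.Helper79.HS
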