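import Mathlib
import Groth.Agent.Lib.Helper79.HS1
import Groth.Agent.Lib.Helper2.InjHullCriterion
import Groth.Agent.Lib.Helper24.GorenArtin
import Groth.Agent.Lib.Helper85.RegularLocal

/-!
# Injective hulls under flat base change with Gorenstein Artinian closed fibre (helper79)
-/

set_option autoImplicit false
universe u

namespace Groth.Agent.Lib.Helper79.HS

open TensorProduct IsLocalRing InjHull

section Generic

variable {B : Type u} [CommRing B]

/-- torsion submodules correspond under a linear equivalence -/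
noncomputable def torsionEquivOfEquiv {X Y : Type u} [AddCommGroup X] [Module B X]
    [AddCommGroup Y] [Module B Y] (e : X ≃ₗ[B] Y) (S : Set B) :
    Submodule.torsionBySet B X S ≃ₗ[B] Submodule.torsionBySet B Y S :=
  LinearEquiv.ofSubmodules e _ _ (by
    ext y
    constructor
    · rintro ⟨x, hx, rfl⟩
      rw [Submodule.mem_torsionBySet_iff]
      intro c
      change (c : B) • e x = 0
      rw [← map_smul]
      have := (Submodule.mem_torsionBySet_iff _ _).mp hx c
      rw [this, map_zero]
    · intro hy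
      refine ⟨e.symm y, ?_, by simp⟩
      show e.symm y ∈ Submodule.torsionBySet B X S
      rw [Submodule.mem_torsionBySet_iff]
      intro c
      change (c : B) • e.symm y = 0
      rw [← map_smul]
      have := (Submodule.mem_torsionBySet_iff _ _).mp hy c
      rw [this, map_zero])

/-- `Hom(B/I, T) ≃ T[I]` -/
noncomputable def homQuotEquiv (I : Ideal B) (T : Type u) [AddCommGroup T] [Module B T] :
    ((B ⧸ I) →ₗ[B] T) ≃ₗ[B] Submodule.torsionBySet B T (I : Set B) :=
  LinearEquiv.ofBijective
    (LinearMap.codRestrict (Submodule.torsionBySet B T (I : Set B))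
      (LinearMap.applyₗ (Ideal.Quotient.mk I 1))
      (fun g => by
        rw [Submodule.mem_torsionBySet_iff]
        rintro ⟨c, hc⟩
        change c • g (Ideal.Quotient.mk I 1) = 0
        rw [← map_smul, Algebra.smul_def]
        have : algebraMap B (B ⧸ I) c = 0 := Ideal.Quotient.eq_zero_iff_mem.mpr hc
        rw [this, zero_mul, map_zero]))
    ⟨by
      intro g g' hgg'
      have h1 : g (Ideal.Quotient.mk _ 1) = g' (Ideal.Quotient.mk _ 1) :=
        congrArg Subtype.val hgg'
      apply Submodule.linearMap_qext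
      apply LinearMap.ext_ring
      exact h1,
    by
      rintro ⟨x, hx⟩
      refine ⟨Submodule.liftQ I (LinearMap.toSpanSingleton B T x) ?_, Subtype.ext ?_⟩
      · intro c hc
        rw [LinearMap.mem_ker, LinearMap.toSpanSingleton_apply]
        exact (Submodule.mem_torsionBySet_iff _ _).mp hx ⟨c, hc⟩
      · simp only [LinearMap.codRestrict_apply, LinearMap.applyₗ_apply_apply]
        change Submodule.liftQ I (LinearMap.toSpanSingleton B T x) _ (Submodule.Quotient.mk 1) = x
        rw [Submodule.liftQ_apply, LinearMap.toSpanSingleton_apply, one_smul]⟩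

/-- nested torsion: `T[I'] ≃ (T[I])[I']` for `I ≤ I'` -/
noncomputable def torsionNestEquiv (I I' : Ideal B) (h : I ≤ I') (T : Type u) [AddCommGroup T]
    [Module B T] :
    Submodule.torsionBySet B T (I' : Set B) ≃ₗ[B]
      Submodule.torsionBySet B (Submodule.torsionBySet B T (I : Set B)) (I' : Set B) where
  toFun x := ⟨⟨x.1, by
      rw [Submodule.mem_torsionBySet_iff]
      rintro ⟨c, hc⟩
      exact (Submodule.mem_torsionBySet_iff _ _).mp x.2 ⟨c, h hc⟩⟩, by
      rw [Submodule.mem_torsionBySet_iff]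
      rintro ⟨c, hc⟩
      apply Subtype.ext
      exact (Submodule.mem_torsionBySet_iff _ _).mp x.2 ⟨c, hc⟩⟩
  map_add' x y := rfl
  map_smul' c x := rfl
  invFun y := ⟨y.1.1, by
      rw [Submodule.mem_torsionBySet_iff]
      rintro ⟨c, hc⟩
      have := (Submodule.mem_torsionBySet_iff _ _).mp y.2 ⟨c, hc⟩
      exact congrArg Subtype.val this⟩
  left_inv x := rfl
  right_inv y := rfl

/-- the `I'`-torsion of `T` only depends on the `I`-torsion of `T` for `I ≤ I'` -/
lemma length_torsion_eq_of_torsion_equiv (I I' : Ideal B) (h : I ≤ I') (T : Type u)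
    [AddCommGroup T] [Module B T] (Q : Type u) [AddCommGroup Q] [Module B Q]
    (φ : Submodule.torsionBySet B T (I : Set B) ≃ₗ[B] Q) :
    Module.length B (Submodule.torsionBySet B T (I' : Set B)) =
      Module.length B (Submodule.torsionBySet B Q (I' : Set B)) :=
  (LinearEquiv.length_eq (torsionNestEquiv I I' h T)).trans
    (LinearEquiv.length_eq (torsionEquivOfEquiv φ (I' : Set B)))

end Generic

section Socle

variable {B : Type u} [CommRing B] [IsLocalRing B] [IsNoetherianRing B]

/-- the socle of a zero-dimensional Gorenstein quotient, computed over the big ring -/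
lemma length_torsion_quotient_gorenstein (J : Ideal B)
    (hG : LocCoh.IsGorensteinLocalRing (B ⧸ J)) (hArt : IsArtinianRing (B ⧸ J)) :
    Module.length B
      (Submodule.torsionBySet B (B ⧸ J) ((maximalIdeal B : Ideal B) : Set B)) = 1 := by
  have : IsLocalRing (B ⧸ J) := hG.toIsLocalRing
  have hdim : ringKrullDim (B ⧸ J) = 0 := ringKrullDimZero_iff_ringKrullDim_eq_zero.mp inferInstance
  have h1 : Module.length (B ⧸ J) (ResidueField (B ⧸ J) →ₗ[B ⧸ J] (B ⧸ J)) = 1 :=
    Groth.Agent.Lib.Helper24.length_hom_residueField_self_of_injective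
      (Groth.Agent.H34.DoubleAnn.injective_of_gorenstein_dim_zero (B ⧸ J) hdim)
  have e1 : (ResidueField (B ⧸ J) →ₗ[B ⧸ J] (B ⧸ J)) ≃ₗ[B ⧸ J]
      Submodule.torsionBySet (B ⧸ J) (B ⧸ J) ((maximalIdeal (B ⧸ J) : Ideal (B ⧸ J)) : Set (B ⧸ J)) :=
    homQuotEquiv (maximalIdeal (B ⧸ J)) (B ⧸ J)
  rw [e1.length_eq] at h1
  have hmax := Groth.Agent.Lib.Helper85.maximalIdeal_map_of_surjective (Ideal.Quotient.mk J)
    Ideal.Quotient.mk_surjective
  let ψ : Submodule.torsionBySet B (B ⧸ J) ((maximalIdeal B : Ideal B) : Set B) ≃ₗ[B]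
      Submodule.torsionBySet (B ⧸ J) (B ⧸ J)
        ((maximalIdeal (B ⧸ J) : Ideal (B ⧸ J)) : Set (B ⧸ J)) :=
    { toFun := fun x => ⟨x.1, by
        rw [Submodule.mem_torsionBySet_iff]
        rintro ⟨c, hc⟩
        rw [SetLike.mem_coe, ← hmax] at hc
        obtain ⟨b, hb, rfl⟩ := (Ideal.mem_map_iff_of_surjective _
          Ideal.Quotient.mk_surjective).mp hc
        exact (Submodule.mem_torsionBySet_iff _ _).mp x.2 ⟨b, hb⟩⟩
      map_add' := fun _ _ => rfl
      map_smul' := fun _ _ => rfl
      invFun := fun y => ⟨y.1, by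
        rw [Submodule.mem_torsionBySet_iff]
        rintro ⟨b, hb⟩
        have hb' : Ideal.Quotient.mk J b ∈ maximalIdeal (B ⧸ J) := by
          rw [← hmax]
          exact Ideal.mem_map_of_mem _ hb
        exact (Submodule.mem_torsionBySet_iff _ _).mp y.2 ⟨_, hb'⟩⟩
      left_inv := fun _ => rfl
      right_inv := fun _ => rfl }
  rw [ψ.length_eq, Module.length_eq_of_surjective (R := B ⧸ J) (S := B)
    (Ideal.Quotient.mk_surjective (I := J))]
  exact h1

end Socle

section Main

variable {A : Type u} [CommRing A] [IsLocalRing A] [IsNoetherianRing A]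
variable {B : Type u} [CommRing B] [IsLocalRing B] [IsNoetherianRing B] [Algebra A B]
  [Module.Flat A B]
variable {E : Type u} [AddCommGroup E] [Module A E] {f : ResidueField A →ₗ[A] E}

theorem exists_isInjectiveHull_baseChange_gorenstein_fibre
    (hG : LocCoh.IsGorensteinLocalRing (B ⧸ (maximalIdeal A).map (algebraMap A B)))
    (hArt : IsArtinianRing (B ⧸ (maximalIdeal A).map (algebraMap A B)))
    (hf : IsInjectiveHull f) :
    ∃ g : ResidueField B →ₗ[B] B ⊗[A] E, IsInjectiveHull g := by
  classical
  set J : Ideal B := (maximalIdeal A).map (algebraMap A B) with hJdef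
  have : IsLocalRing (B ⧸ J) := hG.toIsLocalRing
  have hJtop : J ≠ ⊤ := by
    intro h
    have h1 : (1 : B ⧸ J) = 0 := by
      rw [← map_one (Ideal.Quotient.mk J), Ideal.Quotient.eq_zero_iff_mem, h]
      trivial
    exact one_ne_zero h1
  have hJle : J ≤ maximalIdeal B := IsLocalRing.le_maximalIdeal hJtop
  have : IsLocalHom (algebraMap A B) :=
    ((IsLocalRing.local_hom_TFAE (algebraMap A B)).out 0 2).mpr hJle
  -- m_B^r ≤ J
  obtain ⟨r, hr⟩ : ∃ r : ℕ, maximalIdeal B ^ r ≤ J := by
    obtain ⟨r, hr⟩ := (isArtinianRing_iff_isNilpotent_maximalIdeal (B ⧸ J)).mp hArt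
    refine ⟨r, ?_⟩
    have h1 := Groth.Agent.Lib.Helper85.maximalIdeal_map_of_surjective (Ideal.Quotient.mk J)
      Ideal.Quotient.mk_surjective
    have h2 : (maximalIdeal B ^ r).map (Ideal.Quotient.mk J) = ⊥ := by
      rw [Ideal.map_pow, h1, hr]
      rfl
    intro b hb
    rw [← Ideal.Quotient.eq_zero_iff_mem]
    have := Ideal.mem_map_of_mem (Ideal.Quotient.mk J) hb
    rw [h2] at this
    exact this
  have hJpow : ∀ n : ℕ, (maximalIdeal A ^ n).map (algebraMap A B) = J ^ n :=
    fun n => Ideal.map_pow _ _ _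
  have hrpow : ∀ n : ℕ, maximalIdeal B ^ (r * n) ≤ J ^ n := by
    intro n
    rw [pow_mul]
    exact Ideal.pow_right_mono hr n
  -- power torsion
  have ha : LocCoh.IsPowerTorsion (maximalIdeal B) (B ⊗[A] E) := by
    intro x
    induction x using TensorProduct.induction_on with
    | zero => exact ⟨0, fun a _ => smul_zero a⟩
    | tmul b e =>
      obtain ⟨n, hn⟩ := Groth.Agent.Lib.Helper2.exists_mem_mtors hf e
      refine ⟨r * n, fun c hc => ?_⟩
      apply Groth.Agent.Lib.Helper2.map_smul_tmul_eq_zero (maximalIdeal A ^ n) e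
        (Groth.Agent.Lib.Helper2.mem_mtors_iff.mp hn) b c
      rw [hJpow]
      exact hrpow n hc
    | add x y hx hy =>
      obtain ⟨n, hn⟩ := hx
      obtain ⟨m, hm'⟩ := hy
      refine ⟨max n m, fun c hc => ?_⟩
      rw [smul_add, hn c (Ideal.pow_le_pow_right (le_max_left n m) hc),
        hm' c (Ideal.pow_le_pow_right (le_max_right n m) hc), add_zero]
  -- lengths
  have hlen : ∀ n : ℕ, Module.length B (B ⧸ (maximalIdeal A ^ n).map (algebraMap A B)) =
      Module.length B ((B ⧸ (maximalIdeal A ^ n).map (algebraMap A B)) →ₗ[B] B ⊗[A] E) := by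
    intro n
    have hFG : (maximalIdeal A ^ n).FG := IsNoetherian.noetherian _
    set j := (Submodule.torsionBySet A E
      ((maximalIdeal A ^ n : Ideal A) : Set A)).subtype.baseChange B with hj
    have hinj : Function.Injective j :=
      Module.Flat.lTensor_preserves_injective_linearMap _ (Submodule.injective_subtype _)
    have h1 : Module.length B (B ⧸ (maximalIdeal A ^ n).map (algebraMap A B)) =
        Module.length A (A ⧸ maximalIdeal A ^ n) * Module.length B (B ⧸ J) := by
      rw [(Algebra.TensorProduct.quotIdealMapEquivTensorQuot B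
        (maximalIdeal A ^ n)).toLinearEquiv.length_eq]
      exact IsLocalRing.length_baseChange A B _
    have h2 : Module.length B
        ((B ⧸ (maximalIdeal A ^ n).map (algebraMap A B)) →ₗ[B] B ⊗[A] E) =
        Module.length A (Groth.Agent.Lib.Helper2.mtors A E n) * Module.length B (B ⧸ J) := by
      rw [(homQuotEquiv _ (B ⊗[A] E)).length_eq]
      rw [torsion_baseChange_eq (M := E) (B := B) (maximalIdeal A ^ n) hFG,
        ← (LinearEquiv.ofInjective j hinj).length_eq]
      exact IsLocalRing.length_baseChange A B _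
    rw [h1, h2, Groth.Agent.Lib.Helper2.length_mtors hf n]
  -- the socle
  have hb : Nonempty ((ResidueField B →ₗ[B] B ⊗[A] E) ≃ₗ[B] ResidueField B) := by
    have hsoc : Submodule.torsionBySet A E ((maximalIdeal A : Ideal A) : Set A) =
        LinearMap.range f := by
      apply le_antisymm
      · intro x hx
        apply Groth.Agent.Lib.Helper2.mem_range_of_maximalIdeal_smul_eq_zero hf.toIsEssentialInj
        intro a ha
        exact (Submodule.mem_torsionBySet_iff _ _).mp hx ⟨a, ha⟩
      · rintro _ ⟨c, rfl⟩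
        rw [Submodule.mem_torsionBySet_iff]
        rintro ⟨a, ha⟩
        change a • f c = 0
        rw [← map_smul, Groth.Agent.Lib.Helper2.maximalIdeal_smul_residueField a ha, map_zero]
    let e₀ : Submodule.torsionBySet A E ((maximalIdeal A : Ideal A) : Set A) ≃ₗ[A]
        (PUnit.{u+1} →₀ A ⧸ maximalIdeal A) :=
      (LinearEquiv.ofEq _ _ hsoc) ≪≫ₗ (LinearEquiv.ofInjective f hf.injective).symm ≪≫ₗ
        (Finsupp.uniqueLinearEquiv A (A ⧸ maximalIdeal A) PUnit.unit.{u+1}).symm
    obtain ⟨φ⟩ := nonempty_torsion_equiv (LinearEquiv.refl B (B ⊗[A] E)) (maximalIdeal A)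
      (IsNoetherian.noetherian _) PUnit.{u+1} e₀
    let φ' : Submodule.torsionBySet B (B ⊗[A] E) (J : Set B) ≃ₗ[B] (B ⧸ J) :=
      φ ≪≫ₗ Finsupp.uniqueLinearEquiv B (B ⧸ J) PUnit.unit.{u+1}
    have hl : Module.length B (ResidueField B →ₗ[B] B ⊗[A] E) = 1 := by
      have e1 : Module.length B ((B ⧸ maximalIdeal B) →ₗ[B] B ⊗[A] E) =
          Module.length B (Submodule.torsionBySet B (B ⊗[A] E)
            ((maximalIdeal B : Ideal B) : Set B)) :=
        LinearEquiv.length_eq (homQuotEquiv (maximalIdeal B) (B ⊗[A] E))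
      have e2 : Module.length B (Submodule.torsionBySet B (B ⊗[A] E)
            ((maximalIdeal B : Ideal B) : Set B)) =
          Module.length B (Submodule.torsionBySet B (B ⧸ J)
            ((maximalIdeal B : Ideal B) : Set B)) :=
        length_torsion_eq_of_torsion_equiv J (maximalIdeal B) hJle (B ⊗[A] E) (B ⧸ J) φ'
      exact e1.trans (e2.trans (length_torsion_quotient_gorenstein J hG hArt))
    have hs : IsSimpleModule B (ResidueField B →ₗ[B] B ⊗[A] E) := Module.length_eq_one_iff.mp hl
    obtain ⟨J', hJ', ⟨e⟩⟩ := isSimpleModule_iff_quot_maximal.mp hs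
    obtain rfl := IsLocalRing.eq_maximalIdeal hJ'
    exact ⟨e⟩
  exact Groth.Agent.Lib.Helper2.exists_isInjectiveHull_of_powerTorsion_socle_length (A := B)
    (B ⊗[A] E) ha hb (fun n => (maximalIdeal A ^ n).map (algebraMap A B))
    (fun n => ⟨r * n, by rw [hJpow]; exact hrpow n⟩)
    (fun N => ⟨N, by rw [hJpow]; exact Ideal.pow_right_mono hJle N⟩) hlen

end Main

end Groth.Agent.Lib.Helper79.HS
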