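import Mathlib

/-!
# HSL1 (helper79): the completion acts on power-torsion modules

For an ideal `I` of a commutative ring `A` and an `A`-module `M` all of whose elements are killed by
a power of `I`, the `I`-adic completion `Â` acts on `M` (an element of `Â` acts on `x` through any
`r : A` with the same image in `A ⧸ I ^ n`, where `I ^ n x = 0`).
-/

set_option autoImplicit false
universe u v

namespace Groth.Agent.Lib.Helper79.HSL

open AdicCompletion (evalₐ evalₐ_mk)

section Compat

variable {A : Type u} [CommRing A] (I : Ideal A)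

/-- Compatibility of the evaluation maps of the completion. -/
theorem evalₐ_compat {m n : ℕ} (hmn : m ≤ n) (c : AdicCompletion I A) (r : A)
    (h : evalₐ I n c = Ideal.Quotient.mk (I ^ n) r) :
    evalₐ I m c = Ideal.Quotient.mk (I ^ m) r := by
  obtain ⟨x, rfl⟩ := AdicCompletion.mk_surjective I A c
  rw [evalₐ_mk] at h ⊢
  have h1 : x.val n - r ∈ I ^ n := by
    rw [← Ideal.Quotient.eq_zero_iff_mem, map_sub, h, sub_self]
  have h2 : x.val n - r ∈ I ^ m := Ideal.pow_le_pow_right hmn h1
  have h3 : Ideal.Quotient.mk (I ^ m) (x.val n) = Ideal.Quotient.mk (I ^ m) r := by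
    rw [← sub_eq_zero, ← map_sub, Ideal.Quotient.eq_zero_iff_mem]
    exact h2
  rw [← h3]
  exact (AdicCompletion.Ideal.mk_eq_mk I hmn x).symm

end Compat

section Action

variable {A : Type u} [CommRing A] (I : Ideal A) {M : Type v} [AddCommGroup M] [Module A M]

/-- Power torsion (same as the prelude's `LocCoh.IsPowerTorsion`, unfolded). -/
def PT (I : Ideal A) (M : Type v) [AddCommGroup M] [Module A M] : Prop :=
  ∀ x : M, ∃ n : ℕ, ∀ a ∈ I ^ n, a • x = 0

variable {I}

/-- The action of the completion on a power-torsion module. -/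
noncomputable def csmul (h : PT I M) (c : AdicCompletion I A) (x : M) : M :=
  (Classical.choose (Ideal.Quotient.mk_surjective
    (evalₐ I (Classical.choose (h x)) c))) • x

theorem csmul_eq (h : PT I M) (c : AdicCompletion I A) (x : M) (n : ℕ)
    (hn : ∀ a ∈ I ^ n, a • x = 0) (r : A) (hr : evalₐ I n c = Ideal.Quotient.mk (I ^ n) r) :
    csmul h c x = r • x := by
  unfold csmul
  set n0 := Classical.choose (h x) with hn0def
  have hn0 : ∀ a ∈ I ^ n0, a • x = 0 := Classical.choose_spec (h x)
  set r0 := Classical.choose (Ideal.Quotient.mk_surjective (evalₐ I n0 c)) with hr0def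
  have hr0 : Ideal.Quotient.mk (I ^ n0) r0 = evalₐ I n0 c :=
    Classical.choose_spec (Ideal.Quotient.mk_surjective (evalₐ I n0 c))
  rw [← sub_eq_zero, ← sub_smul]
  rcases le_total n0 n with hle | hle
  · -- compare at level n0
    have h1 := evalₐ_compat I hle c r hr
    apply hn0
    rw [← Ideal.Quotient.eq_zero_iff_mem, map_sub, hr0, h1, sub_self]
  · have h1 := evalₐ_compat I hle c r0 hr0.symm
    apply hn
    rw [← Ideal.Quotient.eq_zero_iff_mem, map_sub, ← hr, h1, sub_self]

theorem exists_rep (c : AdicCompletion I A) (n : ℕ) :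
    ∃ r : A, evalₐ I n c = Ideal.Quotient.mk (I ^ n) r := by
  obtain ⟨r, hr⟩ := Ideal.Quotient.mk_surjective (evalₐ I n c)
  exact ⟨r, hr.symm⟩

theorem exists_common (h : PT I M) (x y : M) :
    ∃ n : ℕ, (∀ a ∈ I ^ n, a • x = 0) ∧ (∀ a ∈ I ^ n, a • y = 0) := by
  obtain ⟨n1, h1⟩ := h x
  obtain ⟨n2, h2⟩ := h y
  exact ⟨max n1 n2, fun a ha => h1 a (Ideal.pow_le_pow_right (le_max_left _ _) ha),
    fun a ha => h2 a (Ideal.pow_le_pow_right (le_max_right _ _) ha)⟩

/-- The module structure over the completion. -/
@[instance_reducible]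
noncomputable def completionModule (h : PT I M) : Module (AdicCompletion I A) M where
  smul := csmul h
  one_smul x := by
    obtain ⟨n, hn⟩ := h x
    show csmul h 1 x = x
    rw [csmul_eq h 1 x n hn 1 (by rw [map_one, map_one]), one_smul]
  mul_smul c d x := by
    obtain ⟨n, hn⟩ := h x
    obtain ⟨r, hr⟩ := exists_rep c n
    obtain ⟨s, hs⟩ := exists_rep d n
    show csmul h (c * d) x = csmul h c (csmul h d x)
    rw [csmul_eq h d x n hn s hs]
    have hn' : ∀ a ∈ I ^ n, a • s • x = 0 := fun a ha => by
      rw [smul_comm, hn a ha, smul_zero]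
    rw [csmul_eq h c (s • x) n hn' r hr,
      csmul_eq h (c * d) x n hn (r * s) (by rw [map_mul, map_mul, hr, hs]), mul_smul]
  smul_zero c := by
    obtain ⟨r, hr⟩ := exists_rep c 0
    show csmul h c 0 = 0
    rw [csmul_eq h c 0 0 (fun a _ => smul_zero a) r hr, smul_zero]
  smul_add c x y := by
    obtain ⟨n, hx, hy⟩ := exists_common h x y
    obtain ⟨r, hr⟩ := exists_rep c n
    show csmul h c (x + y) = csmul h c x + csmul h c y
    rw [csmul_eq h c x n hx r hr, csmul_eq h c y n hy r hr,
      csmul_eq h c (x + y) n (fun a ha => by rw [smul_add, hx a ha, hy a ha, add_zero]) r hr,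
      smul_add]
  add_smul c d x := by
    obtain ⟨n, hn⟩ := h x
    obtain ⟨r, hr⟩ := exists_rep c n
    obtain ⟨s, hs⟩ := exists_rep d n
    show csmul h (c + d) x = csmul h c x + csmul h d x
    rw [csmul_eq h c x n hn r hr, csmul_eq h d x n hn s hs,
      csmul_eq h (c + d) x n hn (r + s) (by rw [map_add, map_add, hr, hs]), add_smul]
  zero_smul x := by
    obtain ⟨n, hn⟩ := h x
    show csmul h 0 x = 0
    rw [csmul_eq h 0 x n hn 0 (by rw [map_zero, map_zero]), zero_smul]

theorem completion_smul_eq (h : PT I M) (c : AdicCompletion I A) (x : M) (n : ℕ)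
    (hn : ∀ a ∈ I ^ n, a • x = 0) (r : A) (hr : evalₐ I n c = Ideal.Quotient.mk (I ^ n) r) :
    letI := completionModule h
    c • x = r • x :=
  csmul_eq h c x n hn r hr

theorem algebraMap_smul_eq (h : PT I M) (a : A) (x : M) :
    letI := completionModule h
    (algebraMap A (AdicCompletion I A) a) • x = a • x := by
  obtain ⟨n, hn⟩ := h x
  refine csmul_eq h _ x n hn a ?_
  rw [AlgHom.commutes]
  rfl

theorem isScalarTower (h : PT I M) :
    letI := completionModule h
    IsScalarTower A (AdicCompletion I A) M := by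
  letI := completionModule h
  refine ⟨fun a c x => ?_⟩
  rw [Algebra.smul_def, mul_smul]
  exact algebraMap_smul_eq h a (c • x)

/-- A map which is `p`-power semilinear over `A` is so over the completion. -/
theorem semilinear_completion (h : PT I M) (p : ℕ) (φ : M →+ M)
    (hφ : ∀ (r : A) (x : M), φ (r • x) = r ^ p • φ x) (c : AdicCompletion I A) (x : M) :
    letI := completionModule h
    φ (c • x) = c ^ p • φ x := by
  letI := completionModule h
  obtain ⟨n, hx, hy⟩ := exists_common h x (φ x)
  obtain ⟨r, hr⟩ := exists_rep c n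
  rw [completion_smul_eq h c x n hx r hr, hφ,
    completion_smul_eq h (c ^ p) (φ x) n hy (r ^ p) (by rw [map_pow, map_pow, hr])]

end Action

end Groth.Agent.Lib.Helper79.HSL
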