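import Mathlib

/-!
# HSL2 (helper79): descending chains of submodules stabilise generically at a minimal prime

Let `T` be a finite module over a Noetherian ring `R`, killed by an ideal `J`, and `P` a minimal
prime over `J`.  For every descending chain `S e` of submodules of `T` there are `e` and `s ∉ P`
with `s • S e ≤ S (e + 1)` (because `T_P` has finite length over `R_P`).
-/

set_option autoImplicit false
universe u v

namespace Groth.Agent.Lib.Helper79.HSL

open IsLocalRing

theorem isArtinian_localizedModule_of_minimalPrimes {R : Type u} [CommRing R] [IsNoetherianRing R]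
    {T : Type v} [AddCommGroup T] [Module R T] [Module.Finite R T]
    (J : Ideal R) (hJ : ∀ a ∈ J, ∀ t : T, a • t = 0) (P : Ideal R) (hP : P ∈ J.minimalPrimes) :
    haveI := hP.1.1
    IsArtinian (Localization.AtPrime P) (LocalizedModule P.primeCompl T) := by
  haveI := hP.1.1
  let Rp := Localization.AtPrime P
  let Tp := LocalizedModule P.primeCompl T
  let f := algebraMap R Rp
  have hArtRing : IsArtinianRing (Rp ⧸ J.map f) := by
    apply IsLocalRing.quotient_artinian_of_mem_minimalPrimes_of_isLocalRing
    rwa [IsLocalization.minimalPrimes_map P.primeCompl Rp J, Set.mem_preimage,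
      Localization.AtPrime.under_maximalIdeal]
  have hfin : Module.Finite Rp Tp :=
    Module.Finite.of_isLocalizedModule P.primeCompl (LocalizedModule.mkLinearMap P.primeCompl T)
  have htors : Module.IsTorsionBySet Rp Tp (J.map f : Set Rp) := by
    rw [Module.isTorsionBySet_iff_subset_annihilator]
    intro a ha
    rw [SetLike.mem_coe, Module.mem_annihilator]
    intro x
    induction ha using Submodule.span_induction with
    | mem b hb =>
      obtain ⟨j, hj, rfl⟩ := hb
      induction x using LocalizedModule.induction_on with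
      | h t s =>
        rw [algebraMap_smul, LocalizedModule.smul'_mk, hJ j hj t, LocalizedModule.zero_mk]
    | zero => exact zero_smul _ _
    | add b c _ _ hb hc => rw [add_smul, hb, hc, add_zero]
    | smul b c _ hc => rw [smul_eq_mul, mul_smul, hc, smul_zero]
  letI : Module (Rp ⧸ J.map f) Tp := htors.module
  haveI : IsScalarTower Rp (Rp ⧸ J.map f) Tp := htors.isScalarTower
  haveI : Module.Finite (Rp ⧸ J.map f) Tp := Module.Finite.of_restrictScalars_finite Rp _ _
  haveI : IsArtinian (Rp ⧸ J.map f) Tp := inferInstance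
  exact isArtinian_of_surjective_algebraMap (S := Rp) (R := Rp ⧸ J.map f) (M := Tp)
    Ideal.Quotient.mk_surjective

theorem exists_smul_le_succ {R : Type u} [CommRing R] [IsNoetherianRing R]
    {T : Type v} [AddCommGroup T] [Module R T] [Module.Finite R T]
    (J : Ideal R) (hJ : ∀ a ∈ J, ∀ t : T, a • t = 0) (P : Ideal R) (hP : P ∈ J.minimalPrimes)
    (S : ℕ → Submodule R T) (hS : Antitone S) :
    ∃ e : ℕ, ∃ s : R, s ∉ P ∧ ∀ t ∈ S e, s • t ∈ S (e + 1) := by
  classical
  haveI := hP.1.1
  haveI := isArtinian_localizedModule_of_minimalPrimes J hJ P hP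
  let g := LocalizedModule.mkLinearMap P.primeCompl T
  let L : ℕ →o (Submodule (Localization.AtPrime P) (LocalizedModule P.primeCompl T))ᵒᵈ :=
    ⟨fun e => OrderDual.toDual ((S e).localized P.primeCompl), fun a b hab => by
      show (S b).localized P.primeCompl ≤ (S a).localized P.primeCompl
      rintro _ ⟨m, hm, s, rfl⟩
      exact ⟨m, hS hab hm, s, rfl⟩⟩
  obtain ⟨e, he⟩ := IsArtinian.monotone_stabilizes L
  have heq : (S e).localized P.primeCompl = (S (e + 1)).localized P.primeCompl :=
    congrArg OrderDual.ofDual (he (e + 1) (Nat.le_succ e))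
  refine ⟨e, ?_⟩
  haveI : IsNoetherian R T := isNoetherian_of_isNoetherianRing_of_finite R T
  obtain ⟨G, hG⟩ := (IsNoetherian.noetherian (S e) : (S e).FG)
  have key : ∀ x ∈ G, ∃ s : R, s ∉ P ∧ s • x ∈ S (e + 1) := by
    intro x hx
    have hxS : x ∈ S e := by rw [← hG]; exact Submodule.subset_span hx
    have h1 : g x ∈ (S e).localized P.primeCompl := ⟨x, hxS, 1, IsLocalizedModule.mk'_one _ _ x⟩
    rw [heq] at h1
    obtain ⟨m, hm, s, hms⟩ := h1
    rw [IsLocalizedModule.mk'_eq_iff] at hms
    have h2 : g m = g ((s : R) • x) := by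
      rw [map_smul]
      exact hms
    obtain ⟨c, hc⟩ := (IsLocalizedModule.eq_iff_exists P.primeCompl g).mp h2
    refine ⟨(c : R) * (s : R), ?_, ?_⟩
    · exact (c * s).2
    · have : ((c : R) * (s : R)) • x = (c : R) • m := by
        rw [mul_smul]
        exact hc.symm
      rw [this]
      exact (S (e + 1)).smul_mem _ hm
  choose! σ hσ1 hσ2 using key
  refine ⟨∏ x ∈ G, σ x, ?_, ?_⟩
  · intro hmem
    obtain ⟨x, hx, hxP⟩ := (Ideal.IsPrime.prod_mem_iff).mp hmem
    exact hσ1 x hx hxP
  · intro t ht
    rw [← hG] at ht
    induction ht using Submodule.span_induction with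
    | mem x hx =>
      rw [← Finset.mul_prod_erase G σ hx, mul_comm, mul_smul]
      exact (S (e + 1)).smul_mem _ (hσ2 x hx)
    | zero => rw [smul_zero]; exact zero_mem _
    | add x y _ _ hx hy => rw [smul_add]; exact add_mem hx hy
    | smul a x _ hx => rw [smul_comm]; exact (S (e + 1)).smul_mem _ hx

end Groth.Agent.Lib.Helper79.HSL
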