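import Mathlib
import Groth.Agent.Lib.Helper2.MatlisDuality
import Groth.Agent.Lib.Helper79.HSL2

/-!
# HSL3 (helper79): Hartshorne–Speiser–Lyubeznik over a complete local ring

Let `R` be a complete Noetherian local ring, `M` an Artinian `R`-module and `φ : M → M` an additive
map with `φ (r x) = r ^ p φ x` for some `p ≥ 2`.  If `φ` is locally nilpotent it is nilpotent.

Proof: the kernels `K e` of the iterates form an ascending chain; the colon ideals
`I e = (K e : K (e+1))` ascend, hence stabilise at `e0`; for `a ∈ I e0` one shows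
`a ^ 2 • K e ≤ K e0` for all `e`; dually the submodules `T e ⊆ Hom(M, E)` of functionals vanishing on
`K e` descend, `T e0` is finite and killed by the squares of `I e0`; localising at a minimal prime
over that ideal gives `s ∉ P` with `s • T e ≤ T (e+1)`, whence `s ∈ I e ≤ P`, a contradiction
unless `I e0 = ⊤`.
-/

set_option autoImplicit false
universe u v

namespace Groth.Agent.Lib.Helper79.HSL

section Kernels

variable {R : Type u} [CommRing R] {M : Type v} [AddCommGroup M] [Module R M]
  (p : ℕ) (φ : M →+ M) (hφ : ∀ (r : R) (x : M), φ (r • x) = r ^ p • φ x)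

include hφ in
theorem iterate_smul (e : ℕ) (r : R) (x : M) : φ^[e] (r • x) = r ^ (p ^ e) • φ^[e] x := by
  induction e generalizing r x with
  | zero => simp
  | succ e ih =>
    rw [Function.iterate_succ_apply, Function.iterate_succ_apply, hφ, ih, ← pow_mul, ← pow_succ']

/-- The kernel of the `e`-th iterate, as a submodule. -/
def kerIter (e : ℕ) : Submodule R M where
  carrier := {x | φ^[e] x = 0}
  add_mem' := by
    intro x y hx hy
    simp only [Set.mem_setOf_eq] at hx hy ⊢
    rw [iterate_map_add, hx, hy, add_zero]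
  zero_mem' := iterate_map_zero φ e
  smul_mem' := by
    intro r x hx
    simp only [Set.mem_setOf_eq] at hx ⊢
    rw [iterate_smul p φ hφ, hx, smul_zero]

theorem mem_kerIter {e : ℕ} {x : M} : x ∈ kerIter p φ hφ e ↔ φ^[e] x = 0 := Iff.rfl

theorem mem_kerIter_succ {e : ℕ} {x : M} :
    x ∈ kerIter p φ hφ (e + 1) ↔ φ x ∈ kerIter p φ hφ e := by
  rw [mem_kerIter, mem_kerIter, Function.iterate_succ_apply]

theorem kerIter_mono : Monotone (kerIter p φ hφ) := by
  apply monotone_nat_of_le_succ
  intro e x hx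
  rw [mem_kerIter] at hx ⊢
  rw [Function.iterate_succ_apply', hx, map_zero]

/-- The colon ideals `(K e : K (e + 1))`. -/
def colonIdeal (e : ℕ) : Ideal R :=
  (kerIter p φ hφ e).colon (kerIter p φ hφ (e + 1) : Set M)

theorem mem_colonIdeal {e : ℕ} {a : R} :
    a ∈ colonIdeal p φ hφ e ↔ ∀ y ∈ kerIter p φ hφ (e + 1), a • y ∈ kerIter p φ hφ e :=
  Submodule.mem_colon

theorem colonIdeal_mono (hp : 1 ≤ p) : Monotone (colonIdeal p φ hφ) := by
  apply monotone_nat_of_le_succ
  intro e a ha
  rw [mem_colonIdeal] at ha ⊢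
  intro y hy
  rw [mem_kerIter_succ] at hy ⊢
  rw [hφ]
  have h1 := ha (φ y) hy
  obtain ⟨q, rfl⟩ : ∃ q, p = q + 1 := ⟨p - 1, by omega⟩
  rw [pow_succ, mul_smul]
  exact Submodule.smul_mem _ _ h1

/-- The square trick. -/
theorem sq_smul_mem (hp : 2 ≤ p) (e0 : ℕ) (a : R) (ha : a ∈ colonIdeal p φ hφ e0) :
    ∀ e, e0 ≤ e → ∀ y ∈ kerIter p φ hφ e, a ^ 2 • y ∈ kerIter p φ hφ e0 := by
  intro e he
  induction e, he using Nat.le_induction with
  | base => intro y hy; exact Submodule.smul_mem _ _ hy
  | succ e _ ih =>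
    intro y hy
    rw [mem_kerIter_succ] at hy
    have h1 := ih (φ y) hy
    have h2 : a • y ∈ kerIter p φ hφ (e0 + 1) := by
      rw [mem_kerIter_succ, hφ]
      obtain ⟨q, rfl⟩ : ∃ q, p = q + 2 := ⟨p - 2, by omega⟩
      rw [pow_add, mul_smul]
      exact Submodule.smul_mem _ _ h1
    have h3 := (mem_colonIdeal p φ hφ).mp ha _ h2
    rwa [← mul_smul, ← sq] at h3

end Kernels

section Complete

open IsLocalRing Groth.Agent.Lib.Helper2 InjHull

variable {R : Type u} [CommRing R] [IsLocalRing R] [IsNoetherianRing R]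

theorem exists_injHull_residueField (R : Type u) [CommRing R] [IsLocalRing R] :
    ∃ (E : Type u) (_ : AddCommGroup E) (_ : Module R E) (f : ResidueField R →ₗ[R] E),
      InjHull.IsInjectiveHull f := by
  obtain ⟨I, _, _, i, hI, hi⟩ :=
    Groth.Agent.Lib.Helper2.exists_injective_embedding R (ResidueField R)
  obtain ⟨E, C, hME, hess, hEC⟩ :=
    Groth.Agent.Lib.Helper2.exists_essIn_isCompl hI (LinearMap.range i)
  exact ⟨E, inferInstance, inferInstance, _,
    Groth.Agent.Lib.Helper2.isInjectiveHull_of_essIn hI i hi hME hess hEC⟩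

/-- Functionals vanishing on a submodule. -/
def vanishing {M E : Type u} [AddCommGroup M] [Module R M] [AddCommGroup E] [Module R E]
    (N : Submodule R M) : Submodule R (M →ₗ[R] E) where
  carrier := {t | ∀ y ∈ N, t y = 0}
  add_mem' := by
    intro s t hs ht y hy
    rw [LinearMap.add_apply, hs y hy, ht y hy, add_zero]
  zero_mem' := fun _ _ => rfl
  smul_mem' := by
    intro a t ht y hy
    rw [LinearMap.smul_apply, ht y hy, smul_zero]

theorem nilpotent_of_complete [IsAdicComplete (maximalIdeal R) R]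
    {M : Type u} [AddCommGroup M] [Module R M] [IsArtinian R M]
    (p : ℕ) (hp : 2 ≤ p) (φ : M →+ M) (hφ : ∀ (r : R) (x : M), φ (r • x) = r ^ p • φ x)
    (hloc : ∀ x : M, ∃ n : ℕ, φ^[n] x = 0) : ∃ n : ℕ, ∀ x : M, φ^[n] x = 0 := by
  classical
  obtain ⟨E, _, _, f, hf⟩ := exists_injHull_residueField R
  have hfinT : Module.Finite R (M →ₗ[R] E) := (matlis_artinian hf M).1
  haveI : IsNoetherian R (M →ₗ[R] E) := isNoetherian_of_isNoetherianRing_of_finite R _
  set K := kerIter p φ hφ with hK
  have hKmono : Monotone K := kerIter_mono p φ hφ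
  obtain ⟨e0, he0⟩ := monotone_stabilizes_iff_noetherian.mpr (inferInstance : IsNoetherian R R)
    ⟨colonIdeal p φ hφ, colonIdeal_mono p φ hφ (by omega)⟩
  set I := colonIdeal p φ hφ e0 with hI
  have hIe : ∀ e, e0 ≤ e → colonIdeal p φ hφ e = I := fun e he => (he0 e he).symm
  by_cases hItop : I = ⊤
  · -- the chain of kernels is stationary from `e0` on
    refine ⟨e0, fun x => ?_⟩
    have h1 : K (e0 + 1) ≤ K e0 := by
      intro y hy
      have : (1 : R) ∈ I := by rw [hItop]; trivial
      have := (mem_colonIdeal p φ hφ).mp this y hy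
      rwa [one_smul] at this
    have h2 : ∀ e, e0 ≤ e → K e ≤ K e0 := by
      intro e he
      induction e, he using Nat.le_induction with
      | base => exact le_rfl
      | succ e _ ih =>
        intro y hy
        apply h1
        rw [hK, mem_kerIter_succ] at hy ⊢
        exact ih hy
    obtain ⟨n, hn⟩ := hloc x
    have h3 : x ∈ K (max n e0) := hKmono (le_max_left n e0) hn
    exact h2 _ (le_max_right n e0) h3
  · exfalso
    -- every element lies in some `K e` with `e ≥ e0`
    have hall : ∀ y : M, ∃ e, e0 ≤ e ∧ y ∈ K e := fun y => by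
      obtain ⟨n, hn⟩ := hloc y
      exact ⟨max n e0, le_max_right _ _, hKmono (le_max_left n e0) hn⟩
    have hsq : ∀ a ∈ I, ∀ y : M, a ^ 2 • y ∈ K e0 := fun a ha y => by
      obtain ⟨e, he, hy⟩ := hall y
      exact sq_smul_mem p φ hφ hp e0 a ha e he y hy
    let I' : Ideal R := Ideal.span ((fun a => a ^ 2) '' (I : Set R))
    have hI'le : I' ≤ I := by
      rw [Ideal.span_le]
      rintro _ ⟨a, ha, rfl⟩
      exact Ideal.pow_mem_of_mem I ha 2 (by norm_num)
    have hI'top : I' ≠ ⊤ := fun h => hItop (top_le_iff.mp (h ▸ hI'le))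
    obtain ⟨P, hP⟩ := Ideal.nonempty_minimalPrimes hI'top
    haveI := hP.1.1
    have hIP : I ≤ P := fun a ha =>
      hP.1.1.mem_of_pow_mem 2 (hP.1.2 (Ideal.subset_span ⟨a, ha, rfl⟩))
    -- the dual chain
    let T : ℕ → Submodule R (M →ₗ[R] E) := fun e => vanishing (E := E) (K e)
    have hTanti : Antitone T := fun a b hab t ht y hy => ht y (hKmono hab hy)
    haveI : Module.Finite R ↥(T e0) := Module.Finite.of_injective (T e0).subtype
      (T e0).injective_subtype
    have hJ : ∀ a ∈ I', ∀ t : ↥(T e0), a • t = 0 := by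
      intro a ha t
      induction ha using Submodule.span_induction with
      | mem b hb =>
        obtain ⟨c, hc, rfl⟩ := hb
        apply Subtype.ext
        apply LinearMap.ext
        intro y
        show (c ^ 2 • (t : M →ₗ[R] E)) y = 0
        rw [LinearMap.smul_apply, ← map_smul]
        exact t.2 _ (hsq c hc y)
      | zero => exact zero_smul _ _
      | add b c _ _ hb hc => rw [add_smul, hb, hc, add_zero]
      | smul b c _ hc => rw [smul_eq_mul, mul_smul, hc, smul_zero]
    let S : ℕ → Submodule R ↥(T e0) := fun e => (T (e0 + e)).comap (T e0).subtype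
    have hSanti : Antitone S := fun a b hab t ht => hTanti (Nat.add_le_add_left hab e0) ht
    obtain ⟨e, s, hsP, hs⟩ := exists_smul_le_succ I' hJ P hP S hSanti
    apply hsP
    apply hIP
    rw [← hIe (e0 + e) (Nat.le_add_right e0 e), mem_colonIdeal]
    intro y hy
    by_contra hcon
    set N := K (e0 + e) with hN
    have hne : N.mkQ (s • y) ≠ 0 := by
      rwa [Ne, Submodule.mkQ_apply, Submodule.Quotient.mk_eq_zero]
    obtain ⟨g, hg⟩ := exists_hom_apply_ne_zero hf (N.mkQ (s • y)) hne
    let t : M →ₗ[R] E := g ∘ₗ N.mkQ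
    have ht : t ∈ T (e0 + e) := by
      intro z hz
      show g (N.mkQ z) = 0
      rw [Submodule.mkQ_apply, (Submodule.Quotient.mk_eq_zero N).mpr hz, map_zero]
    have ht0 : t ∈ T e0 := hTanti (Nat.le_add_right e0 e) ht
    have h1 : s • (⟨t, ht0⟩ : ↥(T e0)) ∈ S (e + 1) := hs ⟨t, ht0⟩ ht
    have h2 : (s • t) y = 0 := h1 y hy
    apply hg
    rw [LinearMap.smul_apply, ← map_smul] at h2
    exact h2

end Complete

end Groth.Agent.Lib.Helper79.HSL
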