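import Mathlib
import Groth.Agent.Lib.Helper2.MatlisDuality
import Groth.Agent.Lib.Helper79.HSL1
import Groth.Agent.Lib.Helper79.HSL3

/-!
# HSL4 (helper79): Hartshorne–Speiser–Lyubeznik, locally nilpotent case, over any Noetherian local ring

Reduction to the complete case: a cofinite module is small (countably generated), is Artinian
(helper2's Matlis library), and is a module over the completion.
-/

set_option autoImplicit false
universe u v

namespace Groth.Agent.Lib.Helper79.HSL

open IsLocalRing

section Finite

variable {A : Type u} [CommRing A] [IsNoetherianRing A] (I : Ideal A)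
  {M : Type v} [AddCommGroup M] [Module A M]

/-- If the `I`-torsion is Noetherian then so is the `I ^ n`-torsion. -/
theorem isNoetherian_torsionBySet_pow
    (hsoc : IsNoetherian A ↥(Submodule.torsionBySet A M (I : Set A))) (n : ℕ) :
    IsNoetherian A ↥(Submodule.torsionBySet A M ((I ^ n : Ideal A) : Set A)) := by
  classical
  induction n with
  | zero =>
    have : Submodule.torsionBySet A M ((I ^ 0 : Ideal A) : Set A) = ⊥ := by
      rw [eq_bot_iff]
      intro x hx
      rw [Submodule.mem_torsionBySet_iff] at hx
      have := hx ⟨1, by simp⟩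
      rw [Submodule.mem_bot]
      simpa using this
    rw [this]
    infer_instance
  | succ n ih =>
    obtain ⟨G, hG⟩ := (IsNoetherian.noetherian (I ^ n) : (I ^ n).FG)
    let S0 := Submodule.torsionBySet A M ((I ^ n : Ideal A) : Set A)
    let S1 := Submodule.torsionBySet A M ((I ^ (n + 1) : Ideal A) : Set A)
    let soc := Submodule.torsionBySet A M (I : Set A)
    have hle : S0 ≤ S1 := by
      intro x hx
      rw [Submodule.mem_torsionBySet_iff] at hx ⊢
      rintro ⟨a, ha⟩
      exact hx ⟨a, Ideal.pow_le_pow_right (Nat.le_succ n) ha⟩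
    have hGmem : ∀ i ∈ G, i ∈ I ^ n := fun i hi => by
      rw [← hG]; exact Ideal.subset_span hi
    let g : ↥S1 →ₗ[A] (↥G → ↥soc) :=
      { toFun := fun y i => ⟨(i : A) • (y : M), by
          rw [Submodule.mem_torsionBySet_iff]
          rintro ⟨a, ha⟩
          have hy := (Submodule.mem_torsionBySet_iff _ _).mp y.2
          have hmem : a * (i : A) ∈ I ^ (n + 1) := by
            rw [pow_succ']
            exact Ideal.mul_mem_mul ha (hGmem i i.2)
          have := hy ⟨a * (i : A), hmem⟩
          rw [← mul_smul]
          exact this⟩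
        map_add' := fun y z => by
          funext i
          apply Subtype.ext
          show (i : A) • ((y : M) + (z : M)) = (i : A) • (y : M) + (i : A) • (z : M)
          exact smul_add _ _ _
        map_smul' := fun a y => by
          funext i
          apply Subtype.ext
          show (i : A) • (a • (y : M)) = a • ((i : A) • (y : M))
          exact smul_comm _ _ _ }
    let f : ↥S0 →ₗ[A] ↥S1 := Submodule.inclusion hle
    refine isNoetherian_of_range_eq_ker f g ?_
    ext y
    constructor
    · rintro ⟨x, rfl⟩
      rw [LinearMap.mem_ker]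
      funext i
      apply Subtype.ext
      show (i : A) • ((Submodule.inclusion hle x : ↥S1) : M) = 0
      have hx := (Submodule.mem_torsionBySet_iff _ _).mp x.2
      exact hx ⟨(i : A), hGmem i i.2⟩
    · intro hy
      rw [LinearMap.mem_ker] at hy
      have hy0 : (y : M) ∈ S0 := by
        rw [Submodule.mem_torsionBySet_iff]
        rintro ⟨a, ha⟩
        have key : ∀ a ∈ Ideal.span (G : Set A), a • (y : M) = 0 := by
          intro a ha'
          induction ha' using Submodule.span_induction with
          | mem b hb =>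
            have := congrArg Subtype.val (congrFun hy ⟨b, hb⟩)
            exact this
          | zero => exact zero_smul _ _
          | add b c _ _ hb hc => rw [add_smul, hb, hc, add_zero]
          | smul b c _ hc => rw [smul_eq_mul, mul_smul, hc, smul_zero]
        exact key a (by show a ∈ Submodule.span A (G : Set A); rw [hG]; exact ha)
      exact ⟨⟨y, hy0⟩, Subtype.ext rfl⟩

end Finite

section Main

open Groth.Agent.Lib.Helper2

theorem isAdicComplete_completion (A : Type u) [CommRing A] [IsNoetherianRing A] [IsLocalRing A] :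
    IsAdicComplete (maximalIdeal (AdicCompletion (maximalIdeal A) A))
      (AdicCompletion (maximalIdeal A) A) := by
  rw [AdicCompletion.maximalIdeal_eq_map]
  exact AdicCompletion.isAdicComplete_self _ (Ideal.fg_of_isNoetherianRing _)

theorem hsl_small (p : ℕ) (hp : 2 ≤ p) (A : Type u) [CommRing A] [IsNoetherianRing A]
    [IsLocalRing A] (M : Type u) [AddCommGroup M] [Module A M]
    (htors : LocCoh.IsPowerTorsion (maximalIdeal A) M)
    (hsoc : Module.Finite A ↥(LocCoh.torsionBy (maximalIdeal A) M))
    (φ : M →+ M) (hφ : ∀ (r : A) (x : M), φ (r • x) = r ^ p • φ x)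
    (hloc : ∀ x : M, ∃ n : ℕ, φ^[n] x = 0) : ∃ n : ℕ, ∀ x : M, φ^[n] x = 0 := by
  obtain ⟨E, _, _, f, hf⟩ := exists_injHull_residueField A
  have hfin : Module.Finite (A ⧸ maximalIdeal A) ↥(LocCoh.torsionBy (maximalIdeal A) M) :=
    Module.Finite.of_restrictScalars_finite A _ _
  haveI : IsArtinian A M := isArtinian_of_isPowerTorsion_of_finite_socle hf M htors hfin
  have hPT : PT (maximalIdeal A) M := htors
  letI := completionModule hPT
  haveI := isScalarTower hPT
  haveI : IsArtinian (AdicCompletion (maximalIdeal A) A) M := isArtinian_of_tower A inferInstance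
  haveI : IsNoetherianRing (AdicCompletion (maximalIdeal A) A) :=
    Groth.Agent.S0543.result A (maximalIdeal A)
  haveI := isAdicComplete_completion A
  exact nilpotent_of_complete (R := AdicCompletion (maximalIdeal A) A) p hp φ
    (semilinear_completion hPT p φ hφ) hloc

theorem hsl (p : ℕ) (hp : 2 ≤ p) (A : Type u) [CommRing A] [IsNoetherianRing A]
    [IsLocalRing A] (M : Type v) [AddCommGroup M] [Module A M]
    (htors : LocCoh.IsPowerTorsion (maximalIdeal A) M)
    (hsoc : Module.Finite A ↥(LocCoh.torsionBy (maximalIdeal A) M))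
    (φ : M →+ M) (hφ : ∀ (r : A) (x : M), φ (r • x) = r ^ p • φ x)
    (hloc : ∀ x : M, ∃ n : ℕ, φ^[n] x = 0) : ∃ n : ℕ, ∀ x : M, φ^[n] x = 0 := by
  -- smallness
  have hN : ∀ n : ℕ, IsNoetherian A
      ↥(Submodule.torsionBySet A M ((maximalIdeal A ^ n : Ideal A) : Set A)) :=
    isNoetherian_torsionBySet_pow (maximalIdeal A)
      (isNoetherian_of_isNoetherianRing_of_finite A _)
  haveI : ∀ n : ℕ, Small.{u}
      ↥(Submodule.torsionBySet A M ((maximalIdeal A ^ n : Ideal A) : Set A)) := fun n =>
    haveI := hN n
    Module.Finite.small.{u} A _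
  haveI : Small.{u} M := by
    let F : (Σ n : ℕ, ↥(Submodule.torsionBySet A M ((maximalIdeal A ^ n : Ideal A) : Set A))) → M :=
      fun z => (z.2 : M)
    apply small_of_surjective (f := F)
    intro x
    obtain ⟨n, hn⟩ := htors x
    refine ⟨⟨n, ⟨x, ?_⟩⟩, rfl⟩
    rw [Submodule.mem_torsionBySet_iff]
    rintro ⟨a, ha⟩
    exact hn a ha
  let e : Shrink.{u} M ≃ₗ[A] M := Shrink.linearEquiv A M
  have htors' : LocCoh.IsPowerTorsion (maximalIdeal A) (Shrink.{u} M) := by
    intro x
    obtain ⟨n, hn⟩ := htors (e x)
    refine ⟨n, fun a ha => ?_⟩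
    apply e.injective
    rw [map_smul, hn a ha, map_zero]
  have hsoc' : Module.Finite A ↥(LocCoh.torsionBy (maximalIdeal A) (Shrink.{u} M)) := by
    let ψ : ↥(LocCoh.torsionBy (maximalIdeal A) M) →ₗ[A]
        ↥(LocCoh.torsionBy (maximalIdeal A) (Shrink.{u} M)) :=
      { toFun := fun y => ⟨e.symm (y : M), by
          rw [Submodule.mem_torsionBySet_iff]
          rintro ⟨a, ha⟩
          have := (Submodule.mem_torsionBySet_iff _ _).mp y.2 ⟨a, ha⟩
          show a • e.symm (y : M) = 0
          rw [← map_smul, this, map_zero]⟩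
        map_add' := fun y z => Subtype.ext (by simp)
        map_smul' := fun a y => Subtype.ext (by simp) }
    apply Module.Finite.of_surjective ψ
    rintro ⟨z, hz⟩
    refine ⟨⟨e z, ?_⟩, Subtype.ext (by simp [ψ])⟩
    rw [Submodule.mem_torsionBySet_iff]
    rintro ⟨a, ha⟩
    have := (Submodule.mem_torsionBySet_iff _ _).mp hz ⟨a, ha⟩
    show a • e z = 0
    rw [← map_smul, this, map_zero]
  let φ' : Shrink.{u} M →+ Shrink.{u} M :=
    (e.symm : M →+ Shrink.{u} M).comp (φ.comp (e : Shrink.{u} M →+ M))
  have hφ'app : ∀ x, φ' x = e.symm (φ (e x)) := fun x => rfl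
  have hφ' : ∀ (r : A) (x : Shrink.{u} M), φ' (r • x) = r ^ p • φ' x := by
    intro r x
    rw [hφ'app, hφ'app, map_smul, hφ, map_smul]
  have hiter : ∀ (n : ℕ) (x : Shrink.{u} M), φ'^[n] x = e.symm (φ^[n] (e x)) := by
    intro n
    induction n with
    | zero => intro x; simp
    | succ n ih =>
      intro x
      rw [Function.iterate_succ_apply, Function.iterate_succ_apply, ih, hφ'app,
        LinearEquiv.apply_symm_apply]
  have hloc' : ∀ x : Shrink.{u} M, ∃ n : ℕ, φ'^[n] x = 0 := by
    intro x
    obtain ⟨n, hn⟩ := hloc (e x)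
    exact ⟨n, by rw [hiter, hn, map_zero]⟩
  obtain ⟨n, hn⟩ := hsl_small p hp A (Shrink.{u} M) htors' hsoc' φ' hφ' hloc'
  refine ⟨n, fun x => ?_⟩
  have := hn (e.symm x)
  rw [hiter, LinearEquiv.apply_symm_apply] at this
  exact e.symm.injective (by rw [this, map_zero])

end Main

end Groth.Agent.Lib.Helper79.HSL
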