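import Mathlib
import Groth.Agent.Lib.Helper35.TwoTerm

/-! t-structure lemmas on the derived category (helper79): morphisms `Y ⟶ Z` with `Y ≤ b ≤ Z`
realise every map `H^b(Y) ⟶ H^b(Z)`; maps from a projective object placed in degree `c` realise every
map `P ⟶ H^c(X)`. -/

set_option autoImplicit false
universe w v u

open CategoryTheory Limits Pretriangulated DerivedCategory

namespace Groth.Agent.Lib.Helper79.Inv

open Groth.Agent.Lib.Helper35.KL

variable {C : Type u} [Category.{v} C] [Abelian C] [HasDerivedCategory.{w} C]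

/-- the effect on `H^n` of a morphism between single objects. -/
lemma homology_map_single (n : ℤ) {M N : C} (f : M ⟶ N) :
    (homologyFunctor C n).map ((singleFunctor C n).map f) =
      (singleFunctorCompHomologyFunctorIso C n).hom.app M ≫ f ≫
        (singleFunctorCompHomologyFunctorIso C n).inv.app N := by
  have h := (singleFunctorCompHomologyFunctorIso C n).hom.naturality f
  simp only [Functor.comp_map, Functor.id_map] at h
  rw [← Category.assoc, ← h, Category.assoc, Iso.hom_inv_id_app, Category.comp_id]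

/-- **Heart lemma**: for `Y ≤ b` and `Z ≥ b` every map `H^b(Y) ⟶ H^b(Z)` is induced by a morphism
`Y ⟶ Z`. -/
theorem exists_hom_of_homology (b : ℤ) (Y Z : DerivedCategory C) [Y.IsLE b] [Z.IsGE b]
    (h : (homologyFunctor C b).obj Y ⟶ (homologyFunctor C b).obj Z) :
    ∃ μ : Y ⟶ Z, (homologyFunctor C b).map μ = h := by
  have hY1G : TStructure.t.IsGE ((TStructure.t.truncGE b).obj Y) b := inferInstance
  have hY1L : TStructure.t.IsLE ((TStructure.t.truncGE b).obj Y) b := inferInstance
  obtain ⟨H₁, ⟨e₁⟩⟩ :=
    exists_iso_singleFunctor_obj_of_isGE_of_isLE ((TStructure.t.truncGE b).obj Y) b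
  have hZ1L : TStructure.t.IsLE ((TStructure.t.truncLT (b + 1)).obj Z) b :=
    TStructure.t.isLE_truncLT_obj Z (b + 1) b
  have hZ1G : TStructure.t.IsGE ((TStructure.t.truncLT (b + 1)).obj Z) b := inferInstance
  obtain ⟨H₂, ⟨e₂⟩⟩ :=
    exists_iso_singleFunctor_obj_of_isGE_of_isLE ((TStructure.t.truncLT (b + 1)).obj Z) b
  have hπ := isIso_homology_map_truncGEπ' Y b b le_rfl
  have hι := isIso_homology_map_truncLTι' Z (b + 1) b (by omega)
  let u₁ : (homologyFunctor C b).obj Y ≅ H₁ :=
    asIso ((homologyFunctor C b).map ((TStructure.t.truncGEπ b).app Y)) ≪≫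
      (homologyFunctor C b).mapIso e₁ ≪≫ (singleFunctorCompHomologyFunctorIso C b).app H₁
  let u₂ : H₂ ≅ (homologyFunctor C b).obj Z :=
    ((singleFunctorCompHomologyFunctorIso C b).app H₂).symm ≪≫
      (homologyFunctor C b).mapIso e₂.symm ≪≫
      asIso ((homologyFunctor C b).map ((TStructure.t.truncLTι (b + 1)).app Z))
  refine ⟨(TStructure.t.truncGEπ b).app Y ≫ e₁.hom ≫
    (singleFunctor C b).map (u₁.inv ≫ h ≫ u₂.inv) ≫ e₂.inv ≫
      (TStructure.t.truncLTι (b + 1)).app Z, ?_⟩
  have h1 : (homologyFunctor C b).map ((TStructure.t.truncGEπ b).app Y) ≫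
      (homologyFunctor C b).map e₁.hom ≫
        (singleFunctorCompHomologyFunctorIso C b).hom.app H₁ = u₁.hom := by
    simp [u₁]
  have h2 : (singleFunctorCompHomologyFunctorIso C b).inv.app H₂ ≫
      (homologyFunctor C b).map e₂.inv ≫
        (homologyFunctor C b).map ((TStructure.t.truncLTι (b + 1)).app Z) = u₂.hom := by
    simp [u₂]
  calc (homologyFunctor C b).map ((TStructure.t.truncGEπ b).app Y ≫ e₁.hom ≫
          (singleFunctor C b).map (u₁.inv ≫ h ≫ u₂.inv) ≫ e₂.inv ≫
            (TStructure.t.truncLTι (b + 1)).app Z)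
      = ((homologyFunctor C b).map ((TStructure.t.truncGEπ b).app Y) ≫
          (homologyFunctor C b).map e₁.hom ≫
            (singleFunctorCompHomologyFunctorIso C b).hom.app H₁) ≫ (u₁.inv ≫ h ≫ u₂.inv) ≫
          ((singleFunctorCompHomologyFunctorIso C b).inv.app H₂ ≫
            (homologyFunctor C b).map e₂.inv ≫
              (homologyFunctor C b).map ((TStructure.t.truncLTι (b + 1)).app Z)) := by
        simp only [Functor.map_comp, homology_map_single, Category.assoc,
          Iso.inv_hom_id_app_assoc]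
    _ = h := by
        rw [h1, h2]
        simp

/-- maps to a single object from an object `≤ c` realise every map out of `H^c`. -/
theorem exists_hom_to_single (c : ℤ) (Y : DerivedCategory C) [Y.IsLE c] (M : C)
    (g : (homologyFunctor C c).obj Y ⟶ M) :
    ∃ f : Y ⟶ (singleFunctor C c).obj M,
      (homologyFunctor C c).map f ≫ (singleFunctorCompHomologyFunctorIso C c).hom.app M = g := by
  obtain ⟨f, hf⟩ := exists_hom_of_homology c Y ((singleFunctor C c).obj M)
    (g ≫ (singleFunctorCompHomologyFunctorIso C c).inv.app M)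
  exact ⟨f, by rw [hf, Category.assoc, Iso.inv_hom_id_app]; exact Category.comp_id g⟩

/-- **Lifting lemma**: maps from a projective object placed in degree `c` realise every map
`P ⟶ H^c(X)`. -/
theorem exists_hom_from_single_projective (c : ℤ) {P : C} [Projective P] (X : DerivedCategory C)
    (g : P ⟶ (homologyFunctor C c).obj X) :
    ∃ φ : (singleFunctor C c).obj P ⟶ X,
      (homologyFunctor C c).map φ = (singleFunctorCompHomologyFunctorIso C c).hom.app P ≫ g := by
  have hT := TStructure.t.triangleLTGE_distinguished c X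
  have hπ := isIso_homology_map_truncGEπ' X c c le_rfl
  have hX1G : TStructure.t.IsGE ((TStructure.t.truncGE c).obj X) c := inferInstance
  obtain ⟨μ, hμ⟩ := exists_hom_of_homology c ((singleFunctor C c).obj P)
    ((TStructure.t.truncGE c).obj X)
    ((singleFunctorCompHomologyFunctorIso C c).hom.app P ≫ g ≫
      (homologyFunctor C c).map ((TStructure.t.truncGEπ c).app X))
  have h1 : TStructure.t.IsLE ((TStructure.t.triangleLTGE c).obj X).obj₁ (c - 1) :=
    TStructure.t.isLE_truncLT_obj X c (c - 1)
  have h2 : TStructure.t.IsLE (((TStructure.t.triangleLTGE c).obj X).obj₁⟦(1 : ℤ)⟧) (c - 2) :=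
    TStructure.t.isLE_shift _ (c - 1) 1 (c - 2)
  have h0 : μ ≫ ((TStructure.t.triangleLTGE c).obj X).mor₃ = 0 :=
    hom_single_projective_eq_zero _ (c - 2) c (by omega) _
  obtain ⟨φ, hφ⟩ := Triangle.coyoneda_exact₃ _ hT μ h0
  refine ⟨φ, ?_⟩
  have h3 : (homologyFunctor C c).map φ ≫
      (homologyFunctor C c).map ((TStructure.t.truncGEπ c).app X) =
      ((singleFunctorCompHomologyFunctorIso C c).hom.app P ≫ g) ≫
        (homologyFunctor C c).map ((TStructure.t.truncGEπ c).app X) := by
    rw [← Functor.map_comp]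
    have : φ ≫ (TStructure.t.truncGEπ c).app X = μ := hφ.symm
    rw [this, hμ, Category.assoc]
  exact (cancel_mono ((homologyFunctor C c).map ((TStructure.t.truncGEπ c).app X))).1 h3

end Groth.Agent.Lib.Helper79.Inv
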