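import Mathlib

/-! Commutative algebra of graded families of finite modules which are, locally at every maximal
ideal, a free module of rank one placed in a single degree (helper79). -/

set_option autoImplicit false
universe u

namespace Groth.Agent.Lib.Helper79.Inv

variable {A : Type u} [CommRing A]

/-- an element which is locally zero at all maximal ideals is zero. -/
lemma eq_zero_of_forall_maximal {M : Type*} [AddCommGroup M] [Module A M] (z : M)
    (h : ∀ m : Ideal A, m.IsMaximal → ∃ t : A, t ∉ m ∧ t • z = 0) : z = 0 := by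
  by_contra hz
  let I : Ideal A := LinearMap.ker (LinearMap.toSpanSingleton A M z)
  have hI : I ≠ ⊤ := by
    intro h'
    have h1 : (1 : A) ∈ I := h' ▸ Submodule.mem_top
    rw [LinearMap.mem_ker, LinearMap.toSpanSingleton_apply, one_smul] at h1
    exact hz h1
  obtain ⟨m, hm, hIm⟩ := Ideal.exists_le_maximal I hI
  obtain ⟨t, ht, h0⟩ := h m hm
  exact ht (hIm (by rw [LinearMap.mem_ker, LinearMap.toSpanSingleton_apply]; exact h0))

/-- local data at a maximal ideal: in degree `b` the family is free of rank one on `x`, and it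
vanishes in the other degrees, after inverting a single element `t ∉ m`. -/
def LocD (m : Ideal A) (N : ℤ → Type u) [∀ p, AddCommGroup (N p)] [∀ p, Module A (N p)] : Prop :=
  ∃ (b : ℤ) (x : N b) (t : A), t ∉ m ∧ (∀ n : ℤ, n ≠ b → ∀ y : N n, t • y = 0) ∧
    (∀ y : N b, ∃ a : A, t • y = a • x) ∧ (∀ a : A, a • x = 0 → t * a = 0)

section

variable (N : ℤ → Type u) [∀ p, AddCommGroup (N p)] [∀ p, Module A (N p)]
  (hloc : ∀ m : Ideal A, m.IsMaximal → LocD m N)

include hloc in
/-- **Projectivity** of the members of a locally-rank-one graded family. -/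
theorem projective_of_locD [IsNoetherianRing A] (hfin : ∀ p, Module.Finite A (N p)) (p : ℤ) :
    Module.Projective A (N p) := by
  haveI := hfin p
  haveI : Module.FinitePresentation A (N p) := Module.finitePresentation_of_finite A (N p)
  apply Module.projective_of_localization_maximal
  intro m hm
  obtain ⟨b, x, t, ht, h1, h2, h3⟩ := hloc m hm
  by_cases hp : p = b
  · subst hp
    let G : Localization.AtPrime m →ₗ[Localization.AtPrime m] LocalizedModule m.primeCompl (N p) :=
      LinearMap.toSpanSingleton _ _ (LocalizedModule.mk x (1 : m.primeCompl))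
    have hG : Function.Bijective G := by
      constructor
      · rw [injective_iff_map_eq_zero]
        intro r hr
        induction r using Localization.induction_on with
        | H y =>
          obtain ⟨a, s⟩ := y
          change Localization.mk a s • LocalizedModule.mk x (1 : m.primeCompl) = 0 at hr
          rw [LocalizedModule.mk_smul_mk, ← LocalizedModule.zero_mk (M := N p) (1 : m.primeCompl),
            LocalizedModule.mk_eq] at hr
          obtain ⟨v, hv⟩ := hr
          simp only [one_smul, smul_zero] at hv
          have h4 : ((v : A) * a) • x = 0 := by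
            rw [mul_smul]
            exact hv
          have h5 := h3 _ h4
          rw [Localization.mk_eq_mk', IsLocalization.mk'_eq_zero_iff]
          exact ⟨⟨t, ht⟩ * v, by
            change t * (v : A) * a = 0
            rw [mul_assoc]; exact h5⟩
      · intro z
        induction z using LocalizedModule.induction_on with
        | h y s =>
          obtain ⟨a, ha⟩ := h2 y
          refine ⟨Localization.mk a (⟨t, ht⟩ * s), ?_⟩
          change Localization.mk a (⟨t, ht⟩ * s) • LocalizedModule.mk x (1 : m.primeCompl) = _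
          rw [LocalizedModule.mk_smul_mk, LocalizedModule.mk_eq]
          refine ⟨1, ?_⟩
          simp only [one_smul, mul_one]
          rw [← ha]
          change s • (t • y) = (t * (s : A)) • y
          rw [Submonoid.smul_def, ← mul_smul, mul_comm]
    exact Module.Projective.of_equiv (LinearEquiv.ofBijective G hG)
  · haveI : Subsingleton (LocalizedModule m.primeCompl (N p)) :=
      LocalizedModule.subsingleton_iff.2 (fun y => ⟨t, ht, h1 p hp y⟩)
    exact Module.Projective.of_free

end

end Groth.Agent.Lib.Helper79.Inv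

namespace Groth.Agent.Lib.Helper79.Inv

open TensorProduct

variable {A : Type u} [CommRing A]

section kill

variable {M M' : Type u} [AddCommGroup M] [Module A M] [AddCommGroup M'] [Module A M']

lemma smul_tmul_eq_zero_left (t : A) (h : ∀ y : M, t • y = 0) (τ : M ⊗[A] M') : t • τ = 0 := by
  induction τ using TensorProduct.induction_on with
  | zero => rw [smul_zero]
  | tmul y w => rw [TensorProduct.smul_tmul', h, TensorProduct.zero_tmul]
  | add a b ha hb => rw [smul_add, ha, hb, add_zero]

lemma smul_tmul_eq_zero_right (t : A) (h : ∀ y : M', t • y = 0) (τ : M ⊗[A] M') : t • τ = 0 := by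
  induction τ using TensorProduct.induction_on with
  | zero => rw [smul_zero]
  | tmul y w => rw [TensorProduct.smul_tmul', TensorProduct.smul_tmul, h, TensorProduct.tmul_zero]
  | add a b ha hb => rw [smul_add, ha, hb, add_zero]

lemma smul_dual_eq_zero (t : A) (h : ∀ y : M, t • y = 0) (φ : Module.Dual A M) : t • φ = 0 := by
  refine LinearMap.ext fun y => ?_
  rw [LinearMap.smul_apply, LinearMap.zero_apply, ← map_smul, h, map_zero]

end kill

/-- a finite dual basis. -/
structure DB (M : Type u) [AddCommGroup M] [Module A M] where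
  /-- size -/
  n : ℕ
  /-- vectors -/
  z : Fin n → M
  /-- functionals -/
  g : Fin n → Module.Dual A M
  h : ∀ y : M, y = ∑ i, g i y • z i

lemma nonempty_DB (M : Type u) [AddCommGroup M] [Module A M] [Module.Finite A M]
    [Module.Projective A M] : Nonempty (DB (A := A) M) := by
  obtain ⟨n, f, g, -, -, hfg⟩ := Module.Finite.exists_comp_eq_id_of_projective A M
  refine ⟨⟨n, fun i => f (Pi.single i 1), fun i => (LinearMap.proj i) ∘ₗ g, fun y => ?_⟩⟩
  have h1 : y = f (g y) := (LinearMap.congr_fun hfg y).symm
  have h2 : g y = ∑ i, (g y i) • (Pi.single i (1 : A) : Fin n → A) := by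
    ext j
    simp [Finset.sum_apply, Pi.single_apply]
  conv_lhs => rw [h1, h2]
  rw [map_sum]
  refine Finset.sum_congr rfl fun i _ => ?_
  rw [map_smul]
  rfl

/-- the canonical element of `M ⊗ M^∨` attached to a dual basis. -/
noncomputable def DB.c {M : Type u} [AddCommGroup M] [Module A M] (d : DB (A := A) M) :
    M ⊗[A] Module.Dual A M := ∑ i, d.z i ⊗ₜ[A] d.g i

section

variable (N : ℤ → Type u) [∀ p, AddCommGroup (N p)] [∀ p, Module A (N p)]
  (hloc : ∀ m : Ideal A, m.IsMaximal → LocD m N)

include hloc in
/-- off-diagonal tensor products vanish. -/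
theorem cross_eq_zero (p q : ℤ) (hpq : p ≠ q) (τ : N p ⊗[A] Module.Dual A (N q)) : τ = 0 := by
  apply eq_zero_of_forall_maximal (A := A)
  intro m hm
  obtain ⟨b, x, t, ht, h1, h2, h3⟩ := hloc m hm
  refine ⟨t, ht, ?_⟩
  by_cases hp : p = b
  · exact smul_tmul_eq_zero_right t (smul_dual_eq_zero t (h1 q (by omega))) τ
  · exact smul_tmul_eq_zero_left t (h1 p hp) τ

include hloc in
/-- the rank one identity. -/
theorem rank_one_identity (r : ℤ) (y z : N r) (φ ψ : Module.Dual A (N r)) :
    ψ y • (z ⊗ₜ[A] φ) = φ y • (z ⊗ₜ[A] ψ) := by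
  rw [← sub_eq_zero]
  apply eq_zero_of_forall_maximal (A := A)
  intro m hm
  obtain ⟨b, x, t, ht, h1, h2, h3⟩ := hloc m hm
  by_cases hr : r = b
  · subst hr
    refine ⟨t * t * t, fun h => ?_, ?_⟩
    · rcases hm.isPrime.mem_or_mem h with h' | h'
      · rcases hm.isPrime.mem_or_mem h' with h'' | h''
        · exact ht h''
        · exact ht h''
      · exact ht h'
    · obtain ⟨α, hα⟩ := h2 y
      obtain ⟨ζ, hζ⟩ := h2 z
      have hh : t • (ψ x • φ) = t • (φ x • ψ) := by
        refine LinearMap.ext fun y' => ?_
        obtain ⟨a, ha⟩ := h2 y'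
        have e4 : ∀ χ : Module.Dual A (N r), t * χ y' = a * χ x := by
          intro χ
          rw [← smul_eq_mul, ← map_smul, ha, map_smul, smul_eq_mul]
        simp only [LinearMap.smul_apply, smul_eq_mul]
        calc t * (ψ x * φ y') = ψ x * (t * φ y') := by ring
          _ = φ x * (t * ψ y') := by rw [e4, e4]; ring
          _ = t * (φ x * ψ y') := by ring
      have e1 : ∀ χ : Module.Dual A (N r), t * χ y = α * χ x := by
        intro χ
        rw [← smul_eq_mul, ← map_smul, hα, map_smul, smul_eq_mul]
      have e2 : ∀ χ : Module.Dual A (N r), t • (z ⊗ₜ[A] χ) = ζ • (x ⊗ₜ[A] χ) := by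
        intro χ
        rw [TensorProduct.smul_tmul', hζ, ← TensorProduct.smul_tmul']
      have e3 : ∀ χ χ' : Module.Dual A (N r), (t * t * t) • (χ' y • (z ⊗ₜ[A] χ)) =
          (α * ζ) • (x ⊗ₜ[A] (t • (χ' x • χ))) := by
        intro χ χ'
        calc (t * t * t) • (χ' y • (z ⊗ₜ[A] χ))
            = (t * χ' y) • t • (t • (z ⊗ₜ[A] χ)) := by
              simp only [smul_smul]
              congr 1
              ring
          _ = (α * χ' x) • t • (ζ • (x ⊗ₜ[A] χ)) := by rw [e1, e2]
          _ = (α * ζ) • (x ⊗ₜ[A] (t • (χ' x • χ))) := by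
              simp only [TensorProduct.tmul_smul, smul_smul]
              congr 1
              ring
      rw [smul_sub, e3, e3, hh, sub_self]
  · exact ⟨t, ht, smul_tmul_eq_zero_left t (h1 r hr) _⟩

variable (db : ∀ r : ℤ, DB (A := A) (N r))

include hloc in
/-- `ev ≫ coev = 𝟙` on the diagonal. -/
theorem contract_smul_c (r : ℤ) (τ : N r ⊗[A] Module.Dual A (N r)) :
    contractRight A (N r) τ • (db r).c = τ := by
  induction τ using TensorProduct.induction_on with
  | zero => rw [map_zero, zero_smul]
  | add a b ha hb => rw [map_add, add_smul, ha, hb]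
  | tmul y φ =>
    rw [contractRight_apply, DB.c, Finset.smul_sum]
    have h1 : ∀ i, φ y • ((db r).z i ⊗ₜ[A] (db r).g i) =
        ((db r).g i y • (db r).z i) ⊗ₜ[A] φ := by
      intro i
      rw [← rank_one_identity N hloc r y ((db r).z i) φ ((db r).g i), TensorProduct.smul_tmul']
    rw [Finset.sum_congr rfl (fun i _ => h1 i), ← TensorProduct.sum_tmul, ← (db r).h y]

include hloc in
/-- `ev ≫ coev = 0` off the diagonal. -/
theorem contract_smul_c_of_ne (q q' : ℤ) (hq : q ≠ q') (τ : N q ⊗[A] Module.Dual A (N q)) :
    contractRight A (N q) τ • (db q').c = 0 := by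
  apply eq_zero_of_forall_maximal (A := A)
  intro m hm
  obtain ⟨b, x, t, ht, h1, h2, h3⟩ := hloc m hm
  refine ⟨t, ht, ?_⟩
  by_cases hb : q' = b
  · have h4 : t • τ = 0 := smul_tmul_eq_zero_left t (h1 q (by omega)) τ
    rw [smul_smul, ← smul_eq_mul, ← map_smul, h4, map_zero, zero_smul]
  · rw [smul_comm, smul_tmul_eq_zero_left t (h1 q' hb) _, smul_zero]

include hloc in
/-- the traces of the identities sum to one. -/
theorem sum_contract_c (lo hi : ℤ) (hsub : ∀ i : ℤ, (i < lo ∨ hi < i) → Subsingleton (N i)) :
    ∑ r ∈ Finset.Icc lo hi, contractRight A (N r) (db r).c = 1 := by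
  rw [← sub_eq_zero]
  apply eq_zero_of_forall_maximal (A := A)
  intro m hm
  obtain ⟨b, x, t, ht, h1, h2, h3⟩ := hloc m hm
  have hb : b ∈ Finset.Icc lo hi := by
    rw [Finset.mem_Icc]
    by_contra hcon
    have := hsub b (by omega)
    have h4 := h3 1 (Subsingleton.elim _ _)
    rw [mul_one] at h4
    exact ht (h4 ▸ m.zero_mem)
  refine ⟨t * t, fun h => (hm.isPrime.mem_or_mem h).elim ht ht, ?_⟩
  have h5 : ∀ r ∈ Finset.Icc lo hi, r ≠ b → (t * t) * contractRight A (N r) (db r).c = 0 := by
    intro r _ hr
    rw [← smul_eq_mul, ← map_smul, mul_smul, smul_tmul_eq_zero_left t (h1 r hr) _, map_zero]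
  have h6 : (t * t) * contractRight A (N b) (db b).c = t * t := by
    choose ζ hζ using fun i => h2 ((db b).z i)
    have h7 : t * contractRight A (N b) (db b).c = ∑ i, ζ i * (db b).g i x := by
      rw [DB.c, map_sum, Finset.mul_sum]
      refine Finset.sum_congr rfl fun i _ => ?_
      rw [contractRight_apply, ← smul_eq_mul, ← map_smul, hζ, map_smul, smul_eq_mul]
    have h8 : (t * contractRight A (N b) (db b).c - t) • x = 0 := by
      rw [sub_smul, h7, Finset.sum_smul]
      have h9 : t • x = ∑ i, (ζ i * (db b).g i x) • x := by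
        conv_lhs => rw [(db b).h x, Finset.smul_sum]
        refine Finset.sum_congr rfl fun i _ => ?_
        rw [smul_comm, hζ, smul_smul, mul_comm]
      rw [h9, sub_self]
    have h10 := h3 _ h8
    rw [mul_sub, sub_eq_zero, ← mul_assoc] at h10
    exact h10
  rw [smul_eq_mul, mul_sub, mul_one, Finset.mul_sum, Finset.sum_eq_single_of_mem b hb
    (fun r hr hrb => h5 r hr hrb), h6, sub_self]

end

end Groth.Agent.Lib.Helper79.Inv
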