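import Mathlib
import Groth.Prelude.Def_DTen

/-! A chain-level criterion for `Z ⊗ Z' ≅ 𝟙_` for complexes of `A`-modules whose tensor product is
concentrated in degree zero and is there a finite sum of "lines" with evaluation/coevaluation maps
(helper79). -/

set_option autoImplicit false
universe u

open CategoryTheory Limits MonoidalCategory

namespace Groth.Agent.Lib.Helper79.Inv

variable {A : Type u} [CommRing A]

/-- **Chain-level inverse criterion.** -/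
theorem nonempty_tensor_iso_unit (Z Z' : DRing.Cx A) (I : Finset ℤ)
    (hz : ∀ p q : ℤ, p + q ≠ 0 → IsZero (Z.X p ⊗ Z'.X q))
    (hI : ∀ q : ℤ, q ∉ I → IsZero (Z.X (-q) ⊗ Z'.X q))
    (ev : ∀ q : ℤ, Z.X (-q) ⊗ Z'.X q ⟶ 𝟙_ (ModuleCat.{u} A))
    (coev : ∀ q : ℤ, 𝟙_ (ModuleCat.{u} A) ⟶ Z.X (-q) ⊗ Z'.X q)
    (h1 : ∀ q q' : ℤ, q ≠ q' → ev q ≫ coev q' = 0)
    (h2 : ∀ q : ℤ, q ∈ I → ev q ≫ coev q = 𝟙 _)
    (h3 : ∑ q ∈ I, coev q ≫ ev q = 𝟙 _) :
    Nonempty (Z ⊗ Z' ≅ 𝟙_ (DRing.Cx A)) := by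
  have hX0 : ∀ n : ℤ, n ≠ 0 → IsZero ((Z ⊗ Z').X n) := by
    intro n hn
    rw [IsZero.iff_id_eq_zero]
    apply HomologicalComplex.mapBifunctor.hom_ext
    intro p q h
    exact (hz p q (by
      intro h0
      apply hn
      rw [← h]
      exact h0)).eq_of_src _ _
  have hU0 : ∀ n : ℤ, n ≠ 0 → IsZero ((𝟙_ (DRing.Cx A)).X n) := fun n hn =>
    HomologicalComplex.isZero_single_obj_X (ComplexShape.up ℤ) 0 (𝟙_ (ModuleCat.{u} A)) n hn
  let sX : (𝟙_ (DRing.Cx A)).X 0 ≅ 𝟙_ (ModuleCat.{u} A) :=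
    HomologicalComplex.singleObjXSelf (ComplexShape.up ℤ) 0 (𝟙_ (ModuleCat.{u} A))
  let evp : ∀ (p q : ℤ) (_ : p + q = 0), Z.X p ⊗ Z'.X q ⟶ 𝟙_ (ModuleCat.{u} A) :=
    fun p q h => eqToHom (by rw [show p = -q by omega]) ≫ ev q
  let f0 : (Z ⊗ Z').X 0 ⟶ 𝟙_ (ModuleCat.{u} A) :=
    HomologicalComplex.mapBifunctorDesc (fun p q h => evp p q h)
  have hf0 : ∀ q : ℤ, HomologicalComplex.ιTensorObj Z Z' (-q) q 0 (by omega) ≫ f0 = ev q := by
    intro q
    have := HomologicalComplex.ι_mapBifunctorDesc (K₁ := Z) (K₂ := Z')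
      (F := curriedTensor (ModuleCat.{u} A)) (c := ComplexShape.up ℤ)
      (fun p q h => evp p q h) (-q) q (by dsimp; omega)
    rw [this]
    simp [evp]
  let g0 : 𝟙_ (ModuleCat.{u} A) ⟶ (Z ⊗ Z').X 0 :=
    ∑ q ∈ I, coev q ≫ HomologicalComplex.ιTensorObj Z Z' (-q) q 0 (by omega)
  have hfg : f0 ≫ g0 = 𝟙 _ := by
    apply HomologicalComplex.mapBifunctor.hom_ext
    intro p q h
    obtain rfl : p = -q := by
      have : p + q = 0 := h
      omega
    change HomologicalComplex.ιTensorObj Z Z' (-q) q 0 _ ≫ f0 ≫ g0 =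
      HomologicalComplex.ιTensorObj Z Z' (-q) q 0 (by omega) ≫ 𝟙 _
    rw [reassoc_of% (hf0 q)]
    erw [Category.comp_id]
    by_cases hq : q ∈ I
    · simp only [g0, Preadditive.comp_sum]
      rw [Finset.sum_eq_single_of_mem q hq]
      · rw [reassoc_of% (h2 q hq)]
      · intro q' _ hq'
        rw [reassoc_of% (h1 q q' (Ne.symm hq')), zero_comp]
    · exact (hI q hq).eq_of_src _ _
  have hgf : g0 ≫ f0 = 𝟙 _ := by
    simp only [g0, Preadditive.sum_comp, Category.assoc, hf0]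
    exact h3
  let iso0 : (Z ⊗ Z').X 0 ≅ (𝟙_ (DRing.Cx A)).X 0 :=
    { hom := f0 ≫ sX.inv
      inv := sX.hom ≫ g0
      hom_inv_id := by rw [Category.assoc, sX.inv_hom_id_assoc, hfg]
      inv_hom_id := by rw [Category.assoc, reassoc_of% hgf, sX.hom_inv_id] }
  refine ⟨HomologicalComplex.Hom.isoOfComponents
    (fun n => if h : n = 0 then (by subst h; exact iso0) else IsZero.iso (hX0 n h) (hU0 n h))
    (fun i j hij => ?_)⟩
  by_cases hi : i = 0
  · have hj : j ≠ 0 := by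
      have : i + 1 = j := hij
      omega
    exact (hU0 j hj).eq_of_tgt _ _
  · exact (hX0 i hi).eq_of_src _ _

end Groth.Agent.Lib.Helper79.Inv
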