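import Mathlib
import Groth.Agent.Lib.Helper79.Inv1
import Groth.Agent.Lib.Helper6.Bidual6
import Groth.Agent.Lib.Helper28.KProjFlat

/-! Formality of objects of `D(A)` with bounded projective cohomology (helper79): such an object
is isomorphic to the complex of its cohomology modules with zero differentials, which is
K-flat. -/

set_option autoImplicit false
universe u

open CategoryTheory Limits Pretriangulated DerivedCategory

namespace Groth.Agent.Lib.Helper79.Inv

attribute [local instance] HasDerivedCategory.standard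

open Groth.Agent.Lib.Helper35.KL Groth.Agent.Lib.Helper35 Groth.Agent.Lib.Helper6

variable {A : Type u} [CommRing A]

/-- the complex with terms `N p` and zero differentials. -/
noncomputable def zcx (N : ℤ → ModuleCat.{u} A) : DRing.Cx A where
  X := N
  d := fun _ _ => 0
  shape := fun _ _ _ => rfl
  d_comp_d' := fun _ _ _ _ _ => zero_comp

/-- the homology of `zcx N`. -/
noncomputable def zcxHomologyIso (N : ℤ → ModuleCat.{u} A) (p : ℤ) : (zcx N).homology p ≅ N p :=
  (ShortComplex.HomologyData.ofZeros ((zcx N).sc p) rfl rfl).left.homologyIso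

/-- the cohomology of `Q(zcx N)`. -/
noncomputable def hdZcxEquiv (N : ℤ → ModuleCat.{u} A) (p : ℤ) :
    Dual.HD A (DerivedCategory.Q.obj (zcx N)) p ≃ₗ[A] N p :=
  (Bidual.hdQEquiv (zcx N) p).trans (zcxHomologyIso N p).toLinearEquiv

/-- `zcx N` is K-flat when the `N p` are projective and vanish in high degrees. -/
theorem isKFlat_zcx (N : ℤ → ModuleCat.{u} A) (hi : ℤ) (h0 : ∀ p : ℤ, hi < p → IsZero (N p))
    (hproj : ∀ p : ℤ, Projective (N p)) : DRing.IsKFlat A (zcx N) := by
  haveI : (zcx N).IsStrictlyLE hi := by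
    rw [CochainComplex.isStrictlyLE_iff]
    intro i hi'
    exact h0 i hi'
  haveI : ∀ n : ℤ, Projective ((zcx N).X n) := hproj
  haveI : (zcx N).IsKProjective := CochainComplex.isKProjective_of_projective (zcx N) hi
  exact Groth.Agent.Lib.Helper28.KProjFlat.isKFlat_of_isKProjective (zcx N)

/-- objects with isomorphic bounded projective cohomology are isomorphic. -/
theorem nonempty_iso_of_homology_iso (n : ℕ) :
    ∀ (X X' : Dual.D A) (a b : ℤ), b - a + 1 ≤ n → X.IsGE a → X.IsLE b → X'.IsGE a → X'.IsLE b →
      (∀ p : ℤ, Nonempty ((homologyFunctor (ModuleCat.{u} A) p).obj X ≅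
        (homologyFunctor (ModuleCat.{u} A) p).obj X')) →
      (∀ p : ℤ, Projective ((homologyFunctor (ModuleCat.{u} A) p).obj X)) →
      Nonempty (X ≅ X') := by
  induction n with
  | zero =>
    intro X X' a b hab hG hL hG' hL' _ _
    exact ⟨(TStructure.t.isZero X b a (by omega)).iso (TStructure.t.isZero X' b a (by omega))⟩
  | succ n ih =>
    intro X X' a b hab hG hL hG' hL' hiso hproj
    -- the splitting for an object
    have key : ∀ (Y : Dual.D A), Y.IsGE a → Y.IsLE b →
        (∀ p : ℤ, Projective ((homologyFunctor (ModuleCat.{u} A) p).obj Y)) →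
        Nonempty (Y ≅ (TStructure.t.truncLT b).obj Y ⊞
          (singleFunctor (ModuleCat.{u} A) b).obj ((homologyFunctor (ModuleCat.{u} A) b).obj Y)) := by
      intro Y hYG hYL hYp
      have hT := TStructure.t.triangleLTGE_distinguished b Y
      have hZG : TStructure.t.IsGE ((TStructure.t.truncGE b).obj Y) b := inferInstance
      have hZL : TStructure.t.IsLE ((TStructure.t.truncGE b).obj Y) b := inferInstance
      obtain ⟨H, ⟨e0⟩⟩ := exists_iso_singleFunctor_obj_of_isGE_of_isLE
        ((TStructure.t.truncGE b).obj Y) b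
      have hiso0 := isIso_homology_map_truncGEπ' Y b b le_rfl
      let i0 : (homologyFunctor (ModuleCat.{u} A) b).obj Y ≅ H :=
        asIso ((homologyFunctor (ModuleCat.{u} A) b).map ((TStructure.t.truncGEπ b).app Y)) ≪≫
          (homologyFunctor (ModuleCat.{u} A) b).mapIso e0 ≪≫
          (DerivedCategory.singleFunctorCompHomologyFunctorIso (ModuleCat.{u} A) b).app H
      haveI : Projective H := Projective.of_iso i0 (hYp b)
      have h1 : TStructure.t.IsLE ((TStructure.t.triangleLTGE b).obj Y).obj₁ (b - 1) :=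
        TStructure.t.isLE_truncLT_obj Y b (b - 1)
      have h2 : TStructure.t.IsLE (((TStructure.t.triangleLTGE b).obj Y).obj₁⟦(1 : ℤ)⟧) (b - 2) :=
        TStructure.t.isLE_shift _ (b - 1) 1 (b - 2)
      have hz : ((TStructure.t.triangleLTGE b).obj Y).mor₃ = 0 := by
        have h3 : e0.inv ≫ ((TStructure.t.triangleLTGE b).obj Y).mor₃ = 0 :=
          hom_single_projective_eq_zero _ (b - 2) b (by omega) _
        calc ((TStructure.t.triangleLTGE b).obj Y).mor₃
            = e0.hom ≫ e0.inv ≫ ((TStructure.t.triangleLTGE b).obj Y).mor₃ := by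
              rw [e0.hom_inv_id_assoc]
          _ = 0 := by rw [h3, comp_zero]
      obtain ⟨e, -, -⟩ := exists_iso_binaryBiproduct_of_distTriang _ hT hz
      exact ⟨e ≪≫ biprod.mapIso (Iso.refl _)
        (e0 ≪≫ (singleFunctor (ModuleCat.{u} A) b).mapIso i0.symm)⟩
    obtain ⟨e1⟩ := key X hG hL hproj
    have hproj' : ∀ p : ℤ, Projective ((homologyFunctor (ModuleCat.{u} A) p).obj X') := by
      intro p
      obtain ⟨i⟩ := hiso p
      haveI := hproj p
      exact Projective.of_iso i inferInstance
    obtain ⟨e2⟩ := key X' hG' hL' hproj'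
    -- the truncations
    have hXL : TStructure.t.IsLE ((TStructure.t.truncLT b).obj X) (b - 1) :=
      TStructure.t.isLE_truncLT_obj X b (b - 1)
    have hXG : TStructure.t.IsGE ((TStructure.t.truncLT b).obj X) a := inferInstance
    have hXL' : TStructure.t.IsLE ((TStructure.t.truncLT b).obj X') (b - 1) :=
      TStructure.t.isLE_truncLT_obj X' b (b - 1)
    have hXG' : TStructure.t.IsGE ((TStructure.t.truncLT b).obj X') a := inferInstance
    have hlt : ∀ (Y : Dual.D A) (p : ℤ), p < b →
        Nonempty ((homologyFunctor (ModuleCat.{u} A) p).obj ((TStructure.t.truncLT b).obj Y) ≅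
          (homologyFunctor (ModuleCat.{u} A) p).obj Y) := by
      intro Y p hp
      have := isIso_homology_map_truncLTι' Y b p hp
      exact ⟨asIso ((homologyFunctor (ModuleCat.{u} A) p).map ((TStructure.t.truncLTι b).app Y))⟩
    obtain ⟨e3⟩ := ih ((TStructure.t.truncLT b).obj X) ((TStructure.t.truncLT b).obj X') a (b - 1)
      (by omega) hXG hXL hXG' hXL'
      (fun p => by
        by_cases hp : p < b
        · obtain ⟨i1⟩ := hlt X p hp
          obtain ⟨i2⟩ := hlt X' p hp
          obtain ⟨i3⟩ := hiso p
          exact ⟨i1 ≪≫ i3 ≪≫ i2.symm⟩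
        · exact ⟨(isZero_of_isLE ((TStructure.t.truncLT b).obj X) (b - 1) p (by omega)).iso
            (isZero_of_isLE ((TStructure.t.truncLT b).obj X') (b - 1) p (by omega))⟩)
      (fun p => by
        by_cases hp : p < b
        · obtain ⟨i1⟩ := hlt X p hp
          haveI := hproj p
          exact Projective.of_iso i1.symm inferInstance
        · exact (isZero_of_isLE ((TStructure.t.truncLT b).obj X) (b - 1) p (by omega)).projective)
    obtain ⟨i4⟩ := hiso b
    exact ⟨e1 ≪≫ biprod.mapIso e3 ((singleFunctor (ModuleCat.{u} A) b).mapIso i4) ≪≫ e2.symm⟩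

/-- **Formality**: an object with bounded projective cohomology is the complex of its cohomology
modules with zero differentials. -/
theorem nonempty_iso_Q_zcx (E : Dual.D A)
    (hb : ∃ a b : ℤ, ∀ i : ℤ, (i < a ∨ b < i) → Subsingleton (Dual.HD A E i))
    (hproj : ∀ p : ℤ, Projective ((homologyFunctor (ModuleCat.{u} A) p).obj E)) :
    Nonempty (E ≅ DerivedCategory.Q.obj
      (zcx (fun p => (homologyFunctor (ModuleCat.{u} A) p).obj E))) := by
  obtain ⟨a, b, hab⟩ := hb
  obtain ⟨hG, hL⟩ := isGE_and_isLE_of_subsingleton E a b hab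
  obtain ⟨hG', hL'⟩ := isGE_and_isLE_of_subsingleton
    (DerivedCategory.Q.obj (zcx (fun p => (homologyFunctor (ModuleCat.{u} A) p).obj E))) a b
    (fun i hi => by
      have := hab i hi
      exact (hdZcxEquiv (fun p => (homologyFunctor (ModuleCat.{u} A) p).obj E) i).toEquiv.subsingleton)
  exact nonempty_iso_of_homology_iso (b - a + 1).toNat E _ a b (by omega) hG hL hG' hL'
    (fun p => ⟨((hdZcxEquiv (fun p => (homologyFunctor (ModuleCat.{u} A) p).obj E)
      p).symm).toModuleIso⟩) hproj

end Groth.Agent.Lib.Helper79.Inv
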