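import Mathlib
import Groth.Agent.Lib.Helper79.Inv1
import Groth.Agent.Lib.Helper35.DCNakCx
import Groth.Agent.Lib.Helper6.Bidual6

/-! Classification of point-like objects of `D(A)` (helper79): an object with bounded finite
cohomology, killed by a maximal ideal `m`, with only scalar endomorphisms and no negative
self-extensions is a shift of the residue field `A/m`. -/

set_option autoImplicit false
universe u

open CategoryTheory Limits Pretriangulated DerivedCategory

namespace Groth.Agent.Lib.Helper79.Inv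

attribute [local instance] HasDerivedCategory.standard

open Groth.Agent.Lib.Helper35.KL Groth.Agent.Lib.Helper35 Groth.Agent.Lib.Helper6

variable {A : Type u} [CommRing A]

/-- `a • 𝟙` acts by `a` on cohomology. -/
lemma homology_map_smul_id_apply (Y : Dual.D A) (a : A) (i : ℤ) (y : Dual.HD A Y i) :
    ((homologyFunctor (ModuleCat.{u} A) i).map (a • 𝟙 Y)).hom y = a • y := by
  let X := (Q (C := ModuleCat.{u} A)).objPreimage Y
  let e : Q.obj X ≅ Y := (Q (C := ModuleCat.{u} A)).objObjPreimageIso Y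
  have h1 : a • 𝟙 Y = e.inv ≫ Q.map (a • 𝟙 X) ≫ e.hom := by
    rw [Functor.map_smul, CategoryTheory.Functor.map_id, Linear.smul_comp, Linear.comp_smul,
      Category.id_comp, e.inv_hom_id]
  rw [h1, Functor.map_comp, Functor.map_comp]
  simp only [ModuleCat.hom_comp, LinearMap.comp_apply]
  rw [DCN.homologyFunctor_map_Q_smul_apply, map_smul]
  congr 1
  have h2 : (homologyFunctor (ModuleCat.{u} A) i).map e.inv ≫
      (homologyFunctor (ModuleCat.{u} A) i).map e.hom = 𝟙 _ := by
    rw [← Functor.map_comp, e.inv_hom_id, CategoryTheory.Functor.map_id]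
  exact congrArg (fun φ => φ.hom y) h2

/-- the cohomology functors are `A`-linear. -/
lemma homology_map_smul {Y Z : Dual.D A} (f : Y ⟶ Z) (a : A) (i : ℤ) :
    (homologyFunctor (ModuleCat.{u} A) i).map (a • f) =
      a • (homologyFunctor (ModuleCat.{u} A) i).map f := by
  have h1 : a • f = (a • 𝟙 Y) ≫ f := by rw [Linear.smul_comp, Category.id_comp]
  refine ModuleCat.hom_ext (LinearMap.ext fun y => ?_)
  rw [h1, Functor.map_comp, ModuleCat.hom_comp, LinearMap.comp_apply,
    homology_map_smul_id_apply, map_smul]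
  rfl

/-- if all endomorphisms of `(A/m)^e` are scalars then `e ≤ 1`. -/
lemma le_one_of_scalar_endo (m : Ideal A) [m.IsMaximal] (e : ℕ)
    (h : ∀ p : (Fin e → A ⧸ m) →ₗ[A] (Fin e → A ⧸ m), ∃ a : A, p = a • LinearMap.id) :
    e ≤ 1 := by
  by_contra hcon
  have he : 2 ≤ e := by omega
  let i0 : Fin e := ⟨0, by omega⟩
  let i1 : Fin e := ⟨1, by omega⟩
  have hne : i0 ≠ i1 := by
    intro h
    have := congrArg Fin.val h
    simp [i0, i1] at this
  obtain ⟨a, ha⟩ := h ((LinearMap.single A (fun _ : Fin e => A ⧸ m) i0) ∘ₗ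
    (LinearMap.proj (R := A) (φ := fun _ : Fin e => A ⧸ m) i0))
  have h1 := congrFun (congrArg (fun p => p (Pi.single i1 (1 : A ⧸ m))) ha) i1
  have h0 := congrFun (congrArg (fun p => p (Pi.single i0 (1 : A ⧸ m))) ha) i0
  simp only [LinearMap.comp_apply, LinearMap.proj_apply, LinearMap.single_apply,
    LinearMap.smul_apply, LinearMap.id_apply, Pi.smul_apply] at h1 h0
  rw [Pi.single_eq_of_ne hne, Pi.single_zero, Pi.zero_apply, Pi.single_eq_same] at h1
  rw [Pi.single_eq_same, Pi.single_eq_same] at h0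
  exact one_ne_zero (h0.trans h1.symm)

/-- **Classification of point objects.** -/
theorem classify (m : Ideal A) [m.IsMaximal] (Y : Dual.D A)
    (hfin : ∀ i : ℤ, Module.Finite A (Dual.HD A Y i))
    (hbdd : ∃ a b : ℤ, ∀ i : ℤ, (i < a ∨ b < i) → Subsingleton (Dual.HD A Y i))
    (h0 : 𝟙 Y ≠ 0)
    (h1 : ∀ a ∈ m, a • 𝟙 Y = 0)
    (h2 : ∀ f : Y ⟶ Y, ∃ a : A, f = a • 𝟙 Y)
    (h3 : ∀ i : ℤ, i < 0 → ∀ f : Y ⟶ Y⟦i⟧, f = 0) :
    ∃ n : ℤ, Nonempty (Y ≅
      (singleFunctor (ModuleCat.{u} A) n).obj (ModuleCat.of A (A ⧸ m))) := by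
  obtain ⟨a₀, b₀, hab⟩ := hbdd
  have hkill : ∀ (i : ℤ) (a : A), a ∈ m → ∀ v : Dual.HD A Y i, a • v = 0 := by
    intro i a ha v
    rw [← homology_map_smul_id_apply Y a i v, h1 a ha, Functor.map_zero]
    rfl
  have hne : ∃ n : ℤ, Nontrivial (Dual.HD A Y n) := by
    by_contra hcon
    have hs : ∀ n, Subsingleton (Dual.HD A Y n) :=
      fun n => not_nontrivial_iff_subsingleton.1 (fun h => hcon ⟨n, h⟩)
    obtain ⟨hG, hL⟩ := isGE_and_isLE_of_subsingleton Y 1 0 (fun i _ => hs i)
    exact h0 ((TStructure.t.isZero Y 0 1 (by omega)).eq_of_src _ _)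
  obtain ⟨hi, hhi, hhi'⟩ := Int.exists_greatest_of_bdd
    (P := fun n => Nontrivial (Dual.HD A Y n)) ⟨b₀, fun z hz => by
      by_contra hcon
      have := hab z (Or.inr (by omega))
      exact not_subsingleton _ this⟩ hne
  obtain ⟨lo, hlo, hlo'⟩ := Int.exists_least_of_bdd
    (P := fun n => Nontrivial (Dual.HD A Y n)) ⟨a₀, fun z hz => by
      by_contra hcon
      have := hab z (Or.inl (by omega))
      exact not_subsingleton _ this⟩ hne
  have hsub : ∀ i, (i < lo ∨ hi < i) → Subsingleton (Dual.HD A Y i) := by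
    intro i hi'
    by_contra hns
    have hnt : Nontrivial (Dual.HD A Y i) := not_subsingleton_iff_nontrivial.1 hns
    rcases hi' with h | h
    · exact absurd (hlo' i hnt) (by omega)
    · exact absurd (hhi' i hnt) (by omega)
  obtain ⟨hG, hL⟩ := isGE_and_isLE_of_subsingleton Y lo hi hsub
  have hlohi : lo ≤ hi := hlo' hi hhi
  have hpos : ∀ (i : ℤ), Nontrivial (Dual.HD A Y i) → ∀ (e : ℕ),
      (Dual.HD A Y i ≃ₗ[A] (Fin e → A ⧸ m)) → 0 < e := by
    intro i hnt e E
    by_contra h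
    have h' : e = 0 := by omega
    subst h'
    exact not_subsingleton _ E.toEquiv.subsingleton
  by_cases hlt : lo < hi
  · exfalso
    have : (Y⟦lo - hi⟧).IsGE hi := TStructure.t.isGE_shift Y lo (lo - hi) hi (by omega)
    let es : (homologyFunctor (ModuleCat.{u} A) hi).obj (Y⟦lo - hi⟧) ≅
        (homologyFunctor (ModuleCat.{u} A) lo).obj Y :=
      ((homologyFunctor (ModuleCat.{u} A) 0).shiftIso (lo - hi) hi lo (by omega)).app Y
    obtain ⟨e₁, ⟨E₁⟩⟩ := Bidual.exists_pi_equiv m (Dual.HD A Y hi) (hkill hi)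
    obtain ⟨e₂, ⟨E₂⟩⟩ := Bidual.exists_pi_equiv m (Dual.HD A Y lo) (hkill lo)
    have he₁ := hpos hi hhi e₁ E₁
    have he₂ := hpos lo hlo e₂ E₂
    let g : (Fin e₁ → A ⧸ m) →ₗ[A] (Fin e₂ → A ⧸ m) :=
      (LinearMap.single A (fun _ : Fin e₂ => A ⧸ m) ⟨0, he₂⟩) ∘ₗ
        (LinearMap.proj (R := A) (φ := fun _ : Fin e₁ => A ⧸ m) ⟨0, he₁⟩)
    let hl : Dual.HD A Y hi →ₗ[A] Dual.HD A Y lo := E₂.symm.toLinearMap ∘ₗ g ∘ₗ E₁.toLinearMap
    have hl_ne : hl ≠ 0 := by
      intro h
      have h' := congrArg (fun p => E₂ (p (E₁.symm (Pi.single ⟨0, he₁⟩ (1 : A ⧸ m))))) h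
      simp only [hl, g, LinearMap.comp_apply, LinearEquiv.coe_coe, LinearEquiv.apply_symm_apply,
        LinearMap.proj_apply, LinearMap.single_apply, Pi.single_eq_same, LinearMap.zero_apply,
        map_zero] at h'
      have h'' := congrFun h' ⟨0, he₂⟩
      rw [Pi.single_eq_same, Pi.zero_apply] at h''
      exact one_ne_zero h''
    let hm : (homologyFunctor (ModuleCat.{u} A) hi).obj Y ⟶
        (homologyFunctor (ModuleCat.{u} A) lo).obj Y := ModuleCat.ofHom hl
    obtain ⟨μ, hμ⟩ := exists_hom_of_homology hi Y (Y⟦lo - hi⟧) (hm ≫ es.inv)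
    have hz := h3 (lo - hi) (by omega) μ
    rw [hz, Functor.map_zero] at hμ
    have h4 : hm = 0 := by
      have h5 : hm ≫ es.inv = 0 := hμ.symm
      calc hm = (hm ≫ es.inv) ≫ es.hom := by
            rw [Category.assoc, es.inv_hom_id, Category.comp_id]
        _ = 0 := by rw [h5, zero_comp]
    apply hl_ne
    exact congrArg ModuleCat.Hom.hom h4
  · have hn : lo = hi := by omega
    subst hn
    obtain ⟨e, ⟨E⟩⟩ := Bidual.exists_pi_equiv m (Dual.HD A Y lo) (hkill lo)
    have he := hpos lo hlo e E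
    obtain ⟨e0⟩ := Bidual.nonempty_iso_single Y lo (Dual.HD A Y lo) (LinearEquiv.refl A _)
    have hscal : ∀ p : Dual.HD A Y lo →ₗ[A] Dual.HD A Y lo, ∃ a : A, p = a • LinearMap.id := by
      intro p
      obtain ⟨a, ha⟩ := h2 (e0.hom ≫ (singleFunctor (ModuleCat.{u} A) lo).map (ModuleCat.ofHom p) ≫
        e0.inv)
      refine ⟨a, ?_⟩
      have h5 : (singleFunctor (ModuleCat.{u} A) lo).map (ModuleCat.ofHom p) =
          (singleFunctor (ModuleCat.{u} A) lo).map (a • 𝟙 _) := by
        rw [Functor.map_smul, CategoryTheory.Functor.map_id]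
        have h6 : (singleFunctor (ModuleCat.{u} A) lo).map (ModuleCat.ofHom p) =
            e0.inv ≫ (e0.hom ≫ (singleFunctor (ModuleCat.{u} A) lo).map (ModuleCat.ofHom p) ≫
              e0.inv) ≫ e0.hom := by simp
        rw [h6, ha, Linear.smul_comp, Linear.comp_smul, Category.id_comp, e0.inv_hom_id]
      have h7 := (singleFunctor (ModuleCat.{u} A) lo).map_injective h5
      have h8 := congrArg ModuleCat.Hom.hom h7
      simpa using h8
    have hle : e ≤ 1 := by
      apply le_one_of_scalar_endo m e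
      intro p
      obtain ⟨a, ha⟩ := hscal (E.symm.toLinearMap ∘ₗ p ∘ₗ E.toLinearMap)
      refine ⟨a, LinearMap.ext fun w => ?_⟩
      have := congrArg (fun q => E (q (E.symm w))) ha
      simpa using this
    have he1 : e = 1 := by omega
    subst he1
    exact ⟨lo, Bidual.nonempty_iso_single Y lo (A ⧸ m)
      (E.trans (LinearEquiv.funUnique (Fin 1) A (A ⧸ m)))⟩

end Groth.Agent.Lib.Helper79.Inv
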