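import Mathlib
import Groth.Prelude.Def_Wider

/-! `S`-local vanishing of Hom modules in `D(A)` (helper79): `NS S X Y` says that every morphism
`X ⟶ Y` is killed by an element of the submonoid `S`.  For `S = ⊥` this is vanishing of the Hom
group; for `S = q.primeCompl` it says that the localization `Hom(X, Y)_q` vanishes. -/

set_option autoImplicit false
universe u

open CategoryTheory Limits Pretriangulated DerivedCategory

namespace Groth.Agent.Lib.Helper79.PFID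

attribute [local instance] HasDerivedCategory.standard

variable {A : Type u} [CommRing A]

/-- every morphism `X ⟶ Y` is killed by an element of `S`. -/
def NS (S : Submonoid A) (X Y : Dual.D A) : Prop := ∀ φ : X ⟶ Y, ∃ r ∈ S, r • φ = 0

section NS

variable {S : Submonoid A} {X X' Y Y' : Dual.D A}

lemma NS.of_iso_left (e : X ≅ X') (h : NS S X Y) : NS S X' Y := by
  intro φ
  obtain ⟨r, hr, h0⟩ := h (e.hom ≫ φ)
  refine ⟨r, hr, ?_⟩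
  have : e.inv ≫ (r • (e.hom ≫ φ)) = 0 := by rw [h0, comp_zero]
  rwa [Linear.comp_smul, e.inv_hom_id_assoc] at this

lemma NS.of_iso_right (e : Y ≅ Y') (h : NS S X Y) : NS S X Y' := by
  intro φ
  obtain ⟨r, hr, h0⟩ := h (φ ≫ e.inv)
  refine ⟨r, hr, ?_⟩
  have : (r • (φ ≫ e.inv)) ≫ e.hom = 0 := by rw [h0, zero_comp]
  rwa [Linear.smul_comp, Category.assoc, e.inv_hom_id, Category.comp_id] at this

lemma NS.of_subsingleton [Subsingleton (X ⟶ Y)] : NS S X Y :=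
  fun φ => ⟨1, S.one_mem, Subsingleton.elim _ _⟩

lemma NS.of_isZero_left (hX : IsZero X) : NS S X Y :=
  fun φ => ⟨1, S.one_mem, hX.eq_of_src _ _⟩

lemma NS.of_eq_zero (h : ∀ φ : X ⟶ Y, φ = 0) : NS S X Y :=
  fun φ => ⟨1, S.one_mem, by rw [h φ, smul_zero]⟩

lemma NS.eq_zero (h : NS (⊥ : Submonoid A) X Y) (φ : X ⟶ Y) : φ = 0 := by
  obtain ⟨r, hr, h0⟩ := h φ
  rw [Submonoid.mem_bot] at hr
  rwa [hr, one_smul] at h0

/-- an object killed by an element of `S` has `S`-locally trivial Hom modules. -/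
lemma NS.of_smul_id_eq_zero (g : A) (hg : g ∈ S) (h : g • 𝟙 X = 0) : NS S X Y := by
  intro φ
  refine ⟨g, hg, ?_⟩
  have : (g • 𝟙 X) ≫ φ = 0 := by rw [h, zero_comp]
  rwa [Linear.smul_comp, Category.id_comp] at this

lemma NS.mid_left (T : Triangle (Dual.D A)) (hT : T ∈ distTriang _) (W : Dual.D A)
    (h₁ : NS S T.obj₁ W) (h₃ : NS S T.obj₃ W) : NS S T.obj₂ W := by
  intro φ
  obtain ⟨r, hr, h0⟩ := h₁ (T.mor₁ ≫ φ)
  have h0' : T.mor₁ ≫ (r • φ) = 0 := by rw [Linear.comp_smul, h0]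
  obtain ⟨ψ, hψ⟩ := Triangle.yoneda_exact₂ T hT (r • φ) h0'
  obtain ⟨s, hs, h1⟩ := h₃ ψ
  refine ⟨s * r, S.mul_mem hs hr, ?_⟩
  rw [mul_smul, hψ, ← Linear.comp_smul, h1, comp_zero]

lemma NS.shift (n : ℤ) (h : NS S X Y) : NS S (X⟦n⟧) (Y⟦n⟧) := by
  intro φ
  obtain ⟨ψ, rfl⟩ := (CategoryTheory.shiftFunctor (Dual.D A) n).map_surjective φ
  obtain ⟨r, hr, h0⟩ := h ψ
  refine ⟨r, hr, ?_⟩
  rw [← Functor.map_smul, h0, Functor.map_zero]

lemma NS.of_shift (n : ℤ) (h : NS S (X⟦n⟧) (Y⟦n⟧)) : NS S X Y := by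
  intro φ
  obtain ⟨r, hr, h0⟩ := h (φ⟦n⟧')
  refine ⟨r, hr, ?_⟩
  apply (CategoryTheory.shiftFunctor (Dual.D A) n).map_injective
  rw [Functor.map_smul, h0, Functor.map_zero]

lemma NS_shift_iff (n : ℤ) : NS S (X⟦n⟧) (Y⟦n⟧) ↔ NS S X Y := ⟨NS.of_shift n, NS.shift n⟩

/-- `Hom(X[k], R[i]) = Hom(X, R[j])` for `j + k = i`. -/
lemma NS_shift_left_iff (R : Dual.D A) (k i j : ℤ) (h : j + k = i) :
    NS S (X⟦k⟧) (R⟦i⟧) ↔ NS S X (R⟦j⟧) := by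
  rw [← NS_shift_iff (S := S) (X := X) (Y := R⟦j⟧) k]
  constructor
  · intro h1
    exact h1.of_iso_right ((shiftFunctorAdd' (Dual.D A) j k i h).app R)
  · intro h1
    exact h1.of_iso_right ((shiftFunctorAdd' (Dual.D A) j k i h).app R).symm

/-- rotation: `Hom(T₂, W)`, `Hom(T₁[1], W)` control `Hom(T₃, W)`. -/
lemma NS.rot (T : Triangle (Dual.D A)) (hT : T ∈ distTriang _) (W : Dual.D A)
    (h₂ : NS S T.obj₂ W) (h₁ : NS S (T.obj₁⟦(1 : ℤ)⟧) W) : NS S T.obj₃ W :=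
  NS.mid_left T.rotate (rot_of_distTriang _ hT) W h₂ h₁

/-- inverse rotation: `Hom(T₃[-1], W)`, `Hom(T₂, W)` control `Hom(T₁, W)`. -/
lemma NS.invRot (T : Triangle (Dual.D A)) (hT : T ∈ distTriang _) (W : Dual.D A)
    (h₃ : NS S (T.obj₃⟦(-1 : ℤ)⟧) W) (h₂ : NS S T.obj₂ W) : NS S T.obj₁ W :=
  NS.mid_left T.invRotate (inv_rot_of_distTriang _ hT) W h₃ h₂

variable (R : Dual.D A)

/-- `Ext^i(T₁) ← Ext^i(T₂)`, `Ext^{i+1}(T₃)`. -/
lemma NS.left_of (T : Triangle (Dual.D A)) (hT : T ∈ distTriang _) (i : ℤ)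
    (h₂ : NS S T.obj₂ (R⟦i⟧)) (h₃ : NS S T.obj₃ (R⟦i + 1⟧)) : NS S T.obj₁ (R⟦i⟧) :=
  NS.invRot T hT _ ((NS_shift_left_iff R (-1) i (i + 1) (by omega)).2 h₃) h₂

/-- `Ext^i(T₃) ← Ext^i(T₂)`, `Ext^{i-1}(T₁)`. -/
lemma NS.right_of (T : Triangle (Dual.D A)) (hT : T ∈ distTriang _) (i j : ℤ) (hj : j + 1 = i)
    (h₂ : NS S T.obj₂ (R⟦i⟧)) (h₁ : NS S T.obj₁ (R⟦j⟧)) : NS S T.obj₃ (R⟦i⟧) :=
  NS.rot T hT _ h₂ ((NS_shift_left_iff R 1 i j hj).2 h₁)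

end NS

end Groth.Agent.Lib.Helper79.PFID
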