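import Mathlib
import Groth.Agent.Lib.Helper79.Inv2
import Groth.Agent.Lib.Helper79.PFID1
import Groth.Agent.Lib.Helper35.DevNoShift

/-! Maps to the residue field objects `κ_n = (A/m)[-n]` of `D(A)` (helper79): vanishing for objects
with `m`-locally trivial cohomology, and detection of the top `m`-locally nontrivial degree. -/

set_option autoImplicit false
universe u

open CategoryTheory Limits Pretriangulated DerivedCategory

namespace Groth.Agent.Lib.Helper79.Inv

attribute [local instance] HasDerivedCategory.standard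

open Groth.Agent.Lib.Helper35.KL Groth.Agent.Lib.Helper35 Groth.Agent.Lib.Helper6
open Groth.Agent.Lib.Helper79.PFID

variable {A : Type u} [CommRing A]

/-- the residue field of `m` placed in degree `n`. -/
noncomputable abbrev kap (m : Ideal A) (n : ℤ) : Dual.D A :=
  (singleFunctor (ModuleCat.{u} A) n).obj (ModuleCat.of A (A ⧸ m))

/-- `M` is killed by an element outside `m` (for finite modules: `M_m = 0`). -/
def Kl (m : Ideal A) (M : Type u) [AddCommGroup M] [Module A M] : Prop :=
  ∃ t : A, t ∉ m ∧ ∀ y : M, t • y = 0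

section Kl

variable {m : Ideal A} {M N : Type u} [AddCommGroup M] [Module A M] [AddCommGroup N] [Module A N]

lemma Kl.of_injective (f : M →ₗ[A] N) (hf : Function.Injective f) (h : Kl m N) : Kl m M := by
  obtain ⟨t, ht, h0⟩ := h
  refine ⟨t, ht, fun y => hf ?_⟩
  rw [map_smul, h0, map_zero]

lemma Kl.of_equiv (e : M ≃ₗ[A] N) (h : Kl m N) : Kl m M :=
  Kl.of_injective e.toLinearMap e.injective h

lemma Kl.of_subsingleton [m.IsMaximal] [Subsingleton M] : Kl m M :=
  ⟨1, (Ideal.ne_top_iff_one m).1 (Ideal.IsMaximal.ne_top inferInstance),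
    fun _ => Subsingleton.elim _ _⟩

end Kl

lemma smul_id_single_eq_zero (n : ℤ) (H : ModuleCat.{u} A) (t : A) (h : ∀ y : H, t • y = 0) :
    t • 𝟙 ((singleFunctor (ModuleCat.{u} A) n).obj H) = 0 := by
  have h0 : t • 𝟙 H = 0 := ModuleCat.hom_ext (LinearMap.ext fun y => by
    rw [ModuleCat.hom_smul, ModuleCat.hom_id, LinearMap.smul_apply, LinearMap.id_apply, h y]
    rfl)
  rw [← CategoryTheory.Functor.map_id, ← Functor.map_smul, h0, Functor.map_zero]

lemma smul_id_kap (m : Ideal A) (n : ℤ) (i : A) (hi : i ∈ m) : i • 𝟙 (kap m n) = 0 := by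
  apply smul_id_single_eq_zero
  intro y
  obtain ⟨z, rfl⟩ := Ideal.Quotient.mk_surjective (I := m) y
  change i • (Ideal.Quotient.mk m z) = 0
  rw [← Ideal.Quotient.mk_eq_mk, ← Submodule.Quotient.mk_smul, Submodule.Quotient.mk_eq_zero]
  exact m.mul_mem_right z hi

variable (m : Ideal A) [hm : m.IsMaximal]

/-- `m`-locally trivial Hom into `κ_n` means trivial. -/
lemma eq_zero_of_ns {X : Dual.D A} (n : ℤ) (h : NS m.primeCompl X (kap m n)) (f : X ⟶ kap m n) :
    f = 0 := by
  obtain ⟨t, ht, h0⟩ := h f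
  obtain ⟨u, i, hi, hui⟩ := hm.exists_inv ht
  have h1 : f = (u * t + i) • f := by rw [hui, one_smul]
  have h2 : i • f = 0 := by
    have : f ≫ (i • 𝟙 (kap m n)) = 0 := by rw [smul_id_kap m n i hi, comp_zero]
    rwa [Linear.comp_smul, Category.comp_id] at this
  rw [h1, add_smul, mul_smul, h0, smul_zero, h2, add_zero]

/-- finite modules which are `m`-locally zero are killed by a single element outside `m`. -/
lemma Kl.of_finite_of_forall {M : Type u} [AddCommGroup M] [Module A M] [Module.Finite A M]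
    (h : ∀ y : M, ∃ t : A, t ∉ m ∧ t • y = 0) : Kl m M := by
  classical
  obtain ⟨s, hs⟩ := (Module.Finite.fg_top : (⊤ : Submodule A M).FG)
  choose t ht ht0 using h
  refine ⟨∏ y ∈ s, t y, ?_, ?_⟩
  · intro hmem
    obtain ⟨y, -, hy⟩ := (Ideal.IsMaximal.isPrime hm).prod_mem_iff.1 hmem
    exact ht y hy
  · intro y
    have hy : y ∈ Submodule.span A (s : Set M) := by rw [hs]; trivial
    induction hy using Submodule.span_induction with
    | mem z hz =>
      obtain ⟨c, hc⟩ := Finset.dvd_prod_of_mem t hz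
      rw [hc, mul_comm, mul_smul, ht0, smul_zero]
    | zero => rw [smul_zero]
    | add a b _ _ ha hb => rw [smul_add, ha, hb, add_zero]
    | smul a b _ hb => rw [smul_comm, hb, smul_zero]

/-- objects with bounded, `m`-locally trivial cohomology have `m`-locally trivial Hom modules. -/
theorem ns_of_Kl (K : Dual.D A)
    (hb : ∃ a b : ℤ, ∀ i : ℤ, (i < a ∨ b < i) → Subsingleton (Dual.HD A K i))
    (hK : ∀ i : ℤ, Kl m (Dual.HD A K i)) (W : Dual.D A) : NS m.primeCompl K W := by
  have hPr : Devissage' (R := A) (fun K => NS m.primeCompl K W) :=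
    { iso := fun e h => h.of_iso_left e
      mid := fun T hT h₁ h₃ => NS.mid_left T hT W h₁ h₃
      zero := fun K hK => NS.of_isZero_left hK }
  refine hPr.of_bounded_homology K hb (fun i => ?_)
  obtain ⟨t, ht, h0⟩ := hK i
  exact NS.of_smul_id_eq_zero t ht (smul_id_single_eq_zero i _ t h0)

lemma ns_shift_of_forall {K : Dual.D A} {S : Submonoid A} (h : ∀ W, NS S K W) (j : ℤ)
    (W : Dual.D A) : NS S (K⟦j⟧) W := by
  have h1 := (NS_shift_iff (S := S) (X := K) (Y := W⟦-j⟧) j).2 (h (W⟦-j⟧))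
  exact h1.of_iso_right ((shiftFunctorCompIsoId (Dual.D A) (-j) j (neg_add_cancel j)).app W)

/-- no nonzero maps from (shifts of) objects with `m`-locally trivial cohomology to `κ_n`. -/
theorem hom_kap_eq_zero (K : Dual.D A)
    (hb : ∃ a b : ℤ, ∀ i : ℤ, (i < a ∨ b < i) → Subsingleton (Dual.HD A K i))
    (hK : ∀ i : ℤ, Kl m (Dual.HD A K i)) (j n : ℤ) (f : K⟦j⟧ ⟶ kap m n) : f = 0 :=
  eq_zero_of_ns m n (ns_shift_of_forall (ns_of_Kl m K hb hK) j _) f

theorem hom_kap_eq_zero' (K : Dual.D A)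
    (hb : ∃ a b : ℤ, ∀ i : ℤ, (i < a ∨ b < i) → Subsingleton (Dual.HD A K i))
    (hK : ∀ i : ℤ, Kl m (Dual.HD A K i)) (n : ℤ) (f : K ⟶ kap m n) : f = 0 :=
  eq_zero_of_ns m n (ns_of_Kl m K hb hK _) f

/-- Nakayama: a finite module which is not `m`-locally zero has a nonzero functional to `A/m`. -/
lemma exists_functional {M : Type u} [AddCommGroup M] [Module A M] [Module.Finite A M]
    (h : ¬ Kl m M) : ∃ (g : M →ₗ[A] A ⧸ m) (x : M), g x ≠ 0 := by
  have h1 : ¬ ((⊤ : Submodule A M) ≤ m • (⊤ : Submodule A M)) := by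
    intro hle
    obtain ⟨r, hr, hr0⟩ := Submodule.exists_sub_one_mem_and_smul_eq_zero_of_fg_of_le_smul m ⊤
      Module.Finite.fg_top hle
    refine h ⟨r, fun hrm => ?_, fun y => hr0 y trivial⟩
    have : (1 : A) ∈ m := by
      have := m.sub_mem hrm hr
      simpa using this
    exact (Ideal.ne_top_iff_one m).1 hm.ne_top this
  obtain ⟨x, -, hx⟩ := Set.not_subset.1 h1
  let M' := M ⧸ (m • (⊤ : Submodule A M))
  have hkill : ∀ a ∈ m, ∀ v : M', a • v = 0 := by
    intro a ha v
    obtain ⟨w, rfl⟩ := Submodule.Quotient.mk_surjective _ v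
    rw [← Submodule.Quotient.mk_smul, Submodule.Quotient.mk_eq_zero]
    exact Submodule.smul_mem_smul ha trivial
  obtain ⟨e, ⟨E⟩⟩ := Bidual.exists_pi_equiv m M' hkill
  have hx' : E (Submodule.Quotient.mk x) ≠ 0 := by
    intro h0
    apply hx
    have := E.injective (h0.trans (map_zero E).symm)
    exact (Submodule.Quotient.mk_eq_zero _).1 this
  obtain ⟨i, hi⟩ := Function.ne_iff.1 hx'
  exact ⟨(LinearMap.proj (R := A) (φ := fun _ : Fin e => A ⧸ m) i) ∘ₗ E.toLinearMap ∘ₗ
    (m • (⊤ : Submodule A M)).mkQ, x, hi⟩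

end Groth.Agent.Lib.Helper79.Inv
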