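import Mathlib
import Groth.Agent.Lib.Helper79.Inv3

/-! The top `m`-locally nontrivial degree of an object with bounded finite cohomology is detected
by a map to the residue field (helper79). -/

set_option autoImplicit false
universe u

open CategoryTheory Limits Pretriangulated DerivedCategory

namespace Groth.Agent.Lib.Helper79.Inv

attribute [local instance] HasDerivedCategory.standard

open Groth.Agent.Lib.Helper35.KL Groth.Agent.Lib.Helper35 Groth.Agent.Lib.Helper6
open Groth.Agent.Lib.Helper79.PFID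

variable {A : Type u} [CommRing A]

variable (m : Ideal A) [hm : m.IsMaximal]

/-- **Top degree detection.** -/
theorem exists_top (X : Dual.D A)
    (hb : ∃ a b : ℤ, ∀ i : ℤ, (i < a ∨ b < i) → Subsingleton (Dual.HD A X i))
    (hfin : ∀ i : ℤ, Module.Finite A (Dual.HD A X i))
    (hne : ∃ n : ℤ, ¬ Kl m (Dual.HD A X n)) :
    ∃ c : ℤ, (∀ n : ℤ, c < n → Kl m (Dual.HD A X n)) ∧
      ∃ (f : X ⟶ kap m c) (x : Dual.HD A X c),
        ((homologyFunctor (ModuleCat.{u} A) c).map f).hom x ≠ 0 := by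
  obtain ⟨a₀, b₀, hab⟩ := hb
  obtain ⟨c, hc, hc'⟩ := Int.exists_greatest_of_bdd
    (P := fun n => ¬ Kl m (Dual.HD A X n)) ⟨b₀, fun z hz => by
      by_contra hcon
      have := hab z (Or.inr (by omega))
      exact hz Kl.of_subsingleton⟩ hne
  have hgt : ∀ n : ℤ, c < n → Kl m (Dual.HD A X n) := by
    intro n hn
    by_contra hcon
    have := hc' n hcon
    omega
  refine ⟨c, hgt, ?_⟩
  have hT := TStructure.t.triangleLTGE_distinguished (c + 1) X
  have hX'L : TStructure.t.IsLE ((TStructure.t.truncLT (c + 1)).obj X) c :=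
    TStructure.t.isLE_truncLT_obj X (c + 1) c
  have hι := isIso_homology_map_truncLTι' X (c + 1) c (by omega)
  haveI := hfin c
  obtain ⟨g₀, x, hgx⟩ := exists_functional m hc
  obtain ⟨f', hf'⟩ := exists_hom_to_single c ((TStructure.t.truncLT (c + 1)).obj X)
    (ModuleCat.of A (A ⧸ m))
    ((homologyFunctor (ModuleCat.{u} A) c).map ((TStructure.t.truncLTι (c + 1)).app X) ≫
      (ModuleCat.ofHom g₀ : (homologyFunctor (ModuleCat.{u} A) c).obj X ⟶ ModuleCat.of A (A ⧸ m)))
  -- cohomology of the upper truncation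
  have hX''G : TStructure.t.IsGE ((TStructure.t.truncGE (c + 1)).obj X) (c + 1) := inferInstance
  have hsub : ∀ i : ℤ, i < c + 1 →
      Subsingleton (Dual.HD A ((TStructure.t.truncGE (c + 1)).obj X) i) := fun i hi =>
    ModuleCat.subsingleton_of_isZero
      (isZero_of_isGE ((TStructure.t.truncGE (c + 1)).obj X) (c + 1) i hi)
  have hiso : ∀ i : ℤ, c + 1 ≤ i →
      Nonempty (Dual.HD A ((TStructure.t.truncGE (c + 1)).obj X) i ≃ₗ[A] Dual.HD A X i) := by
    intro i hi
    have := isIso_homology_map_truncGEπ' X (c + 1) i hi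
    exact ⟨(asIso ((homologyFunctor (ModuleCat.{u} A) i).map
      ((TStructure.t.truncGEπ (c + 1)).app X))).symm.toLinearEquiv⟩
  have hb'' : ∃ a b : ℤ, ∀ i : ℤ, (i < a ∨ b < i) →
      Subsingleton (Dual.HD A ((TStructure.t.truncGE (c + 1)).obj X) i) := by
    refine ⟨c + 1, b₀, fun i hi => ?_⟩
    by_cases h : i < c + 1
    · exact hsub i h
    · obtain ⟨e⟩ := hiso i (by omega)
      have := hab i (Or.inr (by omega))
      exact e.toEquiv.subsingleton
  have hK'' : ∀ i : ℤ, Kl m (Dual.HD A ((TStructure.t.truncGE (c + 1)).obj X) i) := by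
    intro i
    by_cases h : i < c + 1
    · have := hsub i h
      exact Kl.of_subsingleton
    · obtain ⟨e⟩ := hiso i (by omega)
      exact Kl.of_equiv e (hgt i (by omega))
  have h0 : ((TStructure.t.triangleLTGE (c + 1)).obj X).invRotate.mor₁ ≫ f' = 0 :=
    hom_kap_eq_zero m ((TStructure.t.truncGE (c + 1)).obj X) hb'' hK'' (-1) c _
  obtain ⟨f, hf⟩ := Triangle.yoneda_exact₂ _ (inv_rot_of_distTriang _ hT) f' h0
  refine ⟨f, x, ?_⟩
  have h1 : (homologyFunctor (ModuleCat.{u} A) c).map f' =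
      (homologyFunctor (ModuleCat.{u} A) c).map ((TStructure.t.truncLTι (c + 1)).app X) ≫
        (homologyFunctor (ModuleCat.{u} A) c).map f := by
    rw [← Functor.map_comp]
    exact congrArg _ hf
  rw [h1, Category.assoc] at hf'
  have h2 := (cancel_epi ((homologyFunctor (ModuleCat.{u} A) c).map
    ((TStructure.t.truncLTι (c + 1)).app X))).1 hf'
  intro h3
  apply hgx
  have h4 := congrArg (fun φ => φ.hom x) h2
  simp only [ModuleCat.hom_comp, LinearMap.comp_apply] at h4
  rw [h3, map_zero] at h4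
  exact h4.symm

/-- a module isomorphic to `A/m` is generated by any nonzero element, whose annihilator is `m`. -/
lemma cyclic_of_equiv {L : Type*} [AddCommGroup L] [Module A L] (e : L ≃ₗ[A] A ⧸ m) (v : L)
    (hv : v ≠ 0) : (∀ w : L, ∃ a : A, w = a • v) ∧ (∀ a : A, a • v = 0 → a ∈ m) := by
  letI : Field (A ⧸ m) := Ideal.Quotient.field m
  have hev : e v ≠ 0 := fun h => hv (e.injective (h.trans (map_zero e).symm))
  obtain ⟨a₂, ha₂⟩ := Ideal.Quotient.mk_surjective (I := m) (e v)
  have ha₂m : a₂ ∉ m := fun h => hev (by rw [← ha₂]; exact Ideal.Quotient.eq_zero_iff_mem.2 h)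
  obtain ⟨a₃, i, hi, h3⟩ := hm.exists_inv ha₂m
  constructor
  · intro w
    obtain ⟨a₁, ha₁⟩ := Ideal.Quotient.mk_surjective (I := m) (e w)
    refine ⟨a₁ * a₃, e.injective ?_⟩
    rw [map_smul, ← ha₁, ← ha₂]
    change _ = Ideal.Quotient.mk m ((a₁ * a₃) * a₂)
    have h4 : a₁ * a₃ * a₂ = a₁ - a₁ * i := by
      have : a₃ * a₂ = 1 - i := by rw [← h3]; ring
      rw [mul_assoc, this]; ring
    rw [h4, map_sub, map_mul, Ideal.Quotient.eq_zero_iff_mem.2 hi, mul_zero, sub_zero]
  · intro a ha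
    have h5 : a • e v = 0 := by rw [← map_smul, ha, map_zero]
    rw [← ha₂] at h5
    change Ideal.Quotient.mk m (a * a₂) = 0 at h5
    rw [Ideal.Quotient.eq_zero_iff_mem] at h5
    rcases hm.isPrime.mem_or_mem h5 with h | h
    · exact h
    · exact absurd h ha₂m

end Groth.Agent.Lib.Helper79.Inv
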