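import Mathlib
import Groth.Agent.Lib.Helper79.Inv4

/-! Local structure of an object `X` of `D^b_coh(A)` whose maps to the shifted residue field of `m`
are concentrated in one degree and form a line there (helper79): `X` is `m`-locally a shift of
`A`. -/

set_option autoImplicit false
universe u

open CategoryTheory Limits Pretriangulated DerivedCategory

namespace Groth.Agent.Lib.Helper79.Inv

attribute [local instance] HasDerivedCategory.standard

open Groth.Agent.Lib.Helper35.KL Groth.Agent.Lib.Helper35 Groth.Agent.Lib.Helper6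
open Groth.Agent.Lib.Helper79.PFID

variable {A : Type u} [CommRing A]

section

variable (P : ObjectProperty (Dual.D A))
  (hP : ∀ K : Dual.D A, P K ↔
    ((∀ i : ℤ, Module.Finite A (Dual.HD A K i)) ∧
      ∃ a b : ℤ, ∀ i : ℤ, (i < a ∨ b < i) → Subsingleton (Dual.HD A K i)))

lemma subsingleton_homology_single (n i : ℤ) (hi : i ≠ n) (H : ModuleCat.{u} A) :
    Subsingleton (Dual.HD A ((singleFunctor (ModuleCat.{u} A) n).obj H) i) := by
  apply ModuleCat.subsingleton_of_isZero
  rcases lt_or_gt_of_ne hi with h | h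
  · exact isZero_of_isGE _ n i h
  · exact isZero_of_isLE _ n i h

include hP in
lemma P_single (n : ℤ) (M : Type u) [AddCommGroup M] [Module A M] [Module.Finite A M] :
    P ((singleFunctor (ModuleCat.{u} A) n).obj (ModuleCat.of A M)) := by
  rw [hP]
  refine ⟨fun i => ?_, n, n, fun i hi => subsingleton_homology_single n i (by omega) _⟩
  by_cases h : i = n
  · subst h
    let e : Dual.HD A ((singleFunctor (ModuleCat.{u} A) i).obj (ModuleCat.of A M)) i ≃ₗ[A] M :=
      ((singleFunctorCompHomologyFunctorIso (ModuleCat.{u} A) i).app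
        (ModuleCat.of A M)).toLinearEquiv
    exact Module.Finite.equiv e.symm
  · have := subsingleton_homology_single n i h (ModuleCat.of A M)
    have : Finite (Dual.HD A ((singleFunctor (ModuleCat.{u} A) n).obj (ModuleCat.of A M)) i) :=
      Finite.of_subsingleton
    exact Module.Finite.of_finite

include hP in
lemma P_of_iso {X Y : Dual.D A} (e : X ≅ Y) (h : P X) : P Y := by
  rw [hP] at h ⊢
  obtain ⟨h1, a, b, h2⟩ := h
  refine ⟨fun i => ?_, a, b, fun i hi => ?_⟩
  · haveI := h1 i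
    exact Module.Finite.equiv ((homologyFunctor (ModuleCat.{u} A) i).mapIso e).toLinearEquiv
  · have := h2 i hi
    exact ((homologyFunctor (ModuleCat.{u} A) i).mapIso e).toLinearEquiv.symm.toEquiv.subsingleton

variable (m : Ideal A) [hm : m.IsMaximal]

include hP in
/-- **Local structure theorem.** -/
theorem local_structure [P.IsTriangulated] (X : Dual.D A) (hX : P X) (b : ℤ)
    (hv : ∀ n : ℤ, n ≠ b → ∀ f : X ⟶ kap m n, f = 0)
    (ψ₀ : X ⟶ kap m b) (hψ₀ : ψ₀ ≠ 0) (hψ : ∀ ψ : X ⟶ kap m b, ∃ a : A, ψ = a • ψ₀) :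
    ∃ x : Dual.HD A X b,
      (∀ n : ℤ, n ≠ b → Kl m (Dual.HD A X n)) ∧
      (∃ t : A, t ∉ m ∧ ∀ y : Dual.HD A X b, ∃ a : A, t • y = a • x) ∧
      (∃ t : A, t ∉ m ∧ ∀ a : A, a • x = 0 → t * a = 0) := by
  obtain ⟨hXfin, hXb⟩ := (hP X).1 hX
  have hne : ∃ n, ¬ Kl m (Dual.HD A X n) := by
    by_contra hcon
    have hall : ∀ n, Kl m (Dual.HD A X n) := fun n => by
      by_contra h
      exact hcon ⟨n, h⟩
    exact hψ₀ (hom_kap_eq_zero' m X hXb hall b ψ₀)
  obtain ⟨c, hgt, f, x, hfx⟩ := exists_top m X hXb hXfin hne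
  have hf0 : f ≠ 0 := by
    intro h
    apply hfx
    rw [h, Functor.map_zero]
    rfl
  have hcb : c = b := by
    by_contra h
    exact hf0 (hv c h f)
  subst hcb
  haveI : Projective (ModuleCat.of A A) :=
    (IsProjective.iff_projective (R := A) (P := A)).1 inferInstance
  let g : ModuleCat.of A A ⟶ (homologyFunctor (ModuleCat.{u} A) c).obj X :=
    ModuleCat.ofHom (LinearMap.toSpanSingleton A _ x)
  obtain ⟨φ, hφ⟩ := exists_hom_from_single_projective c X g
  let σ : (homologyFunctor (ModuleCat.{u} A) c).obj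
      ((singleFunctor (ModuleCat.{u} A) c).obj (ModuleCat.of A A)) ≅ ModuleCat.of A A :=
    (singleFunctorCompHomologyFunctorIso (ModuleCat.{u} A) c).app (ModuleCat.of A A)
  let u : Dual.HD A ((singleFunctor (ModuleCat.{u} A) c).obj (ModuleCat.of A A)) c :=
    σ.inv.hom (1 : A)
  have hσu : σ.hom.hom u = (1 : A) := by
    have := congrArg (fun q => q.hom (1 : A)) σ.inv_hom_id
    exact this
  have hu : ((homologyFunctor (ModuleCat.{u} A) c).map φ).hom u = x := by
    rw [hφ]
    change g.hom (σ.hom.hom u) = x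
    rw [hσu]
    change LinearMap.toSpanSingleton A _ x 1 = x
    rw [LinearMap.toSpanSingleton_apply, one_smul]
  have hzu : ∀ z : Dual.HD A ((singleFunctor (ModuleCat.{u} A) c).obj (ModuleCat.of A A)) c,
      z = (σ.hom.hom z : A) • u := by
    intro z
    have h1 : σ.inv.hom (σ.hom.hom z) = z := congrArg (fun q => q.hom z) σ.hom_inv_id
    have h2 : (σ.hom.hom z : A) • u = σ.inv.hom ((σ.hom.hom z : A) • (1 : A)) := by
      rw [map_smul]
    rw [h2, smul_eq_mul, mul_one, h1]
  obtain ⟨Z, hZ, β, δ, hT⟩ := P.distinguished_cocone_triangle φ (P_single P hP c A) hX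
  have hSA : ∀ n : ℤ, n ≠ c → ∀ w : (singleFunctor (ModuleCat.{u} A) c).obj (ModuleCat.of A A) ⟶
      kap m n, w = 0 := by
    intro n hn w
    rcases lt_or_gt_of_ne hn with h | h
    · exact hom_single_projective_eq_zero (kap m n) n c h w
    · exact TStructure.t.zero w c n h
  let eL : ((singleFunctor (ModuleCat.{u} A) c).obj (ModuleCat.of A A) ⟶ kap m c) ≃ₗ[A] A ⧸ m :=
    (LinearEquiv.ofBijective ((singleFunctor (ModuleCat.{u} A) c).mapLinearMap A)
      ((Functor.FullyFaithful.ofFullyFaithful (singleFunctor (ModuleCat.{u} A) c)).map_bijective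
        (ModuleCat.of A A) (ModuleCat.of A (A ⧸ m)))).symm.trans
    ((ModuleCat.homLinearEquiv (S := A)).trans (LinearMap.ringLmapEquivSelf A A (A ⧸ m)))
  obtain ⟨a', ha'⟩ := hψ f
  have hv0 : φ ≫ ψ₀ ≠ 0 := by
    intro h0
    apply hfx
    rw [← hu]
    have h1 : (homologyFunctor (ModuleCat.{u} A) c).map φ ≫
        (homologyFunctor (ModuleCat.{u} A) c).map f = 0 := by
      rw [← Functor.map_comp, ha', Linear.comp_smul, h0, smul_zero, Functor.map_zero]
    exact congrArg (fun q => q.hom u) h1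
  obtain ⟨hcyc, hann⟩ := cyclic_of_equiv m eL (φ ≫ ψ₀) hv0
  have hinj : ∀ (n : ℤ) (g₁ : X ⟶ kap m n), φ ≫ g₁ = 0 → g₁ = 0 := by
    intro n g₁ h
    by_cases hn : n = c
    · subst hn
      obtain ⟨a, rfl⟩ := hψ g₁
      rw [Linear.comp_smul] at h
      have ham := hann a h
      have h1 : ψ₀ ≫ (a • 𝟙 (kap m n)) = 0 := by rw [smul_id_kap m n a ham, comp_zero]
      rwa [Linear.comp_smul, Category.comp_id] at h1
    · exact hv n hn g₁
  have hsurj : ∀ (n : ℤ) (w : (singleFunctor (ModuleCat.{u} A) c).obj (ModuleCat.of A A) ⟶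
      kap m n), ∃ g₁ : X ⟶ kap m n, φ ≫ g₁ = w := by
    intro n w
    by_cases hn : n = c
    · subst hn
      obtain ⟨a, ha⟩ := hcyc w
      exact ⟨a • ψ₀, by rw [Linear.comp_smul, ha]⟩
    · exact ⟨0, by rw [comp_zero, hSA n hn w]⟩
  have hVZ : ∀ (n : ℤ) (f₁ : Z ⟶ kap m n), f₁ = 0 := by
    intro n f₁
    have h1 : β ≫ f₁ = 0 := hinj n _ (by
      have : φ ≫ β = 0 := comp_distTriang_mor_zero₁₂ _ hT
      rw [← Category.assoc, this, zero_comp])
    obtain ⟨f', hf'⟩ : ∃ f' : ((singleFunctor (ModuleCat.{u} A) c).obj (ModuleCat.of A A))⟦(1 : ℤ)⟧ ⟶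
        kap m n, f₁ = δ ≫ f' := Triangle.yoneda_exact₃ _ hT f₁ h1
    let is : (kap m (n + 1))⟦(1 : ℤ)⟧ ≅ kap m n :=
      ((singleFunctors (ModuleCat.{u} A)).shiftIso 1 n (n + 1) (by omega)).app _
    obtain ⟨h, hh⟩ : ∃ h : (singleFunctor (ModuleCat.{u} A) c).obj (ModuleCat.of A A) ⟶
        kap m (n + 1), h⟦(1 : ℤ)⟧' = f' ≫ is.inv :=
      (shiftFunctor (Dual.D A) (1 : ℤ)).map_surjective (f' ≫ is.inv)
    obtain ⟨g₁, hg₁⟩ := hsurj (n + 1) h
    have h2 : f' = φ⟦(1 : ℤ)⟧' ≫ g₁⟦(1 : ℤ)⟧' ≫ is.hom := by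
      rw [← Category.assoc, ← Functor.map_comp, hg₁, hh, Category.assoc, is.inv_hom_id,
        Category.comp_id]
    have h3 : δ ≫ φ⟦(1 : ℤ)⟧' = 0 := comp_distTriang_mor_zero₃₁ _ hT
    rw [hf', h2, ← Category.assoc, h3, zero_comp]
  obtain ⟨hZfin, hZb⟩ := (hP Z).1 hZ
  have hKZ : ∀ n, Kl m (Dual.HD A Z n) := by
    by_contra hcon
    have hex : ∃ n, ¬ Kl m (Dual.HD A Z n) := by
      by_contra h
      exact hcon fun n => by
        by_contra h'
        exact h ⟨n, h'⟩
    obtain ⟨c', -, f₁, x₁, h₁⟩ := exists_top m Z hZb hZfin hex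
    apply h₁
    rw [hVZ c' f₁, Functor.map_zero]
    rfl
  refine ⟨x, fun n hn => ?_, ?_, ?_⟩
  · have hz : (homologyFunctor (ModuleCat.{u} A) n).map φ = 0 := by
      apply IsZero.eq_of_src
      rcases lt_or_gt_of_ne hn with h | h
      · exact isZero_of_isGE _ c n h
      · exact isZero_of_isLE _ c n h
    have hmono : Mono ((homologyFunctor (ModuleCat.{u} A) n).map β) :=
      (HomologySequence.mono_homologyMap_mor₂_iff _ hT n).2 hz
    exact Kl.of_injective ((homologyFunctor (ModuleCat.{u} A) n).map β).hom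
      ((ModuleCat.mono_iff_injective _).1 hmono) (hKZ n)
  · obtain ⟨t, ht, h0⟩ := hKZ c
    refine ⟨t, ht, fun y => ?_⟩
    have hex := HomologySequence.exact₂ _ hT c
    rw [ShortComplex.moduleCat_exact_iff] at hex
    obtain ⟨z, hz⟩ := hex (t • y) (by
      change ((homologyFunctor (ModuleCat.{u} A) c).map β).hom (t • y) = 0
      rw [map_smul, h0])
    refine ⟨σ.hom.hom z, ?_⟩
    change ((homologyFunctor (ModuleCat.{u} A) c).map φ).hom z = t • y at hz
    rw [← hz]
    conv_lhs => rw [hzu z]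
    rw [map_smul, hu]
  · obtain ⟨t, ht, h0⟩ := hKZ (c - 1)
    refine ⟨t, ht, fun a ha => ?_⟩
    have hex := HomologySequence.exact₁ _ hT (c - 1) c (by omega)
    rw [ShortComplex.moduleCat_exact_iff] at hex
    obtain ⟨w, hw⟩ := hex (a • u) (by
      change ((homologyFunctor (ModuleCat.{u} A) c).map φ).hom (a • u) = 0
      rw [map_smul, hu, ha])
    change (HomologySequence.δ (Triangle.mk φ β δ) (c - 1) c (by omega)).hom w = a • u at hw
    have h1 : t • (a • u) = 0 := by
      rw [← hw]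
      have h5 := (HomologySequence.δ (Triangle.mk φ β δ) (c - 1) c (by omega)).hom.map_smul t w
      have hw0 : t • w = 0 := h0 w
      rw [hw0, map_zero] at h5
      exact h5.symm
    have h2 := congrArg σ.hom.hom h1
    rw [map_smul, map_smul, map_zero, hσu, smul_eq_mul, smul_eq_mul, mul_one] at h2
    exact h2

end

end Groth.Agent.Lib.Helper79.Inv
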