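import Mathlib
import Groth.Prelude.Def_DTen
import Groth.Agent.Lib.Helper6.HomSingle
import Groth.Agent.Lib.Helper79.Inv5

/-! The image of the unit under an `A`-linear triangulated autoequivalence of `D^b_coh(A)` is
tested by the residue fields (helper79). -/

set_option autoImplicit false
universe u
open CategoryTheory CategoryTheory.Limits MonoidalCategory Pretriangulated DerivedCategory
attribute [local instance] HasDerivedCategory.standard

namespace Groth.Agent.Lib.Helper79.Inv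

open Groth.Agent.Lib.Helper35.KL Groth.Agent.Lib.Helper35 Groth.Agent.Lib.Helper6

variable {A : Type u} [CommRing A]

/-- linear equivalence on Hom modules induced by a fully faithful linear functor. -/
noncomputable def ffLinearEquiv {C D : Type*} [Category C] [Category D] [Preadditive C]
    [Preadditive D] [Linear A C] [Linear A D] (G : C ⥤ D) [G.Additive] [G.Linear A] [G.Full]
    [G.Faithful] (X Y : C) : (X ⟶ Y) ≃ₗ[A] (G.obj X ⟶ G.obj Y) :=
  LinearEquiv.ofBijective (G.mapLinearMap A)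
    ((Functor.FullyFaithful.ofFullyFaithful G).map_bijective X Y)

variable [IsNoetherianRing A]
    (P : ObjectProperty (Dual.D A))
    (hP : ∀ K : Dual.D A, P K ↔
      ((∀ i : ℤ, Module.Finite A (Dual.HD A K i)) ∧
        ∃ a b : ℤ, ∀ i : ℤ, (i < a ∨ b < i) → Subsingleton (Dual.HD A K i)))
    [P.IsTriangulated]
    (F : P.FullSubcategory ⥤ P.FullSubcategory) [F.CommShift ℤ] [F.IsTriangulated]
    [F.IsEquivalence] [F.Additive] [F.Linear A]
    (hA : P (DTen.unit A))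

variable (m : Ideal A) [hm : m.IsMaximal]

/-- the residue field object of `D^b_coh`. -/
noncomputable abbrev kC : P.FullSubcategory := ⟨kap m 0, P_single P hP 0 (A ⧸ m)⟩

/-- the image of the residue field. -/
noncomputable abbrev Ym : Dual.D A := (F.obj (kC P hP m)).obj

omit [IsNoetherianRing A] in
lemma id_kap_ne_zero (n : ℤ) : 𝟙 (kap m n) ≠ 0 := by
  intro h
  have h1 : (singleFunctor (ModuleCat.{u} A) n).map (𝟙 (ModuleCat.of A (A ⧸ m))) =
      (singleFunctor (ModuleCat.{u} A) n).map 0 := by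
    rw [CategoryTheory.Functor.map_id, Functor.map_zero]
    exact h
  have h2 := (singleFunctor (ModuleCat.{u} A) n).map_injective h1
  have h3 := congrArg (fun q => q.hom (1 : A ⧸ m)) h2
  haveI : Nontrivial (A ⧸ m) := Ideal.Quotient.nontrivial_iff.2 hm.ne_top
  exact one_ne_zero h3

omit [IsNoetherianRing A] in
lemma Ym_id_ne_zero : 𝟙 (Ym P hP F m) ≠ 0 := by
  intro h
  have h1 : 𝟙 (F.obj (kC P hP m)) = 0 := ObjectProperty.hom_ext _ h
  have h2 : F.map (𝟙 (kC P hP m)) = F.map 0 := by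
    rw [CategoryTheory.Functor.map_id, h1, Functor.map_zero]
  have h3 := F.map_injective h2
  exact id_kap_ne_zero m 0 (congrArg (fun q => q.hom) h3)

omit [IsNoetherianRing A] in
lemma Ym_kill (a : A) (ha : a ∈ m) : a • 𝟙 (Ym P hP F m) = 0 := by
  have h1 : a • 𝟙 (kC P hP m) = 0 := ObjectProperty.hom_ext _ (smul_id_kap m 0 a ha)
  have h2 : a • 𝟙 (F.obj (kC P hP m)) = 0 := by
    rw [← CategoryTheory.Functor.map_id, ← Functor.map_smul, h1, Functor.map_zero]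
  exact congrArg (fun q => q.hom) h2

omit [IsNoetherianRing A] in
lemma Ym_scalar (f : Ym P hP F m ⟶ Ym P hP F m) : ∃ a : A, f = a • 𝟙 (Ym P hP F m) := by
  obtain ⟨g, hg⟩ := F.map_surjective
    (ObjectProperty.homMk f : F.obj (kC P hP m) ⟶ F.obj (kC P hP m))
  obtain ⟨g₀, hg₀⟩ := (singleFunctor (ModuleCat.{u} A) 0).map_surjective
    (g.hom : kap m 0 ⟶ kap m 0)
  obtain ⟨a, ha⟩ := Ideal.Quotient.mk_surjective (I := m) (g₀.hom (1 : A ⧸ m))
  refine ⟨a, ?_⟩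
  have h0 : g₀ = a • 𝟙 _ := by
    refine ModuleCat.hom_ext (LinearMap.ext fun y => ?_)
    obtain ⟨c, rfl⟩ := Ideal.Quotient.mk_surjective (I := m) y
    have hmk : ∀ c : A, (Ideal.Quotient.mk m c : A ⧸ m) = c • (1 : A ⧸ m) := by
      intro c
      rw [Algebra.smul_def, mul_one]
      rfl
    rw [hmk c, map_smul, map_smul, ← ha]
    change c • Ideal.Quotient.mk m a = c • (a • (1 : A ⧸ m))
    rw [hmk a]
  have h2 : g = a • 𝟙 (kC P hP m) := by
    apply ObjectProperty.hom_ext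
    change g.hom = a • 𝟙 (kap m 0)
    rw [← hg₀, h0, Functor.map_smul, CategoryTheory.Functor.map_id]
  have h3 : (ObjectProperty.homMk f : F.obj (kC P hP m) ⟶ F.obj (kC P hP m)) =
      a • 𝟙 (F.obj (kC P hP m)) := by
    rw [← hg, h2, Functor.map_smul, CategoryTheory.Functor.map_id]
  exact congrArg (fun q => q.hom) h3

omit [IsNoetherianRing A] in
lemma Ym_neg (i : ℤ) (hi : i < 0) (f : Ym P hP F m ⟶ (Ym P hP F m)⟦i⟧) : f = 0 := by
  let ιs := (P.ι.commShiftIso i).app (F.obj (kC P hP m))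
  let Fs := (F.commShiftIso i).app (kC P hP m)
  let f' : F.obj (kC P hP m) ⟶ (F.obj (kC P hP m))⟦i⟧ := ObjectProperty.homMk (f ≫ ιs.inv)
  obtain ⟨g, hg⟩ := F.map_surjective (f' ≫ Fs.inv)
  have hz : g.hom ≫ ((P.ι.commShiftIso i).app (kC P hP m)).hom = 0 := by
    have : TStructure.t.IsGE ((P.ι ⋙ shiftFunctor (Dual.D A) i).obj (kC P hP m)) (-i) :=
      TStructure.t.isGE_shift (kap m 0) 0 i (-i) (by omega)
    exact TStructure.t.zero _ 0 (-i) (by omega)
  have hg0 : g = 0 := by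
    apply ObjectProperty.hom_ext
    rw [← cancel_mono ((P.ι.commShiftIso i).app (kC P hP m)).hom, hz]
    exact zero_comp.symm
  rw [hg0, Functor.map_zero] at hg
  have hf' : f' = 0 := by
    rw [← cancel_mono Fs.inv, ← hg, zero_comp]
  have h1 : f ≫ ιs.inv = 0 := congrArg (fun q => q.hom) hf'
  rw [← cancel_mono ιs.inv, h1, zero_comp]

include hP hA in
/-- **The residue field test** for `E = F(A)`. -/
theorem point_test :
    ∃ n : ℤ, (∀ j : ℤ, j ≠ n → ∀ f : (F.obj ⟨DTen.unit A, hA⟩).obj ⟶ kap m j, f = 0) ∧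
      ∃ ψ₀ : (F.obj ⟨DTen.unit A, hA⟩).obj ⟶ kap m n, ψ₀ ≠ 0 ∧
        ∀ ψ : (F.obj ⟨DTen.unit A, hA⟩).obj ⟶ kap m n, ∃ a : A, ψ = a • ψ₀ := by
  obtain ⟨hYfin, hYb⟩ := (hP (Ym P hP F m)).1 (F.obj (kC P hP m)).property
  obtain ⟨n, ⟨e⟩⟩ := classify m (Ym P hP F m) hYfin hYb (Ym_id_ne_zero P hP F m)
    (Ym_kill P hP F m) (Ym_scalar P hP F m) (Ym_neg P hP F m)
  have chain : ∀ i j : ℤ, i + j = n →
      Nonempty (((F.obj ⟨DTen.unit A, hA⟩).obj ⟶ kap m j) ≃ₗ[A] Dual.HD A (kap m 0) i) := by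
    intro i j hij
    let uC : P.FullSubcategory := ⟨DTen.unit A, hA⟩
    let θ : (Ym P hP F m)⟦i⟧ ≅ kap m j :=
      (shiftFunctor (Dual.D A) i).mapIso e ≪≫
        ((singleFunctors (ModuleCat.{u} A)).shiftIso i j n hij).app _
    let L1 : ((F.obj uC).obj ⟶ kap m j) ≃ₗ[A] ((F.obj uC).obj ⟶ (Ym P hP F m)⟦i⟧) :=
      Linear.homCongr A (Iso.refl _) θ.symm
    let L2 : (F.obj uC ⟶ (F.obj (kC P hP m))⟦i⟧) ≃ₗ[A]
        ((F.obj uC).obj ⟶ ((F.obj (kC P hP m))⟦i⟧).obj) :=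
      ffLinearEquiv P.ι (F.obj uC) ((F.obj (kC P hP m))⟦i⟧)
    let L2' : ((F.obj uC).obj ⟶ ((F.obj (kC P hP m))⟦i⟧).obj) ≃ₗ[A]
        ((F.obj uC).obj ⟶ (Ym P hP F m)⟦i⟧) :=
      Linear.homCongr A (Iso.refl _) ((P.ι.commShiftIso i).app (F.obj (kC P hP m)))
    let L3 : (F.obj uC ⟶ F.obj ((kC P hP m)⟦i⟧)) ≃ₗ[A] (F.obj uC ⟶ (F.obj (kC P hP m))⟦i⟧) :=
      Linear.homCongr A (Iso.refl _) ((F.commShiftIso i).app (kC P hP m))
    let L4 : (uC ⟶ (kC P hP m)⟦i⟧) ≃ₗ[A] (F.obj uC ⟶ F.obj ((kC P hP m)⟦i⟧)) :=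
      ffLinearEquiv F uC ((kC P hP m)⟦i⟧)
    let L5 : (uC ⟶ (kC P hP m)⟦i⟧) ≃ₗ[A] (DTen.unit A ⟶ ((kC P hP m)⟦i⟧).obj) :=
      ffLinearEquiv P.ι uC ((kC P hP m)⟦i⟧)
    let L5' : (DTen.unit A ⟶ ((kC P hP m)⟦i⟧).obj) ≃ₗ[A] (DTen.unit A ⟶ (kap m 0)⟦i⟧) :=
      Linear.homCongr A (Iso.refl _) ((P.ι.commShiftIso i).app (kC P hP m))
    obtain ⟨L6⟩ := HomSingle.nonempty_homSingleEquiv (kap m 0) i
    exact ⟨L1.trans (L2'.symm.trans (L2.symm.trans (L3.symm.trans (L4.symm.trans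
      (L5.trans (L5'.trans L6))))))⟩
  refine ⟨n, fun j hj f => ?_, ?_⟩
  · obtain ⟨L⟩ := chain (n - j) j (by omega)
    have := subsingleton_homology_single 0 (n - j) (by omega) (ModuleCat.of A (A ⧸ m))
    have hs : Subsingleton ((F.obj ⟨DTen.unit A, hA⟩).obj ⟶ kap m j) := L.toEquiv.subsingleton
    exact Subsingleton.elim _ _
  · obtain ⟨L⟩ := chain 0 n (by omega)
    let L' : ((F.obj ⟨DTen.unit A, hA⟩).obj ⟶ kap m n) ≃ₗ[A] A ⧸ m :=
      L.trans ((singleFunctorCompHomologyFunctorIso (ModuleCat.{u} A) 0).app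
        (ModuleCat.of A (A ⧸ m))).toLinearEquiv
    haveI : Nontrivial (A ⧸ m) := Ideal.Quotient.nontrivial_iff.2 hm.ne_top
    have hψ₀ : L'.symm 1 ≠ 0 := by
      intro h
      have := congrArg L' h
      rw [LinearEquiv.apply_symm_apply, map_zero] at this
      exact one_ne_zero this
    exact ⟨L'.symm 1, hψ₀, (cyclic_of_equiv m L' _ hψ₀).1⟩

end Groth.Agent.Lib.Helper79.Inv
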