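import Mathlib
import Groth.Prelude.Def_DTen
import Groth.Agent.Lib.Helper79.Inv6
import Groth.Agent.Lib.Helper79.Inv7
import Groth.Agent.Lib.Helper79.Inv8
import Groth.Agent.Lib.Helper79.Inv9

/-! Invertibility of the image of the unit under an `A`-linear triangulated autoequivalence of
`D^b_coh(A)` (helper79): assembly. -/

set_option autoImplicit false
universe u
open CategoryTheory CategoryTheory.Limits MonoidalCategory Pretriangulated DerivedCategory
attribute [local instance] HasDerivedCategory.standard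

namespace Groth.Agent.Lib.Helper79.Inv

open Groth.Agent.Lib.Helper35.KL Groth.Agent.Lib.Helper35 Groth.Agent.Lib.Helper6
open TensorProduct

variable {A : Type u} [CommRing A]

/-- normalisation of local data to a single denominator. -/
lemma LocD.of_local (m : Ideal A) [hm : m.IsMaximal] (N : ℤ → Type u) [∀ p, AddCommGroup (N p)]
    [∀ p, Module A (N p)] (lo hi : ℤ)
    (hsub : ∀ i : ℤ, (i < lo ∨ hi < i) → Subsingleton (N i)) (b : ℤ) (x : N b)
    (hK : ∀ n : ℤ, n ≠ b → ∃ t : A, t ∉ m ∧ ∀ y : N n, t • y = 0)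
    (h₂ : ∃ t : A, t ∉ m ∧ ∀ y : N b, ∃ a : A, t • y = a • x)
    (h₃ : ∃ t : A, t ∉ m ∧ ∀ a : A, a • x = 0 → t * a = 0) : LocD m N := by
  classical
  obtain ⟨t₂, ht₂, h₂⟩ := h₂
  obtain ⟨t₃, ht₃, h₃⟩ := h₃
  have hK' : ∀ r : ℤ, ∃ t : A, t ∉ m ∧ (r ≠ b → ∀ y : N r, t • y = 0) := by
    intro r
    by_cases hr : r = b
    · exact ⟨1, (Ideal.ne_top_iff_one m).1 hm.ne_top, fun h => absurd hr h⟩
    · obtain ⟨t, ht, h0⟩ := hK r hr
      exact ⟨t, ht, fun _ => h0⟩
  choose tK htK hK0 using hK'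
  have hprod : ∏ r ∈ Finset.Icc lo hi, tK r ∉ m := by
    intro h
    obtain ⟨r, -, hr⟩ := hm.isPrime.prod_mem_iff.1 h
    exact htK r hr
  refine ⟨b, x, t₂ * t₃ * ∏ r ∈ Finset.Icc lo hi, tK r, ?_, ?_, ?_, ?_⟩
  · intro h
    rcases hm.isPrime.mem_or_mem h with h' | h'
    · rcases hm.isPrime.mem_or_mem h' with h'' | h''
      · exact ht₂ h''
      · exact ht₃ h''
    · exact hprod h'
  · intro n hn y
    by_cases hmem : n ∈ Finset.Icc lo hi
    · obtain ⟨c, hc⟩ := Finset.dvd_prod_of_mem tK hmem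
      have h4 : t₂ * t₃ * (tK n * c) = (t₂ * t₃ * c) * tK n := by ring
      rw [hc, h4, mul_smul, hK0 n hn y, smul_zero]
    · have := hsub n (by
        rw [Finset.mem_Icc] at hmem
        omega)
      exact Subsingleton.elim _ _
  · intro y
    obtain ⟨a, ha⟩ := h₂ y
    refine ⟨t₃ * (∏ r ∈ Finset.Icc lo hi, tK r) * a, ?_⟩
    have : t₂ * t₃ * ∏ r ∈ Finset.Icc lo hi, tK r = (t₃ * ∏ r ∈ Finset.Icc lo hi, tK r) * t₂ := by
      ring
    rw [this, mul_smul, ha, ← mul_smul]
  · intro a ha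
    have h := h₃ a ha
    have : t₂ * t₃ * (∏ r ∈ Finset.Icc lo hi, tK r) * a =
        (t₂ * ∏ r ∈ Finset.Icc lo hi, tK r) * (t₃ * a) := by ring
    rw [this, h, mul_zero]

variable [IsNoetherianRing A]

/-- **Main theorem.** -/
theorem main [DTen.HasLTen A] [DTen.KFlatComputes A]
    (P : ObjectProperty (Dual.D A))
    (hP : ∀ K : Dual.D A, P K ↔
      ((∀ i : ℤ, Module.Finite A (Dual.HD A K i)) ∧
        ∃ a b : ℤ, ∀ i : ℤ, (i < a ∨ b < i) → Subsingleton (Dual.HD A K i)))
    [P.IsTriangulated]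
    (F : P.FullSubcategory ⥤ P.FullSubcategory) [F.CommShift ℤ] [F.IsTriangulated]
    [F.IsEquivalence] [F.Additive] [F.Linear A]
    (hA : P (DTen.unit A)) :
    DTen.IsInvertible A (F.obj ⟨DTen.unit A, hA⟩).obj := by
  have hPE : P (F.obj ⟨DTen.unit A, hA⟩).obj := (F.obj ⟨DTen.unit A, hA⟩).property
  obtain ⟨hEfin, lo, hi, hEb⟩ := (hP _).1 hPE
  let N : ℤ → ModuleCat.{u} A := fun p =>
    (homologyFunctor (ModuleCat.{u} A) p).obj (F.obj ⟨DTen.unit A, hA⟩).obj
  have hloc : ∀ m : Ideal A, m.IsMaximal → LocD m (fun p => N p) := by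
    intro m hm
    obtain ⟨n, hv, ψ₀, hψ₀, hψ⟩ := point_test P hP F hA m
    obtain ⟨x, hK, h₂, h₃⟩ := local_structure P hP m _ hPE n hv ψ₀ hψ₀ hψ
    exact LocD.of_local m (fun p => N p) lo hi hEb n x hK h₂ h₃
  have hfin : ∀ p, Module.Finite A (N p) := hEfin
  have hproj : ∀ p, Module.Projective A (N p) := projective_of_locD (fun p => N p) hloc hfin
  have hprojC : ∀ p, Projective (N p) := fun p =>
    (IsProjective.iff_projective (R := A) (P := N p)).1 (hproj p)
  obtain ⟨e⟩ := nonempty_iso_Q_zcx (F.obj ⟨DTen.unit A, hA⟩).obj ⟨lo, hi, hEb⟩ hprojC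
  have hKflat : DRing.IsKFlat A (zcx N) := isKFlat_zcx N hi (fun p hp => by
    have := hEb p (Or.inr hp)
    exact ModuleCat.isZero_of_subsingleton _) hprojC
  let db : ∀ r : ℤ, DB (A := A) (N r) := fun r =>
    haveI := hfin r
    haveI := hproj r
    Classical.choice (nonempty_DB (N r))
  let N' : ℤ → ModuleCat.{u} A := fun q => ModuleCat.of A (Module.Dual A (N (-q)))
  let ev : ∀ q : ℤ, (zcx N).X (-q) ⊗ (zcx N').X q ⟶ 𝟙_ (ModuleCat.{u} A) := fun q =>
    ModuleCat.ofHom (contractRight A (N (-q)))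
  let coev : ∀ q : ℤ, 𝟙_ (ModuleCat.{u} A) ⟶ (zcx N).X (-q) ⊗ (zcx N').X q := fun q =>
    ModuleCat.ofHom (LinearMap.toSpanSingleton A _ (db (-q)).c)
  obtain ⟨τ⟩ := nonempty_tensor_iso_unit (zcx N) (zcx N')
    ((Finset.Icc lo hi).image (fun r => -r))
    (fun p q hpq => by
      have : Subsingleton ((N p : Type u) ⊗[A] Module.Dual A (N (-q))) :=
        subsingleton_of_forall_eq 0
          (cross_eq_zero (fun p => N p) hloc p (-q) (by omega))
      exact @ModuleCat.isZero_of_subsingleton A _ ((zcx N).X p ⊗ (zcx N').X q) this)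
    (fun q hq => by
      have hq' : -q ∉ Finset.Icc lo hi := by
        intro h
        exact hq (Finset.mem_image.2 ⟨-q, h, neg_neg q⟩)
      have hs : Subsingleton (N (-q)) := hEb (-q) (by
        rw [Finset.mem_Icc] at hq'
        omega)
      have : Subsingleton ((N (-q) : Type u) ⊗[A] Module.Dual A (N (-q))) :=
        subsingleton_of_forall_eq 0 (fun τ => by
          have := smul_tmul_eq_zero_left (1 : A) (fun y : N (-q) => Subsingleton.elim _ _) τ
          rwa [one_smul] at this)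
      exact @ModuleCat.isZero_of_subsingleton A _ ((zcx N).X (-q) ⊗ (zcx N').X q) this)
    ev coev
    (fun q q' hqq' => ModuleCat.hom_ext (LinearMap.ext fun τ =>
      contract_smul_c_of_ne (fun p => N p) hloc db (-q) (-q') (by omega) τ))
    (fun q _ => ModuleCat.hom_ext (LinearMap.ext fun τ =>
      contract_smul_c (fun p => N p) hloc db (-q) τ))
    (by
      refine ModuleCat.hom_ext (LinearMap.ext_ring ?_)
      have h1 := sum_contract_c (fun p => N p) hloc db lo hi hEb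
      rw [ModuleCat.hom_sum, LinearMap.sum_apply, Finset.sum_image (fun a _ b _ h => neg_injective h)]
      refine Eq.trans (Finset.sum_congr rfl fun r _ => ?_) h1
      change contractRight A (N (- -r)) ((1 : A) • (db (- -r)).c) = _
      rw [one_smul, neg_neg])
  refine ⟨DerivedCategory.Q.obj (zcx N'), ⟨?_⟩, ⟨?_⟩⟩
  · haveI := DTen.KFlatComputes.isIso_counit (zcx N) (zcx N') (Or.inl hKflat)
    exact (DTen.LTen₂ A).mapIso (Iso.prod e (Iso.refl _)) ≪≫
      asIso ((DTen.ε A).app (zcx N, zcx N')) ≪≫ DerivedCategory.Q.mapIso τ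
  · haveI := DTen.KFlatComputes.isIso_counit (zcx N') (zcx N) (Or.inr hKflat)
    exact (DTen.LTen₂ A).mapIso (Iso.prod (Iso.refl _) e) ≪≫
      asIso ((DTen.ε A).app (zcx N', zcx N)) ≪≫
      DerivedCategory.Q.mapIso (DTen.braidCx (zcx N') (zcx N) ≪≫ τ)

end Groth.Agent.Lib.Helper79.Inv
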