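import Mathlib
import Groth.Prelude.Def_DDual2
import Groth.Prelude.Def_Wider
import Groth.Agent.Lib.Helper79.ExactEquivD

/-!
# Twisting by an invertible module as an autoequivalence of `D(A)` (helper79)

For an invertible `A`-module `P`, the exact functor `- ⊗ P` induces an `A`-linear triangulated
autoequivalence `T A P` of `D(A)`; the derived tensor functor `DRing.LTensor A P` is isomorphic to it.
-/

set_option autoImplicit false
universe u
open CategoryTheory CategoryTheory.Limits MonoidalCategory
attribute [local instance] HasDerivedCategory.standard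

namespace Groth.Agent.Lib.Helper79.InvTwist

variable (A : Type u) [CommRing A]

section general

/-- `tensorRight` along an isomorphism of modules. -/
noncomputable def tensorRightIso {P P₂ : ModuleCat.{u} A} (e : P ≅ P₂) :
    tensorRight P ≅ tensorRight P₂ :=
  NatIso.ofComponents (fun X => whiskerLeftIso X e) (by
    intro X Y f
    simp [whisker_exchange])

/-- `tensorKh A M` inverts quasi-isomorphisms when `M` is flat. -/
lemma tensorKh_inverts (M : ModuleCat.{u} A) [Module.Flat A M] :
    (HomotopyCategory.quasiIso (ModuleCat.{u} A) (ComplexShape.up ℤ)).IsInvertedBy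
      (DRing.tensorKh A M) := by
  have h : (HomotopyCategory.quasiIso (ModuleCat.{u} A) (ComplexShape.up ℤ)).IsInvertedBy
      (DerivedCategory.Qh ⋙ (tensorRight M).mapDerivedCategory) :=
    MorphismProperty.IsInvertedBy.of_comp _ _
      (Localization.inverts DerivedCategory.Qh
        (HomotopyCategory.quasiIso (ModuleCat.{u} A) (ComplexShape.up ℤ))) _
  exact (MorphismProperty.IsInvertedBy.iff_of_iso _
    (tensorRight M).mapDerivedCategoryFactorsh).1 h

/-- For flat `M`, the derived tensor product is the functor induced by the exact functor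
`- ⊗ M`. -/
noncomputable def ltensorIso (M : ModuleCat.{u} A) [Module.Flat A M] [DRing.HasLTensor A M] :
    DRing.LTensor A M ≅ (tensorRight M).mapDerivedCategory := by
  have : ((tensorRight M).mapDerivedCategory).IsLeftDerivedFunctor
      ((tensorRight M).mapDerivedCategoryFactorsh).hom
      (HomotopyCategory.quasiIso (ModuleCat.{u} A) (ComplexShape.up ℤ)) :=
    Functor.isLeftDerivedFunctor_of_inverts _ _ _
  exact Functor.leftDerivedUnique _ _
    ((DRing.tensorKh A M).totalLeftDerivedCounit DerivedCategory.Qh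
      (HomotopyCategory.quasiIso (ModuleCat.{u} A) (ComplexShape.up ℤ)))
    ((tensorRight M).mapDerivedCategoryFactorsh).hom
    (HomotopyCategory.quasiIso (ModuleCat.{u} A) (ComplexShape.up ℤ))

end general

section invertible

variable (P : Type u) [AddCommGroup P] [Module A P] [Module.Invertible A P]

/-- `P` as an object of `ModuleCat A`. -/
abbrev Pm : ModuleCat.{u} A := ModuleCat.of A P

/-- The dual of `P` as an object of `ModuleCat A`. -/
abbrev Pd : ModuleCat.{u} A := ModuleCat.of A (Module.Dual A P)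

/-- `P^∨ ⊗ P ≅ A`. -/
noncomputable def dualTensorIso : Pd A P ⊗ Pm A P ≅ 𝟙_ (ModuleCat.{u} A) :=
  (Module.Invertible.linearEquiv A P).toModuleIso

/-- `(- ⊗ P) ⊗ P^∨ ≅ id`. -/
noncomputable def etaIso : tensorRight (Pm A P) ⋙ tensorRight (Pd A P) ≅ 𝟭 (ModuleCat.{u} A) :=
  (tensorRightTensor (Pm A P) (Pd A P)).symm ≪≫
    tensorRightIso A ((β_ (Pm A P) (Pd A P)) ≪≫ dualTensorIso A P) ≪≫
    rightUnitorNatIso (ModuleCat.{u} A)

/-- `(- ⊗ P^∨) ⊗ P ≅ id`. -/
noncomputable def epsIso : tensorRight (Pd A P) ⋙ tensorRight (Pm A P) ≅ 𝟭 (ModuleCat.{u} A) :=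
  (tensorRightTensor (Pd A P) (Pm A P)).symm ≪≫
    tensorRightIso A (dualTensorIso A P) ≪≫
    rightUnitorNatIso (ModuleCat.{u} A)

/-- The autoequivalence `K ↦ K ⊗ P` of `D(A)`. -/
noncomputable abbrev T : Dual.D A ⥤ Dual.D A := (tensorRight (Pm A P)).mapDerivedCategory

/-- The inverse autoequivalence `K ↦ K ⊗ P^∨` of `D(A)`. -/
noncomputable abbrev T' : Dual.D A ⥤ Dual.D A := (tensorRight (Pd A P)).mapDerivedCategory

instance isEquivalence_T : (T A P).IsEquivalence :=
  ExactEquivD.isEquivalence_mapDerivedCategory _ _ (etaIso A P) (epsIso A P)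

instance isEquivalence_T' : (T' A P).IsEquivalence :=
  ExactEquivD.isEquivalence_mapDerivedCategory _ _ (epsIso A P) (etaIso A P)

end invertible

section dualizing

variable {A}
variable (P : Type u) [AddCommGroup P] [Module A P] [Module.Invertible A P]

open DerivedCategory

/-- `T (inD (M ⊗ P^∨)) ≅ inD M`. -/
noncomputable def TinDIso (M : ModuleCat.{u} A) :
    (T A P).obj ((singleFunctor (ModuleCat.{u} A) 0).obj ((tensorRight (Pd A P)).obj M)) ≅
      (singleFunctor (ModuleCat.{u} A) 0).obj M :=
  ((tensorRight (Pm A P)).mapDerivedCategorySingleFunctor 0).app _ ≪≫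
    (singleFunctor (ModuleCat.{u} A) 0).mapIso ((epsIso A P).app M)

lemma map_T_bijective (X Y : Dual.D A) :
    Function.Bijective (fun f : X ⟶ Y => (T A P).map f) :=
  ⟨fun _ _ h => (T A P).map_injective h, fun g => (T A P).map_surjective g⟩

/-- `H^i(K ⊗ P) ≃ H^i(K) ⊗ P`. -/
noncomputable def homologyTEquiv (K : Dual.D A) (i : ℤ) :
    Dual.HD A ((T A P).obj K) i ≃ₗ[A] TensorProduct A (Dual.HD A K i) P :=
  ((ExactEquivD.mapDerivedCategoryHomologyIso (tensorRight (Pm A P)) i).app K).toLinearEquiv

theorem isDualizing_T (ω : Dual.D A) (hω : Dual.IsDualizing A ω) :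
    Dual.IsDualizing A ((T A P).obj ω) where
  isNoetherianRing := hω.isNoetherianRing
  finite_injective_dimension := by
    obtain ⟨a, b, hab⟩ := hω.finite_injective_dimension
    refine ⟨a, b, fun M _ _ i hi => ?_⟩
    have h1 := hab ((tensorRight (Pd A P)).obj (ModuleCat.of A M)) i hi
    have e1 : (Dual.inD A ((tensorRight (Pd A P)).obj (ModuleCat.of A M)) ⟶ ω⟦i⟧) ≃
        ((T A P).obj (Dual.inD A ((tensorRight (Pd A P)).obj (ModuleCat.of A M))) ⟶
          (T A P).obj (ω⟦i⟧)) :=
      (Functor.FullyFaithful.ofFullyFaithful (T A P)).homEquiv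
    have e2 := Iso.homCongr (TinDIso P (ModuleCat.of A M)) (((T A P).commShiftIso i).app ω)
    exact (e1.trans e2).symm.subsingleton
  finite_cohomology := fun i => by
    have := hω.finite_cohomology i
    exact Module.Finite.equiv (homologyTEquiv P ω i).symm
  toEnd_bijective := by
    have h : (fun a : A => a • (𝟙 ((T A P).obj ω))) =
        (fun f : ω ⟶ ω => (T A P).map f) ∘ (fun a : A => a • 𝟙 ω) := by
      ext a
      simp only [Function.comp_apply, Functor.map_smul]
      rw [CategoryTheory.Functor.map_id]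
    rw [h]
    exact (map_T_bijective P ω ω).comp hω.toEnd_bijective
  ext_self_subsingleton := fun i hi => by
    have := hω.ext_self_subsingleton i hi
    have e1 : (ω ⟶ ω⟦i⟧) ≃ ((T A P).obj ω ⟶ (T A P).obj (ω⟦i⟧)) :=
      (Functor.FullyFaithful.ofFullyFaithful (T A P)).homEquiv
    have e2 := Iso.homCongr (Iso.refl ((T A P).obj ω)) (((T A P).commShiftIso i).app ω)
    exact (e1.trans e2).symm.subsingleton

end dualizing

section transport

variable {A}

open DerivedCategory

/-- Dualizing complexes are stable under isomorphism (same proof as helper6's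
`HomBC.isDualizing_of_iso`, repeated here to keep the import closure small). -/
lemma isDualizing_of_iso {ω ω' : Dual.D A} (e : ω ≅ ω') (h : Dual.IsDualizing A ω) :
    Dual.IsDualizing A ω' where
  isNoetherianRing := h.isNoetherianRing
  finite_injective_dimension := by
    obtain ⟨a, b, hab⟩ := h.finite_injective_dimension
    refine ⟨a, b, fun M _ _ i hi => ?_⟩
    have := hab M i hi
    exact (Iso.homCongr (Iso.refl (Dual.inD A M))
      ((shiftFunctor (Dual.D A) i).mapIso e.symm)).subsingleton
  finite_cohomology := fun i => by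
    have := h.finite_cohomology i
    exact Module.Finite.equiv
      ((homologyFunctor (ModuleCat.{u} A) i).mapIso e).toLinearEquiv
  toEnd_bijective := by
    have h1 : (fun a : A => a • 𝟙 ω') = (Iso.homCongr e e) ∘ (fun a : A => a • 𝟙 ω) := by
      funext a
      simp [Iso.homCongr]
    rw [h1]
    exact (Iso.homCongr e e).bijective.comp h.toEnd_bijective
  ext_self_subsingleton := fun i hi => by
    have := h.ext_self_subsingleton i hi
    exact (Iso.homCongr e.symm ((shiftFunctor (Dual.D A) i).mapIso e.symm)).subsingleton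

lemma map_shift_bijective (X Y : Dual.D A) (s : ℤ) :
    Function.Bijective (fun f : X ⟶ Y => (shiftFunctor (Dual.D A) s).map f) :=
  ⟨fun _ _ h => (shiftFunctor (Dual.D A) s).map_injective h,
    fun g => (shiftFunctor (Dual.D A) s).map_surjective g⟩

/-- Dualizing complexes are stable under shifts (same proof as helper6's
`DualShift.isDualizing_shift`). -/
theorem isDualizing_shift (ω : Dual.D A) (hω : Dual.IsDualizing A ω) (s : ℤ) :
    Dual.IsDualizing A (ω⟦s⟧) where
  isNoetherianRing := hω.isNoetherianRing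
  finite_injective_dimension := by
    obtain ⟨a, b, hab⟩ := hω.finite_injective_dimension
    refine ⟨a - s, b - s, fun M _ _ i hi => ?_⟩
    have := hab M (s + i) (by omega)
    exact (Iso.homCongr (Iso.refl (Dual.inD A M))
      ((shiftFunctorAdd' (Dual.D A) s i (s + i) rfl).app ω)).symm.subsingleton
  finite_cohomology := by
    intro i
    have h1 : Module.Finite A (Dual.HD A ω (i + s)) := hω.finite_cohomology (i + s)
    let e : Dual.HD A (ω⟦s⟧) i ≃ₗ[A] Dual.HD A ω (i + s) :=
      (((homologyFunctor (ModuleCat.{u} A) 0).shiftIso s i (i + s) (by omega)).app ω).toLinearEquiv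
    exact Module.Finite.equiv e.symm
  toEnd_bijective := by
    have h : (fun a : A => a • (𝟙 (ω⟦s⟧))) =
        (fun f : ω ⟶ ω => (shiftFunctor (Dual.D A) s).map f) ∘ (fun a : A => a • 𝟙 ω) := by
      ext a
      simp only [Function.comp_apply, Functor.map_smul]
      rw [CategoryTheory.Functor.map_id]
    rw [h]
    exact (map_shift_bijective ω ω s).comp hω.toEnd_bijective
  ext_self_subsingleton := by
    intro i hi
    have := hω.ext_self_subsingleton i hi
    have e1 : (ω ⟶ ω⟦i⟧) ≃ (ω⟦s⟧ ⟶ (ω⟦i⟧)⟦s⟧) :=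
      Equiv.ofBijective _ (map_shift_bijective ω (ω⟦i⟧) s)
    have e2 : (ω⟦s⟧ ⟶ (ω⟦i⟧)⟦s⟧) ≃ (ω⟦s⟧ ⟶ (ω⟦s⟧)⟦i⟧) :=
      Iso.homCongr (Iso.refl _) (shiftComm ω i s)
    exact (e1.trans e2).symm.subsingleton

variable (P : Type u) [AddCommGroup P] [Module A P] [Module.Invertible A P]

/-- **`(ω ⊗^L P)[n]` is dualizing** for a dualizing complex `ω` and an invertible module `P`. -/
theorem isDualizing_LTensor_shift [DRing.HasLTensor A (ModuleCat.of A P)] (ω : Dual.D A)
    (hω : Dual.IsDualizing A ω) (n : ℤ) :
    Dual.IsDualizing A (((DRing.LTensor A (ModuleCat.of A P)).obj ω)⟦n⟧) :=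
  isDualizing_shift _
    (isDualizing_of_iso ((ltensorIso A (ModuleCat.of A P)).app ω).symm (isDualizing_T P ω hω)) n

end transport

end Groth.Agent.Lib.Helper79.InvTwist

/-! ## Functoriality of the twist in the module variable (appended) -/

namespace Groth.Agent.Lib.Helper79.InvTwist

variable (A : Type u) [CommRing A]

section twistMap

/-- The natural transformation `- ⊗ N ⟶ - ⊗ N'` induced by `f : N ⟶ N'`. -/
noncomputable def tensorRightMap {N N' : ModuleCat.{u} A} (f : N ⟶ N') :
    tensorRight N ⟶ tensorRight N' where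
  app X := X ◁ f
  naturality X Y g := by simp [whisker_exchange]

@[simp] lemma tensorRightMap_app {N N' : ModuleCat.{u} A} (f : N ⟶ N') (X : ModuleCat.{u} A) :
    (tensorRightMap A f).app X = X ◁ f := rfl

lemma tensorRightMap_id (N : ModuleCat.{u} A) : tensorRightMap A (𝟙 N) = 𝟙 _ := by
  ext X
  simp

lemma tensorRightMap_comp {N N' N'' : ModuleCat.{u} A} (f : N ⟶ N') (g : N' ⟶ N'') :
    tensorRightMap A (f ≫ g) = tensorRightMap A f ≫ tensorRightMap A g := by
  ext X
  simp

lemma tensorRightMap_add {N N' : ModuleCat.{u} A} (f g : N ⟶ N') :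
    tensorRightMap A (f + g) = tensorRightMap A f + tensorRightMap A g := by
  ext X
  simp [MonoidalPreadditive.whiskerLeft_add]

lemma tensorRightMap_smul {N N' : ModuleCat.{u} A} (a : A) (f : N ⟶ N') :
    tensorRightMap A (a • f) = a • tensorRightMap A f := by
  ext X
  simp [MonoidalLinear.whiskerLeft_smul]

variable {A}

/-- `f ↦ (K ⊗ f : K ⊗ N ⟶ K ⊗ N')` in `D(A)`, as an `A`-linear map. -/
noncomputable def twistMap (X : Dual.D A) (N N' : ModuleCat.{u} A) [Module.Flat A N]
    [Module.Flat A N'] :
    (N ⟶ N') →ₗ[A] ((tensorRight N).mapDerivedCategory.obj X ⟶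
      (tensorRight N').mapDerivedCategory.obj X) where
  toFun f := (ExactEquivD.mapDerivedCategoryNatTrans (tensorRightMap A f)).app X
  map_add' f g := by
    rw [tensorRightMap_add, ExactEquivD.mapDerivedCategoryNatTrans_add]
    rfl
  map_smul' a f := by
    rw [tensorRightMap_smul, ExactEquivD.mapDerivedCategoryNatTrans_smul A]
    rfl

lemma twistMap_id (X : Dual.D A) (N : ModuleCat.{u} A) [Module.Flat A N] :
    twistMap X N N (𝟙 N) = 𝟙 _ := by
  change (ExactEquivD.mapDerivedCategoryNatTrans (tensorRightMap A (𝟙 N))).app X = _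
  rw [tensorRightMap_id, ExactEquivD.mapDerivedCategoryNatTrans_id]
  rfl

lemma twistMap_comp (X : Dual.D A) (N N' N'' : ModuleCat.{u} A) [Module.Flat A N]
    [Module.Flat A N'] [Module.Flat A N''] (f : N ⟶ N') (g : N' ⟶ N'') :
    twistMap X N N'' (f ≫ g) = twistMap X N N' f ≫ twistMap X N' N'' g := by
  change (ExactEquivD.mapDerivedCategoryNatTrans (tensorRightMap A (f ≫ g))).app X = _
  rw [tensorRightMap_comp, ExactEquivD.mapDerivedCategoryNatTrans_comp]
  rfl

end twistMap

end Groth.Agent.Lib.Helper79.InvTwist
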