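import Groth.Agent.Lib.Helper79.InvTwist
import Groth.Agent.Lib.Helper35.IALib3

/-!
# Uniqueness of the invertible twist and shift of a dualizing complex (helper79)

* `psi_bijective` : for a finite projective module `Q` and `ω ∈ D(A)` with `A ≃ End(ω)`,
  `Q ≃ Hom(ω, ω ⊗ Q)`.
* `unique_twist` : `(ω ⊗^L P)[n] ≅ (ω ⊗^L P')[n']` forces `n = n'` and `P ≃ P'`.
-/

set_option autoImplicit false
set_option linter.unusedSectionVars false
universe u
open CategoryTheory CategoryTheory.Limits MonoidalCategory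
attribute [local instance] HasDerivedCategory.standard

namespace Groth.Agent.Lib.Helper79.InvTwist


variable {A : Type u} [CommRing A]

section homTwist

instance flat_unit : Module.Flat A (𝟙_ (ModuleCat.{u} A) : ModuleCat.{u} A) :=
  inferInstanceAs (Module.Flat A A)

/-- `K ⊗ A ≅ K` on `D(A)`. -/
noncomputable def unitTwistIso :
    (tensorRight (𝟙_ (ModuleCat.{u} A))).mapDerivedCategory ≅ 𝟭 (Dual.D A) :=
  ExactEquivD.mapDerivedCategoryNatIso (rightUnitorNatIso (ModuleCat.{u} A)) ≪≫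
    ExactEquivD.mapDerivedCategoryIdIso (ModuleCat.{u} A)

variable (Q : Type u) [AddCommGroup Q] [Module A Q]

/-- `q ↦ (a ↦ a • q)`, as a linear equivalence `Q ≃ (A ⟶ Q)`. -/
noncomputable def rEquiv : Q ≃ₗ[A] ((𝟙_ (ModuleCat.{u} A)) ⟶ ModuleCat.of A Q) :=
  (LinearMap.ringLmapEquivSelf A A Q).symm ≪≫ₗ
    (ModuleCat.homLinearEquiv (S := A) (M := ModuleCat.of A A) (N := ModuleCat.of A Q)).symm

lemma rEquiv_hom_apply (q : Q) (a : A) : ((rEquiv Q q).hom : A → Q) a = a • q := by
  rfl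


variable (Q : Type u) [AddCommGroup Q] [Module A Q] [Module.Finite A Q] [Module.Projective A Q]

/-- The comparison map `Q → Hom(ω, ω ⊗ Q)`. -/
noncomputable def psi (ω : Dual.D A) :
    Q →ₗ[A] (ω ⟶ (tensorRight (ModuleCat.of A Q)).mapDerivedCategory.obj ω) :=
  (Linear.leftComp A _ (unitTwistIso.inv.app ω)) ∘ₗ
    (twistMap ω (𝟙_ (ModuleCat.{u} A)) (ModuleCat.of A Q)) ∘ₗ (rEquiv Q).toLinearMap

lemma psi_apply (ω : Dual.D A) (q : Q) :
    psi Q ω q = unitTwistIso.inv.app ω ≫
      twistMap ω (𝟙_ (ModuleCat.{u} A)) (ModuleCat.of A Q) (rEquiv Q q) := rfl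

/-- dual basis data for a finite projective module. -/
lemma exists_dualBasis : ∃ (m : ℕ) (x : Fin m → Q) (φ : Fin m → (Q →ₗ[A] A)),
    ∀ q : Q, q = ∑ j, φ j q • x j := by
  obtain ⟨m, π, hπ⟩ := Module.Finite.exists_fin' A Q
  obtain ⟨ι, hι⟩ := Module.projective_lifting_property π LinearMap.id hπ
  refine ⟨m, fun j => π (Pi.single j 1), fun j => (LinearMap.proj j) ∘ₗ ι, fun q => ?_⟩
  have h1 : ι q = ∑ j, (ι q) j • (Pi.single j (1 : A) : Fin m → A) := by
    ext k
    simp [Finset.sum_apply, Pi.single_apply]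
  have h2 : π (ι q) = q := LinearMap.congr_fun hι q
  conv_lhs => rw [← h2, h1]
  simp [map_sum]

theorem psi_bijective (ω : Dual.D A) (hend : Function.Bijective (fun a : A => a • 𝟙 ω)) :
    Function.Bijective (psi Q ω) := by
  obtain ⟨m, x, φ, hxφ⟩ := exists_dualBasis (A := A) Q
  let U : ModuleCat.{u} A := 𝟙_ (ModuleCat.{u} A)
  let Qm : ModuleCat.{u} A := ModuleCat.of A Q
  let u : ω ≅ (tensorRight U).mapDerivedCategory.obj ω := (unitTwistIso.app ω).symm
  -- categorical form of the dual basis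
  have hid : 𝟙 Qm = ∑ j, (ModuleCat.ofHom (φ j) : Qm ⟶ U) ≫ rEquiv Q (x j) := by
    ext q
    have := hxφ q
    simp only [ModuleCat.hom_id, LinearMap.id_coe, id_eq, ModuleCat.hom_sum,
      LinearMap.coe_sum, Finset.sum_apply, ModuleCat.hom_comp, LinearMap.coe_comp,
      Function.comp_apply, ModuleCat.hom_ofHom]
    conv_lhs => rw [this]
    refine Finset.sum_congr rfl (fun j _ => ?_)
    exact (rEquiv_hom_apply Q (x j) (φ j q)).symm
  have hcomp : ∀ (q : Q) (j : Fin m),
      rEquiv Q q ≫ (ModuleCat.ofHom (φ j) : Qm ⟶ U) = (φ j q) • 𝟙 U := by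
    intro q j
    ext
    simp only [ModuleCat.hom_comp, LinearMap.coe_comp, Function.comp_apply, ModuleCat.hom_ofHom,
      ModuleCat.hom_smul, LinearMap.smul_apply]
    rw [rEquiv_hom_apply]
    simp only [smul_eq_mul, one_smul]
    exact (mul_one (φ j q)).symm
  constructor
  · -- injectivity
    rw [injective_iff_map_eq_zero]
    intro q hq
    have hz : ∀ j, φ j q = 0 := by
      intro j
      have h1 : psi Q ω q ≫ twistMap ω Qm U (ModuleCat.ofHom (φ j)) = (φ j q) • u.hom := by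
        rw [psi_apply, Category.assoc, ← twistMap_comp, hcomp, map_smul, twistMap_id]
        simp [u]
      rw [hq, zero_comp] at h1
      have h2 : (φ j q) • 𝟙 ω = (0 : A) • 𝟙 ω := by
        rw [zero_smul, ← u.hom_inv_id, ← Linear.smul_comp, ← h1, zero_comp]
      exact hend.1 h2
    rw [hxφ q]
    simp [hz]
  · -- surjectivity
    intro h
    have ha : ∀ j, ∃ a : A, a • 𝟙 ω = h ≫ twistMap ω Qm U (ModuleCat.ofHom (φ j)) ≫ u.inv :=
      fun j => hend.2 _
    choose a ha using ha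
    refine ⟨∑ j, a j • x j, ?_⟩
    have h1 : ∀ j, h ≫ twistMap ω Qm U (ModuleCat.ofHom (φ j)) = a j • u.hom := by
      intro j
      have := congrArg (fun t => t ≫ u.hom) (ha j)
      simp only [Category.assoc, Iso.inv_hom_id, Category.comp_id, Linear.smul_comp,
        Category.id_comp] at this
      exact this.symm
    calc psi Q ω (∑ j, a j • x j) = ∑ j, a j • psi Q ω (x j) := by
          simp [map_sum]
      _ = ∑ j, (a j • u.hom) ≫ twistMap ω U Qm (rEquiv Q (x j)) := by
          refine Finset.sum_congr rfl (fun j _ => ?_)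
          rw [psi_apply, Linear.smul_comp]
          rfl
      _ = ∑ j, h ≫ twistMap ω Qm U (ModuleCat.ofHom (φ j)) ≫
            twistMap ω U Qm (rEquiv Q (x j)) := by
          refine Finset.sum_congr rfl (fun j _ => ?_)
          rw [← h1 j, Category.assoc]
      _ = h ≫ twistMap ω Qm Qm (∑ j, (ModuleCat.ofHom (φ j) : Qm ⟶ U) ≫ rEquiv Q (x j)) := by
          rw [map_sum, Preadditive.comp_sum]
          refine Finset.sum_congr rfl (fun j _ => ?_)
          rw [twistMap_comp ω Qm U Qm]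
      _ = h := by
          rw [← hid, twistMap_id, Category.comp_id]

end homTwist


section degree

open DerivedCategory

variable (P : Type u) [AddCommGroup P] [Module A P] [Module.Invertible A P]

lemma subsingleton_tensor_iff (M : Type u) [AddCommGroup M] [Module A M] :
    Subsingleton (TensorProduct A M P) ↔ Subsingleton M := by
  constructor
  · intro h
    let e : TensorProduct A P (Module.Dual A P) ≃ₗ[A] A :=
      TensorProduct.comm A P (Module.Dual A P) ≪≫ₗ Module.Invertible.linearEquiv A P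
    have e2 := Module.Invertible.rightCancelEquiv (R := A) (M := P) (N := Module.Dual A P) M e
    exact e2.symm.toEquiv.subsingleton
  · intro h
    infer_instance

lemma HD_T_subsingleton_iff (K : Dual.D A) (i : ℤ) :
    Subsingleton (Dual.HD A ((T A P).obj K) i) ↔ Subsingleton (Dual.HD A K i) :=
  (homologyTEquiv P K i).toEquiv.subsingleton_congr.trans (subsingleton_tensor_iff P _)

/-- `H^i(K[n]) ≃ H^{i+n}(K)`. -/
noncomputable def HDShiftEquiv (K : Dual.D A) (n i : ℤ) :
    Dual.HD A (K⟦n⟧) i ≃ₗ[A] Dual.HD A K (i + n) :=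
  (((homologyFunctor (ModuleCat.{u} A) 0).shiftIso n i (i + n) (by omega)).app K).toLinearEquiv

lemma isLE_of_isDualizing {ω : Dual.D A} (hω : Dual.IsDualizing A ω) : ∃ b : ℤ, ω.IsLE b := by
  obtain ⟨a, b, hab⟩ := hω.finite_injective_dimension
  have h21 := (Groth.Agent.Lib.Helper35.KL.IA_tfae ω a b).out 1 0
  have hIA : Groth.Agent.Lib.Helper35.KL.IA a b ω :=
    h21.1 (fun (N : ModuleCat.{u} A) i hi => hab N i hi)
  exact ⟨b, hIA.isLE⟩

lemma exists_HD_nontrivial [Nontrivial A] {ω : Dual.D A} (hω : Dual.IsDualizing A ω) :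
    ∃ k : ℤ, ¬ Subsingleton (Dual.HD A ω k) := by
  by_contra hcon0
  have hcon : ∀ k : ℤ, Subsingleton (Dual.HD A ω k) :=
    fun k => not_not.1 (not_exists.1 hcon0 k)
  have h0 : IsIso (0 : ω ⟶ ω) := by
    rw [DerivedCategory.isIso_iff]
    intro n
    have := hcon n
    have hz : IsZero ((homologyFunctor (ModuleCat.{u} A) n).obj ω) :=
      ModuleCat.isZero_of_subsingleton _
    exact ⟨0, hz.eq_of_src _ _, hz.eq_of_src _ _⟩
  have h1 : 𝟙 ω = 0 := by
    have := IsIso.hom_inv_id (0 : ω ⟶ ω)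
    rw [zero_comp] at this
    exact this.symm
  have h2 : (1 : A) • 𝟙 ω = (0 : A) • 𝟙 ω := by rw [h1]; simp
  exact one_ne_zero (hω.toEnd_bijective.1 h2)

variable (P' : Type u) [AddCommGroup P'] [Module A P'] [Module.Invertible A P']

theorem shift_eq_of_iso [Nontrivial A] (ω : Dual.D A) (hω : Dual.IsDualizing A ω) (n n' : ℤ)
    (φ : ((T A P).obj ω)⟦n⟧ ≅ ((T A P').obj ω)⟦n'⟧) : n = n' := by
  have key : ∀ i : ℤ, Subsingleton (Dual.HD A ω (i + n)) ↔ Subsingleton (Dual.HD A ω (i + n')) := by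
    intro i
    rw [← HD_T_subsingleton_iff P ω (i + n), ← HD_T_subsingleton_iff P' ω (i + n')]
    exact ((HDShiftEquiv _ n i).symm.toEquiv.subsingleton_congr).trans
      ((((homologyFunctor (ModuleCat.{u} A) i).mapIso φ).toLinearEquiv.toEquiv.subsingleton_congr).trans
        ((HDShiftEquiv _ n' i).toEquiv.subsingleton_congr))
  obtain ⟨b, hb⟩ := isLE_of_isDualizing hω
  obtain ⟨k₀, hk₀⟩ := exists_HD_nontrivial hω
  have hbdd : ∀ k : ℤ, ¬ Subsingleton (Dual.HD A ω k) → k ≤ b := by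
    intro k hk
    by_contra hlt0
    have hlt : b < k := not_le.1 hlt0
    exact hk (ModuleCat.subsingleton_of_isZero (isZero_of_isLE ω b k hlt))
  obtain ⟨t, ht, hmax⟩ := Int.exists_greatest_of_bdd
    (P := fun k => ¬ Subsingleton (Dual.HD A ω k)) ⟨b, hbdd⟩ ⟨k₀, hk₀⟩
  by_contra hne
  rcases lt_or_gt_of_ne hne with hlt | hgt
  · -- n < n': t = (t - n) + n nontrivial → (t - n) + n' nontrivial, bigger than t
    have h1 := key (t - n)
    rw [show t - n + n = t by ring] at h1
    have h2 : ¬ Subsingleton (Dual.HD A ω (t - n + n')) := fun hs => ht (h1.2 hs)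
    have := hmax _ h2
    omega
  · have h1 := key (t - n')
    rw [show t - n' + n' = t by ring] at h1
    have h2 : ¬ Subsingleton (Dual.HD A ω (t - n' + n)) := fun hs => ht (h1.1 hs)
    have := hmax _ h2
    omega

theorem nonempty_linearEquiv_of_iso (ω : Dual.D A) (hω : Dual.IsDualizing A ω)
    (φ : (T A P).obj ω ≅ (T A P').obj ω) : Nonempty (P ≃ₗ[A] P') := by
  have e1 : P ≃ₗ[A] (ω ⟶ (T A P).obj ω) :=
    LinearEquiv.ofBijective (psi P ω) (psi_bijective P ω hω.toEnd_bijective)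
  have e2 : P' ≃ₗ[A] (ω ⟶ (T A P').obj ω) :=
    LinearEquiv.ofBijective (psi P' ω) (psi_bijective P' ω hω.toEnd_bijective)
  have e3 : (ω ⟶ (T A P).obj ω) ≃ₗ[A] (ω ⟶ (T A P').obj ω) :=
    LinearEquiv.ofLinearMap (Linear.rightComp A ω φ.hom) (Linear.rightComp A ω φ.inv)
      (by ext f; simp) (by ext f; simp)
  exact ⟨e1 ≪≫ₗ e3 ≪≫ₗ e2.symm⟩

/-- **Uniqueness of twist and shift.** -/
theorem unique_twist [Nontrivial A] (ω : Dual.D A) (hω : Dual.IsDualizing A ω)
    [DRing.HasLTensor A (ModuleCat.of A P)] [DRing.HasLTensor A (ModuleCat.of A P')] (n n' : ℤ)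
    (h : Nonempty (((DRing.LTensor A (ModuleCat.of A P)).obj ω)⟦n⟧ ≅
      ((DRing.LTensor A (ModuleCat.of A P')).obj ω)⟦n'⟧)) :
    n = n' ∧ Nonempty (P ≃ₗ[A] P') := by
  obtain ⟨h⟩ := h
  let φ : ((T A P).obj ω)⟦n⟧ ≅ ((T A P').obj ω)⟦n'⟧ :=
    (shiftFunctor (Dual.D A) n).mapIso ((ltensorIso A (ModuleCat.of A P)).app ω).symm ≪≫ h ≪≫
      (shiftFunctor (Dual.D A) n').mapIso ((ltensorIso A (ModuleCat.of A P')).app ω)
  have hn : n = n' := shift_eq_of_iso P P' ω hω n n' φ
  subst hn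
  exact ⟨rfl, nonempty_linearEquiv_of_iso P P' ω hω ((shiftFunctor (Dual.D A) n).preimageIso φ)⟩

end degree

end Groth.Agent.Lib.Helper79.InvTwist
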