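import Groth.Prelude.Def_W4c2quivmodsheafKron
import Mathlib

set_option autoImplicit false

namespace Groth.Agent.Lib.Helper79

open KronMod Module

variable {K : Type*} [Field K] {V W : Type*}
  [AddCommGroup V] [Module K V] [AddCommGroup W] [Module K W] {n : ℕ}

/-- the sum map `Vⁿ → W` -/
noncomputable def kSum (f : Fin n → (V →ₗ[K] W)) : (Fin n → V) →ₗ[K] W :=
  LinearMap.lsum K (fun _ => V) K f

/-- the product map `V → Wⁿ` -/
noncomputable def kPi (f : Fin n → (V →ₗ[K] W)) : V →ₗ[K] (Fin n → W) :=
  LinearMap.pi f

theorem kSum_apply (f : Fin n → (V →ₗ[K] W)) (v : Fin n → V) :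
    kSum f v = ∑ j, f j (v j) := by
  simp [kSum]

theorem kPi_apply (f : Fin n → (V →ₗ[K] W)) (v : V) (j : Fin n) :
    kPi f v j = f j v := rfl

theorem kSum_single (f : Fin n → (V →ₗ[K] W)) (j : Fin n) (v : V) :
    kSum f (Pi.single j v) = f j v := by
  unfold kSum
  exact LinearMap.lsum_piSingle K (fun _ => V) K f j v

theorem finrank_fun_eq [FiniteDimensional K V] : finrank K (Fin n → V) = n * finrank K V := by
  rw [Module.finrank_pi_fintype]; simp

/-- `(⊤, range kSum)` is a subrepresentation. -/
theorem isSubrep_top_range (f : Fin n → (V →ₗ[K] W)) :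
    IsSubrep f ⊤ (LinearMap.range (kSum f)) := by
  intro j
  rintro _ ⟨v, -, rfl⟩
  exact ⟨Pi.single j v, kSum_single f j v⟩

/-- `(ker kPi, ⊥)` is a subrepresentation. -/
theorem isSubrep_ker_bot (f : Fin n → (V →ₗ[K] W)) :
    IsSubrep f (LinearMap.ker (kPi f)) ⊥ := by
  intro j
  rintro _ ⟨v, hv, rfl⟩
  have : kPi f v = 0 := hv
  have h2 := congrFun this j
  simpa [kPi_apply] using h2

theorem finrank_range_kSum_le [FiniteDimensional K V] (f : Fin n → (V →ₗ[K] W)) :
    finrank K (LinearMap.range (kSum f)) ≤ n * finrank K V := by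
  rw [← finrank_fun_eq (K := K) (V := V) (n := n)]
  exact LinearMap.finrank_range_le _

theorem finrank_ker_kPi_ge [FiniteDimensional K V] [FiniteDimensional K W]
    (f : Fin n → (V →ₗ[K] W)) :
    finrank K V ≤ finrank K (LinearMap.ker (kPi f)) + n * finrank K W := by
  have h := LinearMap.finrank_range_add_finrank_ker (kPi f)
  have h2 : finrank K (LinearMap.range (kPi f)) ≤ n * finrank K W := by
    rw [← finrank_fun_eq (K := K) (V := W) (n := n)]
    exact Submodule.finrank_le _
  omega

/-- If `(V', W')` is a subrepresentation then `kSum` maps `V'ⁿ` into `W'`. -/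
theorem kSum_mem_of_isSubrep {f : Fin n → (V →ₗ[K] W)} {V' : Submodule K V} {W' : Submodule K W}
    (h : IsSubrep f V' W') (v : Fin n → V) (hv : ∀ j, v j ∈ V') : kSum f v ∈ W' := by
  rw [kSum_apply]
  exact Submodule.sum_mem _ fun j _ => h j ⟨v j, hv j, rfl⟩

/-- If `kSum f` is injective and `(V', W')` is a subrepresentation then `n * dim V' ≤ dim W'`. -/
theorem mul_finrank_le_of_kSum_injective [FiniteDimensional K V] [FiniteDimensional K W]
    {f : Fin n → (V →ₗ[K] W)} (hinj : Function.Injective (kSum f))
    {V' : Submodule K V} {W' : Submodule K W} (h : IsSubrep f V' W') :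
    n * finrank K V' ≤ finrank K W' := by
  -- the map (Fin n → V') → W'
  let g : (Fin n → V') →ₗ[K] W' :=
    LinearMap.codRestrict W' ((kSum f).comp (LinearMap.pi fun j => V'.subtype.comp (LinearMap.proj j)))
      (fun v => kSum_mem_of_isSubrep h _ fun j => (v j).2)
  have hg : Function.Injective g := by
    intro a b hab
    have h1 : kSum f (fun j => (a j : V)) = kSum f (fun j => (b j : V)) := by
      have := congrArg (Subtype.val) hab
      exact this
    have h2 := hinj h1
    funext j
    exact Subtype.ext (congrFun h2 j)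
  have := LinearMap.finrank_le_finrank_of_injective hg
  rwa [finrank_fun_eq] at this

/-- If `kPi f` is injective and `(V', W')` is a subrepresentation then `dim V' ≤ n * dim W'`. -/
theorem finrank_le_mul_of_kPi_injective [FiniteDimensional K V] [FiniteDimensional K W]
    {f : Fin n → (V →ₗ[K] W)} (hinj : Function.Injective (kPi f))
    {V' : Submodule K V} {W' : Submodule K W} (h : IsSubrep f V' W') :
    finrank K V' ≤ n * finrank K W' := by
  let g : V' →ₗ[K] (Fin n → W') :=
    LinearMap.pi fun j => LinearMap.codRestrict W' ((f j).comp V'.subtype)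
      (fun v => h j ⟨v, v.2, rfl⟩)
  have hg : Function.Injective g := by
    intro a b hab
    apply Subtype.ext
    apply hinj
    funext j
    have := congrArg Subtype.val (congrFun hab j)
    simpa [g, kPi_apply] using this
  have := LinearMap.finrank_le_finrank_of_injective hg
  rwa [finrank_fun_eq] at this

end Groth.Agent.Lib.Helper79
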