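import Mathlib
import Groth.Prelude.Def_HTor

set_option autoImplicit false
universe u
open CategoryTheory CategoryTheory.Limits Category

namespace Groth.Agent.Lib.Helper79.Kun

variable {R : Type u} [CommRing R] (K : CochainComplex (ModuleCat.{u} R) ℤ)

lemma iCycles_injective (i : ℤ) : Function.Injective (K.iCycles i).hom :=
  (ModuleCat.mono_iff_injective _).1 inferInstance

lemma homologyπ_surjective (i : ℤ) : Function.Surjective (K.homologyπ i).hom :=
  (ModuleCat.epi_iff_surjective _).1 inferInstance

lemma d_iCycles (i j : ℤ) (z : K.cycles i) : (K.d i j).hom ((K.iCycles i).hom z) = 0 := by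
  have := K.iCycles_d i j
  exact congr_arg (fun f => f.hom z) this

lemma iCycles_toCycles (i j : ℤ) (y : K.X i) :
    (K.iCycles j).hom ((K.toCycles i j).hom y) = (K.d i j).hom y := by
  have := K.toCycles_i i j
  exact congr_arg (fun f => f.hom y) this

lemma homologyπ_toCycles (i j : ℤ) (y : K.X i) :
    (K.homologyπ j).hom ((K.toCycles i j).hom y) = 0 := by
  have := K.toCycles_comp_homologyπ i j
  exact congr_arg (fun f => f.hom y) this

lemma exists_cycle (i j : ℤ) (hij : i + 1 = j) (x : K.X i) (hx : (K.d i j).hom x = 0) :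
    ∃ z : K.cycles i, (K.iCycles i).hom z = x := by
  let k : ModuleCat.of R R ⟶ K.X i := ModuleCat.ofHom (LinearMap.toSpanSingleton R _ x)
  have hk : k ≫ K.d i j = 0 := by
    ext
    simp [k, hx]
  refine ⟨(K.liftCycles k j (by simp [hij]) hk).hom (1 : R), ?_⟩
  have := K.liftCycles_i k j (by simp [hij]) hk
  have h2 := congr_arg (fun f => f.hom (1 : R)) this
  change (K.iCycles i).hom ((K.liftCycles k j _ hk).hom (1 : R)) = k.hom (1 : R) at h2
  rw [h2]
  simp [k]

lemma exists_of_homologyπ_eq_zero (i j : ℤ) (hij : i + 1 = j) (z : K.cycles j)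
    (hz : (K.homologyπ j).hom z = 0) : ∃ y : K.X i, (K.toCycles i j).hom y = z := by
  have hex : (ShortComplex.mk (K.toCycles i j) (K.homologyπ j)
      (K.toCycles_comp_homologyπ i j)).Exact :=
    ShortComplex.exact_of_g_is_cokernel _ (K.homologyIsCokernel i j (by simp [← hij]))
  have := (ShortComplex.moduleCat_exact_iff_range_eq_ker _).1 hex
  have hz' : z ∈ LinearMap.ker (K.homologyπ j).hom := hz
  rw [← this] at hz'
  exact hz'

end Groth.Agent.Lib.Helper79.Kun

namespace Groth.Agent.Lib.Helper79.Kun

variable {R : Type u} [CommRing R] (K : CochainComplex (ModuleCat.{u} R) ℤ)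

lemma exact_toCycles_homologyπ (i j : ℤ) (hij : i + 1 = j) :
    Function.Exact (K.toCycles i j).hom (K.homologyπ j).hom := by
  have hex : (ShortComplex.mk (K.toCycles i j) (K.homologyπ j)
      (K.toCycles_comp_homologyπ i j)).Exact :=
    ShortComplex.exact_of_g_is_cokernel _ (K.homologyIsCokernel i j (by simp [← hij]))
  exact (ShortComplex.ShortExact.moduleCat_exact_iff_function_exact _).1 hex

end Groth.Agent.Lib.Helper79.Kun
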