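import Mathlib
import Groth.Prelude.Def_HTor
import Groth.Agent.Lib.Helper79.KunElem
import Groth.Agent.Lib.Helper28.TensCx2

set_option autoImplicit false
universe u
open CategoryTheory CategoryTheory.Limits Category MonoidalCategory
open Groth.Agent.Lib.Helper28

namespace Groth.Agent.Lib.Helper79.Kun

variable {R : Type u} [CommRing R] (L M : DRing.Cx R)

/-- `Z^i(L) ⊗ Z^j(M) → (L ⊗ M)^n`. -/
noncomputable def cycTens (i j n : ℤ) (h : i + j = n) :
    TensorProduct R (L.cycles i) (M.cycles j) →ₗ[R] ((L ⊗ M).X n : ModuleCat.{u} R) :=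
  (TensCx.ι L M i j n h).hom ∘ₗ TensorProduct.map (L.iCycles i).hom (M.iCycles j).hom

lemma cycTens_tmul (i j n : ℤ) (h : i + j = n) (z : L.cycles i) (z' : M.cycles j) :
    cycTens L M i j n h (z ⊗ₜ z') =
      (TensCx.ι L M i j n h).hom ((L.iCycles i).hom z ⊗ₜ[R] (M.iCycles j).hom z') := rfl

/-- the differential on a pure tensor. -/
lemma d_ι_tmul (i j n n' : ℤ) (h : i + j = n) (hn' : n + 1 = n') (a : L.X i) (b : M.X j) :
    ((L ⊗ M).d n n').hom ((TensCx.ι L M i j n h).hom (a ⊗ₜ[R] b)) =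
      (TensCx.ι L M (i + 1) j n' (by omega)).hom ((L.d i (i + 1)).hom a ⊗ₜ[R] b) +
        i.negOnePow • (TensCx.ι L M i (j + 1) n' (by omega)).hom (a ⊗ₜ[R] (M.d j (j + 1)).hom b) := by
  have := TensCx.ι_d L M i (i + 1) j (j + 1) n n' h hn' rfl rfl
  have h2 := congr_arg (fun f => f.hom (a ⊗ₜ[R] b)) this
  exact h2


lemma d_cycTens (i j n n' : ℤ) (h : i + j = n) (hn' : n + 1 = n')
    (t : TensorProduct R (L.cycles i) (M.cycles j)) :
    ((L ⊗ M).d n n').hom (cycTens L M i j n h t) = 0 := by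
  induction t using TensorProduct.induction_on with
  | zero => simp
  | tmul z z' =>
    rw [cycTens_tmul, d_ι_tmul L M i j n n' h hn', d_iCycles, d_iCycles]
    simp
  | add x y hx hy => rw [map_add, map_add, hx, hy, add_zero]

/-- the lift of `cycTens` to cycles. -/
noncomputable def cycLift (i j n : ℤ) (h : i + j = n) :
    ModuleCat.of R (TensorProduct R (L.cycles i) (M.cycles j)) ⟶ (L ⊗ M).cycles n :=
  (L ⊗ M).liftCycles (ModuleCat.ofHom (cycTens L M i j n h)) (n + 1) (by simp) (by
    apply ModuleCat.hom_ext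
    apply LinearMap.ext
    intro t
    exact d_cycTens L M i j n (n + 1) h rfl t)

lemma iCycles_cycLift (i j n : ℤ) (h : i + j = n) (t : TensorProduct R (L.cycles i) (M.cycles j)) :
    ((L ⊗ M).iCycles n).hom ((cycLift L M i j n h).hom t) = cycTens L M i j n h t := by
  have := (L ⊗ M).liftCycles_i (ModuleCat.ofHom (cycTens L M i j n h)) (n + 1) (by simp) (by
    apply ModuleCat.hom_ext
    apply LinearMap.ext
    intro t
    exact d_cycTens L M i j n (n + 1) h rfl t)
  exact congr_arg (fun f => f.hom t) this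

/-- `Z^i(L) ⊗ Z^j(M) → H^n(L ⊗ M)`. -/
noncomputable def preKun (i j n : ℤ) (h : i + j = n) :
    TensorProduct R (L.cycles i) (M.cycles j) →ₗ[R] ((L ⊗ M).homology n : ModuleCat.{u} R) :=
  ((L ⊗ M).homologyπ n).hom ∘ₗ (cycLift L M i j n h).hom

lemma preKun_eq (i j n : ℤ) (h : i + j = n) (t : TensorProduct R (L.cycles i) (M.cycles j))
    (w : (L ⊗ M).cycles n) (hw : ((L ⊗ M).iCycles n).hom w = cycTens L M i j n h t) :
    preKun L M i j n h t = ((L ⊗ M).homologyπ n).hom w := by
  have : (cycLift L M i j n h).hom t = w := by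
    apply iCycles_injective
    rw [iCycles_cycLift, hw]
  change ((L ⊗ M).homologyπ n).hom ((cycLift L M i j n h).hom t) = _
  rw [this]

lemma preKun_eq_zero_of_boundary (i j n m : ℤ) (h : i + j = n) (_hm : m + 1 = n)
    (t : TensorProduct R (L.cycles i) (M.cycles j)) (v : (L ⊗ M).X m)
    (hv : ((L ⊗ M).d m n).hom v = cycTens L M i j n h t) : preKun L M i j n h t = 0 := by
  rw [preKun_eq L M i j n h t (((L ⊗ M).toCycles m n).hom v) (by rw [iCycles_toCycles, hv]),
    homologyπ_toCycles]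

lemma preKun_tmul_toCycles (i j j' n : ℤ) (h : i + j = n) (hj : j' + 1 = j) (z : L.cycles i)
    (y : M.X j') : preKun L M i j n h (z ⊗ₜ (M.toCycles j' j).hom y) = 0 := by
  apply preKun_eq_zero_of_boundary L M i j n (n - 1) h (by omega) _
    (((i.negOnePow : ℤˣ) : ℤ) •
      (TensCx.ι L M i j' (n - 1) (by omega)).hom ((L.iCycles i).hom z ⊗ₜ[R] y))
  rw [map_zsmul, d_ι_tmul L M i j' (n - 1) n (by omega) (by omega), d_iCycles, cycTens_tmul,
    iCycles_toCycles]
  obtain rfl : j' + 1 = j := hj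
  rw [TensorProduct.zero_tmul, map_zero, zero_add, Units.smul_def, smul_smul,
    Int.units_coe_mul_self, one_smul]

lemma preKun_toCycles_tmul (i i' j n : ℤ) (h : i + j = n) (hi : i' + 1 = i) (y : L.X i')
    (z' : M.cycles j) : preKun L M i j n h ((L.toCycles i' i).hom y ⊗ₜ z') = 0 := by
  apply preKun_eq_zero_of_boundary L M i j n (n - 1) h (by omega) _
    ((TensCx.ι L M i' j (n - 1) (by omega)).hom (y ⊗ₜ[R] (M.iCycles j).hom z'))
  rw [d_ι_tmul L M i' j (n - 1) n (by omega) (by omega), d_iCycles, cycTens_tmul,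
    iCycles_toCycles]
  obtain rfl : i' + 1 = i := hi
  simp


lemma ker_le_ker_preKun (i j n : ℤ) (h : i + j = n) :
    LinearMap.ker (TensorProduct.map (L.homologyπ i).hom (M.homologyπ j).hom) ≤
      LinearMap.ker (preKun L M i j n h) := by
  rw [TensorProduct.map_ker (exact_toCycles_homologyπ L (i - 1) i (by omega))
    (homologyπ_surjective L i) (exact_toCycles_homologyπ M (j - 1) j (by omega))
    (homologyπ_surjective M j)]
  refine sup_le ?_ ?_
  · rintro _ ⟨t, rfl⟩
    rw [LinearMap.mem_ker]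
    induction t using TensorProduct.induction_on with
    | zero => simp
    | tmul z y =>
      rw [LinearMap.lTensor_tmul]
      exact preKun_tmul_toCycles L M i j (j - 1) n h (by omega) z y
    | add x y hx hy => rw [map_add, map_add, hx, hy, add_zero]
  · rintro _ ⟨t, rfl⟩
    rw [LinearMap.mem_ker]
    induction t using TensorProduct.induction_on with
    | zero => simp
    | tmul y z' =>
      rw [LinearMap.rTensor_tmul]
      exact preKun_toCycles_tmul L M i (i - 1) j n h (by omega) y z'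
    | add x y hx hy => rw [map_add, map_add, hx, hy, add_zero]

lemma map_π_surjective (i j : ℤ) :
    Function.Surjective (TensorProduct.map (L.homologyπ i).hom (M.homologyπ j).hom) :=
  TensorProduct.map_surjective (homologyπ_surjective L i) (homologyπ_surjective M j)

/-- the component `H^i(L) ⊗ H^j(M) → H^n(L ⊗ M)` of the Künneth map. -/
noncomputable def kunComp (i j n : ℤ) (h : i + j = n) :
    TensorProduct R (L.homology i) (M.homology j) →ₗ[R] ((L ⊗ M).homology n : ModuleCat.{u} R) :=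
  (Submodule.liftQ _ (preKun L M i j n h) (ker_le_ker_preKun L M i j n h)) ∘ₗ
    (LinearMap.quotKerEquivOfSurjective _ (map_π_surjective L M i j)).symm.toLinearMap

lemma kunComp_map (i j n : ℤ) (h : i + j = n) (t : TensorProduct R (L.cycles i) (M.cycles j)) :
    kunComp L M i j n h (TensorProduct.map (L.homologyπ i).hom (M.homologyπ j).hom t) =
      preKun L M i j n h t := by
  have : (LinearMap.quotKerEquivOfSurjective _ (map_π_surjective L M i j)).symm
      (TensorProduct.map (L.homologyπ i).hom (M.homologyπ j).hom t) =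
        Submodule.Quotient.mk t := by
    rw [LinearEquiv.symm_apply_eq]
    rfl
  change Submodule.liftQ _ (preKun L M i j n h) (ker_le_ker_preKun L M i j n h)
    ((LinearMap.quotKerEquivOfSurjective _ (map_π_surjective L M i j)).symm _) = _
  rw [this, Submodule.liftQ_apply]

/-- the Künneth map. -/
noncomputable def kun (n : ℤ) :
    HTor.KunnethSum L M n →ₗ[R] ((HTor.tensorCx L M).homology n : ModuleCat.{u} R) :=
  DirectSum.toModule R _ _ (fun ij => kunComp L M ij.1.1 ij.1.2 n ij.2)

lemma kun_lof (n : ℤ) (ij : HTor.Antidiag n)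
    (t : TensorProduct R (L.homology ij.1.1) (M.homology ij.1.2)) :
    kun L M n (DirectSum.lof R (HTor.Antidiag n) _ ij t) = kunComp L M ij.1.1 ij.1.2 n ij.2 t := by
  unfold kun
  rw [DirectSum.toModule_lof]

lemma kun_lof_map (n : ℤ) (ij : HTor.Antidiag n)
    (t : TensorProduct R (L.cycles ij.1.1) (M.cycles ij.1.2)) :
    kun L M n (DirectSum.lof R (HTor.Antidiag n) _ ij
      (TensorProduct.map (L.homologyπ ij.1.1).hom (M.homologyπ ij.1.2).hom t)) =
      preKun L M ij.1.1 ij.1.2 n ij.2 t := by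
  rw [kun_lof, kunComp_map]

theorem isKunnethMap_kun (n : ℤ) : HTor.IsKunnethMap L M n (kun L M n) := by
  intro ij z z' w hw
  have := kun_lof_map L M n ij (z ⊗ₜ z')
  rw [TensorProduct.map_tmul] at this
  rw [this]
  exact preKun_eq L M ij.1.1 ij.1.2 n ij.2 _ w hw

theorem eq_kun_of_isKunnethMap (n : ℤ)
    (Φ : HTor.KunnethSum L M n →ₗ[R] ((HTor.tensorCx L M).homology n : ModuleCat.{u} R))
    (hΦ : HTor.IsKunnethMap L M n Φ) : Φ = kun L M n := by
  apply DirectSum.linearMap_ext
  intro ij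
  apply TensorProduct.ext'
  intro x y
  obtain ⟨z, rfl⟩ := homologyπ_surjective L ij.1.1 x
  obtain ⟨z', rfl⟩ := homologyπ_surjective M ij.1.2 y
  rw [LinearMap.comp_apply, LinearMap.comp_apply]
  have h1 := hΦ ij z z' ((cycLift L M ij.1.1 ij.1.2 n ij.2).hom (z ⊗ₜ z'))
    (iCycles_cycLift L M ij.1.1 ij.1.2 n ij.2 (z ⊗ₜ z'))
  have h2 := isKunnethMap_kun L M n ij z z' ((cycLift L M ij.1.1 ij.1.2 n ij.2).hom (z ⊗ₜ z'))
    (iCycles_cycLift L M ij.1.1 ij.1.2 n ij.2 (z ⊗ₜ z'))
  rw [h1, h2]


variable {M} {M' : DRing.Cx R}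

/-- functoriality of the Künneth sum in the second variable. -/
noncomputable def kunSumMap (f : M ⟶ M') (n : ℤ) :
    HTor.KunnethSum L M n →ₗ[R] HTor.KunnethSum L M' n :=
  DirectSum.lmap (fun ij => TensorProduct.map LinearMap.id
    (HomologicalComplex.homologyMap f ij.1.2).hom)

lemma iCycles_cyclesMap (f : M ⟶ M') (j : ℤ) (z : M.cycles j) :
    (M'.iCycles j).hom ((HomologicalComplex.cyclesMap f j).hom z) =
      (f.f j).hom ((M.iCycles j).hom z) := by
  have := HomologicalComplex.cyclesMap_i f j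
  exact congr_arg (fun g => g.hom z) this

lemma homologyMap_homologyπ (f : M ⟶ M') (j : ℤ) (z : M.cycles j) :
    (HomologicalComplex.homologyMap f j).hom ((M.homologyπ j).hom z) =
      (M'.homologyπ j).hom ((HomologicalComplex.cyclesMap f j).hom z) := by
  have := HomologicalComplex.homologyπ_naturality f j
  exact congr_arg (fun g => g.hom z) this

theorem kun_naturality (f : M ⟶ M') (n : ℤ) (t : HTor.KunnethSum L M n) :
    (HomologicalComplex.homologyMap (L ◁ f) n).hom (kun L M n t) =
      kun L M' n (kunSumMap L f n t) := by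
  suffices h : (HomologicalComplex.homologyMap (L ◁ f) n).hom ∘ₗ kun L M n =
      kun L M' n ∘ₗ kunSumMap L f n from congr_arg (fun g => g t) h
  apply DirectSum.linearMap_ext
  intro ij
  apply TensorProduct.ext'
  intro x y
  obtain ⟨z, rfl⟩ := homologyπ_surjective L ij.1.1 x
  obtain ⟨z', rfl⟩ := homologyπ_surjective M ij.1.2 y
  simp only [LinearMap.comp_apply]
  have hw := iCycles_cycLift L M ij.1.1 ij.1.2 n ij.2 (z ⊗ₜ z')
  rw [isKunnethMap_kun L M n ij z z' _ hw]
  have h1 : kunSumMap L f n (DirectSum.lof R (HTor.Antidiag n) _ ij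
      ((L.homologyπ ij.1.1).hom z ⊗ₜ[R] (M.homologyπ ij.1.2).hom z')) =
      DirectSum.lof R (HTor.Antidiag n) _ ij ((L.homologyπ ij.1.1).hom z ⊗ₜ[R]
        (M'.homologyπ ij.1.2).hom ((HomologicalComplex.cyclesMap f ij.1.2).hom z')) := by
    unfold kunSumMap
    rw [DirectSum.lmap_lof, TensorProduct.map_tmul, homologyMap_homologyπ]
    rfl
  rw [h1]
  change (HomologicalComplex.homologyMap (L ◁ f) n).hom (((L ⊗ M).homologyπ n).hom _) = _
  rw [homologyMap_homologyπ]
  symm
  apply isKunnethMap_kun L M' n ij z ((HomologicalComplex.cyclesMap f ij.1.2).hom z')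
  rw [iCycles_cyclesMap, hw, cycTens_tmul, iCycles_cyclesMap]
  exact (TensCx.isDiag_whiskerLeft L f n).ι_apply ij.1.1 ij.1.2 ij.2 _

end Groth.Agent.Lib.Helper79.Kun
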