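import Mathlib
import Groth.Prelude.Def_HTor
import Groth.Agent.Lib.Helper79.KunMap
import Groth.Agent.Lib.Helper28.TensCx6

set_option autoImplicit false
universe u
open CategoryTheory CategoryTheory.Limits Category MonoidalCategory
open Groth.Agent.Lib.Helper28

namespace Groth.Agent.Lib.Helper79.Kun

variable {R : Type u} [CommRing R] (L P : DRing.Cx R)

lemma exact_iCycles_d (i j : ℤ) (hij : i + 1 = j) :
    Function.Exact (L.iCycles i).hom (L.d i j).hom := by
  intro x
  constructor
  · intro hx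
    exact exists_cycle L i j hij x hx
  · rintro ⟨z, rfl⟩
    exact d_iCycles L i j z

/-- `proj (d x)` when the second complex has zero differential. -/
lemma proj_d_of_d_eq_zero (hd : ∀ i j, P.d i j = 0) (p p' q n n' : ℤ) (h : p' + q = n')
    (hn' : n + 1 = n') (hp' : p + 1 = p') (x : (L ⊗ P).X n) :
    (TensCx.proj L P p' q n' h).hom (((L ⊗ P).d n n').hom x) =
      (L.d p p' ▷ P.X q).hom ((TensCx.proj L P p q n (by omega)).hom x) := by
  have := TensCx.d_proj L P p p' (q - 1) q n n' h hn' hp' (by omega)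
  rw [hd, MonoidalPreadditive.whiskerLeft_zero, comp_zero, smul_zero, add_zero] at this
  exact congr_arg (fun f => f.hom x) this


lemma iCycles_bijective_of_d_eq_zero (hd : ∀ i j, P.d i j = 0) (j : ℤ) :
    Function.Bijective (P.iCycles j).hom :=
  ⟨iCycles_injective P j, fun x => exists_cycle P j (j + 1) rfl x (by rw [hd]; rfl)⟩

lemma exists_cyc_of_d_eq_zero (hd : ∀ i j, P.d i j = 0) (p q : ℤ) [Module.Flat R (P.X q)]
    (y : (L.X p ⊗ P.X q : ModuleCat.{u} R)) (hy : (L.d p (p + 1) ▷ P.X q).hom y = 0) :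
    ∃ u : TensorProduct R (L.cycles p) (P.cycles q),
      TensorProduct.map (L.iCycles p).hom (P.iCycles q).hom u = y := by
  rw [ModuleCat.hom_whiskerRight] at hy
  obtain ⟨u₀, hu₀⟩ := (Module.Flat.rTensor_exact (P.X q) (exact_iCycles_d L p (p + 1) rfl) y).1 hy
  obtain ⟨u, hu⟩ := LinearMap.lTensor_surjective (L.cycles p)
    (iCycles_bijective_of_d_eq_zero P hd q).2 u₀
  refine ⟨u, ?_⟩
  rw [← hu₀, ← hu, ← LinearMap.rTensor_comp_lTensor]
  rfl

theorem kun_surjective_of_d_eq_zero (hd : ∀ i j, P.d i j = 0)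
    (hflat : ∀ j, Module.Flat R (P.X j)) (n : ℤ) : Function.Surjective (kun L P n) := by
  intro c
  obtain ⟨w, rfl⟩ := homologyπ_surjective (L ⊗ P) n c
  set x := ((L ⊗ P).iCycles n).hom w with hx
  have hdx : ((L ⊗ P).d n (n + 1)).hom x = 0 := d_iCycles _ n (n + 1) w
  have hcomp : ∀ p : ℤ, ∃ u : TensorProduct R (L.cycles p) (P.cycles (n - p)),
      TensorProduct.map (L.iCycles p).hom (P.iCycles (n - p)).hom u =
        (TensCx.proj L P p (n - p) n (by omega)).hom x := by
    intro p
    have := hflat (n - p)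
    apply exists_cyc_of_d_eq_zero L P hd
    rw [← proj_d_of_d_eq_zero L P hd p (p + 1) (n - p) n (n + 1) (by omega) rfl rfl, hdx, map_zero]
  choose u hu using hcomp
  obtain ⟨s, _, hs⟩ := TensCx.exists_finset_sum L P n x
  refine ⟨∑ p ∈ s, DirectSum.lof R (HTor.Antidiag n) _ ⟨(p, n - p), by simp⟩
    (TensorProduct.map (L.homologyπ p).hom (P.homologyπ (n - p)).hom (u p)), ?_⟩
  rw [map_sum]
  have h1 : ∀ p ∈ s, kun L P n (DirectSum.lof R (HTor.Antidiag n) _ ⟨(p, n - p), by simp⟩
      (TensorProduct.map (L.homologyπ p).hom (P.homologyπ (n - p)).hom (u p))) =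
      ((L ⊗ P).homologyπ n).hom ((cycLift L P p (n - p) n (by omega)).hom (u p)) := by
    intro p _
    exact kun_lof_map L P n ⟨(p, n - p), by simp⟩ (u p)
  rw [Finset.sum_congr rfl h1, ← map_sum]
  congr 1
  apply iCycles_injective
  rw [map_sum, ← hx, hs]
  refine Finset.sum_congr rfl (fun p _ => ?_)
  rw [iCycles_cycLift, ← hu p]
  rfl


lemma map_π_eq_zero_of_d_eq_zero (hd : ∀ i j, P.d i j = 0) (p' p q : ℤ)
    [Module.Flat R (P.X q)]
    (u : TensorProduct R (L.cycles p) (P.cycles q)) (v₀ : (L.X p' ⊗ P.X q : ModuleCat.{u} R))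
    (h : TensorProduct.map (L.iCycles p).hom (P.iCycles q).hom u = (L.d p' p ▷ P.X q).hom v₀) :
    TensorProduct.map (L.homologyπ p).hom (P.homologyπ q).hom u = 0 := by
  let e : (P.cycles q) ≃ₗ[R] (P.X q) :=
    LinearEquiv.ofBijective (P.iCycles q).hom (iCycles_bijective_of_d_eq_zero P hd q)
  let e' : (P.X q) →ₗ[R] (P.homology q) := (P.homologyπ q).hom ∘ₗ e.symm.toLinearMap
  have hπ : (P.homologyπ q).hom = e' ∘ₗ (P.iCycles q).hom := by
    ext z
    simp only [e', LinearMap.comp_apply]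
    congr 1
    exact (e.symm_apply_apply z).symm
  have hd' : (L.d p' p).hom = (L.iCycles p).hom ∘ₗ (L.toCycles p' p).hom := by
    ext y
    exact (iCycles_toCycles L p' p y).symm
  have h1 : LinearMap.lTensor (L.cycles p) (P.iCycles q).hom u =
      LinearMap.rTensor (P.X q) (L.toCycles p' p).hom v₀ := by
    apply Module.Flat.rTensor_preserves_injective_linearMap (M := P.X q) (L.iCycles p).hom
      (iCycles_injective L p)
    rw [← LinearMap.comp_apply, LinearMap.rTensor_comp_lTensor, h, ModuleCat.hom_whiskerRight, hd',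
      LinearMap.rTensor_comp]
    rfl
  have h2 : TensorProduct.map (L.homologyπ p).hom (P.iCycles q).hom u = 0 := by
    rw [← LinearMap.rTensor_comp_lTensor, LinearMap.comp_apply, h1, ← LinearMap.comp_apply,
      ← LinearMap.rTensor_comp]
    have : (L.homologyπ p).hom ∘ₗ (L.toCycles p' p).hom = 0 := by
      ext y
      exact homologyπ_toCycles L p' p y
    rw [this, LinearMap.rTensor_zero]
    rfl
  have h3 : TensorProduct.map (L.homologyπ p).hom (P.homologyπ q).hom =
      (LinearMap.lTensor (L.homology p) e') ∘ₗ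
        TensorProduct.map (L.homologyπ p).hom (P.iCycles q).hom := by
    rw [hπ, LinearMap.lTensor, ← TensorProduct.map_comp, LinearMap.id_comp]
  rw [h3, LinearMap.comp_apply, h2, map_zero]


theorem kun_injective_of_d_eq_zero (hd : ∀ i j, P.d i j = 0)
    (hflat : ∀ j, Module.Flat R (P.X j)) (n : ℤ) : Function.Injective (kun L P n) := by
  classical
  rw [injective_iff_map_eq_zero]
  intro t ht
  choose u hu using fun ij : HTor.Antidiag n => map_π_surjective L P ij.1.1 ij.1.2 (t ij)
  have hsum : t = ∑ ij ∈ DFinsupp.support t, DirectSum.lof R (HTor.Antidiag n) _ ij (t ij) := by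
    conv_lhs => rw [← DirectSum.sum_support_of t]
    rfl
  set S := DFinsupp.support t with hS
  set W := ∑ ij ∈ S, (cycLift L P ij.1.1 ij.1.2 n ij.2).hom (u ij) with hW
  have hkun : kun L P n t = ((L ⊗ P).homologyπ n).hom W := by
    rw [hsum, map_sum, hW, map_sum]
    refine Finset.sum_congr rfl (fun ij _ => ?_)
    rw [← hu ij]
    exact kun_lof_map L P n ij (u ij)
  rw [hkun] at ht
  obtain ⟨v, hv⟩ := exists_of_homologyπ_eq_zero (L ⊗ P) (n - 1) n (by omega) W ht
  have hiW : ((L ⊗ P).iCycles n).hom W = ((L ⊗ P).d (n - 1) n).hom v := by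
    rw [← hv, iCycles_toCycles]
  apply DFinsupp.ext
  intro ij₀
  by_cases hmem : ij₀ ∈ S
  · have hproj : (TensCx.proj L P ij₀.1.1 ij₀.1.2 n ij₀.2).hom (((L ⊗ P).iCycles n).hom W) =
        TensorProduct.map (L.iCycles ij₀.1.1).hom (P.iCycles ij₀.1.2).hom (u ij₀) := by
      rw [hW, map_sum, map_sum, Finset.sum_eq_single ij₀]
      · rw [iCycles_cycLift]
        change (TensCx.ι L P ij₀.1.1 ij₀.1.2 n ij₀.2 ≫
          TensCx.proj L P ij₀.1.1 ij₀.1.2 n ij₀.2).hom _ = _
        rw [TensCx.ι_proj_self]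
        rfl
      · intro ij _ hne
        rw [iCycles_cycLift]
        change (TensCx.ι L P ij.1.1 ij.1.2 n ij.2 ≫
          TensCx.proj L P ij₀.1.1 ij₀.1.2 n ij₀.2).hom _ = _
        rw [TensCx.ι_proj_ne L P ij.1.1 ij.1.2 ij₀.1.1 ij₀.1.2 n ij.2 ij₀.2 (by
          intro h1
          apply hne
          have h2 := ij.2
          have h3 := ij₀.2
          apply Subtype.ext
          apply Prod.ext h1
          omega)]
        rfl
      · intro h; exact absurd hmem h
    rw [hiW, proj_d_of_d_eq_zero L P hd (ij₀.1.1 - 1) ij₀.1.1 ij₀.1.2 (n - 1) n ij₀.2 (by omega)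
      (by omega)] at hproj
    have := hflat ij₀.1.2
    have key := map_π_eq_zero_of_d_eq_zero L P hd (ij₀.1.1 - 1) ij₀.1.1 ij₀.1.2 (u ij₀) _
      hproj.symm
    rw [hu ij₀] at key
    exact key
  · exact DFinsupp.notMem_support_iff.1 hmem

theorem kun_bijective_of_d_eq_zero (hd : ∀ i j, P.d i j = 0)
    (hflat : ∀ j, Module.Flat R (P.X j)) (n : ℤ) : Function.Bijective (kun L P n) :=
  ⟨kun_injective_of_d_eq_zero L P hd hflat n, kun_surjective_of_d_eq_zero L P hd hflat n⟩

end Groth.Agent.Lib.Helper79.Kun
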