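import Mathlib
import Groth.Prelude.Def_HTor
import Groth.Agent.Lib.Helper79.KunZero

set_option autoImplicit false
universe u
open CategoryTheory CategoryTheory.Limits Category MonoidalCategory
open Groth.Agent.Lib.Helper28

namespace Groth.Agent.Lib.Helper79.Kun

variable {R : Type u} [CommRing R] (M : DRing.Cx R) (b : ℤ)

/-- free module on the cycles of degree `j` (zero for `j > b`). -/
abbrev FF (j : ℤ) : Type u := {_z : M.cycles j // j ≤ b} →₀ R

/-- free module on `M.X (k - 1)` (zero for `k > b`). -/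
abbrev HH (k : ℤ) : Type u := {_m : M.X (k - 1) // k ≤ b} →₀ R

noncomputable def zeta (j : ℤ) : FF M b j →ₗ[R] M.X j :=
  (M.iCycles j).hom ∘ₗ Finsupp.linearCombination R (fun z => z.1)

noncomputable def kappa (j : ℤ) : HH M b (j + 1) →ₗ[R] M.X j :=
  Finsupp.linearCombination R
    (fun m => (M.XIsoOfEq (show j + 1 - 1 = j by omega)).hom.hom m.1)

noncomputable def lam (j : ℤ) : HH M b j →ₗ[R] M.X j :=
  Finsupp.linearCombination R (fun m => (M.d (j - 1) j).hom m.1)

lemma d_zeta (i j : ℤ) (x : FF M b i) : (M.d i j).hom (zeta M b i x) = 0 :=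
  d_iCycles M i j _

lemma d_lam (i j : ℤ) : (M.d i j).hom ∘ₗ lam M b i = 0 := by
  apply Finsupp.lhom_ext'
  intro m
  apply LinearMap.ext_ring
  simp only [lam, LinearMap.comp_apply, Finsupp.lsingle_apply, Finsupp.linearCombination_single,
    one_smul, LinearMap.zero_apply]
  have := M.d_comp_d (i - 1) i j
  exact congr_arg (fun f => f.hom m.1) this

lemma d_kappa (j : ℤ) : (M.d j (j + 1)).hom ∘ₗ kappa M b j = lam M b (j + 1) := by
  apply Finsupp.lhom_ext'
  intro m
  apply LinearMap.ext_ring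
  simp only [lam, kappa, LinearMap.comp_apply, Finsupp.lsingle_apply,
    Finsupp.linearCombination_single, one_smul]
  have := M.XIsoOfEq_hom_comp_d (show j + 1 - 1 = j by omega) (j + 1)
  exact congr_arg (fun f => f.hom m.1) this


/-- the complex with zero differential on the free modules `FF`. -/
noncomputable def P1 : DRing.Cx R where
  X j := ModuleCat.of R (FF M b j)
  d _ _ := 0
  shape _ _ _ := rfl
  d_comp_d' _ _ _ _ _ := by simp

lemma P1_d (i j : ℤ) : (P1 M b).d i j = 0 := rfl

/-- the chain map `P1 ⟶ M`. -/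
noncomputable def eps1 : P1 M b ⟶ M where
  f j := ModuleCat.ofHom (zeta M b j)
  comm' i j _ := by
    apply ModuleCat.hom_ext
    apply LinearMap.ext
    intro x
    exact (d_zeta M b i j x).trans (map_zero (zeta M b j)).symm

lemma eps1_f_apply (j : ℤ) (x : FF M b j) : ((eps1 M b).f j).hom x = zeta M b j x := rfl

/-- the contractible complex. -/
noncomputable def QQ : DRing.Cx R :=
  CochainComplex.of (fun j => ModuleCat.of R (HH M b (j + 1) × HH M b j))
    (fun j => ModuleCat.ofHom
      (LinearMap.inr R (HH M b (j + 1 + 1)) (HH M b (j + 1)) ∘ₗ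
        LinearMap.fst R (HH M b (j + 1)) (HH M b j)))
    (fun j => by
      apply ModuleCat.hom_ext
      apply LinearMap.ext
      intro x
      rfl)

lemma QQ_d_apply (j : ℤ) (x : HH M b (j + 1) × HH M b j) :
    ((QQ M b).d j (j + 1)).hom x = ((0 : HH M b (j + 1 + 1)), x.1) := by
  have : (QQ M b).d j (j + 1) = ModuleCat.ofHom
      (LinearMap.inr R (HH M b (j + 1 + 1)) (HH M b (j + 1)) ∘ₗ
        LinearMap.fst R (HH M b (j + 1)) (HH M b j)) := by
    dsimp only [QQ, CochainComplex.of]
    exact CochainComplex.of_d (V := ModuleCat.{u} R)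
      (fun j => ModuleCat.of R (HH M b (j + 1) × HH M b j)) _ j
  rw [this]
  rfl

/-- the chain map `QQ ⟶ M`. -/
noncomputable def epsQ : QQ M b ⟶ M where
  f j := ModuleCat.ofHom
    (kappa M b j ∘ₗ LinearMap.fst R (HH M b (j + 1)) (HH M b j) +
      lam M b j ∘ₗ LinearMap.snd R (HH M b (j + 1)) (HH M b j))
  comm' i j hij := by
    obtain rfl : i + 1 = j := hij
    apply ModuleCat.hom_ext
    apply LinearMap.ext
    intro (x : HH M b (i + 1) × HH M b i)
    have hd := QQ_d_apply M b i x
    change (M.d i (i + 1)).hom (kappa M b i x.1 + lam M b i x.2) =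
      kappa M b (i + 1) (((QQ M b).d i (i + 1)).hom x).1 +
        lam M b (i + 1) (((QQ M b).d i (i + 1)).hom x).2
    rw [hd, map_add]
    have h1 := congr_arg (fun f => f x.1) (d_kappa M b i)
    have h2 := congr_arg (fun f => f x.2) (d_lam M b i (i + 1))
    simp only [LinearMap.comp_apply, LinearMap.zero_apply] at h1 h2
    rw [h1, h2]
    simp

lemma epsQ_f_apply (j : ℤ) (x : HH M b (j + 1) × HH M b j) :
    ((epsQ M b).f j).hom x = kappa M b j x.1 + lam M b j x.2 := rfl


lemma isZero_P1_X (j : ℤ) (hj : b < j) : IsZero ((P1 M b).X j) := by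
  have : IsEmpty {_z : M.cycles j // j ≤ b} := ⟨fun z => absurd z.2 (by omega)⟩
  have : Subsingleton (FF M b j) := inferInstance
  exact ModuleCat.isZero_of_subsingleton (ModuleCat.of R (FF M b j))

lemma subsingleton_HH (k : ℤ) (hk : b < k) : Subsingleton (HH M b k) := by
  have : IsEmpty {_m : M.X (k - 1) // k ≤ b} := ⟨fun z => absurd z.2 (by omega)⟩
  infer_instance

lemma isZero_QQ_X (j : ℤ) (hj : b < j) : IsZero ((QQ M b).X j) := by
  have := subsingleton_HH M b (j + 1) (by omega)
  have := subsingleton_HH M b j hj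
  have : Subsingleton (HH M b (j + 1) × HH M b j) := inferInstance
  exact ModuleCat.isZero_of_subsingleton (ModuleCat.of R (HH M b (j + 1) × HH M b j))

lemma QQ_acyclic : (QQ M b).Acyclic := by
  intro n
  obtain ⟨j, rfl⟩ : ∃ j, n = j + 1 := ⟨n - 1, by omega⟩
  rw [HomologicalComplex.exactAt_iff' (QQ M b) j (j + 1) (j + 1 + 1) (by simp) (by simp),
    ShortComplex.moduleCat_exact_iff]
  intro (x : HH M b (j + 1 + 1) × HH M b (j + 1)) hx
  change ((QQ M b).d (j + 1) (j + 1 + 1)).hom x = 0 at hx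
  rw [QQ_d_apply] at hx
  refine ⟨((x.2, 0) : HH M b (j + 1) × HH M b j), ?_⟩
  change ((QQ M b).d j (j + 1)).hom ((x.2, 0) : HH M b (j + 1) × HH M b j) = x
  rw [QQ_d_apply]
  have h1 : x.1 = 0 := (Prod.ext_iff.1 hx).2
  exact Prod.ext h1.symm rfl

lemma kappa_surjective (j : ℤ) (hj : j < b) : Function.Surjective (kappa M b j) := by
  intro m
  refine ⟨Finsupp.single ⟨(M.XIsoOfEq (show j + 1 - 1 = j by omega)).inv.hom m, by omega⟩ 1, ?_⟩
  simp only [kappa, Finsupp.linearCombination_single, one_smul]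
  have := (M.XIsoOfEq (show j + 1 - 1 = j by omega)).inv_hom_id
  exact congr_arg (fun f => f.hom m) this

lemma epsQ_f_surjective (j : ℤ) (hj : j < b) : Function.Surjective ((epsQ M b).f j).hom := by
  intro m
  obtain ⟨a, ha⟩ := kappa_surjective M b j hj m
  refine ⟨((a, 0) : HH M b (j + 1) × HH M b j), ?_⟩
  rw [epsQ_f_apply]
  simp [ha]

lemma range_zeta (j : ℤ) (hj : j ≤ b) :
    LinearMap.range (zeta M b j) = LinearMap.range (M.iCycles j).hom := by
  apply le_antisymm
  · rintro _ ⟨x, rfl⟩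
    exact ⟨_, rfl⟩
  · rintro _ ⟨z, rfl⟩
    refine ⟨Finsupp.single ⟨z, hj⟩ 1, ?_⟩
    simp [zeta]

lemma eps1_f_surjective (hM : DRing.VanishesAbove M b) : Function.Surjective ((eps1 M b).f b).hom := by
  intro m
  have hm : m ∈ LinearMap.range (M.iCycles b).hom := by
    obtain ⟨z, hz⟩ := exists_cycle M b (b + 1) rfl m
      ((ModuleCat.isZero_iff_subsingleton.1 (hM (b + 1) (by omega))).elim _ _)
    exact ⟨z, hz⟩
  rw [← range_zeta M b b le_rfl] at hm
  exact hm

lemma homologyMap_eps1_surjective (hM : DRing.VanishesAbove M b) (j : ℤ) :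
    Function.Surjective (HomologicalComplex.homologyMap (eps1 M b) j).hom := by
  intro c
  obtain ⟨z, rfl⟩ := homologyπ_surjective M j c
  by_cases hj : j ≤ b
  · obtain ⟨z₁, hz₁⟩ := exists_cycle (P1 M b) j (j + 1) rfl
      (Finsupp.single ⟨z, hj⟩ 1 : FF M b j) rfl
    refine ⟨((P1 M b).homologyπ j).hom z₁, ?_⟩
    rw [homologyMap_homologyπ]
    congr 1
    apply iCycles_injective
    rw [iCycles_cyclesMap, hz₁, eps1_f_apply]
    simp [zeta]
  · have : Subsingleton (M.X j) := ModuleCat.isZero_iff_subsingleton.1 (hM j (by omega))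
    have hz : z = 0 := iCycles_injective M j (Subsingleton.elim _ _)
    refine ⟨0, ?_⟩
    rw [hz, map_zero, map_zero]

end Groth.Agent.Lib.Helper79.Kun
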