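import Mathlib
import Groth.Prelude.Def_HTor
import Groth.Agent.Lib.Helper79.KunCover
import Groth.Agent.Lib.Helper28.TensCx4

set_option autoImplicit false
universe u
open CategoryTheory CategoryTheory.Limits Category MonoidalCategory
open Groth.Agent.Lib.Helper28

namespace Groth.Agent.Lib.Helper79.Kun

variable {R : Type u} [CommRing R] (L : DRing.Cx R)

lemma quasiIso_whiskerLeft_of_flat (hL : DRing.TermwiseFlat L) (bL : ℤ)
    (hbL : DRing.VanishesAbove L bL) {M Q : DRing.Cx R} (η : M ⟶ Q) [QuasiIso η] :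
    QuasiIso (L ◁ η) :=
  TensCx.quasiIso_whiskerLeft L
    (fun C hC => TensCx.exactAt_tensor_of_flat_left L C hC hL bL hbL) η

lemma homologyMap_bijective_of_quasiIso {M Q : DRing.Cx R} (η : M ⟶ Q) [QuasiIso η] (j : ℤ) :
    Function.Bijective (HomologicalComplex.homologyMap η j).hom := by
  have : IsIso (HomologicalComplex.homologyMap η j) :=
    (quasiIsoAt_iff_isIso_homologyMap η j).1 inferInstance
  exact ConcreteCategory.bijective_of_isIso (HomologicalComplex.homologyMap η j)

lemma kunSumMap_bijective_of_quasiIso {M Q : DRing.Cx R} (η : M ⟶ Q) [QuasiIso η] (n : ℤ) :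
    Function.Bijective (kunSumMap L η n) := by
  have hb := fun j => homologyMap_bijective_of_quasiIso η j
  constructor
  · unfold kunSumMap
    rw [DirectSum.lmap_injective]
    intro ij
    exact ((LinearEquiv.ofBijective _ (hb ij.1.2)).lTensor (L.homology ij.1.1)).injective
  · unfold kunSumMap
    rw [DirectSum.lmap_surjective]
    intro ij
    exact TensorProduct.map_surjective Function.surjective_id (hb ij.1.2).2

theorem kun_bijective_of_quasiIso (hL : DRing.TermwiseFlat L) (bL : ℤ)
    (hbL : DRing.VanishesAbove L bL) {M Q : DRing.Cx R} (η : M ⟶ Q) [QuasiIso η] (n : ℤ)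
    (h : Function.Bijective (kun L Q n)) : Function.Bijective (kun L M n) := by
  have := quasiIso_whiskerLeft_of_flat L hL bL hbL η
  have h1 := homologyMap_bijective_of_quasiIso (L ◁ η) n
  have h2 := kunSumMap_bijective_of_quasiIso L η n
  have hcomm : (HomologicalComplex.homologyMap (L ◁ η) n).hom ∘ (kun L M n) =
      (kun L Q n) ∘ (kunSumMap L η n) := by
    funext t
    exact kun_naturality L η n t
  have h3 : Function.Bijective ((HomologicalComplex.homologyMap (L ◁ η) n).hom ∘ (kun L M n)) := by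
    rw [hcomm]
    exact h.comp h2
  exact (Function.Bijective.of_comp_iff' h1 _).1 h3


section Cover

variable (M : DRing.Cx R) (b : ℤ)

/-- the cover of `M`. -/
noncomputable abbrev Ptil : DRing.Cx R := QQ M b ⊞ P1 M b

/-- the covering map. -/
noncomputable def eps : Ptil M b ⟶ M := biprod.desc (epsQ M b) (eps1 M b)

/-- the projection to the zero-differential part. -/
noncomputable def prP : Ptil M b ⟶ P1 M b := biprod.snd

lemma inl_eps : (biprod.inl : QQ M b ⟶ Ptil M b) ≫ eps M b = epsQ M b := biprod.inl_desc _ _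

lemma inr_eps : (biprod.inr : P1 M b ⟶ Ptil M b) ≫ eps M b = eps1 M b := biprod.inr_desc _ _

instance quasiIso_prP : QuasiIso (prP M b) := by
  let S₁ : ShortComplex (DRing.Cx R) :=
    ShortComplex.mk (biprod.inl : QQ M b ⟶ Ptil M b) (prP M b) (by simp [prP])
  have hS₁ : S₁.ShortExact :=
    (ShortComplex.Splitting.ofHasBinaryBiproduct (QQ M b) (P1 M b)).shortExact
  exact TensCx.quasiIso_g_of_acyclic_X₁ hS₁ (QQ_acyclic M b)

lemma isZero_biprod' {C : Type*} [Category C] [Preadditive C] {A B : C} [HasBinaryBiproduct A B]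
    (hA : IsZero A) (hB : IsZero B) : IsZero (A ⊞ B) := by
  rw [IsZero.iff_id_eq_zero]
  apply biprod.hom_ext
  · exact hA.eq_of_tgt _ _
  · exact hB.eq_of_tgt _ _

lemma vanishesAbove_Ptil : DRing.VanishesAbove (Ptil M b) b := by
  intro j hj
  exact IsZero.of_iso (isZero_biprod' (isZero_QQ_X M b j hj) (isZero_P1_X M b j hj))
    (HomologicalComplex.biprodXIso (QQ M b) (P1 M b) j)

lemma eps_f_surjective (hM : DRing.VanishesAbove M b) (j : ℤ) :
    Function.Surjective ((eps M b).f j).hom := by
  rcases lt_trichotomy j b with hj | hj | hj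
  · intro m
    obtain ⟨x, hx⟩ := epsQ_f_surjective M b j hj m
    refine ⟨((biprod.inl : QQ M b ⟶ Ptil M b).f j).hom x, ?_⟩
    rw [← hx, ← inl_eps]
    rfl
  · subst hj
    intro m
    obtain ⟨x, hx⟩ := eps1_f_surjective M j hM m
    refine ⟨((biprod.inr : P1 M j ⟶ Ptil M j).f j).hom x, ?_⟩
    rw [← hx, ← inr_eps]
    rfl
  · intro m
    have : Subsingleton (M.X j) := ModuleCat.isZero_iff_subsingleton.1 (hM j hj)
    exact ⟨0, Subsingleton.elim _ _⟩

lemma homologyMap_eps_surjective (hM : DRing.VanishesAbove M b) (j : ℤ) :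
    Function.Surjective (HomologicalComplex.homologyMap (eps M b) j).hom := by
  intro c
  obtain ⟨x, hx⟩ := homologyMap_eps1_surjective M b hM j c
  refine ⟨(HomologicalComplex.homologyMap (biprod.inr : P1 M b ⟶ Ptil M b) j).hom x, ?_⟩
  rw [← hx, ← inr_eps]
  have := HomologicalComplex.homologyMap_comp (biprod.inr : P1 M b ⟶ Ptil M b) (eps M b) j
  exact (congr_arg (fun f => f.hom x) this).symm

lemma flat_P1_X (j : ℤ) : Module.Flat R ((P1 M b).X j) :=
  inferInstanceAs (Module.Flat R (FF M b j))

theorem kun_Ptil_bijective (hL : DRing.TermwiseFlat L) (bL : ℤ) (hbL : DRing.VanishesAbove L bL)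
    (n : ℤ) : Function.Bijective (kun L (Ptil M b) n) :=
  kun_bijective_of_quasiIso L hL bL hbL (prP M b) n
    (kun_bijective_of_d_eq_zero L (P1 M b) (P1_d M b) (flat_P1_X M b) n)

theorem projective_homology_Ptil (j : ℤ) : Projective ((Ptil M b).homology j) := by
  have h1 : Projective ((P1 M b).X j) :=
    (IsProjective.iff_projective (R := R) (FF M b j)).1 inferInstance
  have e1 : (P1 M b).cycles j ≅ (P1 M b).X j :=
    (P1 M b).iCyclesIso j (j + 1) (by simp) (P1_d M b _ _)
  have e2 : (P1 M b).cycles j ≅ (P1 M b).homology j :=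
    (P1 M b).isoHomologyπ (j - 1) j (by simp) (P1_d M b _ _)
  have : IsIso (HomologicalComplex.homologyMap (prP M b) j) :=
    (quasiIsoAt_iff_isIso_homologyMap (prP M b) j).1 inferInstance
  have e3 : (Ptil M b).homology j ≅ (P1 M b).homology j :=
    asIso (HomologicalComplex.homologyMap (prP M b) j)
  exact Projective.of_iso (e1.symm ≪≫ e2 ≪≫ e3.symm) h1

end Cover

end Groth.Agent.Lib.Helper79.Kun
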