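import Mathlib
import Groth.Prelude.Def_HTor

set_option autoImplicit false
universe u
open CategoryTheory

namespace Groth.Agent.Lib.Helper79.Kun

variable {R : Type u} [CommRing R]

/-- flexible form of "subquotient". -/
def SubQ (N T : Type u) [AddCommGroup N] [Module R N] [AddCommGroup T] [Module R T] : Prop :=
  ∃ (Y : Type u) (_ : AddCommGroup Y) (_ : Module R Y) (i : Y →ₗ[R] T) (g : Y →ₗ[R] N),
    Function.Injective i ∧ Function.Surjective g

section
variable {N N₀ T T₁ : Type u} [AddCommGroup N] [Module R N] [AddCommGroup N₀] [Module R N₀]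
  [AddCommGroup T] [Module R T] [AddCommGroup T₁] [Module R T₁]

lemma SubQ.of_surjective (g : T →ₗ[R] N) (hg : Function.Surjective g) : SubQ (R := R) N T :=
  ⟨T, inferInstance, inferInstance, LinearMap.id, g, Function.injective_id, hg⟩

lemma SubQ.of_subsingleton [Subsingleton N] : SubQ (R := R) N T :=
  SubQ.of_surjective 0 (fun _ => ⟨0, Subsingleton.elim _ _⟩)

lemma SubQ.of_injective (h : SubQ (R := R) N T) (j : N₀ →ₗ[R] N) (hj : Function.Injective j) :
    SubQ (R := R) N₀ T := by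
  obtain ⟨Y, _, _, i, g, hi, hg⟩ := h
  let Y₀ : Submodule R Y := (LinearMap.range j).comap g
  let e := LinearEquiv.ofInjective j hj
  let g₁ : Y₀ →ₗ[R] LinearMap.range j :=
    (g ∘ₗ Y₀.subtype).codRestrict (LinearMap.range j) (fun y => y.2)
  refine ⟨Y₀, inferInstance, inferInstance, i ∘ₗ Y₀.subtype, e.symm.toLinearMap ∘ₗ g₁,
    hi.comp Subtype.val_injective, ?_⟩
  intro n₀
  obtain ⟨y, hy⟩ := hg (j n₀)
  refine ⟨⟨y, ⟨n₀, hy.symm⟩⟩, ?_⟩
  rw [LinearMap.comp_apply]
  apply e.injective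
  rw [LinearEquiv.coe_coe, LinearEquiv.apply_symm_apply]
  apply Subtype.ext
  exact hy

lemma SubQ.of_surjective_left (h : SubQ (R := R) N T) (f : T₁ →ₗ[R] T)
    (hf : Function.Surjective f) : SubQ (R := R) N T₁ := by
  obtain ⟨Y, _, _, i, g, hi, hg⟩ := h
  let Y₁ : Submodule R T₁ := (LinearMap.range i).comap f
  let e := LinearEquiv.ofInjective i hi
  let f₁ : Y₁ →ₗ[R] LinearMap.range i :=
    (f ∘ₗ Y₁.subtype).codRestrict (LinearMap.range i) (fun y => y.2)
  refine ⟨Y₁, inferInstance, inferInstance, Y₁.subtype, g ∘ₗ e.symm.toLinearMap ∘ₗ f₁,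
    Subtype.val_injective, ?_⟩
  intro n
  obtain ⟨y, rfl⟩ := hg n
  obtain ⟨t, ht⟩ := hf (i y)
  refine ⟨⟨t, ⟨y, ht.symm⟩⟩, ?_⟩
  rw [LinearMap.comp_apply, LinearMap.comp_apply]
  congr 1
  apply e.injective
  rw [LinearEquiv.coe_coe, LinearEquiv.apply_symm_apply]
  apply Subtype.ext
  exact ht

lemma SubQ.isSubquotient (h : SubQ (R := R) N T) : HTor.IsSubquotient R N T := by
  obtain ⟨Y, _, _, i, g, hi, hg⟩ := h
  let e := LinearEquiv.ofInjective i hi
  let φ : LinearMap.range i →ₗ[R] N := g ∘ₗ e.symm.toLinearMap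
  have hφ : Function.Surjective φ := hg.comp e.symm.surjective
  refine ⟨(LinearMap.ker g).map i, LinearMap.range i, ?_, ⟨?_⟩⟩
  · rintro _ ⟨y, _, rfl⟩
    exact ⟨y, rfl⟩
  · have hker : LinearMap.ker φ =
        Submodule.comap (LinearMap.range i).subtype ((LinearMap.ker g).map i) := by
      ext s
      obtain ⟨y, hy⟩ := e.surjective s
      rw [LinearMap.mem_ker, Submodule.mem_comap, Submodule.mem_map]
      constructor
      · intro hs
        refine ⟨e.symm s, hs, ?_⟩
        have : e (e.symm s) = s := e.apply_symm_apply s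
        exact congr_arg Subtype.val this
      · rintro ⟨y', hy', hy''⟩
        have : e y' = s := Subtype.ext hy''
        change g (e.symm s) = 0
        rw [← this, e.symm_apply_apply]
        exact hy'
    exact ((Submodule.quotEquivOfEq _ _ hker).symm.trans
      (φ.quotKerEquivOfSurjective hφ)).symm

end


section DS

variable {I I' : Type*} [DecidableEq I] [DecidableEq I'] (e : I → I')
  {A : I → Type u} {B C : I' → Type u}
  [∀ i, AddCommGroup (A i)] [∀ i, Module R (A i)]
  [∀ i, AddCommGroup (B i)] [∀ i, Module R (B i)]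
  [∀ i, AddCommGroup (C i)] [∀ i, Module R (C i)]

/-- sum of maps along a reindexing. -/
noncomputable def dsMap (g : ∀ i, A i →ₗ[R] B (e i)) : (DirectSum I A) →ₗ[R] DirectSum I' B :=
  DirectSum.toModule R I _ (fun i => DirectSum.lof R I' B (e i) ∘ₗ g i)

lemma dsMap_lof (g : ∀ i, A i →ₗ[R] B (e i)) (i : I) (x : A i) :
    dsMap e g (DirectSum.lof R I A i x) = DirectSum.lof R I' B (e i) (g i x) := by
  unfold dsMap
  rw [DirectSum.toModule_lof]
  rfl

lemma lof_mem_range_dsMap (g : ∀ i, A i →ₗ[R] B (e i))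
    (i : I) (y : B (e i)) (hy : y ∈ LinearMap.range (g i)) :
    DirectSum.lof R I' B (e i) y ∈ LinearMap.range (dsMap e g) := by
  obtain ⟨x, hx⟩ := hy
  exact ⟨DirectSum.lof R I A i x, by rw [dsMap_lof, hx]⟩

lemma mem_range_dsMap_of_forall (g : ∀ i, A i →ₗ[R] B (e i)) (y : DirectSum I' B)
    (hy : ∀ i', DirectSum.lof R I' B i' (y i') ∈ LinearMap.range (dsMap e g)) :
    y ∈ LinearMap.range (dsMap e g) := by
  classical
  rw [← DirectSum.sum_support_of y]
  refine Submodule.sum_mem _ (fun i' _ => ?_)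
  exact hy i'

lemma dsMap_surjective (he : Function.Surjective e) (g : ∀ i, A i →ₗ[R] B (e i))
    (hg : ∀ i, Function.Surjective (g i)) : Function.Surjective (dsMap e g) := by
  intro y
  apply mem_range_dsMap_of_forall
  intro i'
  obtain ⟨i, rfl⟩ := he i'
  exact lof_mem_range_dsMap e g i _ (hg i _)

lemma range_dsMap_eq_ker (he : Function.Surjective e) (g : ∀ i, A i →ₗ[R] B (e i))
    (h : ∀ i', B i' →ₗ[R] C i')
    (hex : ∀ i, LinearMap.range (g i) = LinearMap.ker (h (e i))) :
    LinearMap.range (dsMap e g) = LinearMap.ker (DirectSum.lmap h) := by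
  apply le_antisymm
  · rintro _ ⟨x, rfl⟩
    rw [LinearMap.mem_ker]
    induction x using DirectSum.induction_on with
    | zero => simp
    | of i x =>
      rw [← DirectSum.lof_eq_of R, dsMap_lof, DirectSum.lmap_lof]
      have : g i x ∈ LinearMap.ker (h (e i)) := by rw [← hex]; exact ⟨x, rfl⟩
      rw [LinearMap.mem_ker.1 this, map_zero]
    | add x y hx hy => rw [map_add, map_add, hx, hy, add_zero]
  · intro y hy
    rw [LinearMap.mem_ker] at hy
    apply mem_range_dsMap_of_forall
    intro i'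
    obtain ⟨i, rfl⟩ := he i'
    apply lof_mem_range_dsMap e g i
    have h1 : h (e i) (y (e i)) = 0 := by
      have := congr_arg (fun z => z (e i)) hy
      simpa using this
    have h2 : y (e i) ∈ LinearMap.range (g i) := by rw [hex]; exact h1
    exact h2

end DS


section Filt

variable {H H' : Type u} [AddCommGroup H] [Module R H] [AddCommGroup H'] [Module R H']

/-- the filtration on `H` pulled back from `H'` and shifted by one. -/
def stepF (δ : H →ₗ[R] H') (F' : ℕ → Submodule R H') : ℕ → Submodule R H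
  | 0 => LinearMap.ker δ
  | (q + 1) => (F' q).comap δ

lemma stepF_zero (δ : H →ₗ[R] H') (F' : ℕ → Submodule R H') :
    stepF δ F' 0 = LinearMap.ker δ := rfl

lemma stepF_succ (δ : H →ₗ[R] H') (F' : ℕ → Submodule R H') (q : ℕ) :
    stepF δ F' (q + 1) = (F' q).comap δ := rfl

lemma stepF_monotone (δ : H →ₗ[R] H') (F' : ℕ → Submodule R H') (hF' : Monotone F') :
    Monotone (stepF δ F') := by
  apply monotone_nat_of_le_succ
  intro p
  cases p with
  | zero =>
    intro x hx
    rw [stepF_zero, LinearMap.mem_ker] at hx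
    rw [stepF_succ, Submodule.mem_comap, hx]
    exact Submodule.zero_mem _
  | succ q =>
    rw [stepF_succ, stepF_succ]
    exact Submodule.comap_mono (hF' (Nat.le_succ q))

lemma stepF_top (δ : H →ₗ[R] H') (F' : ℕ → Submodule R H') (N' : ℕ) (hN' : F' N' = ⊤) :
    stepF δ F' (N' + 1) = ⊤ := by
  rw [stepF_succ, hN', Submodule.comap_top]

lemma subQ_grSucc_stepF_succ (δ : H →ₗ[R] H') (F' : ℕ → Submodule R H') (q : ℕ)
    (T : Type u) [AddCommGroup T] [Module R T] (hT : SubQ (R := R) (HTor.grSucc F' q) T) :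
    SubQ (R := R) (HTor.grSucc (stepF δ F') (q + 1)) T := by
  let δ₁ : ↥(stepF δ F' (q + 1 + 1)) →ₗ[R] ↥(F' (q + 1)) :=
    (δ ∘ₗ (stepF δ F' (q + 1 + 1)).subtype).codRestrict (F' (q + 1)) (fun x => x.2)
  have hle : Submodule.comap (stepF δ F' (q + 1 + 1)).subtype (stepF δ F' (q + 1)) ≤
      Submodule.comap δ₁ (Submodule.comap (F' (q + 1)).subtype (F' q)) := by
    intro x hx
    rw [Submodule.mem_comap, stepF_succ, Submodule.mem_comap] at hx
    rw [Submodule.mem_comap, Submodule.mem_comap]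
    exact hx
  let j : HTor.grSucc (stepF δ F') (q + 1) →ₗ[R] HTor.grSucc F' q :=
    Submodule.mapQ _ _ δ₁ hle
  refine hT.of_injective j ?_
  rw [injective_iff_map_eq_zero]
  intro x hx
  obtain ⟨y, rfl⟩ := Submodule.Quotient.mk_surjective _ x
  have hx' : Submodule.mapQ _ _ δ₁ hle (Submodule.Quotient.mk y) = 0 := hx
  rw [Submodule.mapQ_apply, Submodule.Quotient.mk_eq_zero, Submodule.mem_comap] at hx'
  rw [Submodule.Quotient.mk_eq_zero, Submodule.mem_comap, stepF_succ, Submodule.mem_comap]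
  exact hx'

lemma subQ_grSucc_stepF_zero (δ : H →ₗ[R] H') (F' : ℕ → Submodule R H')
    (T : Type u) [AddCommGroup T] [Module R T] (Ψ : T →ₗ[R] H')
    (hΨ : ∀ x : H, δ x ∈ F' 0 → δ x ∈ LinearMap.range Ψ) :
    SubQ (R := R) (HTor.grSucc (stepF δ F') 0) T := by
  have h0 : SubQ (R := R) (LinearMap.range Ψ) T :=
    SubQ.of_surjective Ψ.rangeRestrict Ψ.surjective_rangeRestrict
  let δ₁ : ↥(stepF δ F' (0 + 1)) →ₗ[R] ↥(LinearMap.range Ψ) :=
    (δ ∘ₗ (stepF δ F' (0 + 1)).subtype).codRestrict (LinearMap.range Ψ)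
      (fun x => hΨ x.1 x.2)
  have hle : Submodule.comap (stepF δ F' (0 + 1)).subtype (stepF δ F' 0) ≤ LinearMap.ker δ₁ := by
    intro x hx
    rw [Submodule.mem_comap, stepF_zero, LinearMap.mem_ker] at hx
    rw [LinearMap.mem_ker]
    apply Subtype.ext
    exact hx
  let j : HTor.grSucc (stepF δ F') 0 →ₗ[R] ↥(LinearMap.range Ψ) :=
    Submodule.liftQ _ δ₁ hle
  refine h0.of_injective j ?_
  rw [injective_iff_map_eq_zero]
  intro x hx
  obtain ⟨y, rfl⟩ := Submodule.Quotient.mk_surjective _ x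
  have hx' : Submodule.liftQ _ δ₁ hle (Submodule.Quotient.mk y) = 0 := hx
  rw [Submodule.liftQ_apply] at hx'
  rw [Submodule.Quotient.mk_eq_zero, Submodule.mem_comap, stepF_zero, LinearMap.mem_ker]
  exact congr_arg Subtype.val hx'

end Filt

end Groth.Agent.Lib.Helper79.Kun
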