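import Mathlib
import Groth.Prelude.Def_HTor
import Groth.Agent.Lib.Helper73.LeftDerivedLES

set_option autoImplicit false
universe u
open CategoryTheory CategoryTheory.Limits Category MonoidalCategory

namespace Groth.Agent.Lib.Helper79.Kun

variable {R : Type u} [CommRing R]

/-- dimension shifting for `Tor` in the second variable, degrees `≥ 1`. -/
theorem exists_tor_shift_surjective (X : ModuleCat.{u} R) {S : ShortComplex (ModuleCat.{u} R)}
    (hS : S.ShortExact) [Projective S.X₂] (p : ℕ) :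
    ∃ δ : ((Tor (ModuleCat.{u} R) (p + 1 + 1)).obj X).obj S.X₃ ⟶
        ((Tor (ModuleCat.{u} R) (p + 1)).obj X).obj S.X₁, Function.Surjective δ.hom := by
  obtain ⟨_, δ, w₁, w₂, _, hex⟩ :=
    Groth.Agent.Lib.Helper73.leftDerived_les ((tensoringLeft (ModuleCat.{u} R)).obj X) hS (p + 1)
  refine ⟨δ, ?_⟩
  have hz : IsZero ((((tensoringLeft (ModuleCat.{u} R)).obj X).leftDerived (p + 1)).obj S.X₂) :=
    isZero_Tor_succ_of_projective (ModuleCat.{u} R) X S.X₂ p
  have : Epi δ := hex.epi_f (hz.eq_of_tgt _ _)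
  exact (ModuleCat.epi_iff_surjective δ).1 this


/-- `Tor_1` maps onto the kernel of `X ⊗ S.X₁ → X ⊗ S.X₂`. -/
theorem exists_tor_one_range_eq_ker (X : ModuleCat.{u} R) {S : ShortComplex (ModuleCat.{u} R)}
    (hS : S.ShortExact) :
    ∃ D : ((Tor (ModuleCat.{u} R) 1).obj X).obj S.X₃ ⟶ X ⊗ S.X₁,
      LinearMap.range D.hom = LinearMap.ker (X ◁ S.f).hom := by
  let F := (tensoringLeft (ModuleCat.{u} R)).obj X
  obtain ⟨_, δ, w₁, w₂, _, hex⟩ := Groth.Agent.Lib.Helper73.leftDerived_les F hS 0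
  let iso := F.leftDerivedZeroIsoSelf
  refine ⟨δ ≫ iso.hom.app S.X₁, ?_⟩
  have hnat : iso.hom.app S.X₁ ≫ F.map S.f = (F.leftDerived 0).map S.f ≫ iso.hom.app S.X₂ :=
    (iso.hom.naturality S.f).symm
  have hFmap : F.map S.f = X ◁ S.f := rfl
  have hexact := (ShortComplex.moduleCat_exact_iff_range_eq_ker _).1 hex
  have hb1 : Function.Bijective (iso.hom.app S.X₁).hom :=
    ConcreteCategory.bijective_of_isIso (iso.hom.app S.X₁)
  have hb2 : Function.Bijective (iso.hom.app S.X₂).hom :=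
    ConcreteCategory.bijective_of_isIso (iso.hom.app S.X₂)
  ext y
  constructor
  · rintro ⟨x, rfl⟩
    rw [LinearMap.mem_ker, ← hFmap]
    change (δ ≫ iso.hom.app S.X₁ ≫ F.map S.f).hom x = 0
    rw [hnat, ← assoc, w₂, zero_comp]
    rfl
  · intro hy
    rw [LinearMap.mem_ker, ← hFmap] at hy
    obtain ⟨y', rfl⟩ := hb1.2 y
    have h1 : (iso.hom.app S.X₁ ≫ F.map S.f).hom y' = 0 := hy
    rw [hnat] at h1
    have h2 : ((F.leftDerived 0).map S.f).hom y' = 0 := by
      apply hb2.1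
      rw [map_zero]
      exact h1
    have h3 : y' ∈ LinearMap.range δ.hom := by
      rw [hexact]
      exact h2
    obtain ⟨x, rfl⟩ := h3
    exact ⟨x, rfl⟩

end Groth.Agent.Lib.Helper79.Kun
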