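import Mathlib
import Groth.Prelude.Def_HTor
import Groth.Agent.Lib.Helper79.KunCover2
import Groth.Agent.Lib.Helper79.KunSum
import Groth.Agent.Lib.Helper79.KunTor

set_option autoImplicit false
universe u
open CategoryTheory CategoryTheory.Limits Category MonoidalCategory
open Groth.Agent.Lib.Helper28

namespace Groth.Agent.Lib.Helper79.Kun

variable {R : Type u} [CommRing R]

section SES

variable (M : DRing.Cx R) (b : ℤ)

/-- the kernel of the cover. -/
noncomputable abbrev Ker : DRing.Cx R := kernel (eps M b)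

/-- the inclusion of the kernel. -/
noncomputable abbrev kerι : Ker M b ⟶ Ptil M b := kernel.ι (eps M b)

/-- the cover short complex. -/
noncomputable abbrev coverSC : ShortComplex (DRing.Cx R) :=
  ShortComplex.mk (kerι M b) (eps M b) (kernel.condition (eps M b))

lemma epi_eps (hM : DRing.VanishesAbove M b) : Epi (eps M b) := by
  apply HomologicalComplex.epi_of_epi_f
  intro j
  exact (ModuleCat.epi_iff_surjective _).2 (eps_f_surjective M b hM j)

lemma coverSC_shortExact (hM : DRing.VanishesAbove M b) : (coverSC M b).ShortExact := by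
  have := epi_eps M b hM
  exact
    { exact := ShortComplex.exact_kernel (eps M b)
      mono_f := inferInstanceAs (Mono (kernel.ι (eps M b)))
      epi_g := inferInstanceAs (Epi (eps M b)) }

lemma kerι_f_injective (hM : DRing.VanishesAbove M b) (j : ℤ) :
    Function.Injective ((kerι M b).f j).hom :=
  ((HomologicalComplex.shortExact_iff_degreewise_shortExact (coverSC M b)).1
    (coverSC_shortExact M b hM) j).moduleCat_injective_f

lemma vanishesAbove_Ker (hM : DRing.VanishesAbove M b) : DRing.VanishesAbove (Ker M b) b := by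
  intro j hj
  rw [ModuleCat.isZero_iff_subsingleton]
  have : Subsingleton ((Ptil M b).X j) :=
    ModuleCat.isZero_iff_subsingleton.1 (vanishesAbove_Ptil M b j hj)
  exact (kerι_f_injective M b hM j).subsingleton

/-- the short complex of homology modules in degree `j`. -/
noncomputable abbrev homSC (j : ℤ) : ShortComplex (ModuleCat.{u} R) :=
  ShortComplex.mk (HomologicalComplex.homologyMap (kerι M b) j)
    (HomologicalComplex.homologyMap (eps M b) j) (by
      rw [← HomologicalComplex.homologyMap_comp, kernel.condition,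
        HomologicalComplex.homologyMap_zero])

lemma homSC_shortExact (hM : DRing.VanishesAbove M b) (j : ℤ) : (homSC M b j).ShortExact := by
  have hS := coverSC_shortExact M b hM
  have hepi : ∀ k, Epi (HomologicalComplex.homologyMap (eps M b) k) := fun k =>
    (ModuleCat.epi_iff_surjective _).2 (homologyMap_eps_surjective M b hM k)
  have hδ : hS.δ (j - 1) j (by simp) = 0 := by
    have := hepi (j - 1)
    have h := hS.comp_δ (j - 1) j (by simp)
    exact (cancel_epi (HomologicalComplex.homologyMap (eps M b) (j - 1))).1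
      (by rw [comp_zero]; exact h)
  have hmono : Mono (HomologicalComplex.homologyMap (kerι M b) j) :=
    (hS.homology_exact₁ (j - 1) j (by simp)).mono_g hδ
  exact
    { exact := hS.homology_exact₂ j
      mono_f := hmono
      epi_g := hepi j }

instance projective_homSC_X₂ (j : ℤ) : Projective (homSC M b j).X₂ :=
  projective_homology_Ptil M b j

end SES


section Sums

variable (L M : DRing.Cx R) (b : ℤ) (n : ℤ)

/-- reindexing of the Tor sums. -/
def torIdx (q : ℕ) : {ij : ℤ × ℤ // ij.1 + ij.2 - ((q + 1 + 1 : ℕ) : ℤ) = n} →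
    {ij : ℤ × ℤ // ij.1 + ij.2 - ((q + 1 : ℕ) : ℤ) = n + 1} :=
  fun ij => ⟨ij.1, by have := ij.2; push_cast at this ⊢; omega⟩

lemma torIdx_surjective (q : ℕ) : Function.Surjective (torIdx n q) := by
  intro ij
  exact ⟨⟨ij.1, by have := ij.2; push_cast at this ⊢; omega⟩, rfl⟩

theorem exists_torSum_surjective (hM : DRing.VanishesAbove M b) (q : ℕ) :
    ∃ G : HTor.TorSum L M n (q + 1 + 1) →ₗ[R] HTor.TorSum L (Ker M b) (n + 1) (q + 1),
      Function.Surjective G := by
  classical
  have h := fun ij : {ij : ℤ × ℤ // ij.1 + ij.2 - ((q + 1 + 1 : ℕ) : ℤ) = n} =>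
    exists_tor_shift_surjective (L.homology ij.1.1) (homSC_shortExact M b hM ij.1.2) q
  choose δ hδ using h
  exact ⟨dsMap (torIdx n q) (fun ij => (δ ij).hom), dsMap_surjective (torIdx n q)
    (torIdx_surjective n q) _ hδ⟩

/-- reindexing from the `Tor_1` sum to the Künneth sum. -/
def torIdx₀ : {ij : ℤ × ℤ // ij.1 + ij.2 - ((0 + 1 : ℕ) : ℤ) = n} → HTor.Antidiag (n + 1) :=
  fun ij => ⟨ij.1, by have := ij.2; push_cast at this ⊢; omega⟩

lemma torIdx₀_surjective : Function.Surjective (torIdx₀ n) := by
  intro ij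
  exact ⟨⟨ij.1, by have := ij.2; push_cast at this ⊢; omega⟩, rfl⟩

theorem exists_torSum_one_range_eq_ker (hM : DRing.VanishesAbove M b) :
    ∃ D : HTor.TorSum L M n (0 + 1) →ₗ[R] HTor.KunnethSum L (Ker M b) (n + 1),
      LinearMap.range D = LinearMap.ker (kunSumMap L (kerι M b) (n + 1)) := by
  classical
  have h := fun ij : {ij : ℤ × ℤ // ij.1 + ij.2 - ((0 + 1 : ℕ) : ℤ) = n} =>
    exists_tor_one_range_eq_ker (L.homology ij.1.1) (homSC_shortExact M b hM ij.1.2)
  choose D hD using h
  refine ⟨dsMap (torIdx₀ n) (fun ij => (D ij).hom), ?_⟩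
  unfold kunSumMap
  apply range_dsMap_eq_ker (torIdx₀ n) (torIdx₀_surjective n)
  intro ij
  refine (hD ij).trans ?_
  rw [ModuleCat.hom_whiskerLeft]
  rfl

end Sums


section Step

variable (L : DRing.Cx R)

/-- the Künneth filtration claim. -/
def Claim (M : DRing.Cx R) (n : ℤ) : Prop :=
  ∃ (N : ℕ) (F : ℕ → Submodule R ((L ⊗ M).homology n : ModuleCat.{u} R)),
    F 0 = LinearMap.range (kun L M n) ∧ Monotone F ∧ F N = ⊤ ∧
      ∀ p : ℕ, SubQ (R := R) (HTor.grSucc F p) (HTor.TorSum L M n (p + 1))

variable (hL : DRing.TermwiseFlat L) (bL : ℤ) (hbL : DRing.VanishesAbove L bL)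

include hL in
lemma whiskerLeft_coverSC_shortExact (M : DRing.Cx R) (b : ℤ) (hM : DRing.VanishesAbove M b) :
    (TensCx.whiskerLeftShortComplex L (coverSC M b)).ShortExact := by
  refine TensCx.shortExact_whiskerLeft' L (coverSC M b) (coverSC_shortExact M b hM) (fun p q => ?_)
  rw [ModuleCat.hom_whiskerLeft]
  have := hL p
  exact Module.Flat.lTensor_preserves_injective_linearMap _ (kerι_f_injective M b hM q)

include hL hbL in
theorem claim_step (M : DRing.Cx R) (b : ℤ) (hM : DRing.VanishesAbove M b) (n : ℤ)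
    (h : Claim L (Ker M b) (n + 1)) : Claim L M n := by
  obtain ⟨N', F', h0', hmono', htop', hgr'⟩ := h
  have hLS := whiskerLeft_coverSC_shortExact L hL M b hM
  -- the three maps of the long exact sequence
  let a : ((L ⊗ Ptil M b).homology n : ModuleCat.{u} R) →ₗ[R] ((L ⊗ M).homology n : ModuleCat.{u} R) :=
    (HomologicalComplex.homologyMap (L ◁ eps M b) n).hom
  let δ : ((L ⊗ M).homology n : ModuleCat.{u} R) →ₗ[R]
      ((L ⊗ Ker M b).homology (n + 1) : ModuleCat.{u} R) := (hLS.δ n (n + 1) rfl).hom
  let bb : ((L ⊗ Ker M b).homology (n + 1) : ModuleCat.{u} R) →ₗ[R]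
      ((L ⊗ Ptil M b).homology (n + 1) : ModuleCat.{u} R) :=
    (HomologicalComplex.homologyMap (L ◁ kerι M b) (n + 1)).hom
  have hex1 : LinearMap.range a = LinearMap.ker δ :=
    (ShortComplex.moduleCat_exact_iff_range_eq_ker _).1 (hLS.homology_exact₃ n (n + 1) rfl)
  have hex2 : LinearMap.range δ = LinearMap.ker bb :=
    (ShortComplex.moduleCat_exact_iff_range_eq_ker _).1 (hLS.homology_exact₁ n (n + 1) rfl)
  have hkP : ∀ m, Function.Bijective (kun L (Ptil M b) m) :=
    fun m => kun_Ptil_bijective L M b hL bL hbL m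
  -- `range a = range kun`
  have hsurjε : Function.Surjective (kunSumMap L (eps M b) n) := by
    unfold kunSumMap
    rw [DirectSum.lmap_surjective]
    intro ij
    exact TensorProduct.map_surjective Function.surjective_id
      (homologyMap_eps_surjective M b hM ij.1.2)
  have hra : LinearMap.range a = LinearMap.range (kun L M n) := by
    apply le_antisymm
    · rintro _ ⟨x, rfl⟩
      obtain ⟨t, rfl⟩ := (hkP n).2 x
      exact ⟨kunSumMap L (eps M b) n t, (kun_naturality L (eps M b) n t).symm⟩
    · rintro _ ⟨t, rfl⟩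
      obtain ⟨t', rfl⟩ := hsurjε t
      exact ⟨kun L (Ptil M b) n t', kun_naturality L (eps M b) n t'⟩
  obtain ⟨D, hD⟩ := exists_torSum_one_range_eq_ker L M b n hM
  refine ⟨N' + 1, stepF δ F', ?_, stepF_monotone δ F' hmono', stepF_top δ F' N' htop', ?_⟩
  · rw [stepF_zero, ← hex1, hra]
  · intro p
    cases p with
    | zero =>
      apply subQ_grSucc_stepF_zero δ F' _ (kun L (Ker M b) (n + 1) ∘ₗ D)
      intro x hx
      rw [h0'] at hx
      obtain ⟨t, ht⟩ := hx
      have h1 : bb (δ x) = 0 := by
        have : δ x ∈ LinearMap.ker bb := by rw [← hex2]; exact ⟨x, rfl⟩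
        exact this
      rw [← ht] at h1
      have h2 : kun L (Ptil M b) (n + 1) (kunSumMap L (kerι M b) (n + 1) t) = 0 := by
        rw [← kun_naturality]
        exact h1
      have h3 : kunSumMap L (kerι M b) (n + 1) t = 0 := by
        apply (hkP (n + 1)).1
        rw [h2, map_zero]
      have h4 : t ∈ LinearMap.range D := by rw [hD]; exact h3
      obtain ⟨s, rfl⟩ := h4
      exact ⟨s, ht⟩
    | succ q =>
      obtain ⟨G, hG⟩ := exists_torSum_surjective L M b n hM q
      exact subQ_grSucc_stepF_succ δ F' q _ ((hgr' q).of_surjective_left G hG)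

end Step


section Main

variable (L : DRing.Cx R)

lemma subsingleton_tensor_X (bL : ℤ) (hbL : DRing.VanishesAbove L bL) (M : DRing.Cx R) (b : ℤ)
    (hM : DRing.VanishesAbove M b) (n : ℤ) (hn : bL + b < n) :
    Subsingleton ((L ⊗ M).X n : ModuleCat.{u} R) := by
  refine ⟨fun x y => ?_⟩
  rw [← sub_eq_zero]
  apply TensCx.eq_zero_of_proj_eq_zero
  intro p
  have : Subsingleton (L.X p ⊗ M.X (n - p) : ModuleCat.{u} R) := by
    by_cases hp : bL < p
    · have : Subsingleton (L.X p) := ModuleCat.isZero_iff_subsingleton.1 (hbL p hp)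
      exact inferInstanceAs (Subsingleton (TensorProduct R (L.X p) (M.X (n - p))))
    · have : Subsingleton (M.X (n - p)) :=
        ModuleCat.isZero_iff_subsingleton.1 (hM (n - p) (by omega))
      exact inferInstanceAs (Subsingleton (TensorProduct R (L.X p) (M.X (n - p))))
  exact Subsingleton.elim _ _

lemma subsingleton_homology_tensor (bL : ℤ) (hbL : DRing.VanishesAbove L bL) (M : DRing.Cx R)
    (b : ℤ) (hM : DRing.VanishesAbove M b) (n : ℤ) (hn : bL + b < n) :
    Subsingleton ((L ⊗ M).homology n : ModuleCat.{u} R) := by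
  have := subsingleton_tensor_X L bL hbL M b hM n hn
  refine ⟨fun x y => ?_⟩
  obtain ⟨z, rfl⟩ := homologyπ_surjective (L ⊗ M) n x
  obtain ⟨z', rfl⟩ := homologyπ_surjective (L ⊗ M) n y
  congr 1
  apply iCycles_injective
  exact Subsingleton.elim _ _

lemma claim_of_subsingleton (M : DRing.Cx R) (n : ℤ)
    (h : Subsingleton ((L ⊗ M).homology n : ModuleCat.{u} R)) : Claim L M n := by
  refine ⟨0, fun _ => ⊤, Subsingleton.elim _ _, fun _ _ _ => le_rfl, rfl, fun p => ?_⟩
  have : Subsingleton (HTor.grSucc (fun _ : ℕ => (⊤ : Submodule R ((L ⊗ M).homology n : ModuleCat.{u} R))) p) := by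
    refine ⟨fun x y => ?_⟩
    obtain ⟨x', rfl⟩ := Submodule.Quotient.mk_surjective _ x
    obtain ⟨y', rfl⟩ := Submodule.Quotient.mk_surjective _ y
    congr 1
    exact Subsingleton.elim _ _
  exact SubQ.of_subsingleton

theorem claim_all (hL : DRing.TermwiseFlat L) (bL : ℤ) (hbL : DRing.VanishesAbove L bL) (b : ℤ)
    (k : ℕ) : ∀ (M : DRing.Cx R), DRing.VanishesAbove M b → ∀ n : ℤ, bL + b < n + k →
      Claim L M n := by
  induction k with
  | zero =>
    intro M hM n hn
    exact claim_of_subsingleton L M n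
      (subsingleton_homology_tensor L bL hbL M b hM n (by simpa using hn))
  | succ k ih =>
    intro M hM n hn
    apply claim_step L hL bL hbL M b hM n
    apply ih (Ker M b) (vanishesAbove_Ker M b hM) (n + 1)
    push_cast at hn
    omega

theorem claim (hL : DRing.TermwiseFlat L) (bL : ℤ) (hbL : DRing.VanishesAbove L bL)
    (M : DRing.Cx R) (b : ℤ) (hM : DRing.VanishesAbove M b) (n : ℤ) : Claim L M n := by
  apply claim_all L hL bL hbL b (bL + b - n + 1).toNat M hM n
  have := Int.self_le_toNat (bL + b - n + 1)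
  omega

end Main

end Groth.Agent.Lib.Helper79.Kun
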