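import Mathlib
import Groth.Prelude.Def_HTor
import Groth.Agent.Lib.Helper79.KunStep
import Groth.Agent.S3527

set_option autoImplicit false
universe u
open CategoryTheory CategoryTheory.Limits Category MonoidalCategory
open Groth.Agent.Lib.Helper28

namespace Groth.Agent.Lib.Helper79.Kun

variable {R : Type u} [CommRing R] (L : DRing.Cx R)

theorem kun_surjective_of_flat_homology (hL : DRing.TermwiseFlat L) (bL : ℤ)
    (hbL : DRing.VanishesAbove L bL) (hH : ∀ i : ℤ, Module.Flat R (L.homology i))
    (M : DRing.Cx R) (b : ℤ) (hM : DRing.VanishesAbove M b) (n : ℤ) :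
    Function.Surjective (kun L M n) := by
  obtain ⟨N, F, h0, hmono, htop, hgr⟩ := claim L hL bL hbL M b hM n
  have hT : ∀ p : ℕ, Subsingleton (HTor.TorSum L M n (p + 1)) := by
    intro p
    refine ⟨fun x y => ?_⟩
    apply DFinsupp.ext
    intro ij
    have := hH ij.1.1
    have := (Groth.Agent.S3527.result R (L.homology ij.1.1) (M.homology ij.1.2) (p + 1)
      (Nat.succ_pos p)).1
    exact Subsingleton.elim _ _
  have hFp : ∀ p, F p = F 0 := by
    intro p
    induction p with
    | zero => rfl
    | succ p ih =>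
      obtain ⟨Y, _, _, i, g, hi, hg⟩ := hgr p
      have := hT p
      have hY : Subsingleton Y := hi.subsingleton
      have hgrs : Subsingleton (HTor.grSucc F p) := hg.subsingleton
      apply le_antisymm
      · intro x hx
        have : (Submodule.Quotient.mk (⟨x, hx⟩ : F (p + 1)) : HTor.grSucc F p) = 0 :=
          Subsingleton.elim _ _
        rw [Submodule.Quotient.mk_eq_zero, Submodule.mem_comap, ih] at this
        exact this
      · exact hmono (Nat.zero_le _)
  rw [← LinearMap.range_eq_top, ← h0, ← hFp N, htop]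

lemma kunSumMap_comp_eq_zero {M₁ M₂ M₃ : DRing.Cx R} (f : M₁ ⟶ M₂) (g : M₂ ⟶ M₃) (hfg : f ≫ g = 0)
    (n : ℤ) (t : HTor.KunnethSum L M₁ n) : kunSumMap L g n (kunSumMap L f n t) = 0 := by
  suffices h : kunSumMap L g n ∘ₗ kunSumMap L f n = 0 from congr_arg (fun φ => φ t) h
  apply DirectSum.linearMap_ext
  intro ij
  apply TensorProduct.ext'
  intro x y
  simp only [LinearMap.comp_apply, LinearMap.zero_apply]
  unfold kunSumMap
  rw [DirectSum.lmap_lof, DirectSum.lmap_lof, TensorProduct.map_tmul, TensorProduct.map_tmul]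
  have : (HomologicalComplex.homologyMap g ij.1.2).hom
      ((HomologicalComplex.homologyMap f ij.1.2).hom y) = 0 := by
    have h1 := HomologicalComplex.homologyMap_comp f g ij.1.2
    rw [hfg, HomologicalComplex.homologyMap_zero] at h1
    exact (congr_arg (fun φ => φ.hom y) h1).symm
  rw [this, TensorProduct.tmul_zero, map_zero]

theorem kun_injective_of_flat_homology (hL : DRing.TermwiseFlat L) (bL : ℤ)
    (hbL : DRing.VanishesAbove L bL) (hH : ∀ i : ℤ, Module.Flat R (L.homology i))
    (M : DRing.Cx R) (b : ℤ) (hM : DRing.VanishesAbove M b) (n : ℤ) :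
    Function.Injective (kun L M n) := by
  rw [injective_iff_map_eq_zero]
  intro t ht
  have hLS := whiskerLeft_coverSC_shortExact L hL M b hM
  have hex : LinearMap.range (HomologicalComplex.homologyMap (L ◁ kerι M b) n).hom =
      LinearMap.ker (HomologicalComplex.homologyMap (L ◁ eps M b) n).hom :=
    (ShortComplex.moduleCat_exact_iff_range_eq_ker _).1 (hLS.homology_exact₂ n)
  have hkP := kun_Ptil_bijective L M b hL bL hbL n
  have hsurjε : Function.Surjective (kunSumMap L (eps M b) n) := by
    unfold kunSumMap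
    rw [DirectSum.lmap_surjective]
    intro ij
    exact TensorProduct.map_surjective Function.surjective_id
      (homologyMap_eps_surjective M b hM ij.1.2)
  obtain ⟨tP, rfl⟩ := hsurjε t
  rw [← kun_naturality] at ht
  have h1 : kun L (Ptil M b) n tP ∈
      LinearMap.range (HomologicalComplex.homologyMap (L ◁ kerι M b) n).hom := by
    rw [hex]
    exact ht
  obtain ⟨y', hy'⟩ := h1
  obtain ⟨t', rfl⟩ := kun_surjective_of_flat_homology L hL bL hbL hH (Ker M b) b
    (vanishesAbove_Ker M b hM) n y'
  rw [kun_naturality] at hy'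
  have h2 : kunSumMap L (kerι M b) n t' = tP := hkP.1 hy'
  rw [← h2]
  exact kunSumMap_comp_eq_zero L (kerι M b) (eps M b) (kernel.condition (eps M b)) n t'

end Groth.Agent.Lib.Helper79.Kun
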