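import Mathlib
import Groth.Prelude.Def_Tame
import Groth.Agent.Lib.Helper79.LenMult

set_option autoImplicit false
universe u

namespace Groth.Agent.Lib.Helper79.LenMultOrd

open Function Pointwise Groth.Agent.Lib.Helper79.LenMult

variable {R : Type u} [CommRing R]

theorem ordFrac_div_eq [IsNoetherianRing R] (hA : ringKrullDim R ≤ 1) (q : Ideal R) [hq : q.IsPrime]
    (a b : R) (ha : a ∉ q) (hb : b ∉ q) :
    CycAlg.ordFrac (R ⧸ q) q.ResidueField
        (algebraMap R q.ResidueField a / algebraMap R q.ResidueField b) =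
      ((Ring.ord (R ⧸ q) (Ideal.Quotient.mk q a)).toNat : ℤ) -
        ((Ring.ord (R ⧸ q) (Ideal.Quotient.mk q b)).toNat : ℤ) := by
  have hdim : Ring.KrullDimLE 1 (R ⧸ q) :=
    Ring.krullDimLE_iff.mpr ((ringKrullDim_quotient_le q).trans hA)
  have hcond : IsNoetherianRing (R ⧸ q) ∧ Ring.KrullDimLE 1 (R ⧸ q) ∧ Nontrivial (R ⧸ q) ∧
      IsFractionRing (R ⧸ q) q.ResidueField := ⟨inferInstance, hdim, inferInstance, inferInstance⟩
  unfold CycAlg.ordFrac
  rw [dif_pos hcond]
  have ha0 : Ideal.Quotient.mk q a ≠ 0 := fun h => ha (Ideal.Quotient.eq_zero_iff_mem.mp h)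
  have hb0 : Ideal.Quotient.mk q b ≠ 0 := fun h => hb (Ideal.Quotient.eq_zero_iff_mem.mp h)
  have ha1 : Ideal.Quotient.mk q a ∈ nonZeroDivisors (R ⧸ q) := mem_nonZeroDivisors_of_ne_zero ha0
  have hb1 : Ideal.Quotient.mk q b ∈ nonZeroDivisors (R ⧸ q) := mem_nonZeroDivisors_of_ne_zero hb0
  have hna : Ring.ord (R ⧸ q) (Ideal.Quotient.mk q a) =
      ((Ring.ord (R ⧸ q) (Ideal.Quotient.mk q a)).toNat : ℕ∞) :=
    (ENat.natCast_toNat (Ring.ord_ne_top ha1)).symm
  have hnb : Ring.ord (R ⧸ q) (Ideal.Quotient.mk q b) =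
      ((Ring.ord (R ⧸ q) (Ideal.Quotient.mk q b)).toNat : ℕ∞) :=
    (ENat.natCast_toNat (Ring.ord_ne_top hb1)).symm
  have ea : algebraMap R q.ResidueField a = algebraMap (R ⧸ q) q.ResidueField (Ideal.Quotient.mk q a) :=
    rfl
  have eb : algebraMap R q.ResidueField b = algebraMap (R ⧸ q) q.ResidueField (Ideal.Quotient.mk q b) :=
    rfl
  rw [ea, eb, map_div₀, Ring.ordFrac_eq_ord _ ha0, Ring.ordFrac_eq_ord _ hb0,
    Ring.ordMonoidWithZeroHom_eq_coe _ ha1 hna, Ring.ordMonoidWithZeroHom_eq_coe _ hb1 hnb]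
  rw [← WithZero.coe_div, ← ofAdd_sub]
  rfl

theorem s6480 {A : Type u} [CommRing A] [IsNoetherianRing A] [IsLocalRing A]
    (hA : ringKrullDim A = 1) {M : Type u} [AddCommGroup M] [Module A M] [Module.Finite A M]
    (a b : A) (ha : a ∈ nonZeroDivisors A) (hb : b ∈ nonZeroDivisors A)
    (hMemb : ∀ p ∈ associatedPrimes A M, p ∈ minimalPrimes A)
    (I : Ideal A) (hI : I = (Ideal.span {b}).colon (Ideal.span {a}))
    (P : Submodule A M)
    (hP : P = Submodule.comap (LinearMap.lsmul A M b)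
      ((Ideal.span {a} * I) • (⊤ : Submodule A M))) :
    (Ideal.span {a} * I) • (⊤ : Submodule A M) ≤ LinearMap.range (LinearMap.lsmul A M b) ∧
    ((Module.length A (M ⧸ P)).toNat : ℤ) -
        ((Module.length A (M ⧸ I • (⊤ : Submodule A M))).toNat : ℤ) =
      ∑ᶠ (q : PrimeSpectrum A) (_ : q.asIdeal ∈ minimalPrimes A),
        ((Module.length (Localization.AtPrime q.asIdeal)
          (LocalizedModule q.asIdeal.primeCompl M)).toNat : ℤ) *
          CycAlg.ordFrac (A ⧸ q.asIdeal) q.asIdeal.ResidueField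
            (algebraMap A q.asIdeal.ResidueField a / algebraMap A q.asIdeal.ResidueField b) := by
  classical
  have ha' : ∀ p ∈ minimalPrimes A, a ∉ p := fun p hp hap =>
    Set.disjoint_left.mp (Ideal.disjoint_nonZeroDivisors_of_mem_minimalPrimes hp) hap ha
  have hb' : ∀ p ∈ minimalPrimes A, b ∉ p := fun p hp hbp =>
    Set.disjoint_left.mp (Ideal.disjoint_nonZeroDivisors_of_mem_minimalPrimes hp) hbp hb
  have hreg : ∀ x : A, (∀ p ∈ minimalPrimes A, x ∉ p) → IsSMulRegular M x := by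
    intro x hx
    by_contra hnot
    have : x ∈ ⋃ p ∈ associatedPrimes A M, (p : Set A) := by
      rw [biUnion_associatedPrimes_eq_compl_regular A M]
      exact hnot
    simp only [Set.mem_iUnion, SetLike.mem_coe] at this
    obtain ⟨p, hp, hxp⟩ := this
    exact hx p (hMemb p hp) hxp
  have hareg := hreg a ha'
  have hbreg := hreg b hb'
  have hmemI : ∀ x : A, x ∈ I ↔ x * a ∈ Ideal.span {b} := by
    intro x
    rw [hI]
    exact Ideal.mem_colon_span_singleton
  have hbI : b ∈ I := (hmemI b).mpr (Ideal.mul_mem_right a _ (Ideal.mem_span_singleton_self b))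
  have hmulI : Ideal.span {a} * I ≤ Ideal.span {b} := by
    rw [Ideal.mul_le]
    intro r hr s hs
    obtain ⟨c, rfl⟩ := Ideal.mem_span_singleton'.mp hr
    have := (hmemI s).mp hs
    have e : c * a * s = c * (s * a) := by ring
    rw [e]
    exact Ideal.mul_mem_left _ c this
  set N : Submodule A M := (Ideal.span {a} * I) • (⊤ : Submodule A M) with hNdef
  have hNb : N ≤ b • (⊤ : Submodule A M) := by
    rw [← Submodule.ideal_span_singleton_smul b ⊤]
    exact Submodule.smul_mono_left hmulI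
  have hNa' : N = a • (I • (⊤ : Submodule A M)) := by
    rw [hNdef, Submodule.mul_smul, Submodule.ideal_span_singleton_smul]
  have hNa : N ≤ a • (⊤ : Submodule A M) := by
    rw [hNa']
    intro m hm
    obtain ⟨n, -, rfl⟩ := (Submodule.mem_smul_pointwise_iff_exists _ _ _).mp hm
    exact Submodule.smul_mem_pointwise_smul _ _ _ Submodule.mem_top
  have hPa : I • (⊤ : Submodule A M) = Submodule.comap (LinearMap.lsmul A M a) N := by
    ext m
    rw [Submodule.mem_comap, hNa', Submodule.mem_smul_pointwise_iff_exists]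
    constructor
    · intro hm
      exact ⟨m, hm, rfl⟩
    · rintro ⟨n, hn, hnm⟩
      have : n = m := hareg hnm
      rw [← this]; exact hn
  refine ⟨?_, ?_⟩
  · intro m hm
    obtain ⟨n, -, rfl⟩ := (Submodule.mem_smul_pointwise_iff_exists _ _ _).mp (hNb hm)
    exact ⟨n, rfl⟩
  have eqb := length_quot_eq_add_of_le_smul_top b N P hNb hP
  have eqa := length_quot_eq_add_of_le_smul_top a N (I • (⊤ : Submodule A M)) hNa hPa
  -- the multiplicity formulas
  have hTm := minimalPrimes_spec_finite (R := A)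
  have hform : ∀ x : A, (∀ p ∈ minimalPrimes A, x ∉ p) →
      Module.length A (M ⧸ x • (⊤ : Submodule A M)) =
        ∑ q ∈ hTm.toFinset, locLen q M * cOrd x q := by
    intro x hx
    rw [main_dim_one hA M x hx, (length_ker_eq_zero_iff M x).mpr (hreg x hx), zero_add]
    refine Eq.trans (finsum_mem_eq_finite_toFinset_sum _ hTm) ?_
    refine Finset.sum_congr rfl fun q _ => ?_
    congr 1
    exact (ord_eq_length_sup q.asIdeal x).symm
  have hl : ∀ q ∈ hTm.toFinset, locLen q M = ((locLen q M).toNat : ℕ∞) := fun q hq =>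
    (ENat.natCast_toNat (locLen_ne_top_of_minimal q (hTm.mem_toFinset.mp hq) M)).symm
  have hc : ∀ x : A, (∀ p ∈ minimalPrimes A, x ∉ p) → ∀ q ∈ hTm.toFinset,
      cOrd x q = ((cOrd x q).toNat : ℕ∞) := by
    intro x hx q hq
    have hq' := hTm.mem_toFinset.mp hq
    have : Ring.KrullDimLE 1 (A ⧸ q.asIdeal) :=
      Ring.krullDimLE_iff.mpr ((ringKrullDim_quotient_le q.asIdeal).trans hA.le)
    have hx0 : Ideal.Quotient.mk q.asIdeal x ≠ 0 := fun h =>
      hx _ hq' (Ideal.Quotient.eq_zero_iff_mem.mp h)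
    exact (ENat.natCast_toNat (Ring.ord_ne_top (mem_nonZeroDivisors_of_ne_zero hx0))).symm
  have hform' : ∀ x : A, (∀ p ∈ minimalPrimes A, x ∉ p) →
      Module.length A (M ⧸ x • (⊤ : Submodule A M)) =
        ((∑ q ∈ hTm.toFinset, (locLen q M).toNat * (cOrd x q).toNat : ℕ) : ℕ∞) := by
    intro x hx
    rw [hform x hx, Nat.cast_sum]
    refine Finset.sum_congr rfl fun q hq => ?_
    rw [Nat.cast_mul, ← hl q hq, ← hc x hx q hq]
  set Sa := ∑ q ∈ hTm.toFinset, (locLen q M).toNat * (cOrd a q).toNat with hSa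
  set Sb := ∑ q ∈ hTm.toFinset, (locLen q M).toNat * (cOrd b q).toNat with hSb
  rw [hform' a ha'] at eqa
  rw [hform' b hb'] at eqb
  -- finiteness
  have hIfin : Module.length A (M ⧸ I • (⊤ : Submodule A M)) ≠ ⊤ := by
    have hle : b • (⊤ : Submodule A M) ≤ I • (⊤ : Submodule A M) := by
      intro m hm
      obtain ⟨n, -, rfl⟩ := (Submodule.mem_smul_pointwise_iff_exists _ _ _).mp hm
      exact Submodule.smul_mem_smul hbI Submodule.mem_top
    have := Module.length_le_of_surjective (Submodule.factor hle) (Submodule.factor_surjective hle)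
    rw [hform' b hb'] at this
    exact ne_top_of_le_ne_top (ENat.natCast_ne_top _) this
  have hNfin : Module.length A (M ⧸ N) ≠ ⊤ := by
    rw [eqa]
    exact WithTop.add_ne_top.mpr ⟨hIfin, ENat.natCast_ne_top _⟩
  have hPfin : Module.length A (M ⧸ P) ≠ ⊤ := by
    refine ne_top_of_le_ne_top hNfin ?_
    rw [eqb]
    exact le_self_add
  have e1 : Module.length A (M ⧸ P) = ((Module.length A (M ⧸ P)).toNat : ℕ∞) :=
    (ENat.natCast_toNat hPfin).symm
  have e2 : Module.length A (M ⧸ I • (⊤ : Submodule A M)) =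
      ((Module.length A (M ⧸ I • (⊤ : Submodule A M))).toNat : ℕ∞) :=
    (ENat.natCast_toNat hIfin).symm
  have key : (Module.length A (M ⧸ P)).toNat + Sb =
      (Module.length A (M ⧸ I • (⊤ : Submodule A M))).toNat + Sa := by
    have := eqb.symm.trans eqa
    rw [e1, e2] at this
    exact_mod_cast this
  -- the right-hand side
  have hrhs : (∑ᶠ (q : PrimeSpectrum A) (_ : q.asIdeal ∈ minimalPrimes A),
        ((Module.length (Localization.AtPrime q.asIdeal)
          (LocalizedModule q.asIdeal.primeCompl M)).toNat : ℤ) *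
          CycAlg.ordFrac (A ⧸ q.asIdeal) q.asIdeal.ResidueField
            (algebraMap A q.asIdeal.ResidueField a / algebraMap A q.asIdeal.ResidueField b)) =
      ∑ q ∈ hTm.toFinset, ((locLen q M).toNat : ℤ) *
        (((cOrd a q).toNat : ℤ) - ((cOrd b q).toNat : ℤ)) := by
    refine Eq.trans (finsum_mem_eq_finite_toFinset_sum _ hTm) ?_
    refine Finset.sum_congr rfl fun q hq => ?_
    have hq' := hTm.mem_toFinset.mp hq
    have := q.2
    rw [ordFrac_div_eq hA.le q.asIdeal a b (ha' _ hq') (hb' _ hq')]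
  rw [hrhs]
  simp only [mul_sub, Finset.sum_sub_distrib]
  have hSa' : (∑ q ∈ hTm.toFinset, ((locLen q M).toNat : ℤ) * ((cOrd a q).toNat : ℤ)) = (Sa : ℤ) := by
    rw [hSa]; push_cast; rfl
  have hSb' : (∑ q ∈ hTm.toFinset, ((locLen q M).toNat : ℤ) * ((cOrd b q).toNat : ℤ)) = (Sb : ℤ) := by
    rw [hSb]; push_cast; rfl
  rw [hSa', hSb']
  have := congrArg (Nat.cast : ℕ → ℤ) key
  push_cast at this
  linarith

end Groth.Agent.Lib.Helper79.LenMultOrd
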