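import Mathlib
import Groth.Agent.Lib.Helper79.LocalDualityE
import Groth.Agent.Lib.Helper26.LcCM
import Groth.Agent.Lib.Helper82.CISpreadA
import Groth.Agent.Lib.Helper29.DepthGrade
import Groth.Agent.Lib.Helper79.DSeqPrime
import Groth.Agent.S11665
import Groth.Agent.S0341

set_option autoImplicit false
universe u
open CategoryTheory CategoryTheory.Limits Opposite Abelian

namespace Groth.Agent.Lib.Helper79.LocalDuality

open Groth.Agent.Lib.Helper60 Groth.Agent.Lib.Helper79.ExtRep

section Gorenstein

variable (S : Type u) [CommRing S] [LocCoh.IsGorensteinLocalRing S] (s : ℕ)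
  (hs : ringKrullDim S = s)

include hs

/-- A Gorenstein local ring of dimension `s` satisfies the hypotheses of local duality. -/
theorem dualData_of_isGorensteinLocalRing : DualData (IsLocalRing.maximalIdeal S) s where
  vanish_lt i hi := by
    have hCM : LocCoh.IsCohenMacaulayLocalRing S := Groth.Agent.S0341.result S
    have h1 : Module.supportDim S S = ((LocCoh.depth S S : ℕ∞) : WithBot ℕ∞) :=
      hCM.supportDim_eq_depth
    rw [Module.supportDim_self_eq_ringKrullDim, hs] at h1
    have h2 : (s : ℕ∞) = LocCoh.depth S S := by exact_mod_cast h1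
    have h3 : (s : ℕ∞) ≤ LocCoh.idealDepth (IsLocalRing.maximalIdeal S) S := h2.le
    exact (Groth.Agent.Lib.Helper26.LcCM.lc_vanishing_iff_le_idealDepth S
      (IsLocalRing.maximalIdeal S) S s).mpr h3 i hi
  vanish_succ N _ _ hN := by
    apply lc_subsingleton_of_supportDim_lt_of_finite (IsLocalRing.maximalIdeal S) (s + 1) N
    refine lt_of_le_of_lt (Module.supportDim_le_ringKrullDim S N) ?_
    rw [hs]
    exact_mod_cast Nat.lt_succ_self s
  injective := by
    obtain ⟨g, hg⟩ := Groth.Agent.S11665.result S s hs
    exact hg.isInjective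

/-- Local duality for a Gorenstein local ring (new `Ext`, target `H^s_m(S)`). -/
theorem nonempty_linearEquiv_of_isGorensteinLocalRing (M : Type u) [AddCommGroup M] [Module S M]
    [Module.Finite S M] (i : ℕ) (hi : i ≤ s) :
    Nonempty ((localCohomology (IsLocalRing.maximalIdeal S) i).obj (ModuleCat.of S M) ≃ₗ[S]
      (Abelian.Ext (ModuleCat.of S M) (ωR S) (s - i) →ₗ[S]
        (localCohomology (IsLocalRing.maximalIdeal S) s).obj (ωR S))) :=
  ⟨LinearEquiv.ofBijective _
    (Psi_bijective (dualData_of_isGorensteinLocalRing S s hs) (s - i) M i (by omega))⟩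

end Gorenstein

end Groth.Agent.Lib.Helper79.LocalDuality
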