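import Mathlib
import Groth.Agent.Lib.Helper79.PFID1

/-! Modules generically free along `V(p)` (helper79): `Built p g ℓ M` says that `M` has a chain of
`ℓ` submodules with successive quotients `A/p` whose final quotient is killed by a power of `g`. -/

set_option autoImplicit false
universe u

open CategoryTheory Limits Pretriangulated DerivedCategory

namespace Groth.Agent.Lib.Helper79.PFID

attribute [local instance] HasDerivedCategory.standard

variable {A : Type u} [CommRing A]

/-- `M` is an `ℓ`-fold extension of copies of `A/p` (as submodules), up to `g`-power torsion. -/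
def Built (p : Ideal A) (g : A) : ℕ → (M : Type u) → [AddCommGroup M] → [Module A M] → Prop
  | 0, M, _, _ => ∃ k : ℕ, ∀ m : M, g ^ k • m = 0
  | (ℓ + 1), M, _, _ => ∃ ι : (A ⧸ p) →ₗ[A] M, Function.Injective ι ∧
      Built p g ℓ (M ⧸ LinearMap.range ι)

section Built

variable {p : Ideal A} {g : A}

lemma Built.of_equiv : ∀ (ℓ : ℕ) {M M' : Type u} [AddCommGroup M] [Module A M] [AddCommGroup M']
    [Module A M'] (_ : M ≃ₗ[A] M'), Built p g ℓ M → Built p g ℓ M'
  | 0, M, M', _, _, _, _, e, h => by
      obtain ⟨k, hk⟩ := h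
      refine ⟨k, fun m' => ?_⟩
      have := hk (e.symm m')
      apply e.symm.injective
      rw [map_smul, this, map_zero]
  | (ℓ + 1), M, M', _, _, _, _, e, h => by
      obtain ⟨ι, hι, hB⟩ := h
      refine ⟨e.toLinearMap ∘ₗ ι, e.injective.comp hι, ?_⟩
      have hr : (LinearMap.range ι).map e.toLinearMap = LinearMap.range (e.toLinearMap ∘ₗ ι) := by
        rw [LinearMap.range_comp]
      exact Built.of_equiv ℓ (Submodule.Quotient.equiv _ _ e hr) hB

lemma Built.of_dvd {g' : A} (hd : g ∣ g') : ∀ (ℓ : ℕ) {M : Type u} [AddCommGroup M] [Module A M],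
    Built p g ℓ M → Built p g' ℓ M
  | 0, M, _, _, h => by
      obtain ⟨k, hk⟩ := h
      obtain ⟨c, rfl⟩ := hd
      refine ⟨k, fun m => ?_⟩
      rw [mul_pow, mul_comm, mul_smul, hk, smul_zero]
  | (ℓ + 1), M, _, _, h => by
      obtain ⟨ι, hι, hB⟩ := h
      exact ⟨ι, hι, Built.of_dvd hd ℓ hB⟩

lemma Built.of_subsingleton (M : Type u) [AddCommGroup M] [Module A M] [Subsingleton M] :
    Built p g 0 M := ⟨0, fun _ => Subsingleton.elim _ _⟩

/-- `A/p` itself. -/
lemma Built.quotient_self : Built p (1 : A) 1 (A ⧸ p) := by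
  refine ⟨LinearMap.id, Function.injective_id, ?_⟩
  have : Subsingleton ((A ⧸ p) ⧸ LinearMap.range (LinearMap.id : (A ⧸ p) →ₗ[A] (A ⧸ p))) := by
    rw [LinearMap.range_id]
    infer_instance
  exact Built.of_subsingleton _

end Built

section Exists

variable [IsNoetherianRing A] (p : Ideal A) [hp : p.IsPrime]

include hp in
/-- a finite module killed by a prime `p` is generically free along `V(p)`. -/
theorem exists_built (M : Type u) [AddCommGroup M] [Module A M] [Module.Finite A M]
    (hM : ∀ a ∈ p, ∀ m : M, a • m = 0) : ∃ g ∉ p, ∃ ℓ : ℕ, Built p g ℓ M := by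
  have : IsNoetherian A M := isNoetherian_of_isNoetherianRing_of_finite A M
  suffices H : ∀ N : Submodule A M, ∃ g ∉ p, ∃ ℓ : ℕ, Built p g ℓ (M ⧸ N) by
    obtain ⟨g, hg, ℓ, hB⟩ := H ⊥
    exact ⟨g, hg, ℓ, Built.of_equiv ℓ (Submodule.quotEquivOfEqBot ⊥ rfl) hB⟩
  intro N
  induction N using IsNoetherian.induction with
  | hgt N ih =>
    by_cases hA : ∃ g ∉ p, ∀ x : M ⧸ N, g • x = 0
    · obtain ⟨g, hg, hx⟩ := hA
      exact ⟨g, hg, 0, 1, fun m => by rw [pow_one]; exact hx m⟩
    · -- find an element with annihilator exactly `p`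
      have hex : ∃ x : M ⧸ N, ∀ a : A, a • x = 0 → a ∈ p := by
        by_contra hcon
        push Not at hcon
        apply hA
        obtain ⟨s, hs⟩ := (inferInstance : Module.Finite A (M ⧸ N)).fg_top
        choose a ha ha' using hcon
        refine ⟨∏ x ∈ s, a x, ?_, ?_⟩
        · rw [hp.prod_mem_iff]
          rintro ⟨x, -, hx⟩
          exact ha' x hx
        · intro x
          have hx : x ∈ Submodule.span A (s : Set (M ⧸ N)) := by rw [hs]; trivial
          induction hx using Submodule.span_induction with
          | mem y hy =>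
            obtain ⟨c, hc⟩ := Finset.dvd_prod_of_mem a hy
            rw [hc, mul_comm, mul_smul, ha y, smul_zero]
          | zero => rw [smul_zero]
          | add y z _ _ hy hz => rw [smul_add, hy, hz, add_zero]
          | smul c y _ hy => rw [smul_comm, hy, smul_zero]
      obtain ⟨x, hx⟩ := hex
      obtain ⟨y, rfl⟩ := N.mkQ_surjective x
      have hkill : ∀ a ∈ p, a • N.mkQ y = 0 := by
        intro a ha
        rw [← map_smul, hM a ha y, map_zero]
      let ι : (A ⧸ p) →ₗ[A] (M ⧸ N) :=
        Submodule.liftQ p (LinearMap.toSpanSingleton A (M ⧸ N) (N.mkQ y)) (by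
          intro a ha
          rw [LinearMap.mem_ker, LinearMap.toSpanSingleton_apply]
          exact hkill a ha)
      have hι : Function.Injective ι := by
        rw [← LinearMap.ker_eq_bot, Submodule.ker_liftQ_eq_bot']
        refine le_antisymm ?_ ?_
        · intro a ha
          rw [LinearMap.mem_ker, LinearMap.toSpanSingleton_apply]
          exact hkill a ha
        · intro a ha
          rw [LinearMap.mem_ker, LinearMap.toSpanSingleton_apply] at ha
          exact hx a ha
      have hrange : LinearMap.range ι = Submodule.span A {N.mkQ y} := by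
        rw [Submodule.range_liftQ, LinearMap.range_toSpanSingleton]
      have hy : y ∉ N := by
        intro hy
        have h0 : N.mkQ y = 0 := by simpa using hy
        have := hx 1 (by rw [h0, smul_zero])
        exact hp.ne_top ((Ideal.eq_top_iff_one p).2 this)
      let N' : Submodule A M := N ⊔ Submodule.span A {y}
      have hlt : N < N' := by
        refine lt_of_le_of_ne le_sup_left ?_
        intro heq
        apply hy
        rw [heq]
        exact Submodule.mem_sup_right (Submodule.mem_span_singleton_self y)
      obtain ⟨g, hg, ℓ, hB⟩ := ih N' hlt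
      have hmap : N'.map N.mkQ = LinearMap.range ι := by
        rw [hrange, Submodule.map_sup, Submodule.map_span, Set.image_singleton]
        rw [Submodule.mkQ_map_self, bot_sup_eq]
      refine ⟨g, hg, ℓ + 1, ι, hι, ?_⟩
      exact Built.of_equiv ℓ ((Submodule.quotientQuotientEquivQuotient N N' hlt.le).symm ≪≫ₗ
        Submodule.quotEquivOfEq _ _ hmap) hB

end Exists

end Groth.Agent.Lib.Helper79.PFID
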