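import Mathlib
import Groth.Agent.Lib.Helper79.PFID2

/-! `S`-local vanishing of `Ext(M, R)` for modules built from `A/p` (helper79). -/

set_option autoImplicit false
universe u

open CategoryTheory Limits Pretriangulated DerivedCategory

namespace Groth.Agent.Lib.Helper79.PFID

attribute [local instance] HasDerivedCategory.standard

variable {A : Type u} [CommRing A]

section SES

variable {S : Submonoid A} {M' M M'' : Type u} [AddCommGroup M'] [Module A M'] [AddCommGroup M]
  [Module A M] [AddCommGroup M''] [Module A M''] (f : M' →ₗ[A] M) (g : M →ₗ[A] M'')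
  (hf : Function.Injective f) (hg : Function.Surjective g) (hfg : Function.Exact f g)

/-- the short complex of a short exact sequence of modules. -/
noncomputable abbrev sesSC : ShortComplex (ModuleCat.{u} A) :=
  ShortComplex.mk (ModuleCat.ofHom f) (ModuleCat.ofHom g) (by
    ext x
    exact hfg.apply_apply_eq_zero x)

include hf hg hfg in
lemma sesSC_shortExact : (sesSC f g hfg).ShortExact :=
  ModuleCat.shortComplex_shortExact _ hfg hf hg

include hf hg hfg in
lemma NS.ses_mid (W : Dual.D A) (h₁ : NS S (Dual.inD A M') W) (h₃ : NS S (Dual.inD A M'') W) :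
    NS S (Dual.inD A M) W :=
  NS.mid_left _ (sesSC_shortExact f g hf hg hfg).singleTriangle_distinguished W h₁ h₃

include hf hg hfg in
lemma NS.ses_left (R : Dual.D A) (i : ℤ) (h₂ : NS S (Dual.inD A M) (R⟦i⟧))
    (h₃ : NS S (Dual.inD A M'') (R⟦i + 1⟧)) : NS S (Dual.inD A M') (R⟦i⟧) :=
  NS.left_of R _ (sesSC_shortExact f g hf hg hfg).singleTriangle_distinguished i h₂ h₃

include hf hg hfg in
lemma NS.ses_right (R : Dual.D A) (i j : ℤ) (hj : j + 1 = i) (h₂ : NS S (Dual.inD A M) (R⟦i⟧))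
    (h₁ : NS S (Dual.inD A M') (R⟦j⟧)) : NS S (Dual.inD A M'') (R⟦i⟧) :=
  NS.right_of R _ (sesSC_shortExact f g hf hg hfg).singleTriangle_distinguished i j hj h₂ h₁

end SES

section Torsion

variable {S : Submonoid A}

lemma smul_id_inD_eq_zero (M : Type u) [AddCommGroup M] [Module A M] (a : A)
    (h : ∀ m : M, a • m = 0) : a • 𝟙 (Dual.inD A M) = 0 := by
  have h0 : a • 𝟙 (ModuleCat.of A M) = 0 := by
    ext m
    exact h m
  change a • 𝟙 ((DerivedCategory.singleFunctor (ModuleCat.{u} A) 0).obj (ModuleCat.of A M)) = 0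
  rw [← (DerivedCategory.singleFunctor (ModuleCat.{u} A) 0).map_id, ← Functor.map_smul, h0,
    Functor.map_zero]

lemma NS.of_smul_eq_zero (M : Type u) [AddCommGroup M] [Module A M] (a : A) (ha : a ∈ S)
    (h : ∀ m : M, a • m = 0) (W : Dual.D A) : NS S (Dual.inD A M) W :=
  NS.of_smul_id_eq_zero a ha (smul_id_inD_eq_zero M a h)

/-- the action of `a` on `Hom(M[0], W)` is induced by multiplication by `a` on `M`. -/
lemma inD_map_smul_comp (M : Type u) [AddCommGroup M] [Module A M] (a : A) (W : Dual.D A)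
    (φ : Dual.inD A M ⟶ W) :
    (DerivedCategory.singleFunctor (ModuleCat.{u} A) 0).map
      (ModuleCat.ofHom (a • (LinearMap.id : M →ₗ[A] M))) ≫ φ = a • φ := by
  have h0 : ModuleCat.ofHom (a • (LinearMap.id : M →ₗ[A] M)) = a • 𝟙 (ModuleCat.of A M) := by
    ext m
    rfl
  rw [h0, Functor.map_smul, (DerivedCategory.singleFunctor (ModuleCat.{u} A) 0).map_id,
    Linear.smul_comp, Category.id_comp]

lemma NS.of_linearEquiv {M M' : Type u} [AddCommGroup M] [Module A M] [AddCommGroup M']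
    [Module A M'] (e : M ≃ₗ[A] M') (W : Dual.D A) (h : NS S (Dual.inD A M) W) :
    NS S (Dual.inD A M') W :=
  h.of_iso_left ((DerivedCategory.singleFunctor (ModuleCat.{u} A) 0).mapIso e.toModuleIso)

end Torsion

section BuiltNS

variable {S : Submonoid A} (R : Dual.D A) {p : Ideal A} {g : A} (hg : g ∈ S)

include hg in
lemma Built.ns_zero {M : Type u} [AddCommGroup M] [Module A M] (h : Built p g 0 M)
    (W : Dual.D A) : NS S (Dual.inD A M) W := by
  obtain ⟨k, hk⟩ := h
  exact NS.of_smul_eq_zero M (g ^ k) (S.pow_mem hg k) hk W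

include hg in
/-- above the top degree `j₀` of `Ext(A/p, R)`, the `Ext(M, R)` vanish `S`-locally. -/
lemma Built.ns_gt (j₀ : ℤ) (hΦ : ∀ j : ℤ, j₀ < j → NS S (Dual.inD A (A ⧸ p)) (R⟦j⟧)) :
    ∀ (ℓ : ℕ) {M : Type u} [AddCommGroup M] [Module A M], Built p g ℓ M →
      ∀ j : ℤ, j₀ < j → NS S (Dual.inD A M) (R⟦j⟧)
  | 0, M, _, _, h, j, _ => Built.ns_zero hg h _
  | (ℓ + 1), M, _, _, h, j, hj => by
      obtain ⟨ι, hι, hB⟩ := h
      exact NS.ses_mid ι (LinearMap.range ι).mkQ hι (Submodule.mkQ_surjective _)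
        (LinearMap.exact_map_mkQ_range ι) _ (hΦ j hj) (Built.ns_gt j₀ hΦ ℓ hB j hj)

include hg in
/-- in the top degree `j₀` of `Ext(A/p, R)`, `Ext(M, R)` does not vanish `S`-locally if `M`
contains `A/p` generically. -/
lemma Built.not_ns (j₀ : ℤ) (hΦ : ∀ j : ℤ, j₀ < j → NS S (Dual.inD A (A ⧸ p)) (R⟦j⟧))
    (hΨ : ¬ NS S (Dual.inD A (A ⧸ p)) (R⟦j₀⟧)) (ℓ : ℕ) {M : Type u} [AddCommGroup M] [Module A M]
    (h : Built p g (ℓ + 1) M) : ¬ NS S (Dual.inD A M) (R⟦j₀⟧) := by
  obtain ⟨ι, hι, hB⟩ := h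
  intro hM
  apply hΨ
  exact NS.ses_left ι (LinearMap.range ι).mkQ hι (Submodule.mkQ_surjective _)
    (LinearMap.exact_map_mkQ_range ι) R j₀ hM (Built.ns_gt R hg j₀ hΦ ℓ hB (j₀ + 1) (by omega))

end BuiltNS

end Groth.Agent.Lib.Helper79.PFID
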