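import Mathlib
import Groth.Agent.Lib.Helper79.PFID3
import Groth.Agent.Lib.Helper35.TwoTerm

/-! The top-degree (corner) argument along the Postnikov tower (helper79). -/

set_option autoImplicit false
universe u

open CategoryTheory Limits Pretriangulated DerivedCategory

namespace Groth.Agent.Lib.Helper79.PFID

attribute [local instance] HasDerivedCategory.standard

open Groth.Agent.Lib.Helper35.KL

variable {A : Type u} [CommRing A]

section

variable {S : Submonoid A} (R : Dual.D A)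

/-- `Hom(H[-s], R[i]) = Hom(H, R[j])` for modules, `j = i + s`. -/
lemma NS_single_iff (H : ModuleCat.{u} A) (s i j : ℤ) (h : j - s = i) :
    NS S ((DerivedCategory.singleFunctor (ModuleCat.{u} A) s).obj H) (R⟦i⟧) ↔
      NS S (Dual.inD A H) (R⟦j⟧) := by
  have e : ((DerivedCategory.singleFunctor (ModuleCat.{u} A) 0).obj H)⟦-s⟧ ≅
      (DerivedCategory.singleFunctor (ModuleCat.{u} A) s).obj H :=
    ((DerivedCategory.singleFunctors (ModuleCat.{u} A)).shiftIso (-s) s 0 (by omega)).app H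
  rw [← NS_shift_left_iff (S := S) (X := Dual.inD A H) R (-s) i j (by omega)]
  exact ⟨fun h1 => h1.of_iso_left e.symm, fun h1 => h1.of_iso_left e⟩

end

section Postnikov

variable {S : Submonoid A} (R : Dual.D A) {p : Ideal A} {g : A} (hg : g ∈ S) (j₀ : ℤ)
  (hΦ : ∀ j : ℤ, j₀ < j → NS S (Dual.inD A (A ⧸ p)) (R⟦j⟧))
  (hΨ : ¬ NS S (Dual.inD A (A ⧸ p)) (R⟦j₀⟧))

include hg hΦ hΨ in
/-- **Corner argument.**  If `X ∈ D^{[-t,0]}` has cohomology modules generically free along
`V(p)` with `H⁰(X)` generically nonzero, then `Ext^i(X, R)` vanishes `S`-locally for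
`i > j₀ + t` and does not vanish `S`-locally for some `i ≥ j₀`, where `j₀` is the top degree of
`Ext(A/p, R)` (`S`-locally). -/
theorem postnikov : ∀ (t : ℕ) (X : Dual.D A), X.IsLE 0 → X.IsGE (-(t : ℤ)) →
    (∀ s : ℤ, ∃ ℓ : ℕ, Built p g ℓ (Dual.HD A X s)) →
    (∃ ℓ : ℕ, Built p g (ℓ + 1) (Dual.HD A X 0)) →
    (∀ i : ℤ, j₀ + t < i → NS S X (R⟦i⟧)) ∧ (∃ m : ℤ, j₀ ≤ m ∧ ¬ NS S X (R⟦m⟧)) := by
  intro t
  induction t with
  | zero =>
    intro X hLE hGE _ h0
    have hGE' : X.IsGE 0 := by simpa using hGE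
    obtain ⟨H, ⟨e⟩⟩ := exists_iso_singleFunctor_obj_of_isGE_of_isLE X 0
    let i0 : (homologyFunctor (ModuleCat.{u} A) 0).obj X ≅ H :=
      (homologyFunctor (ModuleCat.{u} A) 0).mapIso e ≪≫
        (DerivedCategory.singleFunctorCompHomologyFunctorIso (ModuleCat.{u} A) 0).app H
    obtain ⟨ℓ, hℓ⟩ := h0
    have hB : Built p g (ℓ + 1) H := Built.of_equiv (ℓ + 1) i0.toLinearEquiv hℓ
    constructor
    · intro i hi
      exact (Built.ns_gt R hg j₀ hΦ (ℓ + 1) hB i (by push_cast at hi; omega)).of_iso_left e.symm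
    · refine ⟨j₀, le_rfl, fun hX => ?_⟩
      exact Built.not_ns R hg j₀ hΦ hΨ ℓ hB (hX.of_iso_left e)
  | succ t ih =>
    intro X hLE hGE hall h0
    let n : ℤ := -(t : ℤ)
    have hT := TStructure.t.triangleLTGE_distinguished n X
    -- the quotient `τ^{≥ n} X`
    have h3GE : TStructure.t.IsGE ((TStructure.t.truncGE n).obj X) n := inferInstance
    have h3LE : TStructure.t.IsLE ((TStructure.t.truncGE n).obj X) 0 := inferInstance
    have hiso3 : ∀ s : ℤ, n ≤ s → IsIso ((homologyFunctor (ModuleCat.{u} A) s).map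
        ((TStructure.t.truncGEπ n).app X)) := fun s hs => isIso_homology_map_truncGEπ' X n s hs
    have hall3 : ∀ s : ℤ, ∃ ℓ : ℕ, Built p g ℓ (Dual.HD A ((TStructure.t.truncGE n).obj X) s) := by
      intro s
      by_cases hs : n ≤ s
      · obtain ⟨ℓ, hℓ⟩ := hall s
        have := hiso3 s hs
        exact ⟨ℓ, Built.of_equiv ℓ (asIso ((homologyFunctor (ModuleCat.{u} A) s).map
          ((TStructure.t.truncGEπ n).app X))).toLinearEquiv hℓ⟩
      · have hz : IsZero ((homologyFunctor (ModuleCat.{u} A) s).obj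
            ((TStructure.t.truncGE n).obj X)) := isZero_of_isGE _ n s (by omega)
        have : Subsingleton (Dual.HD A ((TStructure.t.truncGE n).obj X) s) :=
          ModuleCat.subsingleton_of_isZero hz
        exact ⟨0, Built.of_subsingleton _⟩
    have h03 : ∃ ℓ : ℕ, Built p g (ℓ + 1) (Dual.HD A ((TStructure.t.truncGE n).obj X) 0) := by
      obtain ⟨ℓ, hℓ⟩ := h0
      have := hiso3 0 (by omega)
      exact ⟨ℓ, Built.of_equiv (ℓ + 1) (asIso ((homologyFunctor (ModuleCat.{u} A) 0).map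
        ((TStructure.t.truncGEπ n).app X))).toLinearEquiv hℓ⟩
    obtain ⟨I1, m, hm, I2⟩ := ih ((TStructure.t.truncGE n).obj X) h3LE h3GE hall3 h03
    -- the bottom piece `τ^{< n} X`
    have h1LE : TStructure.t.IsLE ((TStructure.t.truncLT n).obj X) (n - 1) :=
      TStructure.t.isLE_truncLT_obj X n (n - 1)
    have hGE' : TStructure.t.IsGE X (n - 1) := by
      have : n - 1 = -((t + 1 : ℕ) : ℤ) := by push_cast; omega
      rw [this]
      exact hGE
    have h1GE : TStructure.t.IsGE ((TStructure.t.truncLT n).obj X) (n - 1) := inferInstance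
    obtain ⟨H, ⟨e⟩⟩ := exists_iso_singleFunctor_obj_of_isGE_of_isLE
      ((TStructure.t.truncLT n).obj X) (n - 1)
    have hiso1 := isIso_homology_map_truncLTι' X n (n - 1) (by omega)
    let i1 : (homologyFunctor (ModuleCat.{u} A) (n - 1)).obj X ≅ H :=
      (asIso ((homologyFunctor (ModuleCat.{u} A) (n - 1)).map
        ((TStructure.t.truncLTι n).app X))).symm ≪≫
      (homologyFunctor (ModuleCat.{u} A) (n - 1)).mapIso e ≪≫
        (DerivedCategory.singleFunctorCompHomologyFunctorIso (ModuleCat.{u} A) (n - 1)).app H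
    obtain ⟨ℓ₁, hℓ₁⟩ := hall (n - 1)
    have hB1 : Built p g ℓ₁ H := Built.of_equiv ℓ₁ i1.toLinearEquiv hℓ₁
    -- `Ext^i(X₁) = Ext^{i + n - 1}(H)`
    have hX1 : ∀ i j : ℤ, j - (n - 1) = i →
        (NS S ((TStructure.t.truncLT n).obj X) (R⟦i⟧) ↔ NS S (Dual.inD A H) (R⟦j⟧)) := by
      intro i j hij
      rw [← NS_single_iff R H (n - 1) i j hij]
      exact ⟨fun h1 => h1.of_iso_left e, fun h1 => h1.of_iso_left e.symm⟩
    constructor
    · intro i hi
      push_cast at hi
      refine NS.mid_left _ hT (R⟦i⟧) ?_ (I1 i (by omega))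
      change NS S ((TStructure.t.truncLT n).obj X) (R⟦i⟧)
      rw [hX1 i (i + (n - 1)) (by omega)]
      exact Built.ns_gt R hg j₀ hΦ ℓ₁ hB1 _ (by omega)
    · cases ℓ₁ with
      | zero =>
        refine ⟨m, hm, fun hX => I2 ?_⟩
        refine NS.right_of R _ hT m (m - 1) (by omega) hX ?_
        change NS S ((TStructure.t.truncLT n).obj X) (R⟦m - 1⟧)
        rw [hX1 (m - 1) (m - 1 + (n - 1)) (by omega)]
        exact Built.ns_zero hg hB1 _
      | succ ℓ' =>
        refine ⟨j₀ + (t + 1 : ℕ), by push_cast; omega, fun hX => ?_⟩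
        have h1 : NS S ((TStructure.t.truncLT n).obj X) (R⟦j₀ + ((t + 1 : ℕ) : ℤ)⟧) :=
          NS.left_of R _ hT _ hX (I1 _ (by push_cast; omega))
        rw [hX1 (j₀ + ((t + 1 : ℕ) : ℤ)) j₀ (by push_cast; omega)] at h1
        exact Built.not_ns R hg j₀ hΦ hΨ ℓ' hB1 h1

end Postnikov

end Groth.Agent.Lib.Helper79.PFID
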