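import Mathlib
import Groth.Agent.Lib.Helper79.PFID4
import Groth.Agent.Lib.Helper12.KoszulDepth
import Groth.Agent.Lib.Helper35.DevNoShift

/-! The Koszul complex as a test object (helper79). -/

set_option autoImplicit false
universe u

open CategoryTheory Limits Pretriangulated DerivedCategory CochainComplex

namespace Groth.Agent.Lib.Helper79.PFID

attribute [local instance] HasDerivedCategory.standard

open Groth.Agent.Lib.Helper35.KL Groth.Agent.Lib.Helper12.Koszul
  Groth.Agent.Lib.Helper12.KoszulTop Groth.Agent.Lib.Helper12.KoszulDepth CohIII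

variable {A : Type u} [CommRing A]

section Terms

lemma projective_finite_cone_X {K : CochainComplex (ModuleCat.{u} A) ℤ} (f : A)
    (hK : ∀ i, Module.Projective A (K.X i) ∧ Module.Finite A (K.X i)) (i : ℤ) :
    Module.Projective A ((mappingCone (f • 𝟙 K)).X i) ∧
      Module.Finite A ((mappingCone (f • 𝟙 K)).X i) := by
  have h1 := (hK i).1
  have h2 := (hK (i + 1)).1
  have h3 := (hK i).2
  have h4 := (hK (i + 1)).2
  let ι : (mappingCone (f • 𝟙 K)).X i →ₗ[A] (K.X (i + 1) × K.X i) :=
    LinearMap.prod ((mappingCone.fst (f • 𝟙 K)).1.v i (i + 1) rfl).hom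
      ((mappingCone.snd (f • 𝟙 K)).v i i (add_zero i)).hom
  let ρ : (K.X (i + 1) × K.X i) →ₗ[A] (mappingCone (f • 𝟙 K)).X i :=
    LinearMap.coprod ((mappingCone.inl (f • 𝟙 K)).v (i + 1) i (by lia)).hom
      ((mappingCone.inr (f • 𝟙 K)).f i).hom
  have hρι : ρ ∘ₗ ι = LinearMap.id := by
    apply LinearMap.ext
    intro x
    exact congrArg (fun φ => φ.hom x) (mappingCone.id_X (f • 𝟙 K) i (i + 1) rfl)
  constructor
  · exact Module.Projective.of_split ι ρ hρι
  · refine Module.Finite.of_surjective ρ (fun x => ⟨ι x, ?_⟩)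
    exact congrArg (fun φ => φ x) hρι

lemma projective_finite_koszulCx_X :
    ∀ (fs : List A) (i : ℤ), Module.Projective A ((koszulCx (ModuleCat.of A A) fs).X i) ∧
      Module.Finite A ((koszulCx (ModuleCat.of A A) fs).X i)
  | [], i => by
      by_cases hi : i = 0
      · subst hi
        let e := (HomologicalComplex.singleObjXSelf (ComplexShape.up ℤ) 0
          (ModuleCat.of A A)).toLinearEquiv
        exact ⟨Module.Projective.of_equiv e.symm, Module.Finite.equiv e.symm⟩
      · have hz : IsZero ((koszulCx (ModuleCat.of A A) []).X i) :=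
          HomologicalComplex.isZero_single_obj_X _ _ _ _ hi
        have : Subsingleton ((koszulCx (ModuleCat.of A A) []).X i) :=
          ModuleCat.subsingleton_of_isZero hz
        exact ⟨inferInstance, inferInstance⟩
  | f :: fs, i => projective_finite_cone_X f (projective_finite_koszulCx_X fs) i

end Terms

section KD

variable (fs : List A)

/-- the Koszul complex on `fs` as an object of `D(A)`. -/
noncomputable def KD : Dual.D A := Q.obj (koszulCx (ModuleCat.of A A) fs)

instance : (KD fs).IsLE 0 := by
  unfold KD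
  infer_instance

instance : (KD fs).IsGE (-(fs.length : ℤ)) := by
  unfold KD
  have := isStrictlyGE_koszulCx (ModuleCat.of A A) fs
  infer_instance

/-- the cohomology of `KD` is that of the Koszul complex. -/
noncomputable def KDhomologyIso (s : ℤ) :
    (homologyFunctor (ModuleCat.{u} A) s).obj (KD fs) ≅
      (koszulCx (ModuleCat.of A A) fs).homology s :=
  (homologyFunctorFactors (ModuleCat.{u} A) s).app _

lemma KD_homology_finite [IsNoetherianRing A] (s : ℤ) : Module.Finite A (Dual.HD A (KD fs) s) := by
  let E := koszulCx (ModuleCat.of A A) fs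
  have h1 := (projective_finite_koszulCx_X fs s).2
  have hN : IsNoetherian A (E.X s) := isNoetherian_of_isNoetherianRing_of_finite A (E.X s)
  have h2 : Module.Finite A (E.cycles s) :=
    Module.Finite.of_injective (E.iCycles s).hom
      ((ModuleCat.mono_iff_injective (E.iCycles s)).mp inferInstance)
  have h3 : Module.Finite A (E.homology s) :=
    Module.Finite.of_surjective (E.homologyπ s).hom
      ((ModuleCat.epi_iff_surjective (E.homologyπ s)).mp inferInstance)
  exact Module.Finite.equiv (KDhomologyIso fs s).toLinearEquiv.symm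

lemma KD_homology_smul (s : ℤ) (a : A) (ha : a ∈ Ideal.span {x | x ∈ fs})
    (x : Dual.HD A (KD fs) s) : a • x = 0 := by
  have h0 := homologyMap_smul_eq_zero A fs a ha s
  rw [homologyMap_smul', HomologicalComplex.homologyMap_id] at h0
  have h1 : ∀ y : (koszulCx (ModuleCat.of A A) fs).homology s, a • y = 0 := by
    intro y
    exact congrArg (fun φ => φ.hom y) h0
  apply (KDhomologyIso fs s).toLinearEquiv.injective
  rw [map_smul, h1, map_zero]

lemma KD_homology_zero : Nonempty (Dual.HD A (KD fs) 0 ≃ₗ[A] (A ⧸ Ideal.span {x | x ∈ fs})) := by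
  obtain ⟨e⟩ := nonempty_top_equiv fs A
  have h : (Ideal.ofList fs • (⊤ : Submodule A A)) = Ideal.span {x | x ∈ fs} := by
    rw [Ideal.smul_eq_mul]
    exact Ideal.mul_top _
  exact ⟨(KDhomologyIso fs 0).toLinearEquiv ≪≫ₗ e ≪≫ₗ Submodule.quotEquivOfEq _ _ h⟩

/-- `Ext^i(KD, R) = 0` for `i > b + r` if `R ∈ D^{≤ b}`. -/
lemma KD_hom_eq_zero (R : Dual.D A) (b : ℤ) [R.IsLE b] (i : ℤ) (hi : b + fs.length < i)
    (φ : KD fs ⟶ R⟦i⟧) : φ = 0 := by
  have hD : Devissage' (R := A) (fun X => NS (⊥ : Submonoid A) X (R⟦i⟧)) :=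
    { iso := fun e h => h.of_iso_left e
      mid := fun T hT h₁ h₃ => NS.mid_left T hT _ h₁ h₃
      zero := fun _ hK => NS.of_isZero_left hK }
  have hV : DRing.VanishesOutside (koszulCx (ModuleCat.of A A) fs) (-(fs.length : ℤ)) 0 := by
    intro j hj
    rcases hj with hj | hj
    · exact isZero_koszulCx_X_of_lt _ fs j hj
    · exact isZero_koszulCx_X_of_pos _ fs j hj
  have hLE : (R⟦i⟧).IsLE (b - i) := TStructure.t.isLE_shift R b i (b - i) (by omega)
  have key := hD.of_bounded_termwise (koszulCx (ModuleCat.of A A) fs) (-(fs.length : ℤ)) 0 hV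
    (fun j => by
      by_cases hj : j < -(fs.length : ℤ) ∨ 0 < j
      · exact NS.of_isZero_left ((DerivedCategory.singleFunctor (ModuleCat.{u} A) j).map_isZero
          (hV j hj))
      · have hproj : Projective ((koszulCx (ModuleCat.of A A) fs).X j) := by
          have := (projective_finite_koszulCx_X fs j).1
          exact (IsProjective.iff_projective (R := A)
            (P := ((koszulCx (ModuleCat.of A A) fs).X j))).mp this
        exact NS.of_eq_zero (fun ψ =>
          hom_single_projective_eq_zero (R⟦i⟧) (b - i) j (by omega) ψ))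
  exact NS.eq_zero key φ

end KD

end Groth.Agent.Lib.Helper79.PFID
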