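import Mathlib
import Groth.Agent.Lib.Helper79.PFID5
import Groth.Agent.Lib.Helper6.LocDual
import Groth.Agent.Lib.Helper6.HomBC9

/-! Eventual vanishing of `Ext^i(M, R)` for `R` bounded and pointwise of finite injective
dimension (helper79). -/

set_option autoImplicit false
universe u

open CategoryTheory Limits Pretriangulated DerivedCategory TensorProduct

namespace Groth.Agent.Lib.Helper79.PFID

attribute [local instance] HasDerivedCategory.standard

open Groth.Agent.Lib.Helper35 Groth.Agent.Lib.Helper35.KL Groth.Agent.Lib.Helper35.FlatBC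
  Groth.Agent.Lib.Helper6

variable {A : Type u} [CommRing A] [IsNoetherianRing A]

section Local

/-- local bound from finite injective dimension of the localization. -/
theorem local_bound (R : Dual.D A) (a : ℤ) [R.IsGE a] (q : Ideal A) [q.IsPrime]
    (hq : DRing.HasFiniteInjDim (Localization.AtPrime q)
      ((G A (Localization.AtPrime q)).obj R))
    (N : Type u) [AddCommGroup N] [Module A N] [Module.Finite A N] :
    ∃ n : ℤ, ∀ i : ℤ, n < i → NS q.primeCompl (Dual.inD A N) (R⟦i⟧) := by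
  obtain ⟨a', b', hab⟩ := hq
  have hIA : IA a' b' ((G A (Localization.AtPrime q)).obj R) := (IA_iff a' b' _).2 hab
  have h01 := ((IA_tfae ((G A (Localization.AtPrime q)).obj R) a' b').out 0 1).1 hIA
  refine ⟨b', fun i hi => ?_⟩
  obtain ⟨e⟩ := LocDual.nonempty_locHomEquiv q.primeCompl N R a i
  have h1 : Subsingleton (Dual.inD (Localization q.primeCompl) (Localization q.primeCompl ⊗[A] N) ⟶
      ((G A (Localization q.primeCompl)).obj R)⟦i⟧) :=
    h01 (ModuleCat.of _ (Localization q.primeCompl ⊗[A] N)) i (Or.inr hi)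
  have h2 : Subsingleton (LocalizedModule q.primeCompl (Dual.inD A N ⟶ R⟦i⟧)) := e.subsingleton
  rw [LocalizedModule.subsingleton_iff] at h2
  intro φ
  obtain ⟨r, hr, h0⟩ := h2 φ
  exact ⟨r, hr, h0⟩

end Local

section Generic

/-- **Generic vanishing** along `V(p)`. -/
theorem generic_vanishing (R : Dual.D A) (b : ℤ) [R.IsLE b] (p : Ideal A) [hp : p.IsPrime]
    (hloc : ∀ (q : Ideal A) [q.IsPrime], p ≤ q →
      ∃ n : ℤ, ∀ i : ℤ, n < i → NS q.primeCompl (Dual.inD A (A ⧸ p)) (R⟦i⟧)) :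
    ∃ g : A, g ∉ p ∧ ∃ c : ℤ, ∀ (q : Ideal A) [q.IsPrime], p ≤ q → g ∉ q →
      ∀ i : ℤ, c < i → NS q.primeCompl (Dual.inD A (A ⧸ p)) (R⟦i⟧) := by
  classical
  obtain ⟨s, hs⟩ := (IsNoetherian.noetherian p : p.FG)
  let fs : List A := s.toList
  have hfs : Ideal.span {x | x ∈ fs} = p := by
    rw [← hs]
    congr 1
    ext x
    simp [fs]
  let X : Dual.D A := KD fs
  let r : ℤ := (fs.length : ℤ)
  have hkill : ∀ (t : ℤ) (a : A), a ∈ p → ∀ x : Dual.HD A X t, a • x = 0 := by
    intro t a ha x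
    exact KD_homology_smul fs t a (by rw [hfs]; exact ha) x
  have hex : ∀ t : ℤ, ∃ g : A, g ∉ p ∧ ∃ ℓ : ℕ, Built p g ℓ (Dual.HD A X t) := by
    intro t
    have := KD_homology_finite fs t
    exact exists_built p (Dual.HD A X t) (hkill t)
  choose gs hgs ℓs hBs using hex
  let G : A := ∏ t ∈ Finset.Icc (-r) 0, gs t
  have hG : G ∉ p := by
    rw [hp.prod_mem_iff]
    rintro ⟨t, -, ht⟩
    exact hgs t ht
  have hall : ∀ t : ℤ, ∃ ℓ : ℕ, Built p G ℓ (Dual.HD A X t) := by
    intro t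
    by_cases ht : t ∈ Finset.Icc (-r) 0
    · exact ⟨ℓs t, Built.of_dvd (Finset.dvd_prod_of_mem gs ht) (ℓs t) (hBs t)⟩
    · have hz : IsZero ((homologyFunctor (ModuleCat.{u} A) t).obj X) := by
        rw [Finset.mem_Icc, not_and_or, not_le, not_le] at ht
        rcases ht with ht | ht
        · exact isZero_of_isGE X (-r) t ht
        · exact isZero_of_isLE X 0 t ht
      have : Subsingleton (Dual.HD A X t) := ModuleCat.subsingleton_of_isZero hz
      exact ⟨0, Built.of_subsingleton _⟩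
  have h0 : ∃ ℓ : ℕ, Built p G (ℓ + 1) (Dual.HD A X 0) := by
    obtain ⟨e⟩ := KD_homology_zero fs
    have e' : Dual.HD A X 0 ≃ₗ[A] (A ⧸ p) := e ≪≫ₗ Submodule.quotEquivOfEq _ _ hfs
    exact ⟨0, Built.of_equiv 1 e'.symm
      (Built.of_dvd (one_dvd G) 1 (Built.quotient_self (p := p)))⟩
  refine ⟨G, hG, b + r, fun q hq hpq hGq i hi => ?_⟩
  haveI := hq
  by_contra hne
  obtain ⟨n, hn⟩ := hloc q hpq
  obtain ⟨j₀, hΨ, hmax⟩ := Int.exists_greatest_of_bdd
    (P := fun j => ¬ NS q.primeCompl (Dual.inD A (A ⧸ p)) (R⟦j⟧))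
    ⟨n, fun j hj => by
      by_contra hlt
      exact hj (hn j (by omega))⟩ ⟨i, hne⟩
  have hΦ : ∀ j : ℤ, j₀ < j → NS q.primeCompl (Dual.inD A (A ⧸ p)) (R⟦j⟧) := by
    intro j hj
    by_contra hcon
    have := hmax j hcon
    omega
  have hij : i ≤ j₀ := hmax i hne
  obtain ⟨-, m, hm, hnot⟩ := postnikov R (S := q.primeCompl) (g := G) hGq j₀ hΦ hΨ fs.length X
    inferInstance inferInstance hall h0
  apply hnot
  exact NS.of_eq_zero (fun φ => KD_hom_eq_zero fs R b m (by omega) φ)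

end Generic

end Groth.Agent.Lib.Helper79.PFID
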