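import Mathlib
import Groth.Agent.Lib.Helper79.PFID6

/-! Noetherian induction: eventual vanishing of `Ext^i(M, R)` for all finite `M` (helper79). -/

set_option autoImplicit false
universe u

open CategoryTheory Limits Pretriangulated DerivedCategory TensorProduct

namespace Groth.Agent.Lib.Helper79.PFID

attribute [local instance] HasDerivedCategory.standard

variable {A : Type u} [CommRing A]

/-- `Ext^i(N, R) = 0` for `i ≫ 0`. -/
def Good (R : Dual.D A) (N : Type u) [AddCommGroup N] [Module A N] : Prop :=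
  ∃ n : ℤ, ∀ i : ℤ, n < i → NS (⊥ : Submonoid A) (Dual.inD A N) (R⟦i⟧)

lemma Good.of_equiv {R : Dual.D A} {N N' : Type u} [AddCommGroup N] [Module A N]
    [AddCommGroup N'] [Module A N'] (e : N ≃ₗ[A] N') (h : Good R N) : Good R N' := by
  obtain ⟨n, hn⟩ := h
  exact ⟨n, fun i hi => NS.of_linearEquiv e _ (hn i hi)⟩

lemma Good.of_subsingleton (R : Dual.D A) (N : Type u) [AddCommGroup N] [Module A N]
    [Subsingleton N] : Good R N :=
  ⟨0, fun _ _ => NS.of_smul_eq_zero N 1 (Submonoid.one_mem _) (fun _ => Subsingleton.elim _ _) _⟩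

lemma Good.of_exact {R : Dual.D A} {M' M M'' : Type u} [AddCommGroup M'] [Module A M']
    [AddCommGroup M] [Module A M] [AddCommGroup M''] [Module A M''] (f : M' →ₗ[A] M)
    (g : M →ₗ[A] M'') (hf : Function.Injective f) (hg : Function.Surjective g)
    (hfg : Function.Exact f g) (h₁ : Good R M') (h₃ : Good R M'') : Good R M := by
  obtain ⟨n₁, hn₁⟩ := h₁
  obtain ⟨n₃, hn₃⟩ := h₃
  exact ⟨max n₁ n₃, fun i hi => NS.ses_mid f g hf hg hfg _
    (hn₁ i (lt_of_le_of_lt (le_max_left _ _) hi)) (hn₃ i (lt_of_le_of_lt (le_max_right _ _) hi))⟩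

variable [IsNoetherianRing A]

/-- **The prime case**, assuming the result for modules with smaller support. -/
theorem good_quotient_prime (R : Dual.D A) (b : ℤ) [R.IsLE b] (p : Ideal A) [hp : p.IsPrime]
    (hloc : ∀ (q : Ideal A) [q.IsPrime], p ≤ q →
      ∃ n : ℤ, ∀ i : ℤ, n < i → NS q.primeCompl (Dual.inD A (A ⧸ p)) (R⟦i⟧))
    (hrec : ∀ g : A, g ∉ p → ∀ (N : Type u) [AddCommGroup N] [Module A N] [Module.Finite A N],
      (∀ a ∈ p ⊔ Ideal.span {g}, ∀ x : N, a • x = 0) → Good R N) :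
    Good R (A ⧸ p) := by
  obtain ⟨g, hg, c, hB⟩ := generic_vanishing R b p hloc
  have hpk : ∀ a ∈ p, ∀ x : A ⧸ p, a • x = 0 := by
    intro a ha x
    obtain ⟨y, rfl⟩ := Ideal.Quotient.mk_surjective x
    change Ideal.Quotient.mk p (a * y) = 0
    rw [Ideal.Quotient.eq_zero_iff_mem]
    exact p.mul_mem_right y ha
  let f : (A ⧸ p) →ₗ[A] (A ⧸ p) := g • LinearMap.id
  have hf : Function.Injective f := by
    rw [injective_iff_map_eq_zero]
    intro x hx
    obtain ⟨y, rfl⟩ := Ideal.Quotient.mk_surjective x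
    have h1 : Ideal.Quotient.mk p (g * y) = 0 := hx
    rw [Ideal.Quotient.eq_zero_iff_mem] at h1 ⊢
    exact (hp.mem_or_mem h1).resolve_left hg
  let M₃ := (A ⧸ p) ⧸ LinearMap.range f
  have hkill : ∀ a ∈ p ⊔ Ideal.span {g}, ∀ x : M₃, a • x = 0 := by
    intro a ha x
    obtain ⟨a₁, ha₁, a₂, ha₂, rfl⟩ := Submodule.mem_sup.1 ha
    obtain ⟨c', rfl⟩ := Ideal.mem_span_singleton'.1 ha₂
    obtain ⟨y, rfl⟩ := (LinearMap.range f).mkQ_surjective x
    rw [← map_smul, add_smul, hpk a₁ ha₁ y, zero_add]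
    have : (c' * g) • y = f (c' • y) := by
      change (c' * g) • y = g • (c' • y)
      rw [mul_comm, mul_smul]
    rw [this]
    exact (LinearMap.exact_map_mkQ_range f).apply_apply_eq_zero _
  obtain ⟨n', hn'⟩ := hrec g hg M₃ hkill
  refine ⟨max c n', fun i hi => NS.of_eq_zero (fun φ => ?_)⟩
  by_contra hφ
  have hsurj : Function.Surjective (LinearMap.range f).mkQ := Submodule.mkQ_surjective _
  have hT := (sesSC_shortExact f (LinearMap.range f).mkQ hf hsurj
    (LinearMap.exact_map_mkQ_range f)).singleTriangle_distinguished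
  -- `g` is injective on `Ext^i(A/p, R)`
  have hinj : ∀ ψ : Dual.inD A (A ⧸ p) ⟶ R⟦i⟧, g • ψ = 0 → ψ = 0 := by
    intro ψ hψ
    have h1 := inD_map_smul_comp (A ⧸ p) g (R⟦i⟧) ψ
    rw [hψ] at h1
    obtain ⟨χ, hχ⟩ := Triangle.yoneda_exact₂ _ hT ψ h1
    have hχ0 : χ = 0 := NS.eq_zero (hn' i (lt_of_le_of_lt (le_max_right _ _) hi)) χ
    rw [hχ, hχ0]
    exact comp_zero
  have hpow : ∀ k : ℕ, g ^ k • φ ≠ 0 := by
    intro k
    induction k with
    | zero => rwa [pow_zero, one_smul]
    | succ k ih =>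
      intro h0
      apply ih
      apply hinj
      rw [← mul_smul, ← pow_succ']
      exact h0
  let I : Ideal A := LinearMap.ker (LinearMap.toSpanSingleton A (Dual.inD A (A ⧸ p) ⟶ R⟦i⟧) φ)
  have hI : ∀ a : A, a ∈ I ↔ a • φ = 0 := by
    intro a
    rw [LinearMap.mem_ker, LinearMap.toSpanSingleton_apply]
  have hpI : p ≤ I := by
    intro a ha
    rw [hI]
    have h1 := smul_id_inD_eq_zero (A ⧸ p) a (hpk a ha)
    have h2 : (a • 𝟙 (Dual.inD A (A ⧸ p))) ≫ φ = 0 := by rw [h1, zero_comp]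
    rwa [Linear.smul_comp, Category.id_comp] at h2
  have hdisj : Disjoint (I : Set A) (Submonoid.powers g : Set A) := by
    rw [Set.disjoint_left]
    rintro a haI ⟨k, rfl⟩
    exact hpow k ((hI _).1 haI)
  obtain ⟨q, hq, hIq, hdq⟩ := Ideal.exists_le_prime_disjoint I (Submonoid.powers g) hdisj
  have hgq : g ∉ q := fun h => Set.disjoint_left.1 hdq h (Submonoid.mem_powers g)
  obtain ⟨r, hr, h0⟩ := hB q (hpI.trans hIq) hgq i (lt_of_le_of_lt (le_max_left _ _) hi) φ
  exact hr (hIq ((hI r).2 h0))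

/-- **Noetherian induction.** -/
theorem good_of_annihilated (R : Dual.D A) (b : ℤ) [R.IsLE b]
    (hloc : ∀ (q : Ideal A) [q.IsPrime] (N : Type u) [AddCommGroup N] [Module A N]
      [Module.Finite A N], ∃ n : ℤ, ∀ i : ℤ, n < i → NS q.primeCompl (Dual.inD A N) (R⟦i⟧))
    (I : Ideal A) : ∀ (N : Type u) [AddCommGroup N] [Module A N] [Module.Finite A N],
      (∀ a ∈ I, ∀ x : N, a • x = 0) → Good R N := by
  induction I using IsNoetherian.induction with
  | hgt I ih =>
    intro N _ _ _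
    refine IsNoetherianRing.induction_on_isQuotientEquivQuotientPrime A (M := N) inferInstance
      (motive := fun N' _ _ _ => (∀ a ∈ I, ∀ x : N', a • x = 0) → Good R N') ?_ ?_ ?_
    · intro N' _ _ _ _ _
      exact Good.of_subsingleton R N'
    · intro N' _ _ _ q e hN'
      have hIq : I ≤ q.asIdeal := by
        intro a ha
        have h1 := hN' a ha (e.symm 1)
        have h2 : a • (1 : A ⧸ q.asIdeal) = 0 := by
          have := congrArg e h1
          rwa [map_smul, e.apply_symm_apply, map_zero] at this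
        have h3 : Ideal.Quotient.mk q.asIdeal (a * 1) = 0 := h2
        rw [Ideal.Quotient.eq_zero_iff_mem, mul_one] at h3
        exact h3
      have hqk : ∀ a ∈ q.asIdeal, ∀ x : A ⧸ q.asIdeal, a • x = 0 := by
        intro a ha x
        obtain ⟨y, rfl⟩ := Ideal.Quotient.mk_surjective x
        change Ideal.Quotient.mk q.asIdeal (a * y) = 0
        rw [Ideal.Quotient.eq_zero_iff_mem]
        exact q.asIdeal.mul_mem_right y ha
      refine Good.of_equiv e.symm ?_
      rcases lt_or_eq_of_le hIq with hlt | heq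
      · exact ih q.asIdeal hlt (A ⧸ q.asIdeal) hqk
      · have := q.isPrime
        refine good_quotient_prime R b q.asIdeal (fun q' _ _ => hloc q' (A ⧸ q.asIdeal)) ?_
        intro g hg N'' _ _ _ hN''
        refine ih (q.asIdeal ⊔ Ideal.span {g}) ?_ N'' hN''
        rw [heq]
        refine lt_of_le_of_ne le_sup_left ?_
        intro hcon
        apply hg
        rw [hcon]
        exact Submodule.mem_sup_right (Ideal.subset_span rfl)
    · intro N₁ _ _ _ N₂ _ _ _ N₃ _ _ _ f g hf hg hfg h₁ h₃ hN₂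
      refine Good.of_exact f g hf hg hfg (h₁ ?_) (h₃ ?_)
      · intro a ha x
        apply hf
        rw [map_smul, hN₂ a ha, map_zero]
      · intro a ha x
        obtain ⟨y, rfl⟩ := hg x
        rw [← map_smul, hN₂ a ha, map_zero]

end Groth.Agent.Lib.Helper79.PFID
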