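import Mathlib

set_option autoImplicit false
open Filter Topology

namespace Groth.Agent.Lib.Helper79.PowerSum

/-- simultaneous return of finitely many unit complex numbers close to `1` -/
theorem exists_pow_near_one {ι : Type*} [Fintype ι] (u : ι → ℂ) (hu : ∀ i, ‖u i‖ = 1)
    (ε : ℝ) (hε : 0 < ε) (N₀ : ℕ) : ∃ N : ℕ, N₀ < N ∧ ∀ i, ‖u i ^ N - 1‖ < ε := by
  let x : ℕ → (ι → ℂ) := fun n i => u i ^ n
  have hx : ∀ n, x n ∈ Metric.closedBall (0 : ι → ℂ) 1 := by
    intro n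
    rw [mem_closedBall_zero_iff, pi_norm_le_iff_of_nonneg zero_le_one]
    intro i
    change ‖u i ^ n‖ ≤ 1
    rw [norm_pow, hu, one_pow]
  obtain ⟨a, -, φ, hφ, hlim⟩ := tendsto_subseq_of_bounded Metric.isBounded_closedBall hx
  have hcau : CauchySeq (x ∘ φ) := hlim.cauchySeq
  obtain ⟨K, hK⟩ := Metric.cauchySeq_iff.1 hcau ε hε
  set m := K with hm
  set n := K + N₀ + 1 with hn
  have hmn : m ≤ n := by omega
  have hφmn : φ m + (n - m) ≤ φ n := by
    have h1 : ∀ j, φ m + j ≤ φ (m + j) := by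
      intro j
      induction j with
      | zero => simp
      | succ j ih =>
          have := hφ (show m + j < m + (j + 1) by omega)
          omega
    have := h1 (n - m)
    rwa [Nat.add_sub_cancel' hmn] at this
  refine ⟨φ n - φ m, by omega, fun i => ?_⟩
  have hd := hK n (by omega) m (by omega)
  rw [dist_eq_norm] at hd
  have h2 : ‖(x ∘ φ) n i - (x ∘ φ) m i‖ < ε :=
    lt_of_le_of_lt (norm_le_pi_norm ((x ∘ φ) n - (x ∘ φ) m) i) hd
  change ‖u i ^ φ n - u i ^ φ m‖ < ε at h2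
  have h3 : u i ^ φ n - u i ^ φ m = u i ^ φ m * (u i ^ (φ n - φ m) - 1) := by
    rw [mul_sub, mul_one, ← pow_add, Nat.add_sub_cancel' (by omega)]
  rw [h3, norm_mul, norm_pow, hu, one_pow, one_mul] at h2
  exact h2

/-- bounded power sums bound the terms -/
theorem norm_le_of_powerSum_le {ι : Type*} [Fintype ι] (β : ι → ℂ) (C R : ℝ) (hR : 0 < R)
    (h : ∀ N : ℕ, 1 ≤ N → ‖∑ i, β i ^ N‖ ≤ C * R ^ N) (i : ι) : ‖β i‖ ≤ R := by
  by_contra hcon
  rw [not_le] at hcon
  -- unit parts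
  let u : ι → ℂ := fun j => if β j = 0 then 1 else β j / (‖β j‖ : ℂ)
  have hu : ∀ j, ‖u j‖ = 1 := by
    intro j
    by_cases hj : β j = 0
    · simp [u, hj]
    · have : ‖β j‖ ≠ 0 := norm_ne_zero_iff.2 hj
      simp [u, hj, this]
  have hβu : ∀ j, β j = (‖β j‖ : ℂ) * u j := by
    intro j
    by_cases hj : β j = 0
    · simp [u, hj]
    · have : (‖β j‖ : ℂ) ≠ 0 := by
        rw [Ne, Complex.ofReal_eq_zero]
        exact norm_ne_zero_iff.2 hj
      simp only [u, hj, if_false]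
      field_simp
  have hratio : 1 < ‖β i‖ / R := by rwa [one_lt_div hR]
  have htend := tendsto_pow_atTop_atTop_of_one_lt hratio
  obtain ⟨N₀, hN₀⟩ := (htend.eventually (eventually_gt_atTop (2 * C))).exists_forall_of_atTop
  obtain ⟨N, hN, hNu⟩ := exists_pow_near_one u hu (1 / 2) (by norm_num) N₀
  have hre : ∀ j, ‖β j‖ ^ N / 2 ≤ (β j ^ N).re := by
    intro j
    have h1 : (u j ^ N).re ≥ 1 / 2 := by
      have h2 := hNu j
      have h3 : |(u j ^ N - 1).re| ≤ ‖u j ^ N - 1‖ := Complex.abs_re_le_norm _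
      have h4 : (u j ^ N - 1).re = (u j ^ N).re - 1 := by simp
      rw [h4] at h3
      have := abs_le.1 (h3.trans h2.le)
      linarith [this.1]
    have h5 : β j ^ N = ((‖β j‖ ^ N : ℝ) : ℂ) * u j ^ N := by
      conv_lhs => rw [hβu j, mul_pow]
      push_cast
      rfl
    rw [h5, Complex.re_ofReal_mul]
    have : 0 ≤ ‖β j‖ ^ N := pow_nonneg (norm_nonneg _) N
    nlinarith
  have hsum : ‖β i‖ ^ N / 2 ≤ ‖∑ j, β j ^ N‖ := by
    calc ‖β i‖ ^ N / 2 ≤ ∑ j, ‖β j‖ ^ N / 2 :=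
          Finset.single_le_sum (f := fun j => ‖β j‖ ^ N / 2)
            (fun j _ => by positivity) (Finset.mem_univ i)
      _ ≤ ∑ j, (β j ^ N).re := Finset.sum_le_sum fun j _ => hre j
      _ = (∑ j, β j ^ N).re := (Complex.re_sum _ _).symm
      _ ≤ ‖∑ j, β j ^ N‖ := Complex.re_le_norm _
  have hb := h N (by omega)
  have h6 : (‖β i‖ / R) ^ N ≤ 2 * C := by
    rw [div_pow, div_le_iff₀ (pow_pos hR N)]
    linarith
  have := hN₀ N (by omega)
  linarith

end Groth.Agent.Lib.Helper79.PowerSum
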