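import Mathlib
import Groth.Prelude.Def_W4c2azumayainvolQEt
import Groth.Agent.Lib.Helper79.RInvLoc

set_option autoImplicit false
set_option linter.style.haveILetI false
universe u v w
open TensorProduct

namespace Groth.Agent.Lib.Helper79.RInvLib

section
variable {S : Type u} {R : Type v} [CommRing S] [CommRing R] [Algebra S R] (lam : R ≃+* R)
variable (p : PrimeSpectrum S)

/-- notation: the localisation of `R` at the prime `p` of `S` -/
abbrev Rp (R : Type v) [CommRing R] [Algebra S R] (p : PrimeSpectrum S) : Type (max u v) :=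
  Localization.AtPrime p.asIdeal ⊗[S] R

/-- the ring map `R → S_p ⊗ R` -/
noncomputable abbrev toRp : R →+* Rp R p :=
  (Algebra.TensorProduct.includeRight (R := S) (A := Localization.AtPrime p.asIdeal) (B := R)).toRingHom

lemma toRp_apply (r : R) : toRp (R := R) p r = (1 : Localization.AtPrime p.asIdeal) ⊗ₜ[S] r := rfl

instance isLocalizedModule_toRp :
    IsLocalizedModule p.asIdeal.primeCompl
      (TensorProduct.mk S (Localization.AtPrime p.asIdeal) R 1) :=
  (isLocalizedModule_iff_isBaseChange p.asIdeal.primeCompl (Localization.AtPrime p.asIdeal) _).2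
    (TensorProduct.isBaseChange S R (Localization.AtPrime p.asIdeal))

lemma smul_eq_mul_Rp (t : S) (z : Rp R p) :
    t • z = (algebraMap S (Localization.AtPrime p.asIdeal) t ⊗ₜ[S] (1 : R)) * z := by
  rw [Algebra.algebraMap_eq_smul_one, ← TensorProduct.smul_tmul', ← Algebra.TensorProduct.one_def,
    smul_mul_assoc, one_mul]

lemma isUnit_algebraMap_tmul_one (t : p.asIdeal.primeCompl) :
    IsUnit (algebraMap S (Localization.AtPrime p.asIdeal) t ⊗ₜ[S] (1 : R)) :=
  (IsLocalization.map_units (Localization.AtPrime p.asIdeal) t).map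
    (Algebra.TensorProduct.includeLeftRingHom (R := S) (A := Localization.AtPrime p.asIdeal) (B := R))

/-- every element of `S_p ⊗ R` is a fraction -/
lemma exists_smul_eq_toRp (ρ : Rp R p) :
    ∃ (r : R) (t : p.asIdeal.primeCompl), (t : S) • ρ = toRp p r := by
  obtain ⟨⟨r, t⟩, ht⟩ := IsLocalizedModule.surj p.asIdeal.primeCompl
    (TensorProduct.mk S (Localization.AtPrime p.asIdeal) R 1) ρ
  exact ⟨r, t, ht⟩

lemma exists_smul_eq_of_toRp_eq (a b : R) (h : toRp p a = toRp p b) :
    ∃ v : p.asIdeal.primeCompl, (v : S) • a = (v : S) • b := by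
  obtain ⟨v, hv⟩ := IsLocalizedModule.exists_of_eq (S := p.asIdeal.primeCompl)
    (f := TensorProduct.mk S (Localization.AtPrime p.asIdeal) R 1) h
  exact ⟨v, hv⟩

/-- membership of a fraction in an ideal of `S_p ⊗ R` -/
lemma mem_iff_of_smul_eq (I : Ideal (Rp R p)) (ρ : Rp R p) (r : R) (t : p.asIdeal.primeCompl)
    (h : (t : S) • ρ = toRp p r) : ρ ∈ I ↔ toRp p r ∈ I := by
  rw [← h, smul_eq_mul_Rp]
  constructor
  · intro hρ
    exact I.mul_mem_left _ hρ
  · intro hρ
    obtain ⟨u, hu⟩ := isUnit_algebraMap_tmul_one (R := R) p t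
    have := I.mul_mem_left (↑u⁻¹) hρ
    rwa [← hu, ← mul_assoc, Units.inv_mul, one_mul] at this

end

end Groth.Agent.Lib.Helper79.RInvLib

namespace Groth.Agent.Lib.Helper79.RInvLib

section
variable {S : Type u} {R : Type v} [CommRing S] [CommRing R] [Algebra S R] (lam : R ≃+* R)
variable (p : PrimeSpectrum S)

lemma toRp_algebraMap (s : S) :
    toRp (R := R) p (algebraMap S R s) =
      algebraMap S (Localization.AtPrime p.asIdeal) s ⊗ₜ[S] (1 : R) := by
  rw [toRp_apply, Algebra.algebraMap_eq_smul_one, Algebra.algebraMap_eq_smul_one,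
    TensorProduct.smul_tmul]

variable (hlam : Function.Involutive lam) (hS : RInv.IsFixedRing S R lam)
include hlam hS

lemma comap_comap_maximal (𝔐 : Ideal (Rp R p)) (h𝔐 : 𝔐.IsMaximal) :
    Ideal.comap (algebraMap S R) (Ideal.comap (toRp p) 𝔐) = p.asIdeal := by
  set μ := lamAlgEquiv lam hS
  have hμ : Function.Involutive μ := fun r => hlam r
  have hfixp : RInv.IsFixedRing (Localization.AtPrime p.asIdeal) (Rp R p)
      (bcLam (S' := Localization.AtPrime p.asIdeal) μ) :=
    isFixedRing_baseChange_of_flat μ (isFixedRing_lamAlgEquiv lam hS)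
  have hinvp := bcLam_involutive (S' := Localization.AtPrime p.asIdeal) μ hμ
  ext s
  rw [Ideal.mem_comap, Ideal.mem_comap, toRp_algebraMap]
  constructor
  · intro hs
    by_contra hsp
    exact h𝔐.ne_top (Ideal.eq_top_of_isUnit_mem _ hs
      (isUnit_algebraMap_tmul_one (R := R) p ⟨s, hsp⟩))
  · intro hs
    have h1 : algebraMap S (Localization.AtPrime p.asIdeal) s ∈
        IsLocalRing.maximalIdeal (Localization.AtPrime p.asIdeal) :=
      (IsLocalization.AtPrime.to_map_mem_maximal_iff _ p.asIdeal s).2 hs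
    exact algebraMap_mem_of_mem_maximalIdeal _ hinvp hfixp 𝔐 h𝔐 _ h1

theorem not_isQuadEtale_atPrime_iff :
    ¬ RInv.IsQuadEtale (Localization.AtPrime p.asIdeal) (Localization.AtPrime p.asIdeal ⊗[S] R) ↔
      ∃ q : PrimeSpectrum R, q.asIdeal.comap (algebraMap S R) = p.asIdeal ∧
        (∀ q' : PrimeSpectrum R, q'.asIdeal.comap (algebraMap S R) = p.asIdeal → q' = q) ∧
        ∀ r : R, lam r - r ∈ q.asIdeal := by
  set μ := lamAlgEquiv lam hS with hμdef
  have hμ : Function.Involutive μ := fun r => hlam r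
  have hfixp : RInv.IsFixedRing (Localization.AtPrime p.asIdeal) (Rp R p)
      (bcLam (S' := Localization.AtPrime p.asIdeal) μ) :=
    isFixedRing_baseChange_of_flat μ (isFixedRing_lamAlgEquiv lam hS)
  have hinvp := bcLam_involutive (S' := Localization.AtPrime p.asIdeal) μ hμ
  have hΛ : ∀ r : R, bcLam (S' := Localization.AtPrime p.asIdeal) μ (toRp p r) = toRp p (lam r) :=
    fun r => by rw [toRp_apply, bcLam_tmul]; rfl
  constructor
  · intro hnq
    have hJ : ∀ ρ : Rp R p, bcLam (S' := Localization.AtPrime p.asIdeal) μ ρ - ρ ∈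
        Ring.jacobson (Rp R p) := by
      intro ρ
      by_contra hρ
      exact hnq (isQuadEtale_of_exists_notMem_jacobson _ hinvp hfixp ⟨ρ, hρ⟩)
    haveI hloc : IsLocalRing (Rp R p) := isLocalRing_of_forall_sub_mem_jacobson _ hinvp hfixp hJ
    set 𝔐 := IsLocalRing.maximalIdeal (Rp R p) with h𝔐def
    have h𝔐 : 𝔐.IsMaximal := IsLocalRing.maximalIdeal.isMaximal _
    let q : PrimeSpectrum R := ⟨Ideal.comap (toRp p) 𝔐, inferInstance⟩
    have hq_stable : ∀ r : R, lam r - r ∈ q.asIdeal := by
      intro r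
      change toRp p (lam r - r) ∈ 𝔐
      rw [map_sub, ← hΛ]
      exact (mem_jacobson_iff_forall_maximal _).1 (hJ (toRp p r)) 𝔐 h𝔐
    refine ⟨q, comap_comap_maximal lam p hlam hS 𝔐 h𝔐, ?_, hq_stable⟩
    intro q' hq'
    apply PrimeSpectrum.ext
    apply le_antisymm
    · -- q' ≤ q : elements of q' are non-units in the local ring
      intro x hx
      change toRp p x ∈ 𝔐
      rw [h𝔐def, IsLocalRing.mem_maximalIdeal, mem_nonunits_iff]
      intro hu
      obtain ⟨σ, hσ⟩ := hu.exists_right_inv
      obtain ⟨r'', t', ht'⟩ := exists_smul_eq_toRp (R := R) p σ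
      have heq : toRp p (x * r'') = toRp p ((t' : S) • (1 : R)) := by
        have e1 : toRp p ((t' : S) • (1 : R)) = (t' : S) • (1 : Rp R p) := by
          rw [← Algebra.algebraMap_eq_smul_one (A := R), toRp_algebraMap, smul_eq_mul_Rp, mul_one]
        rw [e1, map_mul, ← ht', mul_smul_comm, hσ]
      obtain ⟨v, hv⟩ := exists_smul_eq_of_toRp_eq (R := R) p _ _ heq
      have h1 : (v : S) • (x * r'') ∈ q'.asIdeal :=
        Submodule.smul_of_tower_mem _ _ (q'.asIdeal.mul_mem_right _ hx)
      rw [hv, smul_smul, Algebra.smul_def, mul_one] at h1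
      have h2 : (v : S) * (t' : S) ∈ q'.asIdeal.comap (algebraMap S R) := h1
      rw [hq'] at h2
      exact (v * t').2 h2
    · -- q ≤ q' : traces and norms
      intro x hx
      have hlx : lam x ∈ q.asIdeal := by
        have := q.asIdeal.add_mem (hq_stable x) hx
        simpa using this
      obtain ⟨t, ht⟩ := exists_trace lam hlam hS x
      obtain ⟨n, hn⟩ := exists_norm lam hlam hS x
      have hpq : q.asIdeal.comap (algebraMap S R) = p.asIdeal :=
        comap_comap_maximal lam p hlam hS 𝔐 h𝔐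
      have htp : t ∈ p.asIdeal := by
        rw [← hpq, Ideal.mem_comap, ht]
        exact q.asIdeal.add_mem hx hlx
      have hnp : n ∈ p.asIdeal := by
        rw [← hpq, Ideal.mem_comap, hn]
        exact q.asIdeal.mul_mem_right _ hx
      have htq' : algebraMap S R t ∈ q'.asIdeal := by
        have : t ∈ q'.asIdeal.comap (algebraMap S R) := by rw [hq']; exact htp
        exact this
      have hnq' : algebraMap S R n ∈ q'.asIdeal := by
        have : n ∈ q'.asIdeal.comap (algebraMap S R) := by rw [hq']; exact hnp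
        exact this
      rw [hn] at hnq'
      rcases q'.2.mem_or_mem hnq' with h | h
      · exact h
      · rw [ht] at htq'
        have := q'.asIdeal.sub_mem htq' h
        simpa using this
  · rintro ⟨q, hqp, hquniq, hqstable⟩
    apply not_isQuadEtale_of_forall_sub_mem_jacobson _ hinvp hfixp
    intro ρ
    rw [mem_jacobson_iff_forall_maximal]
    intro 𝔐 h𝔐
    obtain ⟨r, t, ht⟩ := exists_smul_eq_toRp (R := R) p ρ
    have ht2 : (t : S) • (bcLam (S' := Localization.AtPrime p.asIdeal) μ ρ - ρ) =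
        toRp p (lam r - r) := by
      rw [map_sub, ← hΛ, ← ht, smul_sub]
      congr 1
      rw [smul_eq_mul_Rp, smul_eq_mul_Rp, map_mul, bcLam_tmul, map_one]
    rw [mem_iff_of_smul_eq p 𝔐 _ _ t ht2]
    -- the prime of R under 𝔐 is q
    haveI : 𝔐.IsPrime := h𝔐.isPrime
    let q' : PrimeSpectrum R := ⟨Ideal.comap (toRp p) 𝔐, inferInstance⟩
    have hq' : q' = q := hquniq q' (comap_comap_maximal lam p hlam hS 𝔐 h𝔐)
    have : lam r - r ∈ q'.asIdeal := by rw [hq']; exact hqstable r
    exact this

end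

end Groth.Agent.Lib.Helper79.RInvLib
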