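import Mathlib
import Groth.Prelude.Def_W4c2azumayainvolQEt
import Groth.Agent.Lib.Helper79.RInvBranch

set_option autoImplicit false
set_option linter.style.haveILetI false
universe u v w
open TensorProduct Polynomial

namespace Groth.Agent.Lib.Helper79.RInvLib

section
variable {S : Type u} {R : Type v} [CommRing S] [CommRing R] [Algebra S R] (lam : R ≃+* R)
variable (hlam : Function.Involutive lam) (hS : RInv.IsFixedRing S R lam)
include hlam hS

/-- `R` is integral over the fixed ring of an involution. -/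
lemma isIntegral_of_isFixedRing : (algebraMap S R).IsIntegral := by
  intro r
  obtain ⟨t, ht⟩ := exists_trace lam hlam hS r
  obtain ⟨n, hn⟩ := exists_norm lam hlam hS r
  refine ⟨X ^ 2 - C t * X + C n, ?_, ?_⟩
  · have : (X ^ 2 - C t * X + C n : S[X]) = X ^ 2 - (C t * X - C n) := by ring
    rw [this]
    apply Polynomial.monic_X_pow_sub
    refine lt_of_le_of_lt (Polynomial.degree_sub_le _ _) ?_
    refine max_lt ?_ ?_
    · refine lt_of_le_of_lt (Polynomial.degree_C_mul_X_le _) ?_
      norm_num
    · refine lt_of_le_of_lt Polynomial.degree_C_le ?_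
      norm_num
  · simp only [eval₂_add, eval₂_sub, eval₂_mul, eval₂_C, eval₂_X, eval₂_pow, ht, hn]
    ring

/-- the prime below a `lam`-stable prime `q` has `q` as its only prime above it -/
lemma eq_of_comap_eq_of_stable (q q' : PrimeSpectrum R) (hq : ∀ r : R, lam r - r ∈ q.asIdeal)
    (h : q'.asIdeal.comap (algebraMap S R) = q.asIdeal.comap (algebraMap S R)) : q' = q := by
  haveI : Algebra.IsIntegral S R := ⟨isIntegral_of_isFixedRing lam hlam hS⟩
  have hle : q.asIdeal ≤ q'.asIdeal := by
    intro x hx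
    have hlx : lam x ∈ q.asIdeal := by
      have := q.asIdeal.add_mem (hq x) hx
      simpa using this
    obtain ⟨t, ht⟩ := exists_trace lam hlam hS x
    obtain ⟨n, hn⟩ := exists_norm lam hlam hS x
    have htq' : algebraMap S R t ∈ q'.asIdeal := by
      have : t ∈ q'.asIdeal.comap (algebraMap S R) := by
        rw [h, Ideal.mem_comap, ht]; exact q.asIdeal.add_mem hx hlx
      exact this
    have hnq' : algebraMap S R n ∈ q'.asIdeal := by
      have : n ∈ q'.asIdeal.comap (algebraMap S R) := by
        rw [h, Ideal.mem_comap, hn]; exact q.asIdeal.mul_mem_right _ hx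
      exact this
    rw [hn] at hnq'
    rcases q'.2.mem_or_mem hnq' with h' | h'
    · exact h'
    · rw [ht] at htq'
      have := q'.asIdeal.sub_mem htq' h'
      simpa using this
  by_contra hne
  have hlt : q.asIdeal < q'.asIdeal := lt_of_le_of_ne hle (fun e => hne (PrimeSpectrum.ext e.symm))
  have := Ideal.IsIntegral.comap_lt_comap (R := S) hlt
  rw [h] at this
  exact lt_irrefl _ this

/-- the branch locus is the image of the fixed locus -/
lemma branchLocus_eq_image :
    {p : PrimeSpectrum S | ¬ RInv.IsQuadEtale (Localization.AtPrime p.asIdeal)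
      (Localization.AtPrime p.asIdeal ⊗[S] R)} =
    PrimeSpectrum.comap (algebraMap S R) ''
      PrimeSpectrum.zeroLocus (Set.range fun r : R => lam r - r) := by
  ext p
  simp only [Set.mem_ofPred_eq, Set.mem_image, PrimeSpectrum.mem_zeroLocus]
  rw [not_isQuadEtale_atPrime_iff lam p hlam hS]
  constructor
  · rintro ⟨q, hqp, -, hq⟩
    refine ⟨q, ?_, PrimeSpectrum.ext hqp⟩
    rintro _ ⟨r, rfl⟩
    exact hq r
  · rintro ⟨q, hq, rfl⟩
    have hq' : ∀ r : R, lam r - r ∈ q.asIdeal := fun r => hq ⟨r, rfl⟩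
    refine ⟨q, rfl, ?_, hq'⟩
    intro q' h
    exact eq_of_comap_eq_of_stable lam hlam hS q q' hq' h

lemma isClosed_branchLocus :
    IsClosed {p : PrimeSpectrum S | ¬ RInv.IsQuadEtale (Localization.AtPrime p.asIdeal)
      (Localization.AtPrime p.asIdeal ⊗[S] R)} := by
  rw [branchLocus_eq_image lam hlam hS]
  exact PrimeSpectrum.isClosedMap_comap_of_isIntegral _ (isIntegral_of_isFixedRing lam hlam hS) _
    (PrimeSpectrum.isClosed_zeroLocus _)


/-- every branch prime has a prime above it containing `J` -/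
lemma exists_over_of_mem_branchLocus (W : Set (PrimeSpectrum S))
    (hW : W = {p : PrimeSpectrum S | ¬ RInv.IsQuadEtale (Localization.AtPrime p.asIdeal)
      (Localization.AtPrime p.asIdeal ⊗[S] R)})
    (p : PrimeSpectrum S) (hp : p ∈ W) :
    ∃ q : PrimeSpectrum R, PrimeSpectrum.comap (algebraMap S R) q = p ∧
      (∀ q' : PrimeSpectrum R, PrimeSpectrum.comap (algebraMap S R) q' = p → q' = q) ∧
      ((PrimeSpectrum.vanishingIdeal W).map (algebraMap S R)).radical ≤ q.asIdeal := by
  rw [hW] at hp
  obtain ⟨q, hqp, hquniq, -⟩ := (not_isQuadEtale_atPrime_iff lam p hlam hS).1 hp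
  refine ⟨q, PrimeSpectrum.ext hqp, fun q' h => hquniq q' (congrArg PrimeSpectrum.asIdeal h), ?_⟩
  rw [Ideal.IsPrime.radical_le_iff q.2, Ideal.map_le_iff_le_comap, hqp]
  intro s hs
  exact (PrimeSpectrum.mem_vanishingIdeal _ _).1 hs p (by rw [hW]; exact hp)

theorem branch_quotientMap (W : Set (PrimeSpectrum S))
    (hW : W = {p : PrimeSpectrum S | ¬ RInv.IsQuadEtale (Localization.AtPrime p.asIdeal)
      (Localization.AtPrime p.asIdeal ⊗[S] R)})
    (J : Ideal R) (hJ : J = ((PrimeSpectrum.vanishingIdeal W).map (algebraMap S R)).radical)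
    (hIJ : PrimeSpectrum.vanishingIdeal W ≤ J.comap (algebraMap S R))
    (hsub : ∀ r : R, lam r - r ∈ J) :
    IsHomeomorph (PrimeSpectrum.comap (Ideal.quotientMap J (algebraMap S R) hIJ)) ∧
      (IsUnit (2 : S) → Function.Bijective (Ideal.quotientMap J (algebraMap S R) hIJ)) := by
  set I := PrimeSpectrum.vanishingIdeal W with hI
  set φ := Ideal.quotientMap J (algebraMap S R) hIJ with hφ
  have hcomm : φ.comp (Ideal.Quotient.mk I) = (Ideal.Quotient.mk J).comp (algebraMap S R) :=
    Ideal.quotientMap_comp_mk hIJ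
  have hWclosed : IsClosed W := by rw [hW]; exact isClosed_branchLocus lam hlam hS
  have hzl : PrimeSpectrum.zeroLocus (I : Set S) = W := by
    rw [hI, PrimeSpectrum.zeroLocus_vanishingIdeal_eq_closure, hWclosed.closure_eq]
  have hmkI : Function.Surjective (Ideal.Quotient.mk I) := Ideal.Quotient.mk_surjective
  have hmkJ : Function.Surjective (Ideal.Quotient.mk J) := Ideal.Quotient.mk_surjective
  -- primes of `S/I` lie in `W`
  have hPW : ∀ P : PrimeSpectrum (S ⧸ I), PrimeSpectrum.comap (Ideal.Quotient.mk I) P ∈ W := by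
    intro P
    rw [← hzl, PrimeSpectrum.mem_zeroLocus]
    intro s hs
    change Ideal.Quotient.mk I s ∈ P.asIdeal
    rw [Ideal.Quotient.eq_zero_iff_mem.2 hs]
    exact P.asIdeal.zero_mem
  have hcc : ∀ Q : PrimeSpectrum (R ⧸ J),
      PrimeSpectrum.comap (algebraMap S R) (PrimeSpectrum.comap (Ideal.Quotient.mk J) Q) =
        PrimeSpectrum.comap (Ideal.Quotient.mk I) (PrimeSpectrum.comap φ Q) := by
    intro Q
    rw [← PrimeSpectrum.comap_comp_apply, ← PrimeSpectrum.comap_comp_apply, hcomm]
  have hφint : φ.IsIntegral := by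
    apply RingHom.IsIntegral.tower_top (Ideal.Quotient.mk I) φ
    rw [hcomm]
    exact RingHom.IsIntegral.trans _ _ (isIntegral_of_isFixedRing lam hlam hS)
      (RingHom.isIntegral_of_surjective _ hmkJ)
  refine ⟨?_, ?_⟩
  · rw [isHomeomorph_iff_continuous_isClosedMap_bijective]
    refine ⟨PrimeSpectrum.continuous_comap φ, PrimeSpectrum.isClosedMap_comap_of_isIntegral φ hφint,
      ?_, ?_⟩
    · -- injective
      intro Q₁ Q₂ hQ
      apply PrimeSpectrum.comap_injective_of_surjective _ hmkJ
      set p := PrimeSpectrum.comap (Ideal.Quotient.mk I) (PrimeSpectrum.comap φ Q₁) with hp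
      obtain ⟨q, -, hquniq, -⟩ := exists_over_of_mem_branchLocus lam hlam hS W hW p (hPW _)
      rw [hquniq _ (hcc Q₁), hquniq _ ((hcc Q₂).trans (by rw [hp, hQ]))]
    · -- surjective
      intro P
      obtain ⟨q, hqp, -, hJq⟩ := exists_over_of_mem_branchLocus lam hlam hS W hW _ (hPW P)
      have hqmem : q ∈ Set.range (PrimeSpectrum.comap (Ideal.Quotient.mk J)) := by
        rw [range_comap_of_surjective _ _ hmkJ, PrimeSpectrum.mem_zeroLocus,
          Ideal.mk_ker, hJ]
        exact hJq
      obtain ⟨Q, hQ⟩ := hqmem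
      refine ⟨Q, ?_⟩
      apply PrimeSpectrum.comap_injective_of_surjective _ hmkI
      rw [← hcc, hQ, hqp]
  · intro h2
    constructor
    · rw [injective_iff_map_eq_zero]
      intro y hy
      obtain ⟨s, rfl⟩ := hmkI y
      rw [Ideal.Quotient.eq_zero_iff_mem, hI, PrimeSpectrum.mem_vanishingIdeal]
      intro p hp
      obtain ⟨q, hqp, -, hJq⟩ := exists_over_of_mem_branchLocus lam hlam hS W hW p hp
      have h1 : algebraMap S R s ∈ J := by
        rw [← Ideal.Quotient.eq_zero_iff_mem]
        rw [hφ, Ideal.quotientMap_mk] at hy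
        exact hy
      rw [← hqp]
      exact hJq (hJ ▸ h1)
    · intro y
      obtain ⟨r, rfl⟩ := hmkJ y
      obtain ⟨u, hu⟩ := h2.exists_right_inv
      obtain ⟨t, ht⟩ := exists_trace lam hlam hS r
      refine ⟨Ideal.Quotient.mk I (u * t), ?_⟩
      rw [hφ, Ideal.quotientMap_mk, Ideal.Quotient.eq]
      have h3 : algebraMap S R (u * t) - r = algebraMap S R u * (lam r - r) := by
        have h4 : (2 : R) * algebraMap S R u = 1 := by
          rw [← map_ofNat (algebraMap S R) 2, ← map_mul, hu, map_one]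
        rw [map_mul, ht]
        linear_combination r * h4
      rw [h3]
      exact J.mul_mem_left _ (hsub r)

end

end Groth.Agent.Lib.Helper79.RInvLib
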