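import Mathlib
import Groth.Prelude.Def_W4c2azumayainvolQEt

set_option autoImplicit false
set_option linter.style.haveILetI false
universe u v w
open TensorProduct Polynomial

namespace Groth.Agent.Lib.Helper79.RInvLib

section
variable (S : Type u) (R : Type v) [CommRing S] [CommRing R] [Algebra S R] [IsLocalRing S]

attribute [local instance] Ideal.Quotient.field in
theorem quotient_isField_or_equiv_prod (hq : RInv.IsQuadEtale S R) :
    (IsField (R ⧸ (IsLocalRing.maximalIdeal S).map (algebraMap S R)) ∧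
      Module.finrank (S ⧸ IsLocalRing.maximalIdeal S)
        (R ⧸ (IsLocalRing.maximalIdeal S).map (algebraMap S R)) = 2 ∧
      Algebra.IsSeparable (S ⧸ IsLocalRing.maximalIdeal S)
        (R ⧸ (IsLocalRing.maximalIdeal S).map (algebraMap S R))) ∨
    Nonempty ((R ⧸ (IsLocalRing.maximalIdeal S).map (algebraMap S R)) ≃ₐ[S ⧸ IsLocalRing.maximalIdeal S]
      ((S ⧸ IsLocalRing.maximalIdeal S) × (S ⧸ IsLocalRing.maximalIdeal S))) := by
  obtain ⟨hfin, hproj, hunr, hrank⟩ := hq
  haveI := hfin; haveI := hproj; haveI := hunr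
  haveI : Module.Free S R := Module.free_of_flat_of_isLocalRing
  have h2 : Module.finrank S R = 2 := by
    have := hrank (IsLocalRing.closedPoint S)
    rwa [Module.rankAtStalk_eq_finrank_of_free] at this
  set k := S ⧸ IsLocalRing.maximalIdeal S with hk
  set A := R ⧸ (IsLocalRing.maximalIdeal S).map (algebraMap S R) with hA
  haveI : Module.Finite k A := Module.Finite.of_restrictScalars_finite S _ _
  have hfr : Module.finrank k A = 2 := by rw [IsLocalRing.finrank_quotient_map, h2]
  haveI : Algebra.FormallyUnramified k A := inferInstance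
  haveI : IsReduced A := Algebra.FormallyUnramified.isReduced_of_field k A
  haveI : IsArtinianRing A := IsArtinianRing.of_finite k A
  haveI : Nontrivial A := Module.nontrivial_of_finrank_pos (R := k) (by rw [hfr]; norm_num)
  by_cases hloc : IsLocalRing A
  · left
    have hF : IsField A := IsArtinianRing.isField_of_isReduced_of_isLocalRing A
    refine ⟨hF, hfr, ?_⟩
    letI : Field A := hF.toField
    exact Algebra.FormallyUnramified.isSeparable k A
  · right
    let e := (IsArtinianRing.equivPi A).restrictScalars k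
    haveI : Fintype (MaximalSpectrum A) := Fintype.ofFinite _
    have hsum : ∑ I : MaximalSpectrum A, Module.finrank k (A ⧸ I.asIdeal) = 2 := by
      rw [← Module.finrank_pi_fintype, ← hfr]
      exact e.toLinearEquiv.finrank_eq.symm
    have hpos : ∀ I : MaximalSpectrum A, 1 ≤ Module.finrank k (A ⧸ I.asIdeal) := by
      intro I
      haveI : Nontrivial (A ⧸ I.asIdeal) := Ideal.Quotient.nontrivial_iff.2 I.2.ne_top
      exact Module.finrank_pos
    -- at least two maximal ideals
    obtain ⟨I₀, hI₀⟩ := Ideal.exists_maximal A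
    have hex : ∃ J₀ : Ideal A, J₀.IsMaximal ∧ J₀ ≠ I₀ := by
      by_contra hcon
      push Not at hcon
      exact hloc (IsLocalRing.of_unique_max_ideal ⟨I₀, hI₀, fun J hJ => hcon J hJ⟩)
    obtain ⟨J₀, hJ₀, hne⟩ := hex
    have hcard_ge : 2 ≤ Fintype.card (MaximalSpectrum A) := by
      have : 1 < Fintype.card (MaximalSpectrum A) :=
        Fintype.one_lt_card_iff.2 ⟨⟨J₀, hJ₀⟩, ⟨I₀, hI₀⟩, fun h => hne (congrArg MaximalSpectrum.asIdeal h)⟩
      exact this
    have hcard_le : Fintype.card (MaximalSpectrum A) ≤ 2 := by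
      rw [← hsum, Fintype.card_eq_sum_ones]
      exact Finset.sum_le_sum fun I _ => hpos I
    have hcard : Fintype.card (MaximalSpectrum A) = 2 := le_antisymm hcard_le hcard_ge
    have hone : ∀ I : MaximalSpectrum A, Module.finrank k (A ⧸ I.asIdeal) = 1 := by
      intro I
      by_contra hI
      have hlt : 1 < Module.finrank k (A ⧸ I.asIdeal) := lt_of_le_of_ne (hpos I) (Ne.symm hI)
      have : ∑ _I : MaximalSpectrum A, 1 < ∑ I : MaximalSpectrum A, Module.finrank k (A ⧸ I.asIdeal) :=
        Finset.sum_lt_sum (fun I _ => hpos I) ⟨I, Finset.mem_univ _, hlt⟩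
      rw [hsum, ← Fintype.card_eq_sum_ones, hcard] at this
      exact lt_irrefl _ this
    have hbij : ∀ I : MaximalSpectrum A, Function.Bijective (algebraMap k (A ⧸ I.asIdeal)) :=
      fun I => Algebra.finrank_eq_one_iff_bijective_algebraMap.1 (hone I)
    let e₂ : (Π I : MaximalSpectrum A, A ⧸ I.asIdeal) ≃ₐ[k] (MaximalSpectrum A → k) :=
      AlgEquiv.piCongrRight fun I =>
        (AlgEquiv.ofBijective (Algebra.ofId k (A ⧸ I.asIdeal)) (hbij I)).symm
    let e₃ : (MaximalSpectrum A → k) ≃ₐ[k] (Fin 2 → k) :=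
      AlgEquiv.piCongrLeft' k (fun _ => k) (Fintype.equivFinOfCardEq hcard)
    let e₄ : (Fin 2 → k) ≃ₐ[k] k × k :=
      AlgEquiv.ofLinearEquiv (LinearEquiv.piFinTwo k (fun _ => k)) rfl (fun _ _ => rfl)
    exact ⟨((e.trans e₂).trans e₃).trans e₄⟩

end

end Groth.Agent.Lib.Helper79.RInvLib
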