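import Mathlib

/-!
# An auxiliary rational root system attached to a crystallographic root pairing over a domain

Given a finite reduced crystallographic root pairing `P` over a characteristic-zero domain, we build
a root system over `ℚ` with the same index type, the same reflection permutations and the same
Cartan integers: coweight space `W` = column space of the Cartan matrix in `ι → ℚ`, weight space its
dual.  This gives access to `RootPairing.nonempty_base` (stated in Mathlib over fields only).
-/

set_option autoImplicit false

namespace Groth.Agent.Lib.Helper79.RootAux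

open Module

variable {ι : Type*} {R : Type*} {M : Type*} {N : Type*} [CommRing R]
  [AddCommGroup M] [Module R M] [AddCommGroup N] [Module R N] (P : RootPairing ι R M N)
  [P.IsCrystallographic]

/-- Cartan integer as a rational. -/
noncomputable def A (i j : ι) : ℚ := (P.pairingIn ℤ i j : ℚ)

/-- The `j`-th column of the Cartan matrix. -/
noncomputable def col (j : ι) : ι → ℚ := fun i => A P i j

/-- The column space. -/
noncomputable def W : Submodule ℚ (ι → ℚ) := Submodule.span ℚ (Set.range (col P))

/-- The coroots of the auxiliary system. -/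
noncomputable def corootW (j : ι) : W P := ⟨col P j, Submodule.subset_span ⟨j, rfl⟩⟩

/-- The roots of the auxiliary system: coordinate functionals. -/
noncomputable def rootW (i : ι) : Dual ℚ (W P) :=
  (LinearMap.proj i : (ι → ℚ) →ₗ[ℚ] ℚ).comp (W P).subtype

@[simp] lemma rootW_apply (i : ι) (w : W P) : rootW P i w = (w : ι → ℚ) i := rfl

@[simp] lemma corootW_coe_apply (i j : ι) : (corootW P j : ι → ℚ) i = A P i j := rfl

@[simp] lemma rootW_corootW (i j : ι) : rootW P i (corootW P j) = A P i j := rfl

lemma span_corootW : Submodule.span ℚ (Set.range (corootW P)) = ⊤ := by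
  rw [eq_top_iff]
  rintro ⟨w, hw⟩ -
  induction hw using Submodule.span_induction with
  | mem x hx =>
    obtain ⟨j, rfl⟩ := hx
    exact Submodule.subset_span ⟨j, rfl⟩
  | zero => exact zero_mem _
  | add x y hx hy h₁ h₂ =>
    have : (⟨x + y, Submodule.add_mem _ hx hy⟩ : W P) = ⟨x, hx⟩ + ⟨y, hy⟩ := rfl
    rw [this]; exact add_mem h₁ h₂
  | smul a x hx h₁ =>
    have : (⟨a • x, Submodule.smul_mem _ a hx⟩ : W P) = a • ⟨x, hx⟩ := rfl
    rw [this]; exact Submodule.smul_mem _ a h₁

/-- Functionals on `W` are determined by their values on the coroots. -/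
lemma dual_ext {φ ψ : Dual ℚ (W P)} (h : ∀ k, φ (corootW P k) = ψ (corootW P k)) : φ = ψ := by
  apply LinearMap.ext_on_range (span_corootW P)
  exact h

section Cartan

variable [CharZero R]

lemma pairing_reflectionPerm_left (i j k : ι) :
    P.pairing (P.reflectionPerm i j) k = P.pairing j k - P.pairing j i * P.pairing i k := by
  have h := congrArg (fun x => P.toLinearMap x (P.coroot k)) (P.reflectionPerm_root i j)
  simp only [map_sub, LinearMap.sub_apply, map_smul, LinearMap.smul_apply, smul_eq_mul] at h
  exact h.symm

lemma pairing_reflectionPerm_right (i j k : ι) :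
    P.pairing k (P.reflectionPerm i j) = P.pairing k j - P.pairing i j * P.pairing k i := by
  have h := congrArg (fun x => P.toLinearMap (P.root k) x) (P.reflectionPerm_coroot i j)
  simp only [map_sub, map_smul, smul_eq_mul] at h
  exact h.symm

lemma pairingIn_reflectionPerm_left (i j k : ι) :
    P.pairingIn ℤ (P.reflectionPerm i j) k =
      P.pairingIn ℤ j k - P.pairingIn ℤ j i * P.pairingIn ℤ i k := by
  apply FaithfulSMul.algebraMap_injective ℤ R
  simp only [map_sub, map_mul, P.algebraMap_pairingIn ℤ]
  exact pairing_reflectionPerm_left P i j k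

lemma pairingIn_reflectionPerm_right (i j k : ι) :
    P.pairingIn ℤ k (P.reflectionPerm i j) =
      P.pairingIn ℤ k j - P.pairingIn ℤ i j * P.pairingIn ℤ k i := by
  apply FaithfulSMul.algebraMap_injective ℤ R
  simp only [map_sub, map_mul, P.algebraMap_pairingIn ℤ]
  exact pairing_reflectionPerm_right P i j k

lemma A_same (i : ι) : A P i i = 2 := by
  unfold A
  rw [P.pairingIn_same ℤ i]
  norm_num

lemma A_reflectionPerm_left (i j k : ι) :
    A P (P.reflectionPerm i j) k = A P j k - A P j i * A P i k := by
  unfold A
  rw [pairingIn_reflectionPerm_left]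
  push_cast
  ring

lemma A_reflectionPerm_right (i j k : ι) :
    A P k (P.reflectionPerm i j) = A P k j - A P i j * A P k i := by
  unfold A
  rw [pairingIn_reflectionPerm_right]
  push_cast
  ring

end Cartan

section Aux

variable [CharZero R] [IsDomain R] [Finite ι] [P.IsReduced]

lemma rootW_injective : Function.Injective (rootW P) := by
  intro i j h
  have : Module.IsReflexive R M := .of_isPerfPair P.toLinearMap
  have h1 : A P i j = A P j j := by simpa using congrArg (fun φ => φ (corootW P j)) h
  have h2 : A P i i = A P j i := by simpa using congrArg (fun φ => φ (corootW P i)) h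
  rw [A_same] at h1 h2
  apply (P.pairingIn_two_two_iff ℤ i j).1
  constructor
  · have : ((P.pairingIn ℤ i j : ℤ) : ℚ) = 2 := h1
    exact_mod_cast this
  · have : ((P.pairingIn ℤ j i : ℤ) : ℚ) = 2 := h2.symm
    exact_mod_cast this

lemma corootW_injective : Function.Injective (corootW P) := by
  intro i j h
  have : Module.IsReflexive R M := .of_isPerfPair P.toLinearMap
  have h' : col P i = col P j := congrArg Subtype.val h
  have h1 : A P i i = A P i j := congrFun h' i
  have h2 : A P j i = A P j j := congrFun h' j
  rw [A_same] at h1 h2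
  apply (P.pairingIn_two_two_iff ℤ i j).1
  constructor
  · have : ((P.pairingIn ℤ i j : ℤ) : ℚ) = 2 := h1.symm
    exact_mod_cast this
  · have : ((P.pairingIn ℤ j i : ℤ) : ℚ) = 2 := h2
    exact_mod_cast this

/-- The auxiliary root pairing over `ℚ`. -/
noncomputable def aux : RootPairing ι ℚ (Dual ℚ (W P)) (W P) where
  toLinearMap := LinearMap.id
  root := ⟨rootW P, rootW_injective P⟩
  coroot := ⟨corootW P, corootW_injective P⟩
  root_coroot_two i := A_same P i
  reflectionPerm := P.reflectionPerm
  reflectionPerm_root i j := by
    apply dual_ext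
    intro k
    simp [A_reflectionPerm_left]
  reflectionPerm_coroot i j := by
    apply Subtype.ext
    funext k
    simp [A_reflectionPerm_right]

@[simp] lemma aux_root (i : ι) : (aux P).root i = rootW P i := rfl
@[simp] lemma aux_coroot (i : ι) : (aux P).coroot i = corootW P i := rfl
@[simp] lemma aux_reflectionPerm (i : ι) : (aux P).reflectionPerm i = P.reflectionPerm i := rfl
@[simp] lemma aux_pairing (i j : ι) : (aux P).pairing i j = A P i j := rfl

lemma span_rootW : Submodule.span ℚ (Set.range (rootW P)) = ⊤ := by
  classical
  have : Fintype ι := Fintype.ofFinite ι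
  rw [eq_top_iff]
  intro φ _
  obtain ⟨ψ, hψ⟩ := LinearMap.exists_extend φ
  have hφ : φ = ∑ i, ψ (Pi.single i 1) • rootW P i := by
    apply LinearMap.ext
    intro w
    rw [← hψ]
    simp only [LinearMap.coe_comp, Submodule.coe_subtype, Function.comp_apply,
      LinearMap.coe_sum, Finset.sum_apply, LinearMap.smul_apply, rootW_apply, smul_eq_mul]
    rw [LinearMap.pi_apply_eq_sum_univ ψ (w : ι → ℚ)]
    refine Finset.sum_congr rfl (fun i _ => ?_)
    rw [smul_eq_mul, mul_comm]
    congr 2
    funext j
    simp [Pi.single_apply, eq_comm]
  rw [hφ]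
  exact Submodule.sum_mem _ (fun i _ => Submodule.smul_mem _ _ (Submodule.subset_span ⟨i, rfl⟩))

instance : (aux P).IsRootSystem where
  span_root_eq_top := span_rootW P
  span_coroot_eq_top := span_corootW P

instance : (aux P).IsCrystallographic where
  exists_value i j := ⟨P.pairingIn ℤ i j, by simp [A]⟩

lemma A_eq_neg_of_root_eq_neg {i j : ι} (h : P.root i = - P.root j) (k : ι) :
    A P i k = - A P j k := by
  have h1 : P.pairing i k = - P.pairing j k := by
    simp only [RootPairing.pairing, RootPairing.root', h, map_neg, LinearMap.neg_apply]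
  have h2 : P.pairingIn ℤ i k = - P.pairingIn ℤ j k := by
    apply FaithfulSMul.algebraMap_injective ℤ R
    simp only [map_neg, P.algebraMap_pairingIn ℤ]
    exact h1
  unfold A
  rw [h2]
  push_cast
  rfl

instance : (aux P).IsReduced where
  eq_or_eq_neg i j h := by
    have : Module.IsReflexive R M := .of_isPerfPair P.toLinearMap
    rw [← (aux P).coxeterWeight_eq_four_iff_not_linearIndependent] at h
    have h4 : A P i j * A P j i = 4 := h
    have h4' : P.coxeterWeightIn ℤ i j = 4 := by
      unfold A at h4
      unfold RootPairing.coxeterWeightIn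
      exact_mod_cast h4
    by_cases hij : i = j
    · left; rw [hij]
    right
    by_cases hneg : P.root i = - P.root j
    · change rootW P i = - rootW P j
      apply dual_ext
      intro k
      simp [A_eq_neg_of_root_eq_neg P hneg k]
    · exact absurd h4' (P.coxeterWeightIn_ne_four ℤ hij hneg)

end Aux

section Main

variable [CharZero R] [IsDomain R] [Finite ι] [P.IsReduced]

/-- The relation vectors `[s_α β] - [β] + ⟨α, β^∨⟩ [α]`. -/
noncomputable def rel (p : ι × ι) : ι →₀ ℤ :=
  Finsupp.single (P.reflectionPerm p.1 p.2) (1 : ℤ) - Finsupp.single p.2 1 +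
    P.pairingIn ℤ p.1 p.2 • Finsupp.single p.1 1

omit [CharZero R] [IsDomain R] [Finite ι] [P.IsReduced] in
lemma linearCombination_rel (p : ι × ι) :
    Finsupp.linearCombination ℤ (fun i : ι => (P.coroot i : N)) (rel P p) = 0 := by
  unfold rel
  simp only [map_add, map_sub, map_smul, Finsupp.linearCombination_single, one_smul]
  rw [← P.reflectionPerm_coroot p.1 p.2]
  have : P.toLinearMap (P.root p.1) (P.coroot p.2) = algebraMap ℤ R (P.pairingIn ℤ p.1 p.2) := by
    rw [P.algebraMap_pairingIn ℤ]; rfl
  rw [this, algebraMap_smul]
  abel

lemma linearIndepOn_coroot (b : (aux P).Base) :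
    LinearIndepOn ℤ (fun i : ι => (P.coroot i : N)) (b.support : Set ι) := by
  classical
  rw [linearIndepOn_iff]
  intro l hl h0
  have key : ∀ i, ∑ k ∈ l.support, l k * P.pairingIn ℤ i k = 0 := by
    intro i
    have h1 := congrArg (fun n => P.toLinearMap (P.root i) n) h0
    simp only [Finsupp.linearCombination_apply, Finsupp.sum, map_sum, map_zero, map_zsmul] at h1
    apply FaithfulSMul.algebraMap_injective ℤ R
    rw [map_sum, map_zero, ← h1]
    refine Finset.sum_congr rfl (fun k _ => ?_)
    rw [map_mul, P.algebraMap_pairingIn ℤ, zsmul_eq_mul]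
    rfl
  set l' : ι →₀ ℚ := l.mapRange (Int.cast : ℤ → ℚ) Int.cast_zero with hl'
  have hl'supp : l' ∈ Finsupp.supported ℚ ℚ (b.support : Set ι) := by
    rw [Finsupp.mem_supported] at hl ⊢
    exact (Finsupp.support_mapRange).trans hl
  have h0' : Finsupp.linearCombination ℚ (aux P).coroot l' = 0 := by
    apply Subtype.ext
    funext i
    rw [Finsupp.linearCombination_apply, Finsupp.sum_mapRange_index (by simp)]
    simp only [Finsupp.sum, aux_coroot, Submodule.coe_sum, Submodule.coe_smul, Finset.sum_apply,
      Pi.smul_apply, corootW_coe_apply, smul_eq_mul, Submodule.coe_zero, Pi.zero_apply]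
    have := key i
    unfold A
    exact_mod_cast this
  have := (linearIndepOn_iff.mp b.linearIndepOn_coroot) l' hl'supp h0'
  ext k
  have hk : l' k = 0 := by rw [this]; rfl
  rw [hl', Finsupp.mapRange_apply] at hk
  exact_mod_cast hk

theorem ker_eq_span :
    LinearMap.ker (Finsupp.linearCombination ℤ (fun i : ι => (P.coroot i : N))) =
      Submodule.span ℤ (Set.range (rel P)) := by
  classical
  apply le_antisymm
  · obtain ⟨b⟩ := (aux P).nonempty_base
    set T : Submodule ℤ (ι →₀ ℤ) :=
      Finsupp.supported ℤ ℤ (b.support : Set ι) ⊔ Submodule.span ℤ (Set.range (rel P)) with hT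
    have hrel : ∀ p, rel P p ∈ T := fun p =>
      Submodule.mem_sup_right (Submodule.subset_span ⟨p, rfl⟩)
    have hsupp : ∀ k ∈ b.support, Finsupp.single k (1 : ℤ) ∈ T := fun k hk =>
      Submodule.mem_sup_left (Finsupp.single_mem_supported ℤ 1 (by exact_mod_cast hk))
    have hsingle : ∀ i, Finsupp.single i (1 : ℤ) ∈ T := by
      intro i
      refine b.induction_reflect i (p := fun i => Finsupp.single i (1 : ℤ) ∈ T) ?_ hsupp ?_
      · intro i hi
        have h1 := hrel (i, i)
        have h2 : Finsupp.single ((aux P).reflectionPerm i i) (1 : ℤ) =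
            rel P (i, i) - Finsupp.single i (1 : ℤ) := by
          unfold rel
          simp only [aux_reflectionPerm]
          rw [P.pairingIn_same ℤ i, two_smul]
          abel
        rw [h2]
        exact T.sub_mem h1 hi
      · intro i j hi hj
        have h1 := hrel (j, i)
        have h2 : Finsupp.single ((aux P).reflectionPerm j i) (1 : ℤ) =
            rel P (j, i) + Finsupp.single i (1 : ℤ) -
              P.pairingIn ℤ j i • Finsupp.single j (1 : ℤ) := by
          unfold rel
          simp only [aux_reflectionPerm]
          abel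
        rw [h2]
        exact T.sub_mem (T.add_mem h1 hi) (T.smul_mem _ (hsupp j hj))
    have hTtop : T = ⊤ := by
      rw [eq_top_iff]
      intro x _
      induction x using Finsupp.induction_linear with
      | zero => exact zero_mem _
      | add f g hf hg => exact add_mem (hf Submodule.mem_top) (hg Submodule.mem_top)
      | single i a =>
        have : Finsupp.single i a = a • Finsupp.single i (1 : ℤ) := by
          rw [Finsupp.smul_single, smul_eq_mul, mul_one]
        rw [this]
        exact T.smul_mem _ (hsingle i)
    intro x hx
    have hxT : x ∈ T := hTtop ▸ Submodule.mem_top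
    obtain ⟨y, hy, r, hr, rfl⟩ := Submodule.mem_sup.mp hxT
    have hr0 : Finsupp.linearCombination ℤ (fun i : ι => (P.coroot i : N)) r = 0 := by
      have : Submodule.span ℤ (Set.range (rel P)) ≤
          LinearMap.ker (Finsupp.linearCombination ℤ (fun i : ι => (P.coroot i : N))) := by
        rw [Submodule.span_le]
        rintro _ ⟨p, rfl⟩
        exact linearCombination_rel P p
      exact this hr
    have hy0 : Finsupp.linearCombination ℤ (fun i : ι => (P.coroot i : N)) y = 0 := by
      have := hx
      rw [LinearMap.mem_ker, map_add, hr0, add_zero] at this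
      exact this
    have hyz : y = 0 := (linearIndepOn_iff.mp (linearIndepOn_coroot P b)) y hy hy0
    rw [hyz, zero_add]
    exact hr
  · rw [Submodule.span_le]
    rintro _ ⟨p, rfl⟩
    exact linearCombination_rel P p

end Main

end Groth.Agent.Lib.Helper79.RootAux
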