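import Mathlib
import Groth.Prelude.Def_SchFin2

set_option autoImplicit false
universe u
open SchFin TensorProduct

namespace Groth.Agent.Lib.Helper79.SchFinLib

section BC
variable {R S : Type u} [CommRing R] [CommRing S] (g : R →+* S) {M N : Type u}
    [AddCommGroup M] [AddCommGroup N] [Module R M] [Module S N] (f : M →ₛₗ[g] N)

/-- The `R`-linear map underlying a semilinear map, `N` being an `R`-module through `g`. -/
def toLin : letI : Module R N := Module.compHom N g; M →ₗ[R] N :=
  letI : Module R N := Module.compHom N g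
  { toFun := f, map_add' := f.map_add, map_smul' := f.map_smulₛₗ }

theorem isBCAlong_iff :
    IsBCAlong g f ↔
      (letI : Algebra R S := g.toAlgebra
       letI : Module R N := Module.compHom N g
       haveI : IsScalarTower R S N := IsScalarTower.of_algebraMap_smul fun _ _ => rfl
       IsBaseChange S (toLin g f)) := Iff.rfl

end BC

section H0
variable {X : RSpace.{u}} {U : Set X.pt} {R : Type u} [CommRing R] (φ : Coef X U R) (M : OMod X)

/-- the chain consisting of a single point -/
def ptChain (q : U) : Chain U 0 :=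
  OrderEmbedding.ofMapLEIff (fun _ => q) (fun a b => by
    have : Subsingleton (Fin (0 + 1)) := (inferInstance : Subsingleton (Fin 1))
    simp only [le_refl, true_iff]; exact (Subsingleton.elim a b).le)

@[simp] lemma ptChain_apply (q : U) (i : Fin 1) : ptChain q i = q := rfl

lemma chain0_eq (τ : Chain U 0) : τ = ptChain (τ (Fin.last 0)) := by
  apply RelEmbedding.ext
  intro i
  have : Subsingleton (Fin (0 + 1)) := (inferInstance : Subsingleton (Fin 1))
  rw [Subsingleton.elim i (Fin.last 0)]
  rfl

variable {φ M} in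
lemma res_cochain_congr (c : Cochain φ M 0) {τ τ' : Chain U 0} (e : τ = τ') (z : X.pt)
    (h : (τ (Fin.last 0)).1 ≤ z) (h' : (τ' (Fin.last 0)).1 ≤ z) :
    M.res h (c τ) = M.res h' (c τ') := by
  subst e; rfl

/-- evaluation of a 0-cochain at a point -/
def ev0 (c : Cochain φ M 0) (q : U) : M.carrier q.1 := c (ptChain q)

variable {φ M} in
lemma diff0_apply (c : Cochain φ M 0) (σ : Chain U 1) :
    diff φ M 0 c σ = ev0 φ M c (σ 1) - M.res (σ.monotone (Fin.zero_le 1)) (ev0 φ M c (σ 0)) := by
  change (∑ j : Fin 2, ((-1 : ℤ) ^ (j : ℕ)) • c.faceVal σ j) = _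
  rw [Fin.sum_univ_two]
  have h0 : c.faceVal σ 0 = ev0 φ M c (σ 1) := by
    unfold Cochain.faceVal ev0
    have e : σ.face 0 = ptChain (σ 1) := by
      rw [chain0_eq (σ.face 0)]; rfl
    exact (res_cochain_congr c e _ _ (le_refl _)).trans (M.res_self _ _)
  have h1 : c.faceVal σ 1 = M.res (σ.monotone (Fin.zero_le 1)) (ev0 φ M c (σ 0)) := by
    unfold Cochain.faceVal ev0
    have e : σ.face 1 = ptChain (σ 0) := by
      rw [chain0_eq (σ.face 1)]; rfl
    exact res_cochain_congr c e _ _ _
  rw [h0, h1]
  simp [sub_eq_add_neg]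

end H0

end Groth.Agent.Lib.Helper79.SchFinLib

namespace Groth.Agent.Lib.Helper79.SchFinLib

section H0b
variable {X : RSpace.{u}} {U : Set X.pt} {R : Type u} [CommRing R] (φ : Coef X U R) (M : OMod X)

/-- the 0-cocycle of a section -/
def secCochain (s : M.sect U) : Cochain φ M 0 := fun σ => s.1 (σ (Fin.last 0))

/-- the 0-cocycle of a section -/
def secCocycle (s : M.sect U) : cocycles φ M 0 :=
  ⟨secCochain φ M s, by
    change diff φ M 0 _ = 0
    funext σ
    refine (diff0_apply (secCochain φ M s) σ).trans ?_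
    change s.1 (σ 1) - M.res _ (s.1 (σ 0)) = 0
    rw [s.2 (σ 0) (σ 1) (σ.monotone (Fin.zero_le 1)), sub_self]⟩

/-- evaluation of a degree-0 cohomology class at a point, semilinear over the coefficient map -/
def evH0 (q : U) : H φ M 0 →ₛₗ[φ.map q] M.carrier q.1 :=
  Submodule.liftQ _
    ({ toFun := fun c => ev0 φ M c.1 q
       map_add' := fun _ _ => rfl
       map_smul' := fun _ _ => rfl } : cocycles φ M 0 →ₛₗ[φ.map q] M.carrier q.1)
    (by
      intro c hc
      change c.1 ∈ (⊥ : Submodule R _) at hc
      rw [Submodule.mem_bot] at hc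
      change ev0 φ M c.1 q = 0
      rw [hc]; rfl)

lemma evH0_mk (q : U) (c : cocycles φ M 0) : evH0 φ M q (H.mk φ M 0 c) = ev0 φ M c.1 q := rfl

lemma evH0_secCocycle (q : U) (s : M.sect U) :
    evH0 φ M q (H.mk φ M 0 (secCocycle φ M s)) = s.1 q := rfl

end H0b

end Groth.Agent.Lib.Helper79.SchFinLib
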