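import Mathlib
import Groth.Prelude.Def_SchFin2
import Groth.Agent.Lib.Helper79.SchFinBase

set_option autoImplicit false
set_option linter.style.haveILetI false
universe u
open SchFin TensorProduct
open Groth.Agent.Lib.Helper79.SchFinLib

namespace Groth.Agent.Lib.Helper79.SchFinLib

/-- In a schematic space, for `x ≤ y` and `b` in the ring of `y`: `b ⊗ 1 = 1 ⊗ b` in the
tensor square over the ring of `x`. -/
theorem tmul_one_eq_one_tmul (X : RSpace.{u}) (hX : X.IsSchematic) {x y : X.pt} (h : x ≤ y)
    (b : X.ring y) :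
    letI : Algebra (X.ring x) (X.ring y) := (X.res h).toAlgebra
    b ⊗ₜ[X.ring x] (1 : X.ring y) = (1 : X.ring y) ⊗ₜ[X.ring x] b := by
  letI : Algebra (X.ring x) (X.ring y) := (X.res h).toAlgebra
  set f := Hom.id X with hf
  have hbc := (hX.2.2 0 x y h y y le_rfl).1
  -- abbreviations
  set U := f.wedge x y with hU
  set U' := f.wedge y y with hU'
  set φ := Coef.ofLE x U (f.wedge_subset_up x y) with hφ
  set φ' := Coef.ofLE y U' (f.wedge_subset_up y y) with hφ'
  set s := f.subSrc h y with hs
  have hUy : U ⊆ X.up y := fun q hq => hq.2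
  have hU'y : U' ⊆ X.up y := fun q hq => hq.2
  have hyU : y ∈ U := ⟨h, le_rfl⟩
  -- the classes
  let cl : X.ring y → H φ X.str 0 := fun b =>
    H.mk φ X.str 0 (secCocycle φ X.str (X.str.resSect y U hUy b))
  let cl' : X.ring y → H φ' X.str 0 := fun b =>
    H.mk φ' X.str 0 (secCocycle φ' X.str (X.str.resSect y U' hU'y b))
  have hres : ∀ b, resH X.str s 0 (cl b) = cl' b := fun b => rfl
  have hsmul : ∀ b : X.ring y, b • cl' 1 = cl' b := by
    intro b
    change H.mk φ' X.str 0 (b • _) = _
    congr 1
    apply Subtype.ext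
    funext σ
    change X.res _ b * X.res _ 1 = X.res _ b
    rw [map_one, mul_one]
  letI : Module (X.ring x) (H φ' X.str 0) := Module.compHom _ (X.res h)
  haveI : IsScalarTower (X.ring x) (X.ring y) (H φ' X.str 0) :=
    IsScalarTower.of_algebraMap_smul fun _ _ => rfl
  have hbc' : IsBaseChange (X.ring y) (toLin (X.res h) (resH X.str s 0)) := hbc
  have key : b ⊗ₜ[X.ring x] cl 1 = (1 : X.ring y) ⊗ₜ[X.ring x] cl b := by
    apply hbc'.equiv.injective
    rw [IsBaseChange.equiv_tmul, IsBaseChange.equiv_tmul, one_smul]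
    change b • resH X.str s 0 (cl 1) = resH X.str s 0 (cl b)
    rw [hres, hres, hsmul]
  -- evaluate at y
  let ev : H φ X.str 0 →ₗ[X.ring x] X.ring y :=
    { toFun := evH0 φ X.str ⟨y, hyU⟩
      map_add' := map_add _
      map_smul' := fun a m => by
        rw [LinearMap.map_smulₛₗ]; rfl }
  have hev : ∀ b, ev (cl b) = b := fun b => X.res_self y b
  have := congrArg (LinearMap.lTensor (X.ring y) ev) key
  rw [LinearMap.lTensor_tmul, LinearMap.lTensor_tmul, hev, hev] at this
  exact this

theorem isEpi_res (X : RSpace.{u}) (hX : X.IsSchematic) {x y : X.pt} (h : x ≤ y) :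
    letI : Algebra (X.ring x) (X.ring y) := (X.res h).toAlgebra
    Algebra.IsEpi (X.ring x) (X.ring y) := by
  letI : Algebra (X.ring x) (X.ring y) := (X.res h).toAlgebra
  exact (Algebra.isEpi_iff_forall_one_tmul_eq _ _).2 fun b =>
    (tmul_one_eq_one_tmul X hX h b).symm

theorem ringHom_ext_of_isEpi {A B T : Type u} [CommRing A] [CommRing B] [CommRing T]
    [Algebra A B] [Algebra.IsEpi A B] (g₁ g₂ : B →+* T)
    (hg : g₁.comp (algebraMap A B) = g₂.comp (algebraMap A B)) : g₁ = g₂ := by
  have hg' : ∀ a, g₁ (algebraMap A B a) = g₂ (algebraMap A B a) := fun a =>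
    RingHom.congr_fun hg a
  let Ψ : B ⊗[A] B →+ T := TensorProduct.liftAddHom
    { toFun := fun b =>
        { toFun := fun c => g₁ b * g₂ c
          map_zero' := by simp
          map_add' := fun c c' => by simp [mul_add] }
      map_zero' := by ext c; simp
      map_add' := fun b b' => by ext c; simp [add_mul] }
    (fun a b c => by
      change g₁ (a • b) * g₂ c = g₁ b * g₂ (a • c)
      rw [Algebra.smul_def, Algebra.smul_def, map_mul, map_mul, hg']
      ring)
  ext b
  have h1 := (Algebra.isEpi_iff_forall_one_tmul_eq A B).1 inferInstance b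
  have := congrArg Ψ h1
  change g₁ 1 * g₂ b = g₁ b * g₂ 1 at this
  rw [map_one, map_one, one_mul, mul_one] at this
  exact this.symm

end Groth.Agent.Lib.Helper79.SchFinLib
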