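import Mathlib
import Groth.Prelude.Def_SchFin2
import Groth.Agent.Lib.Helper79.SchFinEpi

set_option autoImplicit false
set_option linter.style.haveILetI false
universe u
open SchFin TensorProduct

namespace Groth.Agent.Lib.Helper79.SchFinLib

/-- ring epimorphism, in hom-ext form (test rings in the same universe) -/
def IsEpiHom {A B : Type u} [CommRing A] [CommRing B] (f : A →+* B) : Prop :=
  ∀ (T : Type u) [CommRing T] (g₁ g₂ : B →+* T), g₁.comp f = g₂.comp f → g₁ = g₂

section
variable {A B C : Type u} [CommRing A] [CommRing B] [CommRing C]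

theorem IsEpiHom.comp {f : A →+* B} {g : B →+* C} (hf : IsEpiHom f) (hg : IsEpiHom g) :
    IsEpiHom (g.comp f) := by
  intro T _ g₁ g₂ h
  apply hg
  apply hf
  rw [RingHom.comp_assoc, RingHom.comp_assoc]; exact h

theorem IsEpiHom.of_comp {f : A →+* B} {g : B →+* C} (h : IsEpiHom (g.comp f)) :
    IsEpiHom g := by
  intro T _ g₁ g₂ h'
  apply h
  rw [← RingHom.comp_assoc, ← RingHom.comp_assoc, h']

theorem isEpiHom_of_isLocalization (M : Submonoid A) [Algebra A B] [IsLocalization M B] :
    IsEpiHom (algebraMap A B) := by
  intro T _ g₁ g₂ h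
  exact IsLocalization.ringHom_ext M h

theorem isEpiHom_algebraMap_iff [Algebra A B] :
    IsEpiHom (algebraMap A B) ↔ Algebra.IsEpi A B := by
  constructor
  · intro h
    rw [Algebra.isEpi_iff_forall_one_tmul_eq]
    have := h (B ⊗[A] B) (Algebra.TensorProduct.includeRight (R := A) (A := B)).toRingHom
      (Algebra.TensorProduct.includeLeftRingHom) (by
        ext a
        change (1 : B) ⊗ₜ[A] algebraMap A B a = algebraMap A B a ⊗ₜ[A] (1 : B)
        simp only [Algebra.algebraMap_eq_smul_one, smul_tmul])
    intro b
    exact RingHom.congr_fun this b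
  · intro h T _ g₁ g₂ hg
    exact ringHom_ext_of_isEpi (A := A) g₁ g₂ hg

theorem isEpiHom_iff (f : A →+* B) :
    IsEpiHom f ↔ (letI : Algebra A B := f.toAlgebra; Algebra.IsEpi A B) := by
  letI : Algebra A B := f.toAlgebra
  exact isEpiHom_algebraMap_iff (A := A) (B := B)

theorem bijective_of_faithfullyFlat_of_isEpi [Algebra A B] [Module.FaithfullyFlat A B]
    [Algebra.IsEpi A B] : Function.Bijective (algebraMap A B) := by
  have hμ : Function.Bijective (TensorProduct.lift (LinearMap.mul A B)) := by
    refine ⟨Algebra.IsEpi.injective_lift_mul, fun b => ⟨b ⊗ₜ 1, by simp⟩⟩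
  have hcomp : (TensorProduct.lift (LinearMap.mul A B)) ∘ ((Algebra.linearMap A B).lTensor B) =
      (TensorProduct.rid A B) := by
    funext t
    induction t using TensorProduct.induction_on with
    | zero => simp
    | tmul b a => simp [Algebra.smul_def, mul_comm]
    | add s t hs ht =>
        simp only [Function.comp_apply, map_add] at hs ht ⊢
        rw [hs, ht]
  have h1 : Function.Bijective ((Algebra.linearMap A B).lTensor B) := by
    rw [← Function.Bijective.of_comp_iff' hμ, hcomp]
    exact (TensorProduct.rid A B).bijective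
  exact (Module.FaithfullyFlat.lTensor_bijective_iff_bijective A B (Algebra.linearMap A B)).1 h1

end

/-- Flat epimorphisms induce isomorphisms on localizations. -/
theorem bijective_localRingHom_of_flat_of_isEpiHom {A B : Type u} [CommRing A] [CommRing B]
    (g : A →+* B) (hfl : g.Flat) (hepi : IsEpiHom g) (P : Ideal B) [P.IsPrime] :
    Function.Bijective (Localization.localRingHom (P.comap g) P g rfl) := by
  set φ := Localization.localRingHom (P.comap g) P g rfl with hφ
  have hφflat : φ.Flat := RingHom.Flat.localRingHom hfl P (P.comap g) rfl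
  have hφepi : IsEpiHom φ := by
    have h1 : IsEpiHom ((algebraMap B (Localization.AtPrime P)).comp g) :=
      hepi.comp (isEpiHom_of_isLocalization P.primeCompl)
    have h2 : (algebraMap B (Localization.AtPrime P)).comp g =
        φ.comp (algebraMap A (Localization.AtPrime (P.comap g))) := by
      ext a
      exact (Localization.localRingHom_to_map _ _ _ rfl a).symm
    rw [h2] at h1
    exact h1.of_comp
  letI : Algebra (Localization.AtPrime (P.comap g)) (Localization.AtPrime P) := φ.toAlgebra
  haveI : Module.Flat (Localization.AtPrime (P.comap g)) (Localization.AtPrime P) := hφflat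
  haveI : IsLocalHom (algebraMap (Localization.AtPrime (P.comap g)) (Localization.AtPrime P)) :=
    Localization.isLocalHom_localRingHom _ _ _ rfl
  haveI : Module.FaithfullyFlat (Localization.AtPrime (P.comap g)) (Localization.AtPrime P) :=
    Module.FaithfullyFlat.of_flat_of_isLocalHom
  haveI : Algebra.IsEpi (Localization.AtPrime (P.comap g)) (Localization.AtPrime P) :=
    (isEpiHom_iff φ).1 hφepi
  exact bijective_of_faithfullyFlat_of_isEpi

theorem isEpiHom_res (X : RSpace.{u}) (hX : X.IsSchematic) {x y : X.pt} (h : x ≤ y) :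
    IsEpiHom (X.res h) :=
  (isEpiHom_iff _).2 (isEpi_res X hX h)

theorem flat_res (X : RSpace.{u}) (hX : X.IsSchematic) {x y : X.pt} (h : x ≤ y) :
    (X.res h).Flat := hX.1.2 x y h

end Groth.Agent.Lib.Helper79.SchFinLib
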