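import Mathlib
import Groth.Prelude.Def_SchFin2
import Groth.Agent.Lib.Helper79.SchFinFlatEpi

set_option autoImplicit false
set_option linter.style.haveILetI false
universe u
open SchFin TensorProduct

namespace Groth.Agent.Lib.Helper79.SchFinLib

/-- A geometric point does not lift to points strictly above its base: the base change of `Ω`
to the ring of such a point vanishes. -/
theorem GeomPt.subsingleton_tensor {X : RSpace.{u}} {Ω : Type u} [Field Ω] [IsAlgClosed Ω]
    (ξ : GeomPt X Ω) {x' : X.pt} (hx : ξ.base ≤ x') (hne : ¬ x' ≤ ξ.base) :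
    letI : Algebra (X.ring ξ.base) (X.ring x') := (X.res hx).toAlgebra
    letI : Algebra (X.ring ξ.base) Ω := ξ.toField.toAlgebra
    Subsingleton (X.ring x' ⊗[X.ring ξ.base] Ω) := by
  letI : Algebra (X.ring ξ.base) (X.ring x') := (X.res hx).toAlgebra
  letI : Algebra (X.ring ξ.base) Ω := ξ.toField.toAlgebra
  have hbc := (ξ.isSchematic.2.2 0 PUnit.unit PUnit.unit le_rfl ξ.base x' hx).2
  let U : Set (RSpace.point Ω).pt := ξ.hom.wedge PUnit.unit ξ.base
  let U' : Set (RSpace.point Ω).pt := ξ.hom.wedge PUnit.unit x'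
  let φ : Coef (RSpace.point Ω) U (X.ring ξ.base) :=
    Coef.ofHom ξ.hom ξ.base U (ξ.hom.wedge_subset_pre PUnit.unit ξ.base)
  let φ' : Coef (RSpace.point Ω) U' (X.ring x') :=
    Coef.ofHom ξ.hom x' U' (ξ.hom.wedge_subset_pre PUnit.unit x')
  have hU' : IsEmpty U' := ⟨fun q => hne q.2.2⟩
  have hsub : Subsingleton (H φ' (RSpace.point Ω).str 0) := by
    have : IsEmpty (Chain U' 0) := ⟨fun σ => hU'.false (σ 0)⟩
    have h1 : Subsingleton (Cochain φ' (RSpace.point Ω).str 0) := by
      unfold Cochain; infer_instance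
    have h2 : Subsingleton (cocycles φ' (RSpace.point Ω).str 0) := inferInstance
    unfold H
    infer_instance
  letI : Module (X.ring ξ.base) (H φ' (RSpace.point Ω).str 0) := Module.compHom _ (X.res hx)
  haveI : IsScalarTower (X.ring ξ.base) (X.ring x') (H φ' (RSpace.point Ω).str 0) :=
    IsScalarTower.of_algebraMap_smul fun _ _ => rfl
  have hbc' : IsBaseChange (X.ring x')
      (toLin (X.res hx) (resH (RSpace.point Ω).str (ξ.hom.subTgt PUnit.unit hx) 0)) := hbc
  have hsub2 : Subsingleton (X.ring x' ⊗[X.ring ξ.base] H φ (RSpace.point Ω).str 0) :=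
    hbc'.equiv.injective.subsingleton
  -- evaluation H⁰ → Ω, linear over the ring of the base point
  have hmemU : (PUnit.unit : (RSpace.point Ω).pt) ∈ U := ⟨le_rfl, le_rfl⟩
  have hφ : ∀ a, φ.map ⟨PUnit.unit, hmemU⟩ a = ξ.toField a := fun a =>
    congrArg (ξ.hom.app PUnit.unit) (X.res_self ξ.base a)
  let ev : H φ (RSpace.point Ω).str 0 →ₗ[X.ring ξ.base] Ω :=
    { toFun := evH0 φ (RSpace.point Ω).str ⟨PUnit.unit, hmemU⟩
      map_add' := map_add _
      map_smul' := fun a m => by
        rw [LinearMap.map_smulₛₗ, hφ]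
        rfl }
  have hev : Function.Surjective ev := by
    intro ω
    refine ⟨H.mk φ (RSpace.point Ω).str 0 (secCocycle φ (RSpace.point Ω).str
      ⟨fun _ => ω, fun _ _ _ => rfl⟩), rfl⟩
  exact (LinearMap.lTensor_surjective (X.ring x') hev).subsingleton

end Groth.Agent.Lib.Helper79.SchFinLib

namespace Groth.Agent.Lib.Helper79.SchFinLib

theorem GeomPt.comap_ne_ker {X : RSpace.{u}} {Ω : Type u} [Field Ω] [IsAlgClosed Ω]
    (ξ : GeomPt X Ω) {x' : X.pt} (hx : ξ.base ≤ x') (hne : ¬ x' ≤ ξ.base)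
    (P : Ideal (X.ring x')) [P.IsPrime] :
    P.comap (X.res hx) ≠ RingHom.ker ξ.toField := by
  intro heq
  letI : Algebra (X.ring ξ.base) (X.ring x') := (X.res hx).toAlgebra
  letI : Algebra (X.ring ξ.base) Ω := ξ.toField.toAlgebra
  have hsub := GeomPt.subsingleton_tensor ξ hx hne
  haveI hflat : Module.Flat (X.ring ξ.base) (X.ring x') := ξ.isSchematic.2.1.2 ξ.base x' hx
  let 𝔭 : Ideal (X.ring ξ.base) := RingHom.ker ξ.toField
  let ι : (X.ring ξ.base ⧸ 𝔭) →ₗ[X.ring ξ.base] Ω :=
    Submodule.liftQ 𝔭 (Algebra.linearMap (X.ring ξ.base) Ω) (fun a ha => ha)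
  have hι : Function.Injective ι := by
    rw [← LinearMap.ker_eq_bot]
    exact Submodule.ker_liftQ_eq_bot _ _ _ (fun a ha => ha)
  have hinj := Module.Flat.lTensor_preserves_injective_linearMap (M := X.ring x') ι hι
  have hsub2 : Subsingleton (X.ring x' ⊗[X.ring ξ.base] (X.ring ξ.base ⧸ 𝔭)) :=
    hinj.subsingleton
  have hsub3 : Subsingleton (X.ring x' ⧸ (𝔭 • ⊤ : Submodule (X.ring ξ.base) (X.ring x'))) :=
    (TensorProduct.tensorQuotEquivQuotSMul (X.ring x') 𝔭).symm.injective.subsingleton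
  rw [Submodule.Quotient.subsingleton_iff] at hsub3
  have hle : (𝔭 • ⊤ : Submodule (X.ring ξ.base) (X.ring x')) ≤ P.restrictScalars (X.ring ξ.base) := by
    rw [Submodule.smul_le]
    intro a ha b _
    have ha' : X.res hx a ∈ P := by
      have : a ∈ P.comap (X.res hx) := by rw [heq]; exact ha
      exact this
    change X.res hx a * b ∈ P
    exact P.mul_mem_right _ ha'
  rw [hsub3] at hle
  have h1 : (1 : X.ring x') ∈ P := hle (Submodule.mem_top)
  exact (Ideal.IsPrime.ne_top ‹_›) ((Ideal.eq_top_iff_one P).2 h1)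

end Groth.Agent.Lib.Helper79.SchFinLib
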