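import Mathlib
import Groth.Prelude.Def_SchFin2
import Groth.Agent.Lib.Helper79.SchFinFlatEpi

set_option autoImplicit false
set_option linter.style.haveILetI false
universe u
open SchFin TensorProduct

namespace Groth.Agent.Lib.Helper79.SchFinLib

section H0c
variable {X : RSpace.{u}} {U : Set X.pt} {R : Type u} [CommRing R] (φ : Coef X U R) (M : OMod X)

/-- a two-point chain -/
def pairChain (q q' : U) (h : q < q') : Chain U 1 :=
  OrderEmbedding.ofStrictMono (fun i : Fin 2 => if i = 0 then q else q') (by
    intro i j hij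
    fin_cases i <;> fin_cases j <;> simp_all)

lemma pairChain_zero (q q' : U) (h : q < q') : pairChain q q' h 0 = q := rfl
lemma pairChain_one (q q' : U) (h : q < q') : pairChain q q' h 1 = q' := rfl

variable {φ M} in
lemma ev0_res_of_cocycle (c : cocycles φ M 0) (q q' : U) (h : q.1 ≤ q'.1) :
    M.res h (ev0 φ M c.1 q) = ev0 φ M c.1 q' := by
  by_cases hqq : q = q'
  · subst hqq
    exact M.res_self _ _
  · have hlt : q < q' := lt_of_le_of_ne h hqq
    have hc : diff φ M 0 c.1 = 0 := c.2
    have := congrFun hc (pairChain q q' hlt)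
    rw [diff0_apply] at this
    have h2 := sub_eq_zero.1 this
    exact h2.symm

variable {φ M} in
lemma cochain0_ext {c c' : Cochain φ M 0} (h : ∀ q, ev0 φ M c q = ev0 φ M c' q) : c = c' := by
  funext σ
  have e := chain0_eq σ
  have h1 := res_cochain_congr c e _ (le_refl _) (le_refl _)
  have h2 := res_cochain_congr c' e _ (le_refl _) (le_refl _)
  rw [M.res_self] at h1 h2
  rw [h1, h2]
  exact congrArg _ (h (σ (Fin.last 0)))

/-- the section attached to a degree-0 class -/
def H0toSect (m : H φ M 0) : M.sect U :=
  ⟨fun q => evH0 φ M q m, by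
    intro q q' h
    induction m using Submodule.Quotient.induction_on with
    | H c => exact ev0_res_of_cocycle c q q' h⟩

lemma H0toSect_apply (m : H φ M 0) (q : U) : (H0toSect φ M m).1 q = evH0 φ M q m := rfl

lemma H0toSect_mk_secCocycle (s : M.sect U) :
    H0toSect φ M (H.mk φ M 0 (secCocycle φ M s)) = s := by
  apply Subtype.ext
  funext q
  rfl

lemma mk_secCocycle_H0toSect (m : H φ M 0) :
    H.mk φ M 0 (secCocycle φ M (H0toSect φ M m)) = m := by
  induction m using Submodule.Quotient.induction_on with
  | H c =>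
    change H.mk φ M 0 _ = H.mk φ M 0 c
    congr 1
    apply Subtype.ext
    apply cochain0_ext
    intro q
    rfl

lemma H0_ext {m m' : H φ M 0} (h : ∀ q, evH0 φ M q m = evH0 φ M q m') : m = m' := by
  rw [← mk_secCocycle_H0toSect φ M m, ← mk_secCocycle_H0toSect φ M m']
  congr 2
  apply Subtype.ext
  funext q
  exact h q

end H0c

end Groth.Agent.Lib.Helper79.SchFinLib
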