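import Mathlib
import Groth.Prelude.Def_SchFin2
import Groth.Agent.Lib.Helper79.SchFinH0

set_option autoImplicit false
set_option linter.style.haveILetI false
universe u
open SchFin TensorProduct

namespace Groth.Agent.Lib.Helper79.SchFinLib

section TensorSect
variable (X : RSpace.{u})

/-- the intersection of two minimal open sets -/
def W (x y : X.pt) : Set X.pt := {q | x ≤ q ∧ y ≤ q}

lemma W_eq_wedge (x y : X.pt) : W X x y = (Hom.id X).wedge x y := rfl
lemma W_eq_inter (x y : X.pt) : W X x y = X.up x ∩ X.up y := rfl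

lemma W_subset_left (x y : X.pt) : W X x y ⊆ X.up x := fun _ h => h.1
lemma W_subset_right (x y : X.pt) : W X x y ⊆ X.up y := fun _ h => h.2

variable {s x y : X.pt} (hsx : s ≤ x) (hsy : s ≤ y)

/-- The ring map `O_x ⊗_{O_s} O_y → Γ(U_x ∩ U_y)`. -/
noncomputable def tensorToSect :
    letI : Algebra (X.ring s) (X.ring x) := (X.res hsx).toAlgebra
    letI : Algebra (X.ring s) (X.ring y) := (X.res hsy).toAlgebra
    (X.ring x ⊗[X.ring s] X.ring y) →+* X.sectRing (W X x y) :=
  letI : Algebra (X.ring s) (X.ring x) := (X.res hsx).toAlgebra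
  letI : Algebra (X.ring s) (X.ring y) := (X.res hsy).toAlgebra
  letI : Algebra (X.ring s) (X.sectRing (W X x y)) :=
    ((X.resSect x (W X x y) (W_subset_left X x y)).comp (X.res hsx)).toAlgebra
  (Algebra.TensorProduct.lift
    (⟨X.resSect x (W X x y) (W_subset_left X x y), fun _ => rfl⟩ :
      X.ring x →ₐ[X.ring s] X.sectRing (W X x y))
    (⟨X.resSect y (W X x y) (W_subset_right X x y), fun a => by
      apply Subtype.ext
      funext q
      exact (X.res_comp hsy q.2.2 a).trans (X.res_comp hsx q.2.1 a).symm⟩ :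
      X.ring y →ₐ[X.ring s] X.sectRing (W X x y))
    (fun _ _ => Commute.all _ _)).toRingHom

lemma tensorToSect_tmul (b : X.ring x) (c : X.ring y) (q : W X x y) :
    letI : Algebra (X.ring s) (X.ring x) := (X.res hsx).toAlgebra
    letI : Algebra (X.ring s) (X.ring y) := (X.res hsy).toAlgebra
    (tensorToSect X hsx hsy (b ⊗ₜ[X.ring s] c)).1 q = X.res q.2.1 b * X.res q.2.2 c := by
  letI : Algebra (X.ring s) (X.ring x) := (X.res hsx).toAlgebra
  letI : Algebra (X.ring s) (X.ring y) := (X.res hsy).toAlgebra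
  unfold tensorToSect
  simp only [AlgHom.toRingHom_eq_coe, RingHom.coe_coe, Algebra.TensorProduct.lift_tmul]
  rfl

/-- In a schematic space, `O_x ⊗_{O_s} O_y ≅ Γ(U_x ∩ U_y)` for `s ≤ x, y`. -/
theorem tensorToSect_bijective (hX : X.IsSchematic) :
    Function.Bijective (tensorToSect X hsx hsy) := by
  letI : Algebra (X.ring s) (X.ring x) := (X.res hsx).toAlgebra
  letI : Algebra (X.ring s) (X.ring y) := (X.res hsy).toAlgebra
  -- the base-change statement
  let φ0 : Coef X (W X s y) (X.ring s) := Coef.ofLE s (W X s y) (W_subset_left X s y)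
  let φ1 : Coef X (W X x y) (X.ring x) := Coef.ofLE x (W X x y) (W_subset_left X x y)
  let sub : Coef.Sub φ0 φ1 := (Hom.id X).subSrc hsx y
  have hbc : IsBCAlong (X.res hsx) (resH X.str sub 0) := (hX.2.2 0 s x hsx y y le_rfl).1
  letI : Module (X.ring s) (H φ1 X.str 0) := Module.compHom _ (X.res hsx)
  haveI : IsScalarTower (X.ring s) (X.ring x) (H φ1 X.str 0) :=
    IsScalarTower.of_algebraMap_smul fun _ _ => rfl
  have hbc' : IsBaseChange (X.ring x) (toLin (X.res hsx) (resH X.str sub 0)) := hbc
  have hyW : y ∈ W X s y := ⟨hsy, le_rfl⟩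
  -- C ≅ H⁰(W s y)
  let ιC : X.ring y →ₗ[X.ring s] H φ0 X.str 0 :=
    { toFun := fun c => H.mk φ0 X.str 0
        (secCocycle φ0 X.str (X.str.resSect y (W X s y) (W_subset_right X s y) c))
      map_add' := fun c c' => by
        apply H0_ext
        intro q
        refine Eq.trans ?_ (map_add (evH0 φ0 X.str q) _ _).symm
        exact map_add (X.res q.2.2) c c'
      map_smul' := fun a c => by
        apply H0_ext
        intro q
        rw [RingHom.id_apply, LinearMap.map_smulₛₗ]
        change X.res _ (X.res hsy a * c) = X.res _ a * X.res _ c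
        rw [map_mul]
        congr 1
        exact X.res_comp hsy q.2.2 a }
  have hιC_ev : ∀ (c : X.ring y) (q : W X s y), evH0 φ0 X.str q (ιC c) = X.res q.2.2 c :=
    fun c q => rfl
  have hιC : Function.Bijective ιC := by
    constructor
    · intro c c' h
      have := congrArg (evH0 φ0 X.str ⟨y, hyW⟩) h
      rw [hιC_ev, hιC_ev] at this
      change X.res _ c = X.res _ c' at this
      rwa [X.res_self, X.res_self] at this
    · intro m
      refine ⟨evH0 φ0 X.str ⟨y, hyW⟩ m, ?_⟩
      apply H0_ext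
      intro q
      exact (hιC_ev _ q).trans ((H0toSect φ0 X.str m).2 ⟨y, hyW⟩ q q.2.2)
  let eC : X.ring y ≃ₗ[X.ring s] H φ0 X.str 0 := LinearEquiv.ofBijective ιC hιC
  let Θ : X.ring x ⊗[X.ring s] X.ring y → H φ1 X.str 0 := fun t =>
    hbc'.equiv (LinearMap.lTensor (X.ring x) ιC t)
  have hΘadd : ∀ t t', Θ (t + t') = Θ t + Θ t' := fun t t' => by
    simp only [Θ, map_add]
  have hΘbij : Function.Bijective Θ := by
    have h1 : Function.Bijective (LinearMap.lTensor (X.ring x) ιC) :=
      (LinearEquiv.lTensor (X.ring x) eC).bijective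
    exact hbc'.equiv.bijective.comp h1
  have hres_ev : ∀ (c : X.ring y) (q : W X x y),
      evH0 φ1 X.str q (resH X.str sub 0 (ιC c)) = X.res q.2.2 c := fun c q => rfl
  have key : ∀ (t : X.ring x ⊗[X.ring s] X.ring y) (q : W X x y),
      evH0 φ1 X.str q (Θ t) = (tensorToSect X hsx hsy t).1 q := by
    intro t q
    induction t using TensorProduct.induction_on with
    | zero =>
        have : Θ 0 = 0 := by simp only [Θ, map_zero]
        rw [this, map_zero, map_zero]; rfl
    | tmul b c =>
        rw [tensorToSect_tmul]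
        change evH0 φ1 X.str q (hbc'.equiv (b ⊗ₜ[X.ring s] ιC c)) = _
        rw [IsBaseChange.equiv_tmul]
        change evH0 φ1 X.str q (b • resH X.str sub 0 (ιC c)) = _
        rw [LinearMap.map_smulₛₗ, hres_ev]
        rfl
    | add t t' ht ht' =>
        rw [hΘadd, map_add, map_add, ht, ht']; rfl
  constructor
  · rw [injective_iff_map_eq_zero]
    intro t ht
    apply hΘbij.1
    have h0 : Θ 0 = 0 := by simp only [Θ, map_zero]
    rw [h0]
    apply H0_ext
    intro q
    rw [key, ht, map_zero]; rfl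
  · intro γ
    obtain ⟨t, ht⟩ := hΘbij.2 (H.mk φ1 X.str 0 (secCocycle φ1 X.str ⟨γ.1, γ.2⟩))
    refine ⟨t, ?_⟩
    apply Subtype.ext
    funext q
    rw [← key, ht]
    rfl

end TensorSect

end Groth.Agent.Lib.Helper79.SchFinLib

namespace Groth.Agent.Lib.Helper79.SchFinLib

theorem bijective_localRingHom_of_flat_of_isEpiHom' {A B : Type u} [CommRing A] [CommRing B]
    (g : A →+* B) (hfl : g.Flat) (hepi : IsEpiHom g) (P : Ideal B) [P.IsPrime]
    (I : Ideal A) [I.IsPrime] (hI : I = P.comap g) :
    Function.Bijective (Localization.localRingHom I P g hI) := by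
  subst hI
  exact bijective_localRingHom_of_flat_of_isEpiHom g hfl hepi P

theorem exists_prime_tensor_of_flat_epi {A B C : Type u} [CommRing A] [CommRing B] [CommRing C]
    [Algebra A B] [Algebra A C]
    (hBf : (algebraMap A B).Flat) (hBe : IsEpiHom (algebraMap A B))
    (hCf : (algebraMap A C).Flat) (hCe : IsEpiHom (algebraMap A C))
    (P : Ideal B) [P.IsPrime] (Q : Ideal C) [Q.IsPrime]
    (h : P.comap (algebraMap A B) = Q.comap (algebraMap A C)) :
    ∃ r : Ideal (B ⊗[A] C), r.IsPrime ∧
      r.comap (Algebra.TensorProduct.includeLeftRingHom) = P ∧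
      r.comap (Algebra.TensorProduct.includeRight (R := A) (A := B) (B := C)).toRingHom = Q := by
  set 𝔭 : Ideal A := P.comap (algebraMap A B) with h𝔭
  let L := Localization.AtPrime 𝔭
  let eB : L ≃+* Localization.AtPrime P :=
    RingEquiv.ofBijective (Localization.localRingHom 𝔭 P (algebraMap A B) rfl)
      (bijective_localRingHom_of_flat_of_isEpiHom' _ hBf hBe P 𝔭 rfl)
  let eC : L ≃+* Localization.AtPrime Q :=
    RingEquiv.ofBijective (Localization.localRingHom 𝔭 Q (algebraMap A C) h)
      (bijective_localRingHom_of_flat_of_isEpiHom' _ hCf hCe Q 𝔭 h)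
  let β : B →ₐ[A] L :=
    { toRingHom := eB.symm.toRingHom.comp (algebraMap B (Localization.AtPrime P))
      commutes' := fun a => by
        change eB.symm (algebraMap B _ (algebraMap A B a)) = algebraMap A L a
        rw [RingEquiv.symm_apply_eq]
        exact (Localization.localRingHom_to_map _ _ _ rfl a).symm }
  let γ : C →ₐ[A] L :=
    { toRingHom := eC.symm.toRingHom.comp (algebraMap C (Localization.AtPrime Q))
      commutes' := fun a => by
        change eC.symm (algebraMap C _ (algebraMap A C a)) = algebraMap A L a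
        rw [RingEquiv.symm_apply_eq]
        exact (Localization.localRingHom_to_map _ _ _ h a).symm }
  let χ : B ⊗[A] C →ₐ[A] L := Algebra.TensorProduct.lift β γ (fun _ _ => Commute.all _ _)
  have hβ : ∀ b, β b ∈ IsLocalRing.maximalIdeal L ↔ b ∈ P := by
    intro b
    change eB.symm (algebraMap B _ b) ∈ _ ↔ _
    rw [IsLocalRing.mem_maximalIdeal, mem_nonunits_iff, MulEquiv.isUnit_map,
      ← mem_nonunits_iff, ← IsLocalRing.mem_maximalIdeal,
      IsLocalization.AtPrime.to_map_mem_maximal_iff _ P]
  have hγ : ∀ c, γ c ∈ IsLocalRing.maximalIdeal L ↔ c ∈ Q := by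
    intro c
    change eC.symm (algebraMap C _ c) ∈ _ ↔ _
    rw [IsLocalRing.mem_maximalIdeal, mem_nonunits_iff, MulEquiv.isUnit_map,
      ← mem_nonunits_iff, ← IsLocalRing.mem_maximalIdeal,
      IsLocalization.AtPrime.to_map_mem_maximal_iff _ Q]
  refine ⟨(IsLocalRing.maximalIdeal L).comap χ.toRingHom, inferInstance, ?_, ?_⟩
  · ext b
    rw [Ideal.mem_comap, Ideal.mem_comap, ← hβ]
    change χ (b ⊗ₜ 1) ∈ _ ↔ _
    rw [Algebra.TensorProduct.lift_tmul, map_one, mul_one]
  · ext c
    rw [Ideal.mem_comap, Ideal.mem_comap, ← hγ]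
    change χ (1 ⊗ₜ c) ∈ _ ↔ _
    rw [Algebra.TensorProduct.lift_tmul, map_one, one_mul]

end Groth.Agent.Lib.Helper79.SchFinLib
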