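import Mathlib
import Groth.Prelude.Def_SchFin2
import Groth.Agent.Lib.Helper79.SchFinTensor

set_option autoImplicit false
set_option linter.style.haveILetI false
universe u
open SchFin TensorProduct

namespace Groth.Agent.Lib.Helper79.SchFinLib

theorem exists_point_prime_of_ff (X : RSpace.{u}) (U : Set X.pt)
    (hff : Module.FaithfullyFlat (X.sectRing U) ((q : ↥U) → X.ring q.1))
    (𝔯 : PrimeSpectrum (X.sectRing U)) :
    ∃ (z : U) (r : PrimeSpectrum (X.ring z.1)), PrimeSpectrum.comap (X.evalRing U z) r = 𝔯 := by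
  obtain ⟨𝔮, h𝔮⟩ := PrimeSpectrum.comap_surjective_of_faithfullyFlat
    (A := X.sectRing U) (B := (q : ↥U) → X.ring q.1) 𝔯
  obtain ⟨⟨z, r⟩, hzr⟩ := (PrimeSpectrum.sigmaToPi_bijective (fun q : ↥U => X.ring q.1)).2 𝔮
  refine ⟨z, r, ?_⟩
  rw [← h𝔮, ← hzr, PrimeSpectrum.sigmaToPi_apply]
  rfl

/-- the hypothesis on faithful flatness used in several statements -/
def FFHyp (X : RSpace.{u}) : Prop :=
  ∀ s a b : X.pt, s ≤ a → s ≤ b → (X.up a ∩ X.up b).Nonempty →
      Module.FaithfullyFlat (X.sectRing (X.up a ∩ X.up b)) ((q : ↥(X.up a ∩ X.up b)) → X.ring q.1)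

theorem pairRel_of_comap_eq (X : RSpace.{u}) (hX : X.IsSchematic) (hff : FFHyp X)
    {s x y : X.pt} (hx : s ≤ x) (hy : s ≤ y) (P : PrimeSpectrum (X.ring x))
    (Q : PrimeSpectrum (X.ring y))
    (hPQ : PrimeSpectrum.comap (X.res hx) P = PrimeSpectrum.comap (X.res hy) Q) :
    X.PairRel ⟨x, P⟩ ⟨y, Q⟩ := by
  letI : Algebra (X.ring s) (X.ring x) := (X.res hx).toAlgebra
  letI : Algebra (X.ring s) (X.ring y) := (X.res hy).toAlgebra
  have hPQ' : P.asIdeal.comap (algebraMap (X.ring s) (X.ring x)) =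
      Q.asIdeal.comap (algebraMap (X.ring s) (X.ring y)) := congrArg PrimeSpectrum.asIdeal hPQ
  obtain ⟨rT, hrT, hrP, hrQ⟩ := exists_prime_tensor_of_flat_epi
    (flat_res X hX hx) (isEpiHom_res X hX hx) (flat_res X hX hy) (isEpiHom_res X hX hy)
    P.asIdeal Q.asIdeal hPQ'
  let e : X.ring x ⊗[X.ring s] X.ring y ≃+* X.sectRing (W X x y) :=
    RingEquiv.ofBijective (tensorToSect X hx hy) (tensorToSect_bijective X hx hy hX)
  let 𝔯 : PrimeSpectrum (X.sectRing (W X x y)) := ⟨rT.comap e.symm.toRingHom, inferInstance⟩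
  have hne : (X.up x ∩ X.up y).Nonempty := by
    by_contra hemp
    rw [Set.not_nonempty_iff_eq_empty] at hemp
    have hsub : Subsingleton (X.sectRing (W X x y)) := by
      refine ⟨fun a b => Subtype.ext (funext fun q => ?_)⟩
      have : q.1 ∈ (∅ : Set X.pt) := by rw [← hemp]; exact q.2
      exact this.elim
    exact 𝔯.2.ne_top (Subsingleton.elim _ _)
  obtain ⟨z, r, hzr⟩ := exists_point_prime_of_ff X (W X x y) (hff s x y hx hy hne) 𝔯
  refine ⟨z.1, z.2.1, z.2.2, r, ?_, ?_⟩
  · apply PrimeSpectrum.ext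
    have h1 : (PrimeSpectrum.comap (X.res z.2.1) r).asIdeal =
        ((PrimeSpectrum.comap (X.evalRing (W X x y) z) r).asIdeal).comap
          (X.resSect x (W X x y) (W_subset_left X x y)) := rfl
    rw [h1, hzr, ← hrP]
    change Ideal.comap _ (Ideal.comap e.symm.toRingHom rT) = _
    rw [Ideal.comap_comap]
    congr 1
    ext b
    change e.symm (X.resSect x (W X x y) (W_subset_left X x y) b) = b ⊗ₜ 1
    rw [RingEquiv.symm_apply_eq]
    apply Subtype.ext
    funext q
    change _ = (tensorToSect X hx hy (b ⊗ₜ 1)).1 q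
    rw [tensorToSect_tmul, map_one, mul_one]
    rfl
  · apply PrimeSpectrum.ext
    have h1 : (PrimeSpectrum.comap (X.res z.2.2) r).asIdeal =
        ((PrimeSpectrum.comap (X.evalRing (W X x y) z) r).asIdeal).comap
          (X.resSect y (W X x y) (W_subset_right X x y)) := rfl
    rw [h1, hzr, ← hrQ]
    change Ideal.comap _ (Ideal.comap e.symm.toRingHom rT) = _
    rw [Ideal.comap_comap]
    congr 1
    ext c
    change e.symm (X.resSect y (W X x y) (W_subset_right X x y) c) = 1 ⊗ₜ c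
    rw [RingEquiv.symm_apply_eq]
    apply Subtype.ext
    funext q
    change _ = (tensorToSect X hx hy (1 ⊗ₜ c)).1 q
    rw [tensorToSect_tmul, map_one, one_mul]
    rfl

end Groth.Agent.Lib.Helper79.SchFinLib
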