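import Mathlib
import Groth.Prelude.Def_SchFin2
import Groth.Agent.Lib.Helper79.SchFinPair0

set_option autoImplicit false
set_option linter.style.haveILetI false
universe u
open SchFin TensorProduct

namespace Groth.Agent.Lib.Helper79.SchFinLib

lemma comap_res_self (X : RSpace.{u}) (p : X.pt) (h : p ≤ p) (r : PrimeSpectrum (X.ring p)) :
    PrimeSpectrum.comap (X.res h) r = r := by
  have : X.res h = RingHom.id _ := RingHom.ext (X.res_self p)
  rw [this]; rfl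

lemma comap_res_trans (X : RSpace.{u}) {p q s : X.pt} (h : p ≤ q) (h' : q ≤ s)
    (r : PrimeSpectrum (X.ring s)) :
    PrimeSpectrum.comap (X.res (h.trans h')) r =
      PrimeSpectrum.comap (X.res h) (PrimeSpectrum.comap (X.res h') r) := by
  have : X.res (h.trans h') = (X.res h').comp (X.res h) :=
    RingHom.ext fun a => (X.res_comp h h' a).symm
  rw [this]; rfl

theorem pairRel_equivalence (X : RSpace.{u}) (hX : X.IsSchematic) (hff : FFHyp X) :
    Equivalence X.PairRel where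
  refl a := ⟨a.1, le_rfl, le_rfl, a.2, comap_res_self X _ _ _, comap_res_self X _ _ _⟩
  symm := fun ⟨z, hx, hy, r, h1, h2⟩ => ⟨z, hy, hx, r, h2, h1⟩
  trans := by
    rintro a b c ⟨z, hx, hy, r, h1, h2⟩ ⟨z', hx', hy', r', h1', h2'⟩
    obtain ⟨w, hzw, hz'w, r'', hr, hr'⟩ :=
      pairRel_of_comap_eq X hX hff hy hx' r r' (h2.trans h1'.symm)
    refine ⟨w, hx.trans hzw, hy'.trans hz'w, r'', ?_, ?_⟩
    · exact (comap_res_trans X hx hzw r'').trans ((congrArg _ hr).trans h1)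
    · exact (comap_res_trans X hy' hz'w r'').trans ((congrArg _ hr').trans h2')

theorem pairRel_up (X : RSpace.{u}) (p z : X.pt) (h : p ≤ z) (r : PrimeSpectrum (X.ring z)) :
    X.PairRel ⟨p, PrimeSpectrum.comap (X.res h) r⟩ ⟨z, r⟩ :=
  ⟨z, h, le_rfl, r, rfl, comap_res_self X _ _ _⟩

theorem existsUnique_maximal_pair (X : RSpace.{u}) (hX : X.IsSchematic) (hff : FFHyp X)
    (c : X.SchPt) :
    ∃! a : X.Pair, Quot.mk X.PairRel a = c ∧
      ∀ b : X.Pair, Quot.mk X.PairRel b = c → b.1 ≤ a.1 := by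
  have hE := pairRel_equivalence X hX hff
  have hquot : ∀ a b : X.Pair, Quot.mk X.PairRel a = Quot.mk X.PairRel b ↔ X.PairRel a b := by
    intro a b
    rw [Quot.eq, hE.eqvGen_iff]
  obtain ⟨a₀, rfl⟩ := Quot.exists_rep c
  let S : Set X.pt := {p | ∃ P : PrimeSpectrum (X.ring p), X.PairRel a₀ ⟨p, P⟩}
  have hSfin : S.Finite := Set.toFinite S
  have hSne : S.Nonempty := ⟨a₀.1, a₀.2, hE.refl a₀⟩
  obtain ⟨zs, hzs⟩ := hSfin.exists_maximal hSne
  obtain ⟨Ps, hPs⟩ := hzs.1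
  have hdir : ∀ p ∈ S, p ≤ zs := by
    rintro p ⟨P, hP⟩
    obtain ⟨z, hpz, hzsz, r, h1, h2⟩ := hE.trans (hE.symm hP) hPs
    have hzS : z ∈ S := by
      refine ⟨r, hE.trans hP ?_⟩
      have h1' : PrimeSpectrum.comap (X.res (show p ≤ z from hpz)) r = P := h1
      have := pairRel_up X p z hpz r
      rw [h1'] at this
      exact this
    exact hpz.trans (hzs.2 hzS hzsz)
  refine ⟨⟨zs, Ps⟩, ⟨((hquot _ _).2 hPs).symm, fun b hb => ?_⟩, ?_⟩
  · exact hdir b.1 ⟨b.2, (hquot _ _).1 hb.symm⟩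
  · rintro ⟨p', P'⟩ ⟨h1, h2⟩
    have hle1 : p' ≤ zs := hdir p' ⟨P', (hquot _ _).1 h1.symm⟩
    have hle2 : zs ≤ p' := h2 ⟨zs, Ps⟩ ((hquot _ _).2 hPs).symm
    have hpp : p' = zs := le_antisymm hle1 hle2
    subst hpp
    have hrel : X.PairRel ⟨p', P'⟩ ⟨p', Ps⟩ := hE.trans ((hquot _ _).1 h1) hPs
    obtain ⟨z, hx, hy, r, e1, e2⟩ := hrel
    have : P' = Ps := e1.symm.trans e2
    rw [this]

end Groth.Agent.Lib.Helper79.SchFinLib
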