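import Mathlib
import Groth.Prelude.Def_SchFin2
import Groth.Agent.Lib.Helper79.SchFinPair
import Groth.Agent.Lib.Helper79.SchFinGeomPt

set_option autoImplicit false
set_option linter.style.haveILetI false
universe u
open SchFin TensorProduct

namespace Groth.Agent.Lib.Helper79.SchFinLib

section BCcrit
variable {R S : Type u} [CommRing R] [CommRing S] (g : R →+* S) {M N : Type u}
    [AddCommGroup M] [AddCommGroup N] [Module R M] [Module S N] (f : M →ₛₗ[g] N)

/-- base change along an epimorphism of a bijective semilinear map -/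
theorem isBCAlong_of_isEpiHom_of_bijective (hg : IsEpiHom g) (hf : Function.Bijective f) :
    IsBCAlong g f := by
  letI : Algebra R S := g.toAlgebra
  letI : Module R N := Module.compHom N g
  haveI : IsScalarTower R S N := IsScalarTower.of_algebraMap_smul fun _ _ => rfl
  haveI : Algebra.IsEpi R S := (isEpiHom_iff g).1 hg
  change IsBaseChange S (toLin g f)
  let eM : M ≃ₗ[R] N := LinearEquiv.ofBijective (toLin g f) hf
  let e : S ⊗[R] M ≃ₗ[S] N :=
    (TensorProduct.AlgebraTensorModule.congr (LinearEquiv.refl S S) eM).trans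
      (TensorProduct.lid' R S N)
  refine IsBaseChange.of_equiv e (fun x => ?_)
  change (1 : S) • f x = f x
  rw [one_smul]

/-- base change between trivial modules -/
theorem isBCAlong_of_subsingleton
    (hST : letI : Algebra R S := g.toAlgebra; Subsingleton (S ⊗[R] M)) (hN : Subsingleton N) :
    IsBCAlong g f := by
  letI : Algebra R S := g.toAlgebra
  letI : Module R N := Module.compHom N g
  haveI : IsScalarTower R S N := IsScalarTower.of_algebraMap_smul fun _ _ => rfl
  change IsBaseChange S (toLin g f)
  unfold IsBaseChange IsTensorProduct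
  exact ⟨fun a b _ => Subsingleton.elim a b, fun n => ⟨0, Subsingleton.elim _ _⟩⟩

end BCcrit

section ResH0
variable {X : RSpace.{u}} {U U' : Set X.pt} {R R' : Type u} [CommRing R] [CommRing R']
  {φ : Coef X U R} {φ' : Coef X U' R'} (M : OMod X)

theorem resH0_bijective_of_superset (s : Coef.Sub φ φ') (hU : U ⊆ U') :
    Function.Bijective (resH M s 0) := by
  have hev : ∀ (m : H φ M 0) (q' : U'),
      evH0 φ' M q' (resH M s 0 m) = evH0 φ M ⟨q'.1, s.le q'.2⟩ m := by
    intro m q'
    induction m using Submodule.Quotient.induction_on with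
    | H c => rfl
  constructor
  · intro m m' h
    apply H0_ext
    intro q
    have := congrArg (evH0 φ' M ⟨q.1, hU q.2⟩) h
    rw [hev, hev] at this
    exact this
  · intro m'
    let s' := H0toSect φ' M m'
    let sec : M.sect U := ⟨fun q => s'.1 ⟨q.1, hU q.2⟩, fun q q' h => s'.2 ⟨q.1, hU q.2⟩ ⟨q'.1, hU q'.2⟩ h⟩
    refine ⟨H.mk φ M 0 (secCocycle φ M sec), ?_⟩
    apply H0_ext
    intro q'
    rw [hev]
    rfl

end ResH0

end Groth.Agent.Lib.Helper79.SchFinLib

namespace Groth.Agent.Lib.Helper79.SchFinLib

theorem subsingleton_tensor_right {R : Type u} [CommRing R] {S M : Type u} [AddCommGroup S]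
    {_ : Module R S} [AddCommGroup M] {_ : Module R M} (_ : Subsingleton M) :
    Subsingleton (S ⊗[R] M) := by
  refine ⟨fun a b => ?_⟩
  have h0 : ∀ t : S ⊗[R] M, t = 0 := by
    intro t
    induction t using TensorProduct.induction_on with
    | zero => rfl
    | tmul s m => rw [Subsingleton.elim m 0, TensorProduct.tmul_zero]
    | add s t hs ht => rw [hs, ht, add_zero]
  rw [h0 a, h0 b]

section GeomPtExist
variable (X : RSpace.{u}) (Ω : Type u) [Field Ω] [IsAlgClosed Ω]

/-- the morphism from the one-point space on `Ω` attached to a ring map `O_x → Ω` -/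
def ptHom (x : X.pt) (θ : X.ring x →+* Ω) : Hom (RSpace.point Ω) X where
  fn := fun _ => x
  mono := fun _ _ _ => le_rfl
  app := fun _ => θ
  compat := fun _ b => by
    change θ b = θ (X.res _ b)
    rw [X.res_self]

variable {X Ω}

lemma chain_point_isEmpty (U : Set (RSpace.point Ω).pt) (n : ℕ) : IsEmpty (Chain U (n + 1)) := by
  refine ⟨fun σ => ?_⟩
  have h : σ 0 = σ 1 := Subtype.ext (Subsingleton.elim (α := PUnit) _ _)
  have := σ.injective h
  exact absurd this (by simp)

lemma H_point_subsingleton {U : Set (RSpace.point Ω).pt} {R : Type u} [CommRing R]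
    (φ : Coef (RSpace.point Ω) U R) (M : OMod (RSpace.point Ω)) (n : ℕ) :
    Subsingleton (H φ M (n + 1)) := by
  have := chain_point_isEmpty (Ω := Ω) U n
  have h1 : Subsingleton (Cochain φ M (n + 1)) := by
    unfold Cochain; infer_instance
  have h2 : Subsingleton (cocycles φ M (n + 1)) := inferInstance
  unfold H
  infer_instance

lemma H_empty_subsingleton {Y : RSpace.{u}} {U : Set Y.pt} (hU : IsEmpty U) {R : Type u} [CommRing R]
    (φ : Coef Y U R) (M : OMod Y) (n : ℕ) :
    Subsingleton (H φ M n) := by
  have : IsEmpty (Chain U n) := ⟨fun σ => hU.false (σ 0)⟩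
  have h1 : Subsingleton (Cochain φ M n) := by
    unfold Cochain; infer_instance
  have h2 : Subsingleton (cocycles φ M n) := inferInstance
  unfold H
  infer_instance

theorem ptHom_isSchematic (hX : X.IsSchematic) (x : X.pt) (θ : X.ring x →+* Ω)
    (hmax : ∀ (y y' : X.pt) (hy : y ≤ y') (hyx : y ≤ x), ¬ y' ≤ x →
      letI : Algebra (X.ring y) (X.ring y') := (X.res hy).toAlgebra
      letI : Algebra (X.ring y) Ω := (θ.comp (X.res hyx)).toAlgebra
      Subsingleton (X.ring y' ⊗[X.ring y] Ω)) :
    (ptHom X Ω x θ).IsSchematic := by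
  refine ⟨⟨fun _ => (inferInstance : IsNoetherianRing Ω), fun _ _ _ => RingHom.Flat.id Ω⟩,
    hX.1, ?_⟩
  intro n x0 x0' hx0 y y' hy
  constructor
  · -- source direction
    cases n with
    | zero =>
        apply isBCAlong_of_isEpiHom_of_bijective
        · intro T _ g1 g2 h
          exact h
        · exact resH0_bijective_of_superset _ _ (fun q hq => ⟨trivial, hq.2⟩)
    | succ n =>
        apply isBCAlong_of_subsingleton
        · haveI := H_point_subsingleton
            (Coef.ofLE x0 ((ptHom X Ω x θ).wedge x0 y) ((ptHom X Ω x θ).wedge_subset_up x0 y))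
            (RSpace.point Ω).str n
          exact subsingleton_tensor_right this
        · exact H_point_subsingleton _ _ n
  · -- target direction
    cases n with
    | succ n =>
        apply isBCAlong_of_subsingleton
        · haveI := H_point_subsingleton
            (Coef.ofHom (ptHom X Ω x θ) y ((ptHom X Ω x θ).wedge x0 y)
              ((ptHom X Ω x θ).wedge_subset_pre x0 y))
            (RSpace.point Ω).str n
          exact subsingleton_tensor_right this
        · exact H_point_subsingleton _ _ n
    | zero =>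
        by_cases h1 : y' ≤ x
        · apply isBCAlong_of_isEpiHom_of_bijective _ _ (isEpiHom_res X hX hy)
          exact resH0_bijective_of_superset _ _ (fun q hq => ⟨hq.1, h1⟩)
        · have hU' : IsEmpty ((ptHom X Ω x θ).wedge x0 y') := ⟨fun q => h1 q.2.2⟩
          apply isBCAlong_of_subsingleton
          · by_cases h2 : y ≤ x
            · letI : Algebra (X.ring y) (X.ring y') := (X.res hy).toAlgebra
              letI : Algebra (X.ring y) Ω := (θ.comp (X.res h2)).toAlgebra
              have hsub := hmax y y' hy h2 h1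
              let φ := Coef.ofHom (ptHom X Ω x θ) y ((ptHom X Ω x θ).wedge x0 y)
                ((ptHom X Ω x θ).wedge_subset_pre x0 y)
              let ι : Ω →ₗ[X.ring y] H φ (RSpace.point Ω).str 0 :=
                { toFun := fun ω => H.mk φ (RSpace.point Ω).str 0
                    (secCocycle φ (RSpace.point Ω).str ⟨fun _ => ω, fun _ _ _ => rfl⟩)
                  map_add' := fun ω ω' => by
                    apply H0_ext
                    intro q
                    refine Eq.trans ?_ (map_add (evH0 φ (RSpace.point Ω).str q) _ _).symm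
                    rfl
                  map_smul' := fun c ω => by
                    apply H0_ext
                    intro q
                    rw [RingHom.id_apply, LinearMap.map_smulₛₗ]
                    rfl }
              have hι : Function.Surjective ι := by
                intro m
                have hq : (PUnit.unit : (RSpace.point Ω).pt) ∈ (ptHom X Ω x θ).wedge x0 y :=
                  ⟨trivial, h2⟩
                refine ⟨evH0 φ (RSpace.point Ω).str ⟨PUnit.unit, hq⟩ m, ?_⟩
                apply H0_ext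
                intro q
                have : q = ⟨PUnit.unit, hq⟩ := Subtype.ext (Subsingleton.elim (α := PUnit) _ _)
                rw [this]
                rfl
              exact (LinearMap.lTensor_surjective (X.ring y') hι).subsingleton
            · have hU : IsEmpty ((ptHom X Ω x θ).wedge x0 y) := ⟨fun q => h2 q.2.2⟩
              haveI := H_empty_subsingleton hU
                (Coef.ofHom (ptHom X Ω x θ) y ((ptHom X Ω x θ).wedge x0 y)
                  ((ptHom X Ω x θ).wedge_subset_pre x0 y)) (RSpace.point Ω).str 0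
              exact subsingleton_tensor_right this
          · exact H_empty_subsingleton hU' _ _ 0

end GeomPtExist

end Groth.Agent.Lib.Helper79.SchFinLib

namespace Groth.Agent.Lib.Helper79.SchFinLib

theorem subsingleton_tensor_of_maximal_pair {X : RSpace.{u}} {Ω : Type u} [Field Ω]
    (hX : X.IsSchematic) (hff : FFHyp X) (a : X.Pair)
    (ha : ∀ b : X.Pair, X.PairRel a b → b.1 ≤ a.1) (φ : a.κ →+* Ω)
    (y y' : X.pt) (hy : y ≤ y') (hyx : y ≤ a.1) (hne : ¬ y' ≤ a.1) :
    letI : Algebra (X.ring y) (X.ring y') := (X.res hy).toAlgebra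
    letI : Algebra (X.ring y) Ω :=
      ((φ.comp (algebraMap (X.ring a.1) a.κ)).comp (X.res hyx)).toAlgebra
    Subsingleton (X.ring y' ⊗[X.ring y] Ω) := by
  letI : Algebra (X.ring y) (X.ring y') := (X.res hy).toAlgebra
  letI : Algebra (X.ring y) Ω :=
    ((φ.comp (algebraMap (X.ring a.1) a.κ)).comp (X.res hyx)).toAlgebra
  by_contra hns
  rw [not_subsingleton_iff_nontrivial] at hns
  obtain ⟨𝔪, h𝔪⟩ := Ideal.exists_maximal (X.ring y' ⊗[X.ring y] Ω)
  let 𝔮 : PrimeSpectrum (X.ring y' ⊗[X.ring y] Ω) := ⟨𝔪, h𝔪.isPrime⟩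
  let Q' : PrimeSpectrum (X.ring y') :=
    PrimeSpectrum.comap (Algebra.TensorProduct.includeLeftRingHom) 𝔮
  have hcomap : PrimeSpectrum.comap (X.res hyx) a.2 = PrimeSpectrum.comap (X.res hy) Q' := by
    apply PrimeSpectrum.ext
    ext c
    change X.res hyx c ∈ a.2.asIdeal ↔ (X.res hy c) ⊗ₜ[X.ring y] (1 : Ω) ∈ 𝔪
    have h1 : (X.res hy c) ⊗ₜ[X.ring y] (1 : Ω) =
        (1 : X.ring y') ⊗ₜ[X.ring y] (φ (algebraMap (X.ring a.1) a.κ (X.res hyx c))) := by
      have e1 : X.res hy c = c • (1 : X.ring y') := by
        rw [Algebra.smul_def, mul_one]; rfl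
      have e2 : φ (algebraMap (X.ring a.1) a.κ (X.res hyx c)) = c • (1 : Ω) := by
        rw [Algebra.smul_def, mul_one]; rfl
      rw [e1, e2, TensorProduct.smul_tmul]
    rw [h1, ← Ideal.algebraMap_residueField_eq_zero (I := a.2.asIdeal)]
    constructor
    · intro h0
      rw [h0, map_zero, TensorProduct.tmul_zero]
      exact 𝔪.zero_mem
    · intro hmem
      by_contra hne0
      have hne1 : φ (algebraMap (X.ring a.1) a.κ (X.res hyx c)) ≠ 0 := by
        intro h; exact hne0 (φ.injective (h.trans (map_zero φ).symm))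
      have hunit : IsUnit ((1 : X.ring y') ⊗ₜ[X.ring y]
          (φ (algebraMap (X.ring a.1) a.κ (X.res hyx c)))) :=
        (IsUnit.mk0 _ hne1).map
          (Algebra.TensorProduct.includeRight (R := X.ring y) (A := X.ring y') (B := Ω))
      exact h𝔪.ne_top (Ideal.eq_top_of_isUnit_mem _ hmem hunit)
  have hrel : X.PairRel ⟨a.1, a.2⟩ ⟨y', Q'⟩ := pairRel_of_comap_eq X hX hff hyx hy a.2 Q' hcomap
  exact hne (ha ⟨y', Q'⟩ hrel)

theorem GeomPt.ext_of_sigma {X : RSpace.{u}} {Ω : Type u} [Field Ω] [IsAlgClosed Ω]
    (ξ ξ' : GeomPt X Ω)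
    (h : (⟨ξ.base, ξ.toField⟩ : Σ x : X.pt, (X.ring x →+* Ω)) = ⟨ξ'.base, ξ'.toField⟩) :
    ξ = ξ' := by
  obtain ⟨⟨fn, mono, app, compat⟩, hs⟩ := ξ
  obtain ⟨⟨fn', mono', app', compat'⟩, hs'⟩ := ξ'
  simp only [GeomPt.base, GeomPt.toField] at h
  obtain ⟨h1, h2⟩ := Sigma.mk.inj_iff.1 h
  have hfn : fn = fn' := funext fun q => by cases q; exact h1
  subst hfn
  have happ : app = app' := funext fun q => by cases q; exact eq_of_heq h2
  subst happ
  rfl

end Groth.Agent.Lib.Helper79.SchFinLib
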