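import Mathlib
import Groth.Prelude.Def_SchFin2
import Groth.Agent.Lib.Helper79.SchFinGeomPt2

set_option autoImplicit false
set_option linter.style.haveILetI false
universe u
open SchFin TensorProduct CategoryTheory CategoryTheory.Limits

namespace Groth.Agent.Lib.Helper79.SchFinLib

section BCequiv
variable {R S : Type u} [CommRing R] [CommRing S] (g : R →+* S) {M N : Type u}
    [AddCommGroup M] [AddCommGroup N] [Module R M] [Module S N] (f : M →ₛₗ[g] N)

theorem isBCAlong_of_equiv
    (e : letI : Algebra R S := g.toAlgebra; S ⊗[R] M ≃ₗ[S] N)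
    (he : letI : Algebra R S := g.toAlgebra; ∀ x, e (1 ⊗ₜ x) = f x) : IsBCAlong g f := by
  letI : Algebra R S := g.toAlgebra
  letI : Module R N := Module.compHom N g
  haveI : IsScalarTower R S N := IsScalarTower.of_algebraMap_smul fun _ _ => rfl
  change IsBaseChange S (toLin g f)
  exact IsBaseChange.of_equiv e he

/-- the linear equivalence attached to a base change -/
noncomputable def bcEquiv (h : IsBCAlong g f) :
    letI : Algebra R S := g.toAlgebra
    S ⊗[R] M ≃ₗ[S] N :=
  letI : Algebra R S := g.toAlgebra
  letI : Module R N := Module.compHom N g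
  haveI : IsScalarTower R S N := IsScalarTower.of_algebraMap_smul fun _ _ => rfl
  have h' : IsBaseChange S (toLin g f) := h
  h'.equiv

theorem bcEquiv_tmul (h : IsBCAlong g f) (s : S) (m : M) :
    letI : Algebra R S := g.toAlgebra
    bcEquiv g f h (s ⊗ₜ m) = s • f m := by
  letI : Algebra R S := g.toAlgebra
  letI : Module R N := Module.compHom N g
  haveI : IsScalarTower R S N := IsScalarTower.of_algebraMap_smul fun _ _ => rfl
  have h' : IsBaseChange S (toLin g f) := h
  exact h'.equiv_tmul s m

end BCequiv

section Prod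
variable {R S : Type u} [CommRing R] [CommRing S] (g : R →+* S) {M₁ N₁ M₂ N₂ : Type u}
    [AddCommGroup M₁] [AddCommGroup N₁] [Module R M₁] [Module S N₁]
    [AddCommGroup M₂] [AddCommGroup N₂] [Module R M₂] [Module S N₂]
    (f₁ : M₁ →ₛₗ[g] N₁) (f₂ : M₂ →ₛₗ[g] N₂)

theorem isBCAlong_prod (h₁ : IsBCAlong g f₁) (h₂ : IsBCAlong g f₂)
    (f : (M₁ × M₂) →ₛₗ[g] (N₁ × N₂)) (hf : ∀ m, f m = (f₁ m.1, f₂ m.2)) : IsBCAlong g f := by
  letI : Algebra R S := g.toAlgebra
  refine isBCAlong_of_equiv g f
    (TensorProduct.prodRight R S S M₁ M₂ ≪≫ₗ (bcEquiv g f₁ h₁).prodCongr (bcEquiv g f₂ h₂))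
    (fun x => ?_)
  simp only [LinearEquiv.trans_apply, TensorProduct.prodRight_tmul, hf]
  rw [LinearEquiv.prodCongr_apply, bcEquiv_tmul, bcEquiv_tmul, one_smul, one_smul]

end Prod

end Groth.Agent.Lib.Helper79.SchFinLib

namespace Groth.Agent.Lib.Helper79.SchFinLib

section EtProd
variable {R A B : Type u} [CommRing R] [CommRing A] [CommRing B] [Algebra R A] [Algebra R B]

/-- the two-member family of algebras -/
def BoolFam (A B : Type u) : Bool → Type u := fun b => cond b A B

instance (b : Bool) : CommRing (BoolFam A B b) :=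
  match b with
  | true => (inferInstance : CommRing A)
  | false => (inferInstance : CommRing B)

instance (b : Bool) : Algebra R (BoolFam A B b) :=
  match b with
  | true => (inferInstance : Algebra R A)
  | false => (inferInstance : Algebra R B)

/-- a binary product as a product over `Bool` -/
def boolFamEquiv : (∀ b, BoolFam A B b) ≃ₐ[R] A × B where
  toFun f := (f true, f false)
  invFun p := fun b => match b with
    | true => p.1
    | false => p.2
  left_inv f := by
    funext b
    cases b <;> rfl
  right_inv p := rfl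
  map_mul' _ _ := rfl
  map_add' _ _ := rfl
  commutes' _ := rfl

theorem etale_prod [Algebra.Etale R A] [Algebra.Etale R B] : Algebra.Etale R (A × B) := by
  haveI : ∀ b, Algebra.Etale R (BoolFam A B b) := fun b =>
    match b with
    | true => (inferInstance : Algebra.Etale R A)
    | false => (inferInstance : Algebra.Etale R B)
  exact Algebra.Etale.of_equiv (boolFamEquiv (R := R) (A := A) (B := B))

end EtProd

section AlgConstr
variable (X : RSpace.{u})

/-- the zero algebra -/
def Alg.zero : Alg X where
  carrier _ := PUnit.{u+1}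
  res _ := RingHom.id PUnit
  res_algebraMap _ _ := rfl
  res_self _ _ := rfl
  res_comp _ _ _ := rfl

theorem Alg.zero_isEtCover : (Alg.zero X).IsEtCover := by
  refine ⟨fun p q h => ?_, fun p => ⟨?_, ?_⟩⟩
  · apply isBCAlong_of_subsingleton
    · exact subsingleton_tensor_right (inferInstanceAs (Subsingleton PUnit.{u+1}))
    · exact inferInstanceAs (Subsingleton PUnit.{u+1})
  · exact inferInstanceAs (Module.Finite (X.ring p) PUnit.{u+1})
  · exact inferInstanceAs (Algebra.Etale (X.ring p) PUnit.{u+1})

variable {X}

/-- the product of two algebras -/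
def Alg.prod (A B : Alg X) : Alg X where
  carrier p := A.carrier p × B.carrier p
  res h := RingHom.prodMap (A.res h) (B.res h)
  res_algebraMap h a := by
    change (A.res h (algebraMap _ _ a), B.res h (algebraMap _ _ a)) = _
    rw [A.res_algebraMap, B.res_algebraMap]; rfl
  res_self p b := by
    change (A.res _ b.1, B.res _ b.2) = b
    rw [A.res_self, B.res_self]
  res_comp h h' b := by
    change (A.res _ (A.res _ b.1), B.res _ (B.res _ b.2)) = (A.res _ b.1, B.res _ b.2)
    rw [A.res_comp, B.res_comp]

theorem Alg.prod_isEtCover (A B : Alg X) (hA : A.IsEtCover) (hB : B.IsEtCover) :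
    (Alg.prod A B).IsEtCover := by
  refine ⟨fun p q h => ?_, fun p => ⟨?_, ?_⟩⟩
  · exact isBCAlong_prod (X.res h) (A.toMod.res h) (B.toMod.res h) (hA.1 p q h) (hB.1 p q h)
      ((Alg.prod A B).toMod.res h) (fun m => rfl)
  · haveI := (hA.2 p).1
    haveI := (hB.2 p).1
    exact inferInstanceAs (Module.Finite (X.ring p) (A.carrier p × B.carrier p))
  · haveI := (hA.2 p).2
    haveI := (hB.2 p).2
    exact etale_prod

end AlgConstr

end Groth.Agent.Lib.Helper79.SchFinLib

namespace Groth.Agent.Lib.Helper79.SchFinLib

section FEtLimits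
variable {X : RSpace.{u}}

/-- the zero étale cover -/
def FEt.zero (X : RSpace.{u}) : FEt X := ⟨Alg.zero X, Alg.zero_isEtCover X⟩

/-- the unique morphism to the zero algebra -/
def Alg.toZero (A : Alg X) : A ⟶ Alg.zero X where
  app _ :=
    { toFun := fun _ => PUnit.unit
      map_one' := rfl
      map_mul' := fun _ _ => rfl
      map_zero' := rfl
      map_add' := fun _ _ => rfl
      commutes' := fun _ => rfl }
  compat _ _ := rfl

theorem FEt.hasTerminal (X : RSpace.{u}) : HasTerminal (FEt X) := by
  haveI : ∀ A : FEt X, Unique (A ⟶ FEt.zero X) := fun A =>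
    { default := ObjectProperty.homMk (Alg.toZero A.obj)
      uniq := fun f => by
        apply ObjectProperty.hom_ext
        apply Alg.hom_ext
        intro p
        apply AlgHom.ext
        intro a
        rfl }
  exact hasTerminal_of_unique (FEt.zero X)

/-- the product of two étale covers -/
def FEt.prod (A B : FEt X) : FEt X :=
  ⟨Alg.prod A.obj B.obj, Alg.prod_isEtCover A.obj B.obj A.property B.property⟩

def Alg.prodFst (A B : Alg X) : Alg.prod A B ⟶ A where
  app _ := AlgHom.fst _ _ _
  compat _ _ := rfl

def Alg.prodSnd (A B : Alg X) : Alg.prod A B ⟶ B where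
  app _ := AlgHom.snd _ _ _
  compat _ _ := rfl

def Alg.prodLift {T A B : Alg X} (f : T ⟶ A) (g : T ⟶ B) : T ⟶ Alg.prod A B where
  app p := AlgHom.prod (f.app p) (g.app p)
  compat h t := by
    change (A.res h (f.app _ t), B.res h (g.app _ t)) = (f.app _ (T.res h t), g.app _ (T.res h t))
    rw [f.compat, g.compat]

/-- the product fan in étale covers is a limit -/
def FEt.prodIsLimit (A B : FEt X) :
    IsLimit (BinaryFan.mk (P := FEt.prod A B)
      (ObjectProperty.homMk (Alg.prodFst A.obj B.obj))
      (ObjectProperty.homMk (Alg.prodSnd A.obj B.obj))) :=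
  BinaryFan.IsLimit.mk _
    (fun f g => ObjectProperty.homMk (Alg.prodLift f.hom g.hom))
    (fun f g => by
      apply ObjectProperty.hom_ext
      apply Alg.hom_ext
      intro p
      apply AlgHom.ext
      intro t
      rfl)
    (fun f g => by
      apply ObjectProperty.hom_ext
      apply Alg.hom_ext
      intro p
      apply AlgHom.ext
      intro t
      rfl)
    (fun f g m h1 h2 => by
      apply ObjectProperty.hom_ext
      apply Alg.hom_ext
      intro p
      apply AlgHom.ext
      intro t
      have e1 := congrArg (fun k => k.hom.app p t) h1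
      have e2 := congrArg (fun k => k.hom.app p t) h2
      exact Prod.ext e1 e2)

theorem FEt.hasBinaryProducts (X : RSpace.{u}) : HasBinaryProducts (FEt X) := by
  haveI : ∀ A B : FEt X, HasLimit (pair A B) := fun A B =>
    HasLimit.mk ⟨_, FEt.prodIsLimit A B⟩
  exact hasBinaryProducts_of_hasLimit_pair _

end FEtLimits

end Groth.Agent.Lib.Helper79.SchFinLib
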