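import Mathlib
import Groth.Prelude.Def_SchFin2
import Groth.Agent.Lib.Helper79.SchFinFEtLim
import Groth.Agent.Lib.Helper79.FFPi

set_option autoImplicit false
set_option linter.style.haveILetI false
universe u
open SchFin TensorProduct

namespace Groth.Agent.Lib.Helper79.SchFinLib

section Transfer

variable {R R' S : Type u} [CommRing R] [CommRing R'] [CommRing S]
  (ρ : R ≃+* R') (g : R →+* S) (g' : R' →+* S) (hg : ∀ r, g' (ρ r) = g r)
  {M M' N : Type u} [AddCommGroup M] [AddCommGroup M'] [AddCommGroup N]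
  [Module R M] [Module R' M'] [Module S N]
  (σ : M ≃+ M') (hσ : ∀ (r : R) (m : M), σ (r • m) = ρ r • σ m)
  (f : M →ₛₗ[g] N) (f' : M' →ₛₗ[g'] N) (hf : ∀ m, f' (σ m) = f m)

include hg hσ hf in
/-- Base change along `g'` transfers to base change along `g` through an isomorphism of the
source rings and a compatible isomorphism of the source modules. -/
theorem isBCAlong_transfer (h : IsBCAlong g' f') : IsBCAlong g f := by
  letI : Algebra R S := g.toAlgebra
  letI : Algebra R' S := g'.toAlgebra
  letI : Module R N := Module.compHom N g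
  haveI : IsScalarTower R S N := IsScalarTower.of_algebraMap_smul fun _ _ => rfl
  let L : S ⊗[R] M →ₗ[S] N := LinearMap.liftBaseChange S (toLin g f)
  have hL : ∀ s m, L (s ⊗ₜ m) = s • f m := fun s m => LinearMap.liftBaseChange_tmul _ _ _ _
  have hg' : ∀ r', g (ρ.symm r') = g' r' := fun r' => by rw [← hg, RingEquiv.apply_symm_apply]
  have hσ' : ∀ (r' : R') (m' : M'), σ.symm (r' • m') = ρ.symm r' • σ.symm m' := by
    intro r' m'
    apply σ.injective
    rw [hσ, AddEquiv.apply_symm_apply, RingEquiv.apply_symm_apply, AddEquiv.apply_symm_apply]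
  let b : S →+ M →+ S ⊗[R'] M' :=
    { toFun := fun s =>
        { toFun := fun m => s ⊗ₜ[R'] σ m
          map_zero' := by rw [map_zero, tmul_zero]
          map_add' := fun m₁ m₂ => by rw [map_add, tmul_add] }
      map_zero' := by ext m; exact zero_tmul _ _
      map_add' := fun s₁ s₂ => by ext m; exact add_tmul _ _ _ }
  let Φ : S ⊗[R] M →+ S ⊗[R'] M' := TensorProduct.liftAddHom b (by
    intro r s m
    change (r • s) ⊗ₜ[R'] σ m = s ⊗ₜ[R'] σ (r • m)
    rw [hσ, tmul_smul, ← smul_tmul']
    have e : (r • s : S) = ρ r • s := by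
      change g r * s = g' (ρ r) * s
      rw [hg]
    exact congrArg (fun z => z ⊗ₜ[R'] σ m) e)
  let b' : S →+ M' →+ S ⊗[R] M :=
    { toFun := fun s =>
        { toFun := fun m => s ⊗ₜ[R] σ.symm m
          map_zero' := by rw [map_zero, tmul_zero]
          map_add' := fun m₁ m₂ => by rw [map_add, tmul_add] }
      map_zero' := by ext m; exact zero_tmul _ _
      map_add' := fun s₁ s₂ => by ext m; exact add_tmul _ _ _ }
  let Ψ : S ⊗[R'] M' →+ S ⊗[R] M := TensorProduct.liftAddHom b' (by
    intro r s m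
    change (r • s) ⊗ₜ[R] σ.symm m = s ⊗ₜ[R] σ.symm (r • m)
    rw [hσ', tmul_smul, ← smul_tmul']
    have e : (r • s : S) = ρ.symm r • s := by
      change g' r * s = g (ρ.symm r) * s
      rw [hg']
    exact congrArg (fun z => z ⊗ₜ[R] σ.symm m) e)
  have hΦ : ∀ s m, Φ (s ⊗ₜ m) = s ⊗ₜ σ m := fun s m => rfl
  have hΨ : ∀ s m, Ψ (s ⊗ₜ m) = s ⊗ₜ σ.symm m := fun s m => rfl
  have hΨΦ : ∀ x, Ψ (Φ x) = x := by
    intro x
    induction x using TensorProduct.induction_on with
    | zero => rw [map_zero, map_zero]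
    | tmul s m => rw [hΦ, hΨ, AddEquiv.symm_apply_apply]
    | add a c ha hc => rw [map_add, map_add, ha, hc]
  have hΦΨ : ∀ x, Φ (Ψ x) = x := by
    intro x
    induction x using TensorProduct.induction_on with
    | zero => rw [map_zero, map_zero]
    | tmul s m => rw [hΨ, hΦ, AddEquiv.apply_symm_apply]
    | add a c ha hc => rw [map_add, map_add, ha, hc]
  have hLΦ : ∀ x, L x = bcEquiv g' f' h (Φ x) := by
    intro x
    induction x using TensorProduct.induction_on with
    | zero => rw [map_zero, map_zero, map_zero]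
    | tmul s m => rw [hL, hΦ, bcEquiv_tmul, hf]
    | add a c ha hc => rw [map_add, map_add, map_add, ha, hc]
  have hbij : Function.Bijective L := by
    constructor
    · intro x y hxy
      rw [hLΦ, hLΦ] at hxy
      have := (bcEquiv g' f' h).injective hxy
      rw [← hΨΦ x, ← hΨΦ y, this]
    · intro n
      refine ⟨Ψ ((bcEquiv g' f' h).symm n), ?_⟩
      rw [hLΦ, hΦΨ, LinearEquiv.apply_symm_apply]
  exact isBCAlong_of_equiv g f (LinearEquiv.ofBijective L hbij) (fun x => by
    change L (1 ⊗ₜ x) = f x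
    rw [hL, one_smul])

end Transfer

section Restrict

variable (X : RSpace.{u}) (U : Set X.pt)

/-- sections over `U` of `X` = global sections of the restriction of `X` to `U` -/
def sectRingEquiv : X.sectRing U ≃+* (X.restrict U).sectRing Set.univ where
  toFun s := ⟨fun q => s.1 q.1, fun q q' h => s.2 q.1 q'.1 h⟩
  invFun t := ⟨fun q => t.1 ⟨q, trivial⟩, fun q q' h => t.2 ⟨q, trivial⟩ ⟨q', trivial⟩ h⟩
  left_inv _ := rfl
  right_inv _ := rfl
  map_mul' _ _ := rfl
  map_add' _ _ := rfl

variable {X} (M : OMod X)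

/-- sections over `U` of `M` = global sections of the restriction of `M` to `U` -/
def sectAddEquiv : M.sect U ≃+ (M.restrict U).sect Set.univ where
  toFun s := ⟨fun q => s.1 q.1, fun q q' h => s.2 q.1 q'.1 h⟩
  invFun t := ⟨fun q => t.1 ⟨q, trivial⟩, fun q q' h => t.2 ⟨q, trivial⟩ ⟨q', trivial⟩ h⟩
  left_inv _ := rfl
  right_inv _ := rfl
  map_add' _ _ := rfl

theorem restrict_isQcoh (hM : M.IsQcoh) : (M.restrict U).IsQcoh :=
  fun p q h => hM p.1 q.1 h

/-- For an affine up-set `U` and a quasi-coherent module, evaluation of sections over `U` at a point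
of `U` is a base change. -/
theorem isBCAlong_evalMod_of_isAffine (hUa : (X.restrict U).IsAffine) (hM : M.IsQcoh) (q : U) :
    IsBCAlong (X.evalRing U q) (M.evalMod U q) := by
  have h := hUa.2.2.1 (M.restrict U) (restrict_isQcoh U M hM) q
  exact isBCAlong_transfer (sectRingEquiv X U) (X.evalRing U q)
    ((X.restrict U).evalRing Set.univ ⟨q, trivial⟩) (fun r => rfl)
    (sectAddEquiv U M) (fun r m => rfl) (M.evalMod U q)
    ((M.restrict U).evalMod Set.univ ⟨q, trivial⟩) (fun m => rfl) h

end Restrict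

end Groth.Agent.Lib.Helper79.SchFinLib
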