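import Mathlib
import Groth.Prelude.Def_SchFin2
import Groth.Agent.Lib.Helper79.SchFinAffBC

set_option autoImplicit false
set_option linter.style.haveILetI false
universe u
open SchFin TensorProduct

namespace Groth.Agent.Lib.Helper79.SchFinLib

section AlgCrit

variable {X : RSpace.{u}} (A : Alg X) (hA : A.IsQcoh) (U : Set X.pt)
  (hUa : (X.restrict U).IsAffine)

include hA hUa in
/-- For an affine up-set `U`, the algebra at a point of `U` is the base change of the algebra of
sections over `U`. -/
theorem nonempty_tensor_algEquiv (q : U) :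
    letI : Algebra (X.sectRing U) (A.total.sectRing U) := (A.sectMap U).toAlgebra
    letI : Algebra (X.sectRing U) (X.ring q.1) := (X.evalRing U q).toAlgebra
    Nonempty ((X.ring q.1) ⊗[X.sectRing U] (A.total.sectRing U) ≃ₐ[X.ring q.1] A.carrier q.1) := by
  letI algB : Algebra (X.sectRing U) (A.total.sectRing U) := (A.sectMap U).toAlgebra
  letI algq : Algebra (X.sectRing U) (X.ring q.1) := (X.evalRing U q).toAlgebra
  letI algRA : Algebra (X.sectRing U) (A.carrier q.1) :=
    ((algebraMap (X.ring q.1) (A.carrier q.1)).comp (X.evalRing U q)).toAlgebra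
  haveI : IsScalarTower (X.sectRing U) (X.ring q.1) (A.carrier q.1) :=
    IsScalarTower.of_algebraMap_eq (fun _ => rfl)
  let ev : A.total.sectRing U →ₐ[X.sectRing U] A.carrier q.1 :=
    { (A.total.evalRing U q) with commutes' := fun r => rfl }
  let Φ : (X.ring q.1) ⊗[X.sectRing U] (A.total.sectRing U) →ₐ[X.ring q.1] A.carrier q.1 :=
    Algebra.TensorProduct.lift (Algebra.ofId (X.ring q.1) (A.carrier q.1)) ev
      (fun _ _ => Commute.all _ _)
  have hΦ : ∀ (s : X.ring q.1) (b : A.total.sectRing U),
      Φ (s ⊗ₜ b) = algebraMap (X.ring q.1) (A.carrier q.1) s * (show A.carrier q.1 from b.1 q) :=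
    fun s b => Algebra.TensorProduct.lift_tmul _ _ _ _ _
  let ε : A.total.sectRing U ≃ₗ[X.sectRing U] A.toMod.sect U :=
    { toFun := fun b => ⟨b.1, b.2⟩
      invFun := fun s => ⟨s.1, s.2⟩
      left_inv := fun _ => rfl
      right_inv := fun _ => rfl
      map_add' := fun _ _ => rfl
      map_smul' := fun r b => Subtype.ext (funext fun p => by
        change algebraMap (X.ring p.1) (A.carrier p.1) (r.1 p) * (show A.carrier p.1 from b.1 p) =
          r.1 p • (show A.carrier p.1 from b.1 p)
        exact (Algebra.smul_def _ _).symm) }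
  let β := bcEquiv (X.evalRing U q) (A.toMod.evalMod U q)
    (isBCAlong_evalMod_of_isAffine U A.toMod hUa hA q)
  have key : ∀ z, Φ z = β (ε.toLinearMap.lTensor (X.ring q.1) z) := by
    intro z
    induction z using TensorProduct.induction_on with
    | zero =>
      rw [map_zero, map_zero, map_zero]
      rfl
    | tmul s b =>
      rw [hΦ, LinearMap.lTensor_tmul, bcEquiv_tmul]
      exact (Algebra.smul_def s (show A.carrier q.1 from b.1 q)).symm
    | add a b ha hb =>
      rw [map_add, map_add, map_add, ha, hb]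
      rfl
  have hbij : Function.Bijective Φ := by
    have h1 : Function.Bijective (ε.toLinearMap.lTensor (X.ring q.1)) :=
      (LinearEquiv.lTensor (X.ring q.1) ε).bijective
    have h2 : (Φ : _ → _) = β ∘ (ε.toLinearMap.lTensor (X.ring q.1)) := funext key
    rw [h2]
    exact β.bijective.comp h1
  exact ⟨AlgEquiv.ofBijective Φ hbij⟩

variable (hφ : Module.FaithfullyFlat (X.sectRing U) ((q : ↥U) → X.ring q.1))

include hA hUa hφ in
theorem forall_flat_iff :
    (∀ q : X.pt, q ∈ U → Module.Flat (X.ring q) (A.carrier q)) ↔ (A.sectMap U).Flat := by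
  letI algB : Algebra (X.sectRing U) (A.total.sectRing U) := (A.sectMap U).toAlgebra
  letI algq : ∀ q : U, Algebra (X.sectRing U) (X.ring q.1) := fun q => (X.evalRing U q).toAlgebra
  constructor
  · intro h
    change Module.Flat (X.sectRing U) (A.total.sectRing U)
    apply FFPi.flat_of_forall_tensor' (R := X.sectRing U) (fun q : U => X.ring q.1) (hff := hφ)
    intro q
    obtain ⟨e⟩ := nonempty_tensor_algEquiv A hA U hUa q
    haveI := h q.1 q.2
    exact Module.Flat.of_linearEquiv e.toLinearEquiv
  · intro h q hq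
    have h' : Module.Flat (X.sectRing U) (A.total.sectRing U) := h
    obtain ⟨e⟩ := nonempty_tensor_algEquiv A hA U hUa ⟨q, hq⟩
    exact Module.Flat.of_linearEquiv e.symm.toLinearEquiv

include hA hUa hφ in
theorem forall_faithfullyFlat_iff :
    (∀ q : X.pt, q ∈ U → Module.FaithfullyFlat (X.ring q) (A.carrier q)) ↔
      (A.sectMap U).FaithfullyFlat := by
  letI algB : Algebra (X.sectRing U) (A.total.sectRing U) := (A.sectMap U).toAlgebra
  letI algq : ∀ q : U, Algebra (X.sectRing U) (X.ring q.1) := fun q => (X.evalRing U q).toAlgebra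
  constructor
  · intro h
    change Module.FaithfullyFlat (X.sectRing U) (A.total.sectRing U)
    apply FFPi.faithfullyFlat_of_forall_tensor (R := X.sectRing U) (fun q : U => X.ring q.1)
      (hff := hφ)
    intro q
    obtain ⟨e⟩ := nonempty_tensor_algEquiv A hA U hUa q
    haveI := h q.1 q.2
    exact Module.FaithfullyFlat.of_linearEquiv _ _ e.toLinearEquiv
  · intro h q hq
    have h' : Module.FaithfullyFlat (X.sectRing U) (A.total.sectRing U) := h
    obtain ⟨e⟩ := nonempty_tensor_algEquiv A hA U hUa ⟨q, hq⟩
    exact Module.FaithfullyFlat.of_linearEquiv _ _ e.symm.toLinearEquiv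

include hA hUa hφ in
theorem forall_finite_iff :
    (∀ q : X.pt, q ∈ U → Module.Finite (X.ring q) (A.carrier q)) ↔ (A.sectMap U).Finite := by
  letI algB : Algebra (X.sectRing U) (A.total.sectRing U) := (A.sectMap U).toAlgebra
  letI algq : ∀ q : U, Algebra (X.sectRing U) (X.ring q.1) := fun q => (X.evalRing U q).toAlgebra
  constructor
  · intro h
    change Module.Finite (X.sectRing U) (A.total.sectRing U)
    apply FFPi.finite_of_forall_tensor (R := X.sectRing U) (fun q : U => X.ring q.1) (hff := hφ)
    intro q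
    obtain ⟨e⟩ := nonempty_tensor_algEquiv A hA U hUa q
    haveI := h q.1 q.2
    exact Module.Finite.equiv e.symm.toLinearEquiv
  · intro h q hq
    have h' : Module.Finite (X.sectRing U) (A.total.sectRing U) := h
    obtain ⟨e⟩ := nonempty_tensor_algEquiv A hA U hUa ⟨q, hq⟩
    exact Module.Finite.equiv e.toLinearEquiv

include hφ in
theorem isNoetherianRing_sectRing (hX : X.IsFinSp) : IsNoetherianRing (X.sectRing U) := by
  letI algq : ∀ q : U, Algebra (X.sectRing U) (X.ring q.1) := fun q => (X.evalRing U q).toAlgebra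
  haveI : ∀ q : U, IsNoetherianRing (X.ring q.1) := fun q => hX.1 q.1
  haveI : IsNoetherianRing ((q : ↥U) → X.ring q.1) := inferInstance
  haveI : Module.FaithfullyFlat (X.sectRing U) ((q : ↥U) → X.ring q.1) := hφ
  have e : ((q : ↥U) → X.ring q.1) ⊗[X.sectRing U] (X.sectRing U) ≃ₗ[(q : ↥U) → X.ring q.1]
      ((q : ↥U) → X.ring q.1) := TensorProduct.AlgebraTensorModule.rid _ _ _
  have h1 : IsNoetherian ((q : ↥U) → X.ring q.1)
      (((q : ↥U) → X.ring q.1) ⊗[X.sectRing U] (X.sectRing U)) :=
    isNoetherian_of_linearEquiv e.symm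
  exact Submodule.IsNoetherian.of_isNoetherian_tensorProduct_of_faithfullyFlat h1

include hA hUa hφ in
theorem forall_etale_iff (hX : X.IsFinSp) :
    (∀ q : X.pt, q ∈ U → Algebra.Etale (X.ring q) (A.carrier q)) ↔ (A.sectMap U).Etale := by
  letI algB : Algebra (X.sectRing U) (A.total.sectRing U) := (A.sectMap U).toAlgebra
  letI algq : ∀ q : U, Algebra (X.sectRing U) (X.ring q.1) := fun q => (X.evalRing U q).toAlgebra
  haveI := isNoetherianRing_sectRing U hφ hX
  constructor
  · intro h
    change Algebra.Etale (X.sectRing U) (A.total.sectRing U)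
    apply FFPi.etale_of_forall_tensor (R := X.sectRing U) (fun q : U => X.ring q.1) (hff := hφ)
    intro q
    obtain ⟨e⟩ := nonempty_tensor_algEquiv A hA U hUa q
    haveI := h q.1 q.2
    exact Algebra.Etale.of_equiv e.symm
  · intro h q hq
    have h' : Algebra.Etale (X.sectRing U) (A.total.sectRing U) := h
    obtain ⟨e⟩ := nonempty_tensor_algEquiv A hA U hUa ⟨q, hq⟩
    exact Algebra.Etale.of_equiv e

end AlgCrit

end Groth.Agent.Lib.Helper79.SchFinLib
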