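import Mathlib
import Groth.Prelude.Def_SchFin2
import Groth.Agent.Lib.Helper79.SchFinAffBC

set_option autoImplicit false
set_option linter.style.haveILetI false
universe u
open SchFin TensorProduct

namespace Groth.Agent.Lib.Helper79.SchFinLib

section ResSect

variable (X : RSpace.{u}) (x : X.pt) (U : Set X.pt) (hU : U ⊆ X.up x)
  (hUa : (X.restrict U).IsAffine)
  (hff : Module.FaithfullyFlat (X.sectRing U) ((q : ↥U) → X.ring q.1)) (M : OMod X) (hM : M.IsQcoh)

include hUa hff hM in
theorem isBCAlong_resSect : IsBCAlong (X.resSect x U hU) (M.resSect x U hU) := by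
  letI algR : Algebra (X.ring x) (X.sectRing U) := (X.resSect x U hU).toAlgebra
  letI algq : ∀ q : U, Algebra (X.sectRing U) (X.ring q.1) := fun q => (X.evalRing U q).toAlgebra
  letI algxq : ∀ q : U, Algebra (X.ring x) (X.ring q.1) := fun q => (X.res (hU q.2)).toAlgebra
  haveI : ∀ q : U, IsScalarTower (X.ring x) (X.sectRing U) (X.ring q.1) :=
    fun q => IsScalarTower.of_algebraMap_eq (fun a => rfl)
  letI : Module (X.ring x) (M.sect U) := Module.compHom _ (X.resSect x U hU)
  haveI : IsScalarTower (X.ring x) (X.sectRing U) (M.sect U) :=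
    IsScalarTower.of_algebraMap_smul fun _ _ => rfl
  let L : (X.sectRing U) ⊗[X.ring x] (M.carrier x) →ₗ[X.sectRing U] M.sect U :=
    LinearMap.liftBaseChange _ (toLin (X.resSect x U hU) (M.resSect x U hU))
  have hL : ∀ r m, L (r ⊗ₜ m) = r • M.resSect x U hU m :=
    fun r m => LinearMap.liftBaseChange_tmul _ _ _ _
  have hbij : Function.Bijective L := by
    apply FFPi.bijective_of_forall_lTensor (R := X.sectRing U) (fun q : U => X.ring q.1)
      (hff := hff) L
    intro q
    let αq := bcEquiv (X.evalRing U q) (M.evalMod U q)
      (isBCAlong_evalMod_of_isAffine U M hUa hM q)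
    let βq := bcEquiv (X.res (hU q.2)) (M.res (hU q.2)) (hM x q.1 (hU q.2))
    let c := TensorProduct.AlgebraTensorModule.cancelBaseChange (X.ring x) (X.sectRing U)
      (X.ring q.1) (X.ring q.1) (M.carrier x)
    have key : ∀ z, αq (L.lTensor (X.ring q.1) z) = βq (c z) := by
      intro z
      induction z using TensorProduct.induction_on with
      | zero => rw [map_zero, map_zero, map_zero, map_zero]
      | tmul s w =>
        induction w using TensorProduct.induction_on with
        | zero => rw [tmul_zero, map_zero, map_zero, map_zero, map_zero]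
        | tmul r m =>
          rw [LinearMap.lTensor_tmul, hL, TensorProduct.AlgebraTensorModule.cancelBaseChange_tmul]
          rw [bcEquiv_tmul, bcEquiv_tmul]
          change s • (r.1 q • M.res (hU q.2) m) = (r.1 q * s) • M.res (hU q.2) m
          rw [smul_smul, mul_comm]
        | add a b ha hb =>
          rw [tmul_add, map_add, map_add, map_add, map_add, ha, hb]
      | add a b ha hb => rw [map_add, map_add, map_add, map_add, ha, hb]
    constructor
    · intro z z' hzz'
      have h1 := congrArg αq hzz'
      rw [key, key] at h1
      exact c.injective (βq.injective h1)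
    · intro y
      refine ⟨c.symm (βq.symm (αq y)), ?_⟩
      apply αq.injective
      rw [key, LinearEquiv.apply_symm_apply, LinearEquiv.apply_symm_apply]
  exact isBCAlong_of_equiv _ _ (LinearEquiv.ofBijective L hbij) (fun m => by
    change L (1 ⊗ₜ m) = _
    rw [hL, one_smul])

end ResSect

end Groth.Agent.Lib.Helper79.SchFinLib
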