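import Mathlib

set_option autoImplicit false
set_option linter.style.haveILetI false
universe u v w
open TensorProduct

namespace Groth.Agent.Lib.Helper79.SchFinLib

/-- The kernel of a finite flat ring map is an idempotent ideal. -/
theorem isIdempotentElem_ker_of_flat_of_finite (A : Type u) (B : Type v) [CommRing A] [CommRing B]
    [Algebra A B] [Module.Flat A B] [Module.Finite A B] :
    IsIdempotentElem (RingHom.ker (algebraMap A B)) := by
  set I := RingHom.ker (algebraMap A B) with hI
  change I * I = I
  refine le_antisymm Ideal.mul_le_left ?_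
  apply Ideal.le_of_localization_maximal
  intro P hP
  haveI : P.IsPrime := hP.isPrime
  set Ap := Localization.AtPrime P
  set Bp := Ap ⊗[A] B
  haveI : Module.Free Ap Bp := Module.free_of_flat_of_isLocalRing
  by_cases hnt : Nontrivial Bp
  · haveI := hnt
    have hinj : Function.Injective (algebraMap Ap Bp) := FaithfulSMul.algebraMap_injective Ap Bp
    have : Ideal.map (algebraMap A Ap) I = ⊥ := by
      rw [eq_bot_iff, Ideal.map_le_iff_le_comap]
      intro x hx
      rw [Ideal.mem_comap, Ideal.mem_bot]
      apply hinj
      rw [map_zero, Algebra.TensorProduct.algebraMap_apply, Algebra.algebraMap_self_apply,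
        Algebra.algebraMap_eq_smul_one, TensorProduct.smul_tmul]
      have hx' : algebraMap A B x = 0 := hx
      rw [Algebra.algebraMap_eq_smul_one] at hx'
      rw [hx', TensorProduct.tmul_zero]
    rw [this]
    exact bot_le
  · rw [not_nontrivial_iff_subsingleton] at hnt
    haveI : IsLocalizedModule P.primeCompl (TensorProduct.mk A Ap B 1) :=
      (isLocalizedModule_iff_isBaseChange P.primeCompl Ap _).2 (TensorProduct.isBaseChange A B Ap)
    have h0 : TensorProduct.mk A Ap B 1 (1 : B) = TensorProduct.mk A Ap B 1 (0 : B) :=
      Subsingleton.elim _ _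
    obtain ⟨s, hs⟩ := IsLocalizedModule.exists_of_eq (S := P.primeCompl)
      (f := TensorProduct.mk A Ap B 1) h0
    have hsI : (s : A) ∈ I := by
      change algebraMap A B s = 0
      rw [Algebra.algebraMap_eq_smul_one]
      have hs' : (s : A) • (1 : B) = (s : A) • (0 : B) := hs
      rw [hs', smul_zero]
    have hss : algebraMap A Ap ((s : A) * s) ∈ Ideal.map (algebraMap A Ap) (I * I) :=
      Ideal.mem_map_of_mem _ (Ideal.mul_mem_mul hsI hsI)
    have hu : IsUnit (algebraMap A Ap ((s : A) * s)) :=
      IsLocalization.map_units Ap (s * s)
    rw [Ideal.eq_top_of_isUnit_mem _ hss hu]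
    exact le_top

section
variable {R : Type u} {A B : Type v} [CommRing R] [CommRing A] [CommRing B]
  [Algebra R A] [Algebra R B] [Module.Finite R B] [Algebra.Etale R A] [Algebra.Etale R B]

/-- The kernel of a map of étale algebras with finite target is an idempotent ideal. -/
theorem isIdempotentElem_ker_algHom (f : A →ₐ[R] B) : IsIdempotentElem (RingHom.ker f) := by
  letI : Algebra A B := f.toRingHom.toAlgebra
  haveI : IsScalarTower R A B := IsScalarTower.of_algebraMap_eq fun r => (f.commutes r).symm
  haveI : Algebra.Etale A B := Algebra.Etale.of_restrictScalars R A B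
  haveI : Module.Finite A B := Module.Finite.of_restrictScalars_finite R A B
  exact isIdempotentElem_ker_of_flat_of_finite A B

/-- a quotient of a ring by a finitely generated idempotent ideal is étale -/
theorem etale_quotient_of_isIdempotentElem (I : Ideal A) (hI : IsIdempotentElem I) (hfg : I.FG) :
    Algebra.Etale A (A ⧸ I) := by
  have hsurj : Function.Surjective (algebraMap A (A ⧸ I)) := Ideal.Quotient.mk_surjective
  refine ⟨?_, ?_⟩
  · rw [Algebra.FormallyEtale.iff_of_surjective hsurj, Ideal.Quotient.algebraMap_eq, Ideal.mk_ker]
    exact hI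
  · refine Algebra.FinitePresentation.of_surjective (f := Algebra.ofId A (A ⧸ I)) hsurj ?_
    have : RingHom.ker (Algebra.ofId A (A ⧸ I)).toRingHom = I := Ideal.mk_ker
    rw [this]
    exact hfg

variable [IsNoetherianRing R]

/-- The image of a map of finite étale algebras over a Noetherian ring is étale. -/
theorem etale_range (f : A →ₐ[R] B) : Algebra.Etale R f.range := by
  haveI : IsNoetherianRing A := Algebra.FiniteType.isNoetherianRing R A
  set I := RingHom.ker f.rangeRestrict with hI
  have hIid : IsIdempotentElem I := by
    rw [hI, AlgHom.ker_rangeRestrict]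
    exact isIdempotentElem_ker_algHom f
  haveI : Algebra.Etale A (A ⧸ I) :=
    etale_quotient_of_isIdempotentElem I hIid (IsNoetherian.noetherian I)
  haveI : Algebra.Etale R (A ⧸ I) := Algebra.Etale.comp R A (A ⧸ I)
  exact Algebra.Etale.of_equiv
    (Ideal.quotientKerAlgEquivOfSurjective (f := f.rangeRestrict) f.rangeRestrict_surjective)

/-- The kernel of a map of finite étale algebras over a Noetherian ring is generated by an
idempotent. -/
theorem exists_idempotent_ker (f : A →ₐ[R] B) :
    ∃ e : A, IsIdempotentElem e ∧ RingHom.ker f = Ideal.span {e} := by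
  haveI : IsNoetherianRing A := Algebra.FiniteType.isNoetherianRing R A
  exact (Ideal.isIdempotentElem_iff_of_fg _ (IsNoetherian.noetherian _)).1
    (isIdempotentElem_ker_algHom f)

omit [Module.Finite R B] [Algebra.Etale R A] [Algebra.Etale R B] [IsNoetherianRing R] in
theorem finite_range [Module.Finite R A] (f : A →ₐ[R] B) : Module.Finite R f.range :=
  Module.Finite.of_surjective f.rangeRestrict.toLinearMap f.rangeRestrict_surjective

end

end Groth.Agent.Lib.Helper79.SchFinLib
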