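import Mathlib
import Groth.Prelude.Def_SchFin2
import Groth.Agent.Lib.Helper79.SchFinFEtLim
import Groth.Agent.Lib.Helper79.SchFinKer

set_option autoImplicit false
set_option linter.style.haveILetI false
universe u
open SchFin TensorProduct CategoryTheory CategoryTheory.Limits

namespace Groth.Agent.Lib.Helper79.SchFinLib

section SubBC
variable {R S : Type u} [CommRing R] [CommRing S] (g : R →+* S) {M N M' N' : Type u}
  [AddCommGroup M] [AddCommGroup N] [Module R M] [Module S N]
  [AddCommGroup M'] [AddCommGroup N'] [Module R M'] [Module S N']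

/-- a base change is spanned by the image -/
theorem span_range_eq_top_of_isBCAlong (f : M →ₛₗ[g] N) (hf : IsBCAlong g f) :
    Submodule.span S (Set.range f) = ⊤ := by
  letI : Algebra R S := g.toAlgebra
  have key : ∀ t, bcEquiv g f hf t ∈ Submodule.span S (Set.range f) := by
    intro t
    induction t using TensorProduct.induction_on with
    | zero => rw [map_zero]; exact Submodule.zero_mem _
    | tmul s m =>
        rw [bcEquiv_tmul]
        exact Submodule.smul_mem _ _ (Submodule.subset_span ⟨m, rfl⟩)
    | add a b ha hb => rw [map_add]; exact Submodule.add_mem _ ha hb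
  rw [eq_top_iff]
  intro n _
  obtain ⟨t, rfl⟩ := (bcEquiv g f hf).surjective n
  exact key t

/-- base change of a sub-object along a flat map -/
theorem isBCAlong_of_injective (hg : g.Flat) (f : M →ₛₗ[g] N) (hf : IsBCAlong g f)
    (f' : M' →ₛₗ[g] N') (ιM : M' →ₗ[R] M) (ιN : N' →ₗ[S] N)
    (hιM : Function.Injective ιM)
    (hcomm : ∀ m, ιN (f' m) = f (ιM m))
    (hspan : Submodule.span S (Set.range f') = ⊤) : IsBCAlong g f' := by
  letI : Algebra R S := g.toAlgebra
  letI : Module R N := Module.compHom N g
  letI : Module R N' := Module.compHom N' g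
  haveI : IsScalarTower R S N := IsScalarTower.of_algebraMap_smul fun _ _ => rfl
  haveI : IsScalarTower R S N' := IsScalarTower.of_algebraMap_smul fun _ _ => rfl
  haveI : Module.Flat R S := hg
  let L' : S ⊗[R] M' →ₗ[S] N' := (toLin g f').liftBaseChange S
  have hL' : ∀ (s : S) (m : M'), L' (s ⊗ₜ m) = s • f' m := fun s m =>
    LinearMap.liftBaseChange_tmul _ _ _ _
  have hinj : Function.Injective L' := by
    have h1 : ∀ t, ιN (L' t) = bcEquiv g f hf ((LinearMap.lTensor S ιM) t) := by
      intro t
      induction t using TensorProduct.induction_on with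
      | zero => simp
      | tmul s m =>
          rw [hL', LinearMap.lTensor_tmul, bcEquiv_tmul, map_smul, hcomm]
      | add a b ha hb => simp only [map_add, ha, hb]
    intro a b hab
    have h2 : (LinearMap.lTensor S ιM) a = (LinearMap.lTensor S ιM) b := by
      apply (bcEquiv g f hf).injective
      rw [← h1, ← h1, hab]
    exact Module.Flat.lTensor_preserves_injective_linearMap ιM hιM h2
  have hsurj : Function.Surjective L' := by
    rw [← LinearMap.range_eq_top, eq_top_iff, ← hspan, Submodule.span_le]
    rintro _ ⟨m, rfl⟩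
    exact ⟨1 ⊗ₜ m, by rw [hL', one_smul]⟩
  exact isBCAlong_of_equiv g f' (LinearEquiv.ofBijective L' ⟨hinj, hsurj⟩)
    (fun x => by
      change L' (1 ⊗ₜ x) = f' x
      rw [hL', one_smul])

end SubBC

section Image
variable {X : RSpace.{u}} {A B : Alg X} (f : A ⟶ B)

/-- the image of a morphism of algebras -/
def Alg.image : Alg X where
  carrier p := (f.app p).range
  res {p q} h := RingHom.codRestrict ((B.res h).comp (f.app p).range.val.toRingHom) (f.app q).range
    (fun x => by
      obtain ⟨_, a, rfl⟩ := x
      exact ⟨A.res h a, (f.compat h a).symm⟩)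
  res_algebraMap h a := Subtype.ext (B.res_algebraMap h a)
  res_self p b := Subtype.ext (B.res_self p b.1)
  res_comp h h' b := Subtype.ext (B.res_comp h h' b.1)

/-- the corestriction to the image -/
def Alg.toImage : A ⟶ Alg.image f where
  app p := (f.app p).rangeRestrict
  compat h a := Subtype.ext (f.compat h a)

/-- the inclusion of the image -/
def Alg.imageι : Alg.image f ⟶ B where
  app p := (f.app p).range.val
  compat _ _ := rfl

theorem Alg.toImage_imageι : Alg.toImage f ≫ Alg.imageι f = f := by
  apply Alg.hom_ext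
  intro p
  apply AlgHom.ext
  intro a
  rfl

theorem Alg.image_isQcoh (hX : X.IsFinSp) (hA : A.IsQcoh) (hB : B.IsQcoh) :
    (Alg.image f).IsQcoh := by
  intro p q h
  refine isBCAlong_of_injective (X.res h) (hX.2 p q h) (B.toMod.res h) (hB p q h)
    ((Alg.image f).toMod.res h) (f.app p).range.val.toLinearMap (f.app q).range.val.toLinearMap
    Subtype.val_injective (fun m => rfl) ?_
  rw [eq_top_iff]
  rintro ⟨_, a', rfl⟩ -
  have ha' : a' ∈ Submodule.span (X.ring q) (Set.range (A.toMod.res h)) := by
    rw [span_range_eq_top_of_isBCAlong (X.res h) (A.toMod.res h) (hA p q h)]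
    trivial
  have : (f.app q).rangeRestrict.toLinearMap a' ∈
      Submodule.map (f.app q).rangeRestrict.toLinearMap
        (Submodule.span (X.ring q) (Set.range (A.toMod.res h))) := Submodule.mem_map_of_mem ha'
  rw [Submodule.map_span] at this
  refine Submodule.span_mono ?_ this
  rintro _ ⟨_, ⟨a, rfl⟩, rfl⟩
  exact ⟨(f.app p).rangeRestrict a, Subtype.ext (f.compat h a)⟩

theorem Alg.image_isEtCover (hX : X.IsFinSp) (hA : A.IsEtCover) (hB : B.IsEtCover) :
    (Alg.image f).IsEtCover := by
  refine ⟨Alg.image_isQcoh f hX hA.1 hB.1, fun p => ?_⟩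
  haveI := hX.1 p
  haveI := (hA.2 p).1
  haveI := (hA.2 p).2
  haveI := (hB.2 p).1
  haveI := (hB.2 p).2
  exact ⟨finite_range (f.app p), etale_range (f.app p)⟩

end Image

end Groth.Agent.Lib.Helper79.SchFinLib
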