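import Mathlib
import Groth.Prelude.Def_SchFin2
import Groth.Agent.Lib.Helper79.SchFinImage

set_option autoImplicit false
set_option linter.style.haveILetI false
universe u
open SchFin TensorProduct CategoryTheory CategoryTheory.Limits

namespace Groth.Agent.Lib.Helper79.SchFinLib

section Str
variable (X : RSpace.{u})

theorem isBCAlong_self {R S : Type u} [CommRing R] [CommRing S] (g : R →+* S)
    (f : R →ₛₗ[g] S) (hf : ∀ r, f r = g r) : IsBCAlong g f := by
  letI : Algebra R S := g.toAlgebra
  refine isBCAlong_of_equiv g f (TensorProduct.AlgebraTensorModule.rid R S S) (fun x => ?_)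
  rw [TensorProduct.AlgebraTensorModule.rid_tmul, hf, Algebra.smul_def, mul_one]
  rfl

theorem Alg.str_isEtCover : (Alg.str X).IsEtCover := by
  refine ⟨fun p q h => ?_, fun p => ⟨?_, ?_⟩⟩
  · exact isBCAlong_self (X.res h) ((Alg.str X).toMod.res h) (fun r => rfl)
  · exact inferInstanceAs (Module.Finite (X.ring p) (X.ring p))
  · exact inferInstanceAs (Algebra.Etale (X.ring p) (X.ring p))

/-- the structure algebra as an étale cover -/
def FEt.str : FEt X := ⟨Alg.str X, Alg.str_isEtCover X⟩

variable {X}

/-- the unique morphism from the structure algebra -/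
def Alg.fromStr (A : Alg X) : Alg.str X ⟶ A where
  app p := Algebra.ofId (X.ring p) (A.carrier p)
  compat h a := (A.res_algebraMap h a)

theorem FEt.hasInitial (X : RSpace.{u}) : HasInitial (FEt X) := by
  haveI : ∀ A : FEt X, Unique (FEt.str X ⟶ A) := fun A =>
    { default := ObjectProperty.homMk (Alg.fromStr A.obj)
      uniq := fun f => by
        apply ObjectProperty.hom_ext
        apply Alg.hom_ext
        intro p
        apply AlgHom.ext
        intro a
        exact (f.hom.app p).commutes a }
  exact hasInitial_of_unique (FEt.str X)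

end Str

section KerBC
variable {R S : Type u} [CommRing R] [CommRing S] (g : R →+* S) {M N M' N' : Type u}
  [AddCommGroup M] [AddCommGroup N] [Module R M] [Module S N]
  [AddCommGroup M'] [AddCommGroup N'] [Module R M'] [Module S N']

/-- flat base change of kernels -/
theorem ker_le_span_of_isBCAlong (hg : g.Flat) (φ : M →ₛₗ[g] N) (hφ : IsBCAlong g φ)
    (φ' : M' →ₛₗ[g] N') (hφ' : IsBCAlong g φ')
    (fp : M →ₗ[R] M') (fq : N →ₗ[S] N') (hcomm : ∀ m, fq (φ m) = φ' (fp m)) :
    LinearMap.ker fq ≤ Submodule.span S (φ '' (LinearMap.ker fp : Set M)) := by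
  letI : Algebra R S := g.toAlgebra
  haveI : Module.Flat R S := hg
  have hex : Function.Exact ((LinearMap.ker fp).subtype.lTensor S) (fp.lTensor S) :=
    Module.Flat.lTensor_exact S (LinearMap.exact_subtype_ker_map fp)
  have hnat : ∀ t, fq (bcEquiv g φ hφ t) = bcEquiv g φ' hφ' (fp.lTensor S t) := by
    intro t
    induction t using TensorProduct.induction_on with
    | zero => simp
    | tmul s m => rw [bcEquiv_tmul, LinearMap.lTensor_tmul, bcEquiv_tmul, map_smul, hcomm]
    | add a b ha hb => simp only [map_add, ha, hb]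
  have hspan : ∀ t' : S ⊗[R] (LinearMap.ker fp),
      bcEquiv g φ hφ ((LinearMap.ker fp).subtype.lTensor S t') ∈
        Submodule.span S (φ '' (LinearMap.ker fp : Set M)) := by
    intro t'
    induction t' using TensorProduct.induction_on with
    | zero => simp
    | tmul s k =>
        rw [LinearMap.lTensor_tmul, bcEquiv_tmul]
        exact Submodule.smul_mem _ _ (Submodule.subset_span ⟨k.1, k.2, rfl⟩)
    | add a b ha hb => rw [map_add, map_add]; exact Submodule.add_mem _ ha hb
  intro x hx
  obtain ⟨t, rfl⟩ := (bcEquiv g φ hφ).surjective x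
  have h0 : fp.lTensor S t = 0 := by
    apply (bcEquiv g φ' hφ').injective
    rw [← hnat, map_zero]
    exact hx
  obtain ⟨t', rfl⟩ := (hex t).1 h0
  exact hspan t'

end KerBC

section IdemHom
variable {R A : Type u} [CommRing R] [CommRing A] [Algebra R A]

theorem eq_of_span_eq_of_idem {e e' : A} (he : IsIdempotentElem e) (he' : IsIdempotentElem e')
    (h : Ideal.span {e} = Ideal.span {e'}) : e = e' := by
  have h1 : e ∈ Ideal.span {e'} := h ▸ Ideal.subset_span rfl
  have h2 : e' ∈ Ideal.span {e} := h.symm ▸ Ideal.subset_span rfl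
  obtain ⟨c, hc⟩ := Ideal.mem_span_singleton'.1 h1
  obtain ⟨d, hd⟩ := Ideal.mem_span_singleton'.1 h2
  have e1 : e * e' = e := by rw [← hc, mul_assoc, he'.eq]
  have e2 : e' * e = e' := by rw [← hd, mul_assoc, he.eq]
  rw [← e1, mul_comm, e2]

/-- the algebra map `R × R → A` attached to an idempotent -/
def idemHom (e : A) (he : IsIdempotentElem e) : (R × R) →ₐ[R] A where
  toFun x := x.1 • e + x.2 • (1 - e)
  map_one' := by simp
  map_mul' x y := by
    have h1 : e * e = e := he
    simp only [Prod.fst_mul, Prod.snd_mul, Algebra.smul_def, map_mul]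
    linear_combination (-(algebraMap R A x.1 * algebraMap R A y.1
      - algebraMap R A x.1 * algebraMap R A y.2 - algebraMap R A x.2 * algebraMap R A y.1
      + algebraMap R A x.2 * algebraMap R A y.2)) * h1
  map_zero' := by simp
  map_add' x y := by
    simp only [Prod.fst_add, Prod.snd_add, add_smul]
    abel
  commutes' r := by
    change r • e + r • (1 - e) = algebraMap R A r
    rw [← smul_add, add_sub_cancel, Algebra.algebraMap_eq_smul_one]

theorem idemHom_apply (e : A) (he : IsIdempotentElem e) (x : R × R) :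
    idemHom e he x = x.1 • e + x.2 • (1 - e) := rfl

end IdemHom

section IdemAlg
variable {X : RSpace.{u}}

/-- the morphism `𝒪 × 𝒪 → A` attached to a compatible family of idempotents -/
def Alg.idemHom (A : Alg X) (e : ∀ p, A.carrier p) (he : ∀ p, IsIdempotentElem (e p))
    (hc : ∀ {p q : X.pt} (h : p ≤ q), A.res h (e p) = e q) :
    Alg.prod (Alg.str X) (Alg.str X) ⟶ A where
  app p := SchFinLib.idemHom (e p) (he p)
  compat {p q} h x := by
    have key : ∀ x : X.ring p × X.ring p,
        A.res h (SchFinLib.idemHom (R := X.ring p) (e p) (he p) x) =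
          SchFinLib.idemHom (R := X.ring q) (e q) (he q) (X.res h x.1, X.res h x.2) := by
      intro x
      rw [idemHom_apply, idemHom_apply]
      simp only [Algebra.smul_def, map_add, map_mul, map_sub, map_one, A.res_algebraMap, hc h]
    exact key x

variable {A B : Alg X} (f : A ⟶ B)

theorem Alg.ker_le_span_res (hX : X.IsFinSp) (hA : A.IsQcoh) (hB : B.IsQcoh) {p q : X.pt}
    (h : p ≤ q) (e : A.carrier p) (he : RingHom.ker (f.app p) = Ideal.span {e}) :
    RingHom.ker (f.app q) ≤ Ideal.span {A.res h e} := by
  intro x hx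
  have hx' : x ∈ LinearMap.ker (f.app q).toLinearMap := hx
  have := ker_le_span_of_isBCAlong (X.res h) (hX.2 p q h) (A.toMod.res h) (hA p q h)
    (B.toMod.res h) (hB p q h) (f.app p).toLinearMap (f.app q).toLinearMap
    (fun m => (f.compat h m).symm) hx'
  refine (Submodule.span_le.2 ?_ : _ ≤ (Ideal.span {A.res h e}).restrictScalars (X.ring q)) this
  have key : ∀ k : A.carrier p, k ∈ RingHom.ker (f.app p) →
      A.res h k ∈ Ideal.span {A.res h e} := by
    intro k hk'
    rw [he] at hk'
    obtain ⟨c, rfl⟩ := Ideal.mem_span_singleton'.1 hk'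
    rw [map_mul]
    exact Ideal.mul_mem_left _ _ (Ideal.subset_span rfl)
  rintro _ ⟨k, hk, rfl⟩
  exact key k hk

theorem Alg.res_idem_eq (hX : X.IsFinSp) (hA : A.IsQcoh) (hB : B.IsQcoh) {p q : X.pt}
    (h : p ≤ q) (e : A.carrier p) (he : IsIdempotentElem e)
    (hke : RingHom.ker (f.app p) = Ideal.span {e})
    (e' : A.carrier q) (he' : IsIdempotentElem e')
    (hke' : RingHom.ker (f.app q) = Ideal.span {e'}) : A.res h e = e' := by
  apply eq_of_span_eq_of_idem (he.map (A.res h)) he'
  rw [← hke']
  apply le_antisymm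
  · rw [Ideal.span_le, Set.singleton_subset_iff]
    change f.app q (A.res h e) = 0
    rw [← f.compat]
    have : e ∈ RingHom.ker (f.app p) := hke ▸ Ideal.subset_span rfl
    have h0 : f.app p e = 0 := this
    rw [h0, map_zero]
  · exact Alg.ker_le_span_res f hX hA hB h e hke

end IdemAlg

section Mono
variable {X : RSpace.{u}}

theorem FEt.injective_of_mono (hX : X.IsSchematic) {A B : FEt X} (f : A ⟶ B) [Mono f] (p : X.pt) :
    Function.Injective (f.hom.app p) := by
  have hker : ∀ p, ∃ e : A.obj.carrier p, IsIdempotentElem e ∧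
      RingHom.ker (f.hom.app p) = Ideal.span {e} := fun p => by
    haveI := hX.1.1 p
    haveI := (A.property.2 p).2
    haveI := (B.property.2 p).1
    haveI := (B.property.2 p).2
    exact exists_idempotent_ker (f.hom.app p)
  choose e he hke using hker
  have hc : ∀ {p q : X.pt} (h : p ≤ q), A.obj.res h (e p) = e q := fun {p q} h =>
    Alg.res_idem_eq f.hom hX.1 A.property.1 B.property.1 h (e p) (he p) (hke p) (e q) (he q) (hke q)
  let T : FEt X := FEt.prod (FEt.str X) (FEt.str X)
  let g₁ : T ⟶ A := ObjectProperty.homMk (Alg.idemHom A.obj e he hc)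
  let g₂ : T ⟶ A := ObjectProperty.homMk (Alg.idemHom A.obj (fun _ => 0)
    (fun _ => IsIdempotentElem.zero) (fun _ => map_zero _))
  have hg : g₁ ≫ f = g₂ ≫ f := by
    apply ObjectProperty.hom_ext
    apply Alg.hom_ext
    intro p
    apply AlgHom.ext
    intro x
    have h0 : f.hom.app p (e p) = 0 := by
      have : e p ∈ RingHom.ker (f.hom.app p) := hke p ▸ Ideal.subset_span rfl
      exact this
    have key : ∀ x : X.ring p × X.ring p,
        f.hom.app p (SchFinLib.idemHom (R := X.ring p) (e p) (he p) x) =
          f.hom.app p (SchFinLib.idemHom (R := X.ring p) (0 : A.obj.carrier p)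
            IsIdempotentElem.zero x) := by
      intro x
      rw [idemHom_apply, idemHom_apply]
      simp only [map_add, map_smul, map_sub, map_one, h0, smul_zero, sub_zero, map_zero]
    exact key x
  have hgg := (cancel_mono f).1 hg
  have h1 := congrArg (fun k => k.hom.app p ((1 : X.ring p), (0 : X.ring p))) hgg
  have h2 : e p = 0 := by
    have h3 : (1 : X.ring p) • e p + (0 : X.ring p) • (1 - e p) =
        (1 : X.ring p) • (0 : A.obj.carrier p) + (0 : X.ring p) • (1 - 0) := h1
    simpa using h3
  rw [RingHom.injective_iff_ker_eq_bot]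
  have := hke p
  rw [h2] at this
  rw [this]
  simp

end Mono

end Groth.Agent.Lib.Helper79.SchFinLib
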