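import Mathlib
import Groth.Prelude.Def_SchFin2
import Groth.Agent.Lib.Helper79.SchFinMono

set_option autoImplicit false
set_option linter.style.haveILetI false
universe u
open SchFin TensorProduct CategoryTheory CategoryTheory.Limits

namespace Groth.Agent.Lib.Helper79.SchFinLib

section Retract
variable {R S : Type u} [CommRing R] [CommRing S] (g : R →+* S) {M N M' N' : Type u}
  [AddCommGroup M] [AddCommGroup N] [Module R M] [Module S N]
  [AddCommGroup M'] [AddCommGroup N'] [Module R M'] [Module S N']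

/-- a retract of a base change is a base change -/
theorem isBCAlong_of_retract (f : M →ₛₗ[g] N) (hf : IsBCAlong g f)
    (f' : M' →ₛₗ[g] N') (ιM : M' →ₗ[R] M) (πM : M →ₗ[R] M') (ιN : N' →ₗ[S] N) (πN : N →ₗ[S] N')
    (hM : ∀ m, πM (ιM m) = m) (hN : ∀ n, πN (ιN n) = n)
    (hι : ∀ m, ιN (f' m) = f (ιM m)) (hπ : ∀ m, πN (f m) = f' (πM m)) : IsBCAlong g f' := by
  letI : Algebra R S := g.toAlgebra
  letI : Module R N := Module.compHom N g
  letI : Module R N' := Module.compHom N' g
  haveI : IsScalarTower R S N := IsScalarTower.of_algebraMap_smul fun _ _ => rfl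
  haveI : IsScalarTower R S N' := IsScalarTower.of_algebraMap_smul fun _ _ => rfl
  let L' : S ⊗[R] M' →ₗ[S] N' := (toLin g f').liftBaseChange S
  have hL' : ∀ (s : S) (m : M'), L' (s ⊗ₜ m) = s • f' m := fun s m =>
    LinearMap.liftBaseChange_tmul _ _ _ _
  have h1 : ∀ t, ιN (L' t) = bcEquiv g f hf ((LinearMap.lTensor S ιM) t) := by
    intro t
    induction t using TensorProduct.induction_on with
    | zero => simp
    | tmul s m => rw [hL', LinearMap.lTensor_tmul, bcEquiv_tmul, map_smul, hι]
    | add a b ha hb => simp only [map_add, ha, hb]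
  have h2 : ∀ t, L' ((LinearMap.lTensor S πM) t) = πN (bcEquiv g f hf t) := by
    intro t
    induction t using TensorProduct.induction_on with
    | zero => simp
    | tmul s m => rw [LinearMap.lTensor_tmul, hL', bcEquiv_tmul, map_smul, hπ]
    | add a b ha hb => simp only [map_add, ha, hb]
  have h3 : ∀ t, (LinearMap.lTensor S πM) ((LinearMap.lTensor S ιM) t) = t := by
    intro t
    rw [← LinearMap.comp_apply, ← LinearMap.lTensor_comp]
    have : πM ∘ₗ ιM = LinearMap.id := LinearMap.ext hM
    rw [this, LinearMap.lTensor_id, LinearMap.id_apply]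
  have hinj : Function.Injective L' := by
    intro a b hab
    have : (LinearMap.lTensor S ιM) a = (LinearMap.lTensor S ιM) b := by
      apply (bcEquiv g f hf).injective
      rw [← h1, ← h1, hab]
    rw [← h3 a, ← h3 b, this]
  have hsurj : Function.Surjective L' := by
    intro n
    obtain ⟨t, ht⟩ := (bcEquiv g f hf).surjective (ιN n)
    exact ⟨(LinearMap.lTensor S πM) t, by rw [h2, ht, hN]⟩
  exact isBCAlong_of_equiv g f' (LinearEquiv.ofBijective L' ⟨hinj, hsurj⟩)
    (fun x => by
      change L' (1 ⊗ₜ x) = f' x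
      rw [hL', one_smul])

end Retract

section QuotIdem
variable {X : RSpace.{u}} (A : Alg X) (e : ∀ p, A.carrier p)
  (hc : ∀ {p q : X.pt} (h : p ≤ q), A.res h (e p) = e q)

include hc in
theorem Alg.quot_aux {p q : X.pt} (h : p ≤ q) :
    Ideal.span {e p} ≤ Ideal.comap (A.res h) (Ideal.span {e q}) := by
  rw [Ideal.span_le, Set.singleton_subset_iff]
  change A.res h (e p) ∈ Ideal.span {e q}
  rw [hc h]
  exact Ideal.subset_span rfl

/-- the quotient of an algebra by the ideals generated by a compatible family of elements -/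
def Alg.quot : Alg X where
  carrier p := A.carrier p ⧸ Ideal.span {e p}
  res {p q} h := Ideal.quotientMap (Ideal.span {e q}) (A.res h) (Alg.quot_aux A e hc h)
  res_algebraMap {p q} h a := by
    change Ideal.quotientMap _ (A.res h) (Alg.quot_aux A e hc h)
      (Ideal.Quotient.mk _ (algebraMap _ _ a)) = Ideal.Quotient.mk _ (algebraMap _ _ (X.res h a))
    rw [Ideal.quotientMap_mk, A.res_algebraMap]
  res_self p b := by
    obtain ⟨a, rfl⟩ := Ideal.Quotient.mk_surjective b
    rw [Ideal.quotientMap_mk, A.res_self]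
  res_comp h h' b := by
    obtain ⟨a, rfl⟩ := Ideal.Quotient.mk_surjective b
    rw [Ideal.quotientMap_mk, Ideal.quotientMap_mk, Ideal.quotientMap_mk, A.res_comp]

theorem Alg.quot_res_mk {p q : X.pt} (h : p ≤ q) (a : A.carrier p) :
    (Alg.quot A e hc).res h (Ideal.Quotient.mk (Ideal.span {e p}) a) =
      Ideal.Quotient.mk (Ideal.span {e q}) (A.res h a) :=
  Ideal.quotientMap_mk (H := Alg.quot_aux A e hc h)

/-- the projection to the quotient -/
def Alg.toQuot : A ⟶ Alg.quot A e hc where
  app p := Ideal.Quotient.mkₐ (X.ring p) (Ideal.span {e p})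
  compat h a := Alg.quot_res_mk A e hc h a

variable (he : ∀ p, IsIdempotentElem (e p))
include he

/-- the section `[a] ↦ (1 - e) a` of the projection -/
noncomputable def quotSection (p : X.pt) :
    (A.carrier p ⧸ Ideal.span {e p}) →ₗ[X.ring p] A.carrier p :=
  (Submodule.liftQ (Ideal.span {e p}) (LinearMap.mulLeft (A.carrier p) (1 - e p)) (by
    rw [Ideal.span_le, Set.singleton_subset_iff]
    change (1 - e p) * e p = 0
    rw [sub_mul, one_mul, (he p).eq, sub_self])).restrictScalars (X.ring p)

theorem quotSection_mk (p : X.pt) (a : A.carrier p) :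
    quotSection A e he p (Ideal.Quotient.mk _ a) = (1 - e p) * a := rfl

theorem mk_quotSection (p : X.pt) (m : A.carrier p ⧸ Ideal.span {e p}) :
    Ideal.Quotient.mk (Ideal.span {e p}) (quotSection A e he p m) = m := by
  obtain ⟨a, rfl⟩ := Ideal.Quotient.mk_surjective m
  rw [quotSection_mk, Ideal.Quotient.eq]
  have : (1 - e p) * a - a = -a * e p := by ring
  rw [this]
  exact Ideal.mul_mem_left _ _ (Ideal.subset_span rfl)

theorem Alg.quot_isQcoh (hA : A.IsQcoh) : (Alg.quot A e hc).IsQcoh := by
  intro p q h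
  have hι : ∀ m : A.carrier p ⧸ Ideal.span {e p},
      quotSection A e he q ((Alg.quot A e hc).res h m) = A.res h (quotSection A e he p m) := by
    intro m
    obtain ⟨a, rfl⟩ := Ideal.Quotient.mk_surjective m
    rw [Alg.quot_res_mk, quotSection_mk, quotSection_mk, map_mul, map_sub, map_one, hc h]
  have hπ : ∀ m : A.carrier p, Ideal.Quotient.mk (Ideal.span {e q}) (A.res h m) =
      (Alg.quot A e hc).res h (Ideal.Quotient.mk _ m) := fun m => (Alg.quot_res_mk A e hc h m).symm
  exact isBCAlong_of_retract (X.res h) (A.toMod.res h) (hA p q h) ((Alg.quot A e hc).toMod.res h)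
    (quotSection A e he p) (Ideal.Quotient.mkₐ (X.ring p) (Ideal.span {e p})).toLinearMap
    (quotSection A e he q) (Ideal.Quotient.mkₐ (X.ring q) (Ideal.span {e q})).toLinearMap
    (mk_quotSection A e he p) (mk_quotSection A e he q) hι hπ

theorem Alg.quot_isEtCover (hA : A.IsEtCover) : (Alg.quot A e hc).IsEtCover := by
  refine ⟨Alg.quot_isQcoh A e hc he hA.1, fun p => ?_⟩
  haveI := (hA.2 p).1
  haveI := (hA.2 p).2
  refine ⟨Module.Finite.of_surjective
    (Ideal.Quotient.mkₐ (X.ring p) (Ideal.span {e p})).toLinearMap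
    (Ideal.Quotient.mkₐ_surjective (X.ring p) _), ?_⟩
  have hI : IsIdempotentElem (Ideal.span {e p}) := by
    change Ideal.span {e p} * Ideal.span {e p} = Ideal.span {e p}
    rw [Ideal.span_singleton_mul_span_singleton, (he p).eq]
  haveI : Algebra.Etale (A.carrier p) (A.carrier p ⧸ Ideal.span {e p}) :=
    etale_quotient_of_isIdempotentElem _ hI ⟨{e p}, by simp⟩
  exact Algebra.Etale.comp (X.ring p) (A.carrier p) (A.carrier p ⧸ Ideal.span {e p})

end QuotIdem

section Split
variable {X : RSpace.{u}} {A B : Alg X} (f : A ⟶ B)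
  (e : ∀ p, A.carrier p) (he : ∀ p, IsIdempotentElem (e p))
  (hke : ∀ p, RingHom.ker (f.app p) = Ideal.span {e p})
  (hf : ∀ p, Function.Surjective (f.app p))

include he hke hf in
theorem split_bijective (p : X.pt) :
    Function.Bijective (AlgHom.prod (f.app p)
      (Ideal.Quotient.mkₐ (X.ring p) (Ideal.span {1 - e p}))) := by
  have hfe : f.app p (e p) = 0 := by
    have : e p ∈ RingHom.ker (f.app p) := hke p ▸ Ideal.subset_span rfl
    exact this
  constructor
  · rw [injective_iff_map_eq_zero]
    intro a ha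
    have h1 : f.app p a = 0 := congrArg Prod.fst ha
    have h2 : Ideal.Quotient.mk (Ideal.span {1 - e p}) a = 0 := congrArg Prod.snd ha
    have h1' : a ∈ Ideal.span {e p} := hke p ▸ h1
    rw [Ideal.Quotient.eq_zero_iff_mem] at h2
    obtain ⟨c, rfl⟩ := Ideal.mem_span_singleton'.1 h1'
    obtain ⟨d, hd⟩ := Ideal.mem_span_singleton'.1 h2
    have h3 : c * e p = c * e p * e p := by rw [mul_assoc, (he p).eq]
    rw [h3, ← hd, mul_assoc, sub_mul, one_mul, (he p).eq, sub_self, mul_zero]
  · rintro ⟨b, m⟩
    obtain ⟨a₁, rfl⟩ := hf p b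
    obtain ⟨d, rfl⟩ := Ideal.Quotient.mk_surjective m
    refine ⟨a₁ * (1 - e p) + d * e p, Prod.ext ?_ ?_⟩
    · change f.app p (a₁ * (1 - e p) + d * e p) = f.app p a₁
      simp only [map_add, map_mul, map_sub, map_one, hfe, sub_zero, mul_one, mul_zero, add_zero]
    · change Ideal.Quotient.mk _ (a₁ * (1 - e p) + d * e p) = Ideal.Quotient.mk _ d
      rw [Ideal.Quotient.eq]
      have : a₁ * (1 - e p) + d * e p - d = (a₁ - d) * (1 - e p) := by ring
      rw [this]
      exact Ideal.mul_mem_left _ _ (Ideal.subset_span rfl)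

end Split

section SplitFEt
variable {X : RSpace.{u}}

theorem FEt.exists_isLimit_of_surjective (hX : X.IsSchematic) {A B : FEt X} (f : A ⟶ B)
    (hf : ∀ p : X.pt, Function.Surjective (f.hom.app p)) :
    ∃ (D : FEt X) (π : A ⟶ D), Nonempty (IsLimit (BinaryFan.mk f π)) := by
  have hker : ∀ p, ∃ e : A.obj.carrier p, IsIdempotentElem e ∧
      RingHom.ker (f.hom.app p) = Ideal.span {e} := fun p => by
    haveI := hX.1.1 p
    haveI := (A.property.2 p).2
    haveI := (B.property.2 p).1
    haveI := (B.property.2 p).2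
    exact exists_idempotent_ker (f.hom.app p)
  choose e he hke using hker
  have hc : ∀ {p q : X.pt} (h : p ≤ q), A.obj.res h (e p) = e q := fun {p q} h =>
    Alg.res_idem_eq f.hom hX.1 A.property.1 B.property.1 h (e p) (he p) (hke p) (e q) (he q) (hke q)
  have hc' : ∀ {p q : X.pt} (h : p ≤ q), A.obj.res h (1 - e p) = 1 - e q := fun {p q} h => by
    rw [map_sub, map_one, hc h]
  have he' : ∀ p, IsIdempotentElem (1 - e p) := fun p => (he p).one_sub
  let D : FEt X := ⟨Alg.quot A.obj (fun p => 1 - e p) hc',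
    Alg.quot_isEtCover A.obj (fun p => 1 - e p) hc' he' A.property⟩
  let π : A ⟶ D := ObjectProperty.homMk (Alg.toQuot A.obj (fun p => 1 - e p) hc')
  let χ : ∀ p, A.obj.carrier p ≃ₐ[X.ring p] (B.obj.carrier p × D.obj.carrier p) := fun p =>
    AlgEquiv.ofBijective (AlgHom.prod (f.hom.app p)
      (Ideal.Quotient.mkₐ (X.ring p) (Ideal.span {1 - e p}))) (split_bijective f.hom e he hke hf p)
  have hχ : ∀ p a, χ p a = (f.hom.app p a, π.hom.app p a) := fun p a => rfl
  have hχres : ∀ {p q : X.pt} (h : p ≤ q) (a : A.obj.carrier p),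
      χ q (A.obj.res h a) = (B.obj.res h (χ p a).1, D.obj.res h (χ p a).2) := by
    intro p q h a
    rw [hχ, hχ]
    exact Prod.ext (f.hom.compat h a).symm (π.hom.compat h a).symm
  refine ⟨D, π, ⟨BinaryFan.IsLimit.mk _
    (fun {T} g₁ g₂ => ObjectProperty.homMk
      { app := fun p => (χ p).symm.toAlgHom.comp (AlgHom.prod (g₁.hom.app p) (g₂.hom.app p))
        compat := fun {p q} h t => by
          apply (χ q).injective
          change χ q (A.obj.res h ((χ p).symm (g₁.hom.app p t, g₂.hom.app p t))) =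
            χ q ((χ q).symm (g₁.hom.app q (T.obj.res h t), g₂.hom.app q (T.obj.res h t)))
          rw [hχres, AlgEquiv.apply_symm_apply, AlgEquiv.apply_symm_apply]
          exact Prod.ext (g₁.hom.compat h t) (g₂.hom.compat h t) })
    ?_ ?_ ?_⟩⟩
  · intro T g₁ g₂
    apply ObjectProperty.hom_ext
    apply Alg.hom_ext
    intro p
    apply AlgHom.ext
    intro t
    change f.hom.app p ((χ p).symm (g₁.hom.app p t, g₂.hom.app p t)) = g₁.hom.app p t
    have := hχ p ((χ p).symm (g₁.hom.app p t, g₂.hom.app p t))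
    rw [AlgEquiv.apply_symm_apply] at this
    exact (congrArg Prod.fst this).symm
  · intro T g₁ g₂
    apply ObjectProperty.hom_ext
    apply Alg.hom_ext
    intro p
    apply AlgHom.ext
    intro t
    change π.hom.app p ((χ p).symm (g₁.hom.app p t, g₂.hom.app p t)) = g₂.hom.app p t
    have := hχ p ((χ p).symm (g₁.hom.app p t, g₂.hom.app p t))
    rw [AlgEquiv.apply_symm_apply] at this
    exact (congrArg Prod.snd this).symm
  · intro T g₁ g₂ m h1 h2
    apply ObjectProperty.hom_ext
    apply Alg.hom_ext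
    intro p
    apply AlgHom.ext
    intro t
    change m.hom.app p t = (χ p).symm (g₁.hom.app p t, g₂.hom.app p t)
    apply (χ p).injective
    rw [AlgEquiv.apply_symm_apply, hχ]
    have e1 := congrArg (fun k => k.hom.app p t) h1
    have e2 := congrArg (fun k => k.hom.app p t) h2
    exact Prod.ext e1 e2

end SplitFEt

end Groth.Agent.Lib.Helper79.SchFinLib
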