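import Mathlib
import Groth.Prelude.Def_SchFin2
import Groth.Agent.Lib.Helper79.SchFinSplit

set_option autoImplicit false
set_option linter.style.haveILetI false
universe u
open SchFin TensorProduct CategoryTheory CategoryTheory.Limits

namespace Groth.Agent.Lib.Helper79.SchFinLib

section TensorAlg
variable {X : RSpace.{u}} (A B : Alg X)

/-- restriction on tensor products -/
noncomputable def Alg.tensorRes {p q : X.pt} (h : p ≤ q) :
    A.carrier p ⊗[X.ring p] B.carrier p →+* A.carrier q ⊗[X.ring q] B.carrier q :=
  Algebra.TensorProduct.mapRingHom (X.res h) (A.res h) (B.res h)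
     (RingHom.ext fun a => A.res_algebraMap h a) (RingHom.ext fun a => B.res_algebraMap h a)

theorem Alg.tensorRes_tmul {p q : X.pt} (h : p ≤ q) (a : A.carrier p) (b : B.carrier p) :
    Alg.tensorRes A B h (a ⊗ₜ b) = A.res h a ⊗ₜ B.res h b :=
  Algebra.TensorProduct.mapRingHom_tmul _ _ _ _ _ a b

/-- the tensor product of two algebras -/
noncomputable def Alg.tensor : Alg X where
  carrier p := A.carrier p ⊗[X.ring p] B.carrier p
  res {p q} h := Alg.tensorRes A B h
  res_algebraMap {p q} h a := by
    rw [Algebra.TensorProduct.algebraMap_apply, Alg.tensorRes_tmul, map_one,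
      A.res_algebraMap, Algebra.TensorProduct.algebraMap_apply]
  res_self p b := by
    induction b using TensorProduct.induction_on with
    | zero => rw [map_zero]
    | tmul a b => rw [Alg.tensorRes_tmul, A.res_self, B.res_self]
    | add x y hx hy => rw [map_add, hx, hy]
  res_comp h h' b := by
    induction b using TensorProduct.induction_on with
    | zero => rw [map_zero, map_zero, map_zero]
    | tmul a b =>
        rw [Alg.tensorRes_tmul, Alg.tensorRes_tmul, Alg.tensorRes_tmul, A.res_comp, B.res_comp]
    | add x y hx hy => rw [map_add, map_add, map_add, hx, hy]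

theorem Alg.tensor_isQcoh (hA : A.IsQcoh) (hB : B.IsQcoh) : (Alg.tensor A B).IsQcoh := by
  intro p q h
  letI : Algebra (X.ring p) (X.ring q) := (X.res h).toAlgebra
  let eA : X.ring q ⊗[X.ring p] A.carrier p ≃ₗ[X.ring q] A.carrier q :=
    bcEquiv (X.res h) (A.toMod.res h) (hA p q h)
  have heA : ∀ (s : X.ring q) (a : A.carrier p), eA (s ⊗ₜ a) = s • A.res h a := fun s a =>
    bcEquiv_tmul (X.res h) (A.toMod.res h) (hA p q h) s a
  let eB : X.ring q ⊗[X.ring p] B.carrier p ≃ₗ[X.ring q] B.carrier q :=
    bcEquiv (X.res h) (B.toMod.res h) (hB p q h)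
  have heB : ∀ (s : X.ring q) (b : B.carrier p), eB (s ⊗ₜ b) = s • B.res h b := fun s b =>
    bcEquiv_tmul (X.res h) (B.toMod.res h) (hB p q h) s b
  let e : X.ring q ⊗[X.ring p] (A.carrier p ⊗[X.ring p] B.carrier p) ≃ₗ[X.ring q]
      (A.carrier q ⊗[X.ring q] B.carrier q) :=
    (TensorProduct.AlgebraTensorModule.distribBaseChange (X.ring p) (X.ring q)
      (A.carrier p) (B.carrier p)) ≪≫ₗ TensorProduct.congr eA eB
  have he : ∀ x : A.carrier p ⊗[X.ring p] B.carrier p,
      e (1 ⊗ₜ x) = Alg.tensorRes A B h x := by
    intro x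
    induction x using TensorProduct.induction_on with
    | zero => rw [TensorProduct.tmul_zero, map_zero, map_zero]
    | tmul a b =>
        rw [LinearEquiv.trans_apply, TensorProduct.AlgebraTensorModule.distribBaseChange_tmul,
          TensorProduct.congr_tmul, heA, heB, one_smul, one_smul, Alg.tensorRes_tmul]
    | add x y hx hy => rw [TensorProduct.tmul_add, map_add, map_add, hx, hy]
  exact isBCAlong_of_equiv (X.res h) ((Alg.tensor A B).toMod.res h) e he

theorem Alg.tensor_isEtCover (hA : A.IsEtCover) (hB : B.IsEtCover) :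
    (Alg.tensor A B).IsEtCover := by
  refine ⟨Alg.tensor_isQcoh A B hA.1 hB.1, fun p => ?_⟩
  haveI := (hA.2 p).1
  haveI := (hA.2 p).2
  haveI := (hB.2 p).1
  haveI := (hB.2 p).2
  exact ⟨inferInstanceAs (Module.Finite (X.ring p) (A.carrier p ⊗[X.ring p] B.carrier p)),
    Algebra.Etale.comp (X.ring p) (A.carrier p) (A.carrier p ⊗[X.ring p] B.carrier p)⟩

end TensorAlg

section Coprod
variable {X : RSpace.{u}} (A B : Alg X)

/-- left inclusion into the tensor product -/
noncomputable def Alg.tensorInl : A ⟶ Alg.tensor A B where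
  app p := Algebra.TensorProduct.includeLeft
  compat {p q} h a := by
    change Alg.tensorRes A B h (a ⊗ₜ 1) = A.res h a ⊗ₜ 1
    rw [Alg.tensorRes_tmul, map_one]

/-- right inclusion into the tensor product -/
noncomputable def Alg.tensorInr : B ⟶ Alg.tensor A B where
  app p := Algebra.TensorProduct.includeRight
  compat {p q} h b := by
    change Alg.tensorRes A B h (1 ⊗ₜ b) = 1 ⊗ₜ B.res h b
    rw [Alg.tensorRes_tmul, map_one]

variable {A B}

/-- the map out of the tensor product -/
noncomputable def Alg.tensorDesc {T : Alg X} (f : A ⟶ T) (g : B ⟶ T) : Alg.tensor A B ⟶ T where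
  app p := Algebra.TensorProduct.productMap (f.app p) (g.app p)
  compat {p q} h x := by
    have key : ∀ x : A.carrier p ⊗[X.ring p] B.carrier p,
        T.res h (Algebra.TensorProduct.productMap (f.app p) (g.app p) x) =
          Algebra.TensorProduct.productMap (f.app q) (g.app q) (Alg.tensorRes A B h x) := by
      intro x
      induction x using TensorProduct.induction_on with
      | zero => rw [map_zero, map_zero, map_zero, map_zero]
      | tmul a b =>
          rw [Alg.tensorRes_tmul, Algebra.TensorProduct.productMap_apply_tmul,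
            Algebra.TensorProduct.productMap_apply_tmul, map_mul, f.compat, g.compat]
      | add x y hx hy => rw [map_add, map_add, map_add, map_add, hx, hy]
    exact key x

theorem Alg.tensorDesc_inl {T : Alg X} (f : A ⟶ T) (g : B ⟶ T) :
    Alg.tensorInl A B ≫ Alg.tensorDesc f g = f := by
  apply Alg.hom_ext
  intro p
  apply AlgHom.ext
  intro a
  change Algebra.TensorProduct.productMap (f.app p) (g.app p) (a ⊗ₜ 1) = f.app p a
  rw [Algebra.TensorProduct.productMap_apply_tmul, map_one, mul_one]

theorem Alg.tensorDesc_inr {T : Alg X} (f : A ⟶ T) (g : B ⟶ T) :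
    Alg.tensorInr A B ≫ Alg.tensorDesc f g = g := by
  apply Alg.hom_ext
  intro p
  apply AlgHom.ext
  intro b
  change Algebra.TensorProduct.productMap (f.app p) (g.app p) (1 ⊗ₜ b) = g.app p b
  rw [Algebra.TensorProduct.productMap_apply_tmul, map_one, one_mul]

theorem Alg.tensorDesc_uniq {T : Alg X} (f : A ⟶ T) (g : B ⟶ T) (m : Alg.tensor A B ⟶ T)
    (h1 : Alg.tensorInl A B ≫ m = f) (h2 : Alg.tensorInr A B ≫ m = g) :
    m = Alg.tensorDesc f g := by
  apply Alg.hom_ext
  intro p
  have key : ∀ (m' : A.carrier p ⊗[X.ring p] B.carrier p →ₐ[X.ring p] T.carrier p),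
      (∀ a, m' (a ⊗ₜ 1) = f.app p a) → (∀ b, m' (1 ⊗ₜ b) = g.app p b) →
        m' = Algebra.TensorProduct.productMap (f.app p) (g.app p) := by
    intro m' e1 e2
    apply Algebra.TensorProduct.ext'
    intro a b
    rw [Algebra.TensorProduct.productMap_apply_tmul, ← e1, ← e2, ← map_mul,
      Algebra.TensorProduct.tmul_mul_tmul, mul_one, one_mul]
  exact key (m.app p) (fun a => congrArg (fun k => k.app p a) h1)
    (fun b => congrArg (fun k => k.app p b) h2)

end Coprod

section CoprodFEt
variable {X : RSpace.{u}}

/-- the tensor product of two étale covers -/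
noncomputable def FEt.tensor (A B : FEt X) : FEt X :=
  ⟨Alg.tensor A.obj B.obj, Alg.tensor_isEtCover A.obj B.obj A.property B.property⟩

/-- the tensor product is a coproduct -/
noncomputable def FEt.tensorIsColimit (A B : FEt X) :
    IsColimit (BinaryCofan.mk (P := FEt.tensor A B)
      (ObjectProperty.homMk (Alg.tensorInl A.obj B.obj))
      (ObjectProperty.homMk (Alg.tensorInr A.obj B.obj))) :=
  BinaryCofan.IsColimit.mk _
    (fun f g => ObjectProperty.homMk (Alg.tensorDesc f.hom g.hom))
    (fun f g => by
      apply ObjectProperty.hom_ext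
      exact Alg.tensorDesc_inl f.hom g.hom)
    (fun f g => by
      apply ObjectProperty.hom_ext
      exact Alg.tensorDesc_inr f.hom g.hom)
    (fun f g m h1 h2 => by
      apply ObjectProperty.hom_ext
      exact Alg.tensorDesc_uniq f.hom g.hom m.hom (congrArg (fun k => k.hom) h1)
        (congrArg (fun k => k.hom) h2))

theorem FEt.hasBinaryCoproducts (X : RSpace.{u}) : HasBinaryCoproducts (FEt X) := by
  haveI : ∀ {A B : FEt X}, HasColimit (pair A B) := fun {A B} =>
    HasColimit.mk ⟨_, FEt.tensorIsColimit A B⟩
  exact hasBinaryCoproducts_of_hasColimit_pair _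

end CoprodFEt

end Groth.Agent.Lib.Helper79.SchFinLib
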