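import Mathlib
import Groth.Prelude.Def_SchFin2
import Groth.Agent.Lib.Helper79.SchFinTensorAlg

set_option autoImplicit false
set_option linter.style.haveILetI false
universe u
open SchFin TensorProduct CategoryTheory CategoryTheory.Limits

namespace Groth.Agent.Lib.Helper79.SchFinLib

section CoeqAlg
variable {R C A : Type u} [CommRing R] [IsNoetherianRing R] [CommRing C] [CommRing A]
  [Algebra R C] [Algebra R A] [Module.Finite R C] [Algebra.Etale R C]

/-- the ideal generated by the differences of two maps out of a finite étale algebra is generated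
by an idempotent -/
theorem exists_idem_coeq (f g : C →ₐ[R] A) :
    ∃ ε : A, IsIdempotentElem ε ∧
      Ideal.span {ε} = Ideal.span (Set.range fun c => g c - f c) := by
  haveI : Algebra.Etale R (C ⊗[R] C) := Algebra.Etale.comp R C (C ⊗[R] C)
  obtain ⟨η, hη, hker⟩ := exists_idempotent_ker (Algebra.TensorProduct.lmul' R : C ⊗[R] C →ₐ[R] C)
  set φ := Algebra.TensorProduct.productMap f g with hφ
  refine ⟨φ η, hη.map φ, ?_⟩
  have h1 : Ideal.span {φ η} = Ideal.map φ (Ideal.span {η}) := by
    rw [Ideal.map_span, Set.image_singleton]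
  have h2 : Ideal.span {η} = Ideal.span (Set.range fun s : C => (1 : C) ⊗ₜ[R] s - s ⊗ₜ[R] (1 : C)) := by
    rw [← hker, KaehlerDifferential.span_range_eq_ideal]
  rw [h1, h2, Ideal.map_span, ← Set.range_comp]
  congr 1
  ext a
  simp only [Set.mem_range, Function.comp_apply]
  constructor
  · rintro ⟨c, rfl⟩
    exact ⟨c, by rw [map_sub, hφ, Algebra.TensorProduct.productMap_apply_tmul,
      Algebra.TensorProduct.productMap_apply_tmul, map_one, map_one, one_mul, mul_one]⟩
  · rintro ⟨c, rfl⟩
    exact ⟨c, by rw [map_sub, hφ, Algebra.TensorProduct.productMap_apply_tmul,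
      Algebra.TensorProduct.productMap_apply_tmul, map_one, map_one, one_mul, mul_one]⟩

end CoeqAlg

section ForallBC
variable {R S : Type u} [CommRing R] [CommRing S] (g : R →+* S) {M N : Type u}
  [AddCommGroup M] [AddCommGroup N] [Module R M] [Module S N]

theorem forall_of_isBCAlong (f : M →ₛₗ[g] N) (hf : IsBCAlong g f) (P : N → Prop) (h0 : P 0)
    (hadd : ∀ x y, P x → P y → P (x + y)) (hsmul : ∀ (s : S) x, P x → P (s • x))
    (hfm : ∀ m, P (f m)) : ∀ n, P n := by
  intro n
  have hn : n ∈ Submodule.span S (Set.range f) := by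
    rw [span_range_eq_top_of_isBCAlong g f hf]
    trivial
  induction hn using Submodule.span_induction with
  | mem x hx =>
      obtain ⟨m, rfl⟩ := hx
      exact hfm m
  | zero => exact h0
  | add x y _ _ hx hy => exact hadd x y hx hy
  | smul s x _ hx => exact hsmul s x hx

end ForallBC

section QuotDesc
variable {X : RSpace.{u}} (A : Alg X) (e : ∀ p, A.carrier p)
  (hc : ∀ {p q : X.pt} (h : p ≤ q), A.res h (e p) = e q)

/-- the map out of the quotient induced by a map killing the generators -/
def Alg.quotDesc {T : Alg X} (k : A ⟶ T) (hk : ∀ p, k.app p (e p) = 0) : Alg.quot A e hc ⟶ T where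
  app p := Ideal.Quotient.liftₐ (Ideal.span {e p}) (k.app p) (fun a ha => by
    obtain ⟨c, rfl⟩ := Ideal.mem_span_singleton'.1 ha
    rw [map_mul, hk p, mul_zero])
  compat {p q} h b := by
    obtain ⟨a, rfl⟩ := Ideal.Quotient.mk_surjective b
    rw [Alg.quot_res_mk]
    exact k.compat h a

theorem Alg.toQuot_quotDesc {T : Alg X} (k : A ⟶ T) (hk : ∀ p, k.app p (e p) = 0) :
    Alg.toQuot A e hc ≫ Alg.quotDesc A e hc k hk = k := by
  apply Alg.hom_ext
  intro p
  apply AlgHom.ext
  intro a
  rfl

theorem Alg.quotDesc_uniq {T : Alg X} (k : A ⟶ T) (hk : ∀ p, k.app p (e p) = 0)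
    (m : Alg.quot A e hc ⟶ T) (hm : Alg.toQuot A e hc ≫ m = k) :
    m = Alg.quotDesc A e hc k hk := by
  apply Alg.hom_ext
  intro p
  apply AlgHom.ext
  intro b
  obtain ⟨a, rfl⟩ := Ideal.Quotient.mk_surjective b
  exact congrArg (fun j => j.app p a) hm

end QuotDesc

section CoeqFEt
variable {X : RSpace.{u}}

theorem Alg.map_span_diff {C A : Alg X} (f g : C ⟶ A) (hC : C.IsQcoh) {p q : X.pt} (h : p ≤ q) :
    Ideal.map (A.res h) (Ideal.span (Set.range fun c => g.app p c - f.app p c)) =
      Ideal.span (Set.range fun c => g.app q c - f.app q c) := by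
  apply le_antisymm
  · rw [Ideal.map_span, Ideal.span_le]
    rintro _ ⟨_, ⟨c, rfl⟩, rfl⟩
    apply Ideal.subset_span
    exact ⟨C.res h c, by rw [map_sub, g.compat, f.compat]⟩
  · rw [Ideal.span_le]
    set J := Ideal.map (A.res h) (Ideal.span (Set.range fun c => g.app p c - f.app p c)) with hJ
    have h0 : g.app q 0 - f.app q 0 ∈ J := by
      rw [map_zero, map_zero, sub_zero]
      exact J.zero_mem
    have hadd : ∀ x y : C.carrier q, g.app q x - f.app q x ∈ J → g.app q y - f.app q y ∈ J →
        g.app q (x + y) - f.app q (x + y) ∈ J := by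
      intro x y hx hy
      rw [map_add, map_add, add_sub_add_comm]
      exact J.add_mem hx hy
    have hsmul : ∀ (s : X.ring q) (x : C.carrier q), g.app q x - f.app q x ∈ J →
        g.app q (s • x) - f.app q (s • x) ∈ J := by
      intro s x hx
      rw [map_smul, map_smul, ← smul_sub, Algebra.smul_def]
      exact J.mul_mem_left _ hx
    have hres : ∀ c : C.carrier p, g.app q (C.res h c) - f.app q (C.res h c) ∈ J := by
      intro c
      rw [← g.compat, ← f.compat, ← map_sub]
      exact Ideal.mem_map_of_mem _ (Ideal.subset_span ⟨c, rfl⟩)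
    have key : ∀ c' : C.carrier q, g.app q c' - f.app q c' ∈ J :=
      forall_of_isBCAlong (X.res h) (C.toMod.res h) (hC p q h)
        (fun c' : C.carrier q => g.app q c' - f.app q c' ∈ J) h0 hadd hsmul hres
    rintro _ ⟨c', rfl⟩
    exact key c'

theorem FEt.hasCoequalizers (hX : X.IsFinSp) : HasCoequalizers (FEt X) := by
  haveI : ∀ {C A : FEt X} {f g : C ⟶ A}, HasColimit (parallelPair f g) := by
    intro C A f g
    have hex : ∀ p, ∃ ε : A.obj.carrier p, IsIdempotentElem ε ∧
        Ideal.span {ε} = Ideal.span (Set.range fun c => g.hom.app p c - f.hom.app p c) := fun p => by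
      haveI := hX.1 p
      haveI := (C.property.2 p).1
      haveI := (C.property.2 p).2
      exact exists_idem_coeq (f.hom.app p) (g.hom.app p)
    choose ε hε hJ using hex
    have hc : ∀ {p q : X.pt} (h : p ≤ q), A.obj.res h (ε p) = ε q := by
      intro p q h
      apply eq_of_span_eq_of_idem ((hε p).map (A.obj.res h)) (hε q)
      rw [hJ q, ← Alg.map_span_diff f.hom g.hom C.property.1 h, ← hJ p, Ideal.map_span,
        Set.image_singleton]
    let Q : FEt X := ⟨Alg.quot A.obj ε hc, Alg.quot_isEtCover A.obj ε hc hε A.property⟩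
    let π : A ⟶ Q := ObjectProperty.homMk (Alg.toQuot A.obj ε hc)
    have hπ : f ≫ π = g ≫ π := by
      apply ObjectProperty.hom_ext
      apply Alg.hom_ext
      intro p
      apply AlgHom.ext
      intro c
      change Ideal.Quotient.mk (Ideal.span {ε p}) (f.hom.app p c) =
        Ideal.Quotient.mk (Ideal.span {ε p}) (g.hom.app p c)
      rw [Ideal.Quotient.eq, hJ p, ← neg_sub]
      exact Ideal.neg_mem_iff _ |>.2 (Ideal.subset_span ⟨c, rfl⟩)
    have hkill : ∀ (s : Cofork f g) (p : X.pt), s.π.hom.app p (ε p) = 0 := by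
      intro s p
      have h1 : ε p ∈ Ideal.span (Set.range fun c => g.hom.app p c - f.hom.app p c) :=
        hJ p ▸ Ideal.subset_span rfl
      have h2 : Ideal.span (Set.range fun c => g.hom.app p c - f.hom.app p c) ≤
          RingHom.ker (s.π.hom.app p) := by
        rw [Ideal.span_le]
        rintro _ ⟨c, rfl⟩
        change s.π.hom.app p (g.hom.app p c - f.hom.app p c) = 0
        rw [map_sub, sub_eq_zero]
        have := congrArg (fun k => k.hom.app p c) s.condition
        exact this.symm
      exact h2 h1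
    refine HasColimit.mk ⟨Cofork.ofπ π hπ, Cofork.IsColimit.mk _
      (fun s => ObjectProperty.homMk (Alg.quotDesc A.obj ε hc s.π.hom (hkill s))) ?_ ?_⟩
    · intro s
      apply ObjectProperty.hom_ext
      exact Alg.toQuot_quotDesc A.obj ε hc s.π.hom (hkill s)
    · intro s m hm
      apply ObjectProperty.hom_ext
      exact Alg.quotDesc_uniq A.obj ε hc s.π.hom (hkill s) m.hom (congrArg (fun k => k.hom) hm)
  exact hasCoequalizers_of_hasColimit_parallelPair _

theorem FEt.hasPushouts (hX : X.IsFinSp) : HasPushouts (FEt X) := by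
  haveI := FEt.hasBinaryCoproducts X
  haveI := FEt.hasCoequalizers hX
  exact hasPushouts_of_hasBinaryCoproducts_of_hasCoequalizers _

end CoeqFEt

end Groth.Agent.Lib.Helper79.SchFinLib
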