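import Mathlib
import Groth.Prelude.Def_SchFin2

set_option autoImplicit false
universe u
open SchFin

namespace Groth.Agent.Lib.Helper79.SchFinLib

theorem connectedSpace_primeSpectrum_iff (R : Type u) [CommRing R] :
    ConnectedSpace (PrimeSpectrum R) ↔
      Nontrivial R ∧ ∀ e : R, IsIdempotentElem e → e = 0 ∨ e = 1 := by
  rw [connectedSpace_iff_clopen, PrimeSpectrum.nonempty_iff_nontrivial]
  refine and_congr_right fun _ => ⟨fun h e he => ?_, fun h s hs => ?_⟩
  · have hcl : IsClopen (PrimeSpectrum.basicOpen e : Set (PrimeSpectrum R)) :=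
      PrimeSpectrum.isClopen_iff_mul_add.mpr ⟨e, 1 - e, by
        rw [mul_sub, mul_one, he.eq, sub_self], by ring, rfl⟩
    rcases h _ hcl with h0 | h1
    · left
      refine PrimeSpectrum.basicOpen_injOn_isIdempotentElem he IsIdempotentElem.zero ?_
      apply TopologicalSpace.Opens.ext
      rw [h0]; simp
    · right
      refine PrimeSpectrum.basicOpen_injOn_isIdempotentElem he IsIdempotentElem.one ?_
      apply TopologicalSpace.Opens.ext
      rw [h1]; simp
  · obtain ⟨e, he, rfl⟩ := PrimeSpectrum.exists_idempotent_basicOpen_eq_of_isClopen hs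
    rcases h e he with rfl | rfl
    · left; simp
    · right; simp

/-- Under pointwise connectedness, connectedness of global sections is equivalent to
connectedness of the poset. -/
theorem isConnected_iff_isTopConnected (X : RSpace.{u}) (hpw : X.IsPwConnected) :
    X.IsConnected ↔ X.IsTopConnected := by
  have hnt : ∀ p : X.pt, Nontrivial (X.ring p) := fun p =>
    ((connectedSpace_primeSpectrum_iff _).1 (hpw p)).1
  have hid : ∀ (p : X.pt) (e : X.ring p), IsIdempotentElem e → e = 0 ∨ e = 1 := fun p =>
    ((connectedSpace_primeSpectrum_iff _).1 (hpw p)).2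
  unfold RSpace.IsConnected RSpace.IsTopConnected
  rw [connectedSpace_primeSpectrum_iff]
  constructor
  · rintro ⟨hΓ, hΓid⟩
    have hne : Nonempty X.pt := by
      by_contra hemp
      rw [not_nonempty_iff] at hemp
      obtain ⟨a, b, hab⟩ := hΓ
      apply hab
      apply Subtype.ext
      funext q
      exact (hemp.false q.1).elim
    refine ⟨hne, fun p q => ?_⟩
    classical
    -- the idempotent cutting out the component of p
    have hcomp : ∀ (a b : X.pt), a ≤ b →
        (Relation.EqvGen (fun a b : X.pt => a ≤ b) p a ↔
          Relation.EqvGen (fun a b : X.pt => a ≤ b) p b) := by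
      intro a b hab
      constructor
      · intro h; exact Relation.EqvGen.trans _ _ _ h (Relation.EqvGen.rel _ _ hab)
      · intro h
        exact Relation.EqvGen.trans _ _ _ h
          (Relation.EqvGen.symm _ _ (Relation.EqvGen.rel _ _ hab))
    let e : X.sectRing Set.univ :=
      ⟨fun q => if Relation.EqvGen (fun a b : X.pt => a ≤ b) p q.1 then 1 else 0, by
        intro q q' h
        by_cases hq : Relation.EqvGen (fun a b : X.pt => a ≤ b) p q.1
        · have hq' := (hcomp _ _ h).1 hq
          simp only [if_pos hq, if_pos hq', map_one]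
        · have hq' : ¬ Relation.EqvGen (fun a b : X.pt => a ≤ b) p q'.1 :=
            fun h' => hq ((hcomp _ _ h).2 h')
          simp only [if_neg hq, if_neg hq', map_zero]⟩
    have he : IsIdempotentElem e := by
      apply Subtype.ext
      funext q
      change (if _ then (1 : X.ring q.1) else 0) * (if _ then 1 else 0) = if _ then 1 else 0
      split_ifs <;> simp
    have hep : e.1 ⟨p, trivial⟩ = 1 := by
      change (if _ then (1 : X.ring p) else 0) = 1
      rw [if_pos (Relation.EqvGen.refl p)]
    rcases hΓid e he with h0 | h1
    · exfalso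
      have : e.1 ⟨p, trivial⟩ = 0 := by rw [h0]; rfl
      rw [hep] at this
      exact one_ne_zero this
    · by_contra hq
      have : e.1 ⟨q, trivial⟩ = 1 := by rw [h1]; rfl
      have h2 : e.1 ⟨q, trivial⟩ = 0 := by
        change (if _ then (1 : X.ring q) else 0) = 0
        rw [if_neg hq]
      rw [h2] at this
      exact zero_ne_one this
  · rintro ⟨⟨p⟩, hconn⟩
    refine ⟨(X.evalRing Set.univ ⟨p, trivial⟩).domain_nontrivial, fun e he => ?_⟩
    have hval : ∀ q : (Set.univ : Set X.pt), e.1 q = 0 ∨ e.1 q = 1 := by
      intro q
      apply hid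
      have := congrArg (fun s : X.sectRing Set.univ => s.1 q) he.eq
      exact this
    have hmono : ∀ (a b : X.pt), a ≤ b → (e.1 ⟨a, trivial⟩ = 1 ↔ e.1 ⟨b, trivial⟩ = 1) := by
      intro a b hab
      have hres : X.res hab (e.1 ⟨a, trivial⟩) = e.1 ⟨b, trivial⟩ :=
        e.2 ⟨a, trivial⟩ ⟨b, trivial⟩ hab
      constructor
      · intro h; rw [← hres, h, map_one]
      · intro h
        rcases hval ⟨a, trivial⟩ with h0 | h1
        · rw [h0, map_zero] at hres
          rw [h] at hres
          exact (zero_ne_one hres).elim
        · exact h1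
    have hall : ∀ a b : X.pt, Relation.EqvGen (fun a b : X.pt => a ≤ b) a b →
        (e.1 ⟨a, trivial⟩ = 1 ↔ e.1 ⟨b, trivial⟩ = 1) := by
      intro a b hab
      induction hab with
      | rel a b h => exact hmono a b h
      | refl a => exact Iff.rfl
      | symm a b _ ih => exact ih.symm
      | trans a b c _ _ ih1 ih2 => exact ih1.trans ih2
    rcases hval ⟨p, trivial⟩ with h0 | h1
    · left
      apply Subtype.ext
      funext q
      rcases hval q with hq0 | hq1
      · exact hq0
      · have := (hall p q.1 (hconn p q.1)).2 hq1
        rw [h0] at this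
        exact (zero_ne_one this).elim
    · right
      apply Subtype.ext
      funext q
      exact (hall p q.1 (hconn p q.1)).1 h1

end Groth.Agent.Lib.Helper79.SchFinLib
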