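import Mathlib

set_option autoImplicit false
universe u
open CategoryTheory CategoryTheory.Limits

namespace Groth.Agent.Lib.Helper79.SchFinLib

section FintypeCrit

/-- criterion for a pullback cone of finite types to be a limit -/
noncomputable def FintypeCat.pullbackIsLimit {P A B C : FintypeCat.{u}} (h : P ⟶ A) (k : P ⟶ B)
    (f : A ⟶ C) (g : B ⟶ C) (comm : h ≫ f = k ≫ g)
    (huniq : ∀ (a : A) (b : B), f a = g b → ∃! p : P, h p = a ∧ k p = b) :
    IsLimit (PullbackCone.mk h k comm) :=
  PullbackCone.IsLimit.mk comm
    (fun s => FintypeCat.homMk fun t =>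
      (huniq (s.fst t) (s.snd t) (ConcreteCategory.congr_hom s.condition t)).choose)
    (fun s => by
      ext t
      exact ((huniq (s.fst t) (s.snd t)
        (ConcreteCategory.congr_hom s.condition t)).choose_spec.1).1)
    (fun s => by
      ext t
      exact ((huniq (s.fst t) (s.snd t)
        (ConcreteCategory.congr_hom s.condition t)).choose_spec.1).2)
    (fun s m h1 h2 => by
      ext t
      exact (huniq (s.fst t) (s.snd t) (ConcreteCategory.congr_hom s.condition t)).choose_spec.2
        (m t) ⟨ConcreteCategory.congr_hom h1 t, ConcreteCategory.congr_hom h2 t⟩)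

/-- criterion for a binary cofan of finite types to be a colimit -/
noncomputable def FintypeCat.binaryCofanIsColimit {P A B : FintypeCat.{u}} (i : A ⟶ P) (j : B ⟶ P)
    (hi : Function.Injective i) (hj : Function.Injective j)
    (hdisj : ∀ (a : A) (b : B), i a ≠ j b)
    (hcov : ∀ p : P, (∃ a, i a = p) ∨ ∃ b, j b = p) :
    IsColimit (BinaryCofan.mk i j) := by
  classical
  have hb : ∀ p : P, (¬ ∃ a, i a = p) → ∃ b, j b = p := fun p hp => (hcov p).resolve_left hp
  exact BinaryCofan.IsColimit.mk _
    (fun {T} f g => FintypeCat.homMk fun p =>
      if hp : ∃ a, i a = p then f hp.choose else g (hb p hp).choose)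
    (fun {T} f g => by
      ext a
      have hp : ∃ a', i a' = i a := ⟨a, rfl⟩
      change (if hp : ∃ a', i a' = i a then f hp.choose else g (hb _ hp).choose) = f a
      rw [dif_pos hp, hi hp.choose_spec])
    (fun {T} f g => by
      ext b
      have hp : ¬ ∃ a', i a' = j b := fun ⟨a', ha'⟩ => hdisj a' b ha'
      change (if hp : ∃ a', i a' = j b then f hp.choose else g (hb _ hp).choose) = g b
      rw [dif_neg hp, hj (hb _ hp).choose_spec])
    (fun {T} f g m h1 h2 => by
      ext p
      change m p = if hp : ∃ a, i a = p then f hp.choose else g (hb p hp).choose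
      by_cases hp : ∃ a, i a = p
      · rw [dif_pos hp]
        have := ConcreteCategory.congr_hom h1 hp.choose
        exact (congrArg (fun q => m q) hp.choose_spec.symm).trans this
      · rw [dif_neg hp]
        have := ConcreteCategory.congr_hom h2 (hb p hp).choose
        exact (congrArg (fun q => m q) (hb p hp).choose_spec.symm).trans this)

/-- a one-element finite type is terminal -/
noncomputable def FintypeCat.isTerminalOfUnique (T : FintypeCat.{u}) [Unique T] : IsTerminal T :=
  IsTerminal.ofUniqueHom (fun S => FintypeCat.homMk fun _ => default)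
    (fun S m => by
      ext s
      exact Subsingleton.elim _ _)

/-- an empty finite type is initial -/
noncomputable def FintypeCat.isInitialOfIsEmpty (T : FintypeCat.{u}) [IsEmpty T] : IsInitial T :=
  IsInitial.ofUniqueHom (fun S => FintypeCat.homMk fun t => isEmptyElim t)
    (fun S m => by
      ext t
      exact isEmptyElim t)

end FintypeCrit

end Groth.Agent.Lib.Helper79.SchFinLib
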