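import Mathlib
import Groth.Prelude.Def_SchFin2
import Groth.Agent.Lib.Helper79.SchFinCoeq

set_option autoImplicit false
set_option linter.style.haveILetI false
universe u
open SchFin TensorProduct CategoryTheory CategoryTheory.Limits

namespace Groth.Agent.Lib.Helper79.SchFinLib

section RankIso
variable {R A B : Type u} [CommRing R] [CommRing A] [CommRing B]
  [Algebra R A] [Algebra R B] [Module.Finite R B]
  [Algebra.Etale R A] [Algebra.Etale R B]

/-- an injective map of finite étale algebras is faithfully flat -/
theorem faithfullyFlat_of_injective (φ : A →ₐ[R] B) (hφ : Function.Injective φ) :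
    letI : Algebra A B := φ.toRingHom.toAlgebra
    Module.FaithfullyFlat A B := by
  letI : Algebra A B := φ.toRingHom.toAlgebra
  haveI : IsScalarTower R A B := IsScalarTower.of_algebraMap_eq fun r => (φ.commutes r).symm
  haveI : Algebra.Etale A B := Algebra.Etale.of_restrictScalars R A B
  haveI : Module.Finite A B := Module.Finite.of_restrictScalars_finite R A B
  apply Module.FaithfullyFlat.of_comap_surjective
  exact RingHom.IsIntegral.comap_surjective (f := algebraMap A B)
    (Algebra.IsIntegral.isIntegral (R := A) (A := B)) hφ

/-- base change of an injective map of finite étale algebras is injective -/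
theorem lTensor_injective_of_injective (φ : A →ₐ[R] B) (hφ : Function.Injective φ)
    (K : Type u) [CommRing K] [Algebra R K] :
    Function.Injective (LinearMap.lTensor K φ.toLinearMap) := by
  letI : Algebra A B := φ.toRingHom.toAlgebra
  haveI : IsScalarTower R A B := IsScalarTower.of_algebraMap_eq fun r => (φ.commutes r).symm
  haveI : Module.FaithfullyFlat A B := faithfullyFlat_of_injective φ hφ
  have h1 : Function.Injective (TensorProduct.mk A B (A ⊗[R] K) 1) :=
    Module.FaithfullyFlat.tensorProduct_mk_injective (A := A) (B := B) (A ⊗[R] K)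
  let ψ : A ⊗[R] K →ₗ[R] B ⊗[R] K :=
    ((TensorProduct.AlgebraTensorModule.cancelBaseChange R A A B K).restrictScalars R).toLinearMap ∘ₗ
      ((TensorProduct.mk A B (A ⊗[R] K) 1).restrictScalars R)
  have hψinj : Function.Injective ψ := by
    intro x y hxy
    apply h1
    exact (TensorProduct.AlgebraTensorModule.cancelBaseChange R A A B K).injective hxy
  have hψ : ψ = LinearMap.rTensor K φ.toLinearMap := by
    apply TensorProduct.ext'
    intro a k
    change (TensorProduct.AlgebraTensorModule.cancelBaseChange R A A B K) (1 ⊗ₜ (a ⊗ₜ k)) = _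
    rw [TensorProduct.AlgebraTensorModule.cancelBaseChange_tmul, LinearMap.rTensor_tmul,
      Algebra.smul_def, mul_one]
    rfl
  have hl : LinearMap.lTensor K φ.toLinearMap =
      (TensorProduct.comm R B K).toLinearMap ∘ₗ (LinearMap.rTensor K φ.toLinearMap) ∘ₗ
        (TensorProduct.comm R K A).toLinearMap := by
    apply TensorProduct.ext'
    intro k a
    simp
  rw [hl, ← hψ]
  exact (TensorProduct.comm R B K).injective.comp (hψinj.comp (TensorProduct.comm R K A).injective)

/-- an injective map of finite étale algebras of the same rank is surjective -/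
theorem surjective_of_injective_of_rankAtStalk_eq [Module.Finite R A] (φ : A →ₐ[R] B)
    (hφ : Function.Injective φ)
    (hrank : ∀ P : PrimeSpectrum R, Module.rankAtStalk A P = Module.rankAtStalk B P) :
    Function.Surjective φ := by
  set N := LinearMap.range φ.toLinearMap with hN
  suffices hsub : Subsingleton (B ⧸ N) by
    have htop : N = ⊤ := Submodule.Quotient.subsingleton_iff.1 hsub
    intro b
    have : b ∈ N := htop ▸ Submodule.mem_top
    obtain ⟨a, ha⟩ := this
    exact ⟨a, ha⟩
  rw [← Module.support_eq_empty_iff (R := R), Set.eq_empty_iff_forall_notMem]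
  intro P hP
  rw [Module.mem_support_iff_nontrivial_residueField_tensorProduct] at hP
  set K := P.asIdeal.ResidueField with hK
  -- the base change of `φ` to the residue field is bijective
  have hinj : Function.Injective (LinearMap.baseChange K φ.toLinearMap) :=
    lTensor_injective_of_injective φ hφ K
  have hfin : Module.finrank K (K ⊗[R] A) = Module.finrank K (K ⊗[R] B) := by
    have h1 := Module.rankAtStalk_eq (M := A) P
    have h2 := Module.rankAtStalk_eq (M := B) P
    rw [hrank P] at h1
    exact h1.symm.trans h2
  have hsurj : Function.Surjective (LinearMap.lTensor K φ.toLinearMap) :=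
    (LinearMap.injective_iff_surjective_of_finrank_eq_finrank hfin).1 hinj
  -- hence the base change of the cokernel vanishes
  have hex : Function.Exact (LinearMap.lTensor K φ.toLinearMap) (LinearMap.lTensor K N.mkQ) :=
    lTensor_exact K (LinearMap.exact_map_mkQ_range φ.toLinearMap) (Submodule.mkQ_surjective N)
  have hsQ : Function.Surjective (LinearMap.lTensor K N.mkQ) :=
    LinearMap.lTensor_surjective K (Submodule.mkQ_surjective N)
  have hzero : ∀ t : K ⊗[R] (B ⧸ N), t = 0 := by
    intro t
    obtain ⟨b', rfl⟩ := hsQ t
    obtain ⟨a', rfl⟩ := hsurj b'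
    exact (hex _).2 ⟨a', rfl⟩
  obtain ⟨x, y, hxy⟩ := hP
  exact hxy ((hzero x).trans (hzero y).symm)

end RankIso

section IsoOfBij
variable {X : RSpace.{u}}

/-- the inverse of a pointwise bijective morphism -/
noncomputable def Alg.invOfBijective {A B : Alg X} (f : A ⟶ B)
    (hf : ∀ p, Function.Bijective (f.app p)) : B ⟶ A where
  app p := (AlgEquiv.ofBijective (f.app p) (hf p)).symm
  compat {p q} h b := by
    apply (hf q).1
    rw [← f.compat]
    have e1 : f.app p ((AlgEquiv.ofBijective (f.app p) (hf p)).symm b) = b :=
      (AlgEquiv.ofBijective (f.app p) (hf p)).apply_symm_apply b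
    have e2 : f.app q ((AlgEquiv.ofBijective (f.app q) (hf q)).symm (B.res h b)) = B.res h b :=
      (AlgEquiv.ofBijective (f.app q) (hf q)).apply_symm_apply (B.res h b)
    exact (congrArg (B.res h) e1).trans e2.symm

theorem FEt.isIso_of_bijective {A B : FEt X} (f : A ⟶ B)
    (hf : ∀ p, Function.Bijective (f.hom.app p)) : IsIso f := by
  refine ⟨ObjectProperty.homMk (Alg.invOfBijective f.hom hf), ?_, ?_⟩
  · apply ObjectProperty.hom_ext
    apply Alg.hom_ext
    intro p
    apply AlgHom.ext
    intro a
    exact (AlgEquiv.ofBijective (f.hom.app p) (hf p)).symm_apply_apply a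
  · apply ObjectProperty.hom_ext
    apply Alg.hom_ext
    intro p
    apply AlgHom.ext
    intro b
    exact (AlgEquiv.ofBijective (f.hom.app p) (hf p)).apply_symm_apply b

theorem FEt.isIso_of_injective_of_rankAtStalk_eq {A B : FEt X} (f : A ⟶ B)
    (hf : ∀ p : X.pt, Function.Injective (f.hom.app p))
    (hdeg : ∀ (p : X.pt) (P : PrimeSpectrum (X.ring p)),
      Module.rankAtStalk (A.obj.carrier p) P = Module.rankAtStalk (B.obj.carrier p) P) :
    IsIso f := by
  apply FEt.isIso_of_bijective
  intro p
  haveI := (A.property.2 p).1
  haveI := (A.property.2 p).2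
  haveI := (B.property.2 p).1
  haveI := (B.property.2 p).2
  exact ⟨hf p, surjective_of_injective_of_rankAtStalk_eq (f.hom.app p) (hf p) (hdeg p)⟩

end IsoOfBij

end Groth.Agent.Lib.Helper79.SchFinLib
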