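import Mathlib
import Groth.Prelude.Def_SchFin2
import Groth.Agent.Lib.Helper79.SchFinRankIso

set_option autoImplicit false
set_option linter.style.haveILetI false
universe u
open SchFin TensorProduct CategoryTheory CategoryTheory.Limits

namespace Groth.Agent.Lib.Helper79.SchFinLib

section RankConst
variable {X : RSpace.{u}}

/-- a locally trivial étale cover has constant rank -/
theorem rankAtStalk_eq_of_locTriv (A : FEt X) (B : Alg X) (n : ℕ) (hB : B.IsCovering)
    (he : ∀ p : X.pt, Nonempty (TensorProduct (X.ring p) (B.carrier p) (A.obj.carrier p)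
      ≃ₐ[B.carrier p] (Fin n → B.carrier p)))
    (p : X.pt) (P : PrimeSpectrum (X.ring p)) :
    Module.rankAtStalk (A.obj.carrier p) P = n := by
  haveI := (hB.2 p).2
  haveI := (A.property.2 p).1
  haveI := (A.property.2 p).2
  obtain ⟨P', rfl⟩ := PrimeSpectrum.comap_surjective_of_faithfullyFlat
    (A := X.ring p) (B := B.carrier p) P
  haveI : Nontrivial (B.carrier p) :=
    ⟨⟨0, 1, fun h => P'.2.ne_top (by rw [Ideal.eq_top_iff_one, ← h]; exact zero_mem _)⟩⟩
  rw [← Module.rankAtStalk_baseChange]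
  obtain ⟨e⟩ := he p
  rw [Module.rankAtStalk_eq_of_equiv e.toLinearEquiv, Module.rankAtStalk_eq_finrank_of_free]
  simp

end RankConst

section FibCard
variable {X : RSpace.{u}} {Ω : Type u} [Field Ω] [IsAlgClosed Ω] (ξ : GeomPt X Ω)

/-- the point of the base ring under a geometric point -/
def GeomPt.basePrime : PrimeSpectrum (X.ring ξ.base) :=
  PrimeSpectrum.comap ξ.toField ⟨⊥, Ideal.isPrime_bot⟩

theorem card_fib_eq_rankAtStalk (A : FEt X) :
    Nat.card (ξ.Fib A.obj) = Module.rankAtStalk (A.obj.carrier ξ.base) (GeomPt.basePrime ξ) := by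
  letI : Algebra (X.ring ξ.base) Ω := ξ.toField.toAlgebra
  haveI := (A.property.2 ξ.base).1
  haveI := (A.property.2 ξ.base).2
  set A' := Ω ⊗[X.ring ξ.base] A.obj.carrier ξ.base with hA'
  have h1 : Module.rankAtStalk (R := Ω) A' ⟨⊥, Ideal.isPrime_bot⟩ =
      Module.rankAtStalk (A.obj.carrier ξ.base) (GeomPt.basePrime ξ) :=
    Module.rankAtStalk_baseChange (R := X.ring ξ.base) (M := A.obj.carrier ξ.base) (S := Ω) _
  rw [← h1, Module.rankAtStalk_eq_finrank_of_free]
  let e := Algebra.FormallyEtale.equivPiOfIsSepClosed Ω A'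
  haveI : Module.Finite Ω A' := inferInstance
  haveI : IsArtinianRing A' := IsArtinianRing.of_finite Ω A'
  haveI : Fintype (PrimeSpectrum A') := Fintype.ofFinite _
  change Nat.card (PrimeSpectrum A') = Module.finrank Ω A'
  rw [e.toLinearEquiv.finrank_eq, Module.finrank_fintype_fun_eq_card, Nat.card_eq_fintype_card]

/-- the ring map inducing the map of fibres, as a function, is the base change -/
theorem tensorMap_eq_lTensor {A B : Alg X} (f : A ⟶ B)
    (t : letI : Algebra (X.ring ξ.base) Ω := ξ.toField.toAlgebra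
      Ω ⊗[X.ring ξ.base] A.carrier ξ.base) :
    letI : Algebra (X.ring ξ.base) Ω := ξ.toField.toAlgebra
    (Algebra.TensorProduct.map (AlgHom.id Ω Ω) (f.app ξ.base)) t =
      LinearMap.lTensor Ω (f.app ξ.base).toLinearMap t := by
  letI : Algebra (X.ring ξ.base) Ω := ξ.toField.toAlgebra
  induction t using TensorProduct.induction_on with
  | zero => rw [map_zero, map_zero]
  | tmul a b => rfl
  | add a b ha hb => rw [map_add, map_add, ha, hb]

/-- an injective morphism induces a surjection on fibres -/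
theorem fibMap_surjective_of_injective {A B : FEt X} (f : A ⟶ B)
    (hf : Function.Injective (f.hom.app ξ.base)) : Function.Surjective (ξ.fibMap f.hom) := by
  letI : Algebra (X.ring ξ.base) Ω := ξ.toField.toAlgebra
  haveI := (A.property.2 ξ.base).2
  haveI := (B.property.2 ξ.base).1
  haveI := (B.property.2 ξ.base).2
  set ψ := (Algebra.TensorProduct.map (AlgHom.id Ω Ω) (f.hom.app ξ.base)) with hψ
  have hinj : Function.Injective ψ.toRingHom := by
    intro a b hab
    have hab' : ψ a = ψ b := hab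
    rw [hψ, tensorMap_eq_lTensor, tensorMap_eq_lTensor] at hab'
    exact lTensor_injective_of_injective (f.hom.app ξ.base) hf Ω hab'
  have hint : ψ.toRingHom.IsIntegral := by
    apply RingHom.IsIntegral.tower_top (algebraMap Ω (Ω ⊗[X.ring ξ.base] A.obj.carrier ξ.base))
    have : ψ.toRingHom.comp (algebraMap Ω (Ω ⊗[X.ring ξ.base] A.obj.carrier ξ.base)) =
        algebraMap Ω (Ω ⊗[X.ring ξ.base] B.obj.carrier ξ.base) := by
      ext ω
      exact ψ.commutes ω
    rw [this]
    exact (Algebra.IsIntegral.of_finite Ω (Ω ⊗[X.ring ξ.base] B.obj.carrier ξ.base)).isIntegral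
  exact RingHom.IsIntegral.comap_surjective hint hinj

/-- a morphism inducing a surjection on fibres is pointwise injective,
given local triviality of étale covers -/
theorem injective_of_fibMap_surjective (hX : X.IsSchematic)
    (hlt : ∀ A : FEt X, ∃ (B : Alg X) (n : ℕ), B.IsCovering ∧
      ∀ p : X.pt, Nonempty (TensorProduct (X.ring p) (B.carrier p) (A.obj.carrier p)
        ≃ₐ[B.carrier p] (Fin n → B.carrier p)))
    {A B : FEt X} (s : A ⟶ B)
    (hfib : Function.Surjective (ξ.fibMap s.hom)) (p : X.pt) :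
    Function.Injective (s.hom.app p) := by
  have hker : ∀ p, ∃ e : A.obj.carrier p, IsIdempotentElem e ∧
      RingHom.ker (s.hom.app p) = Ideal.span {e} := fun p => by
    haveI := hX.1.1 p
    haveI := (A.property.2 p).2
    haveI := (B.property.2 p).1
    haveI := (B.property.2 p).2
    exact exists_idempotent_ker (s.hom.app p)
  choose e he hke using hker
  have hc : ∀ {p q : X.pt} (h : p ≤ q), A.obj.res h (e p) = e q := fun {p q} h =>
    Alg.res_idem_eq s.hom hX.1 A.property.1 B.property.1 h (e p) (he p) (hke p) (e q) (he q) (hke q)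
  have hc' : ∀ {p q : X.pt} (h : p ≤ q), A.obj.res h (1 - e p) = 1 - e q := fun {p q} h => by
    rw [map_sub, map_one, hc h]
  have he' : ∀ p, IsIdempotentElem (1 - e p) := fun p => (he p).one_sub
  let D : FEt X := ⟨Alg.quot A.obj (fun p => 1 - e p) hc',
    Alg.quot_isEtCover A.obj (fun p => 1 - e p) hc' he' A.property⟩
  obtain ⟨B₀, n, hB₀, htriv⟩ := hlt D
  have hrank : ∀ (p : X.pt) (P : PrimeSpectrum (X.ring p)),
      Module.rankAtStalk (D.obj.carrier p) P = n := rankAtStalk_eq_of_locTriv D B₀ n hB₀ htriv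
  -- the fibre of `D` is empty
  letI : Algebra (X.ring ξ.base) Ω := ξ.toField.toAlgebra
  have h0 : (1 : Ω) ⊗ₜ[X.ring ξ.base] (e ξ.base) = 0 := by
    have hidem : IsIdempotentElem ((1 : Ω) ⊗ₜ[X.ring ξ.base] (e ξ.base)) := by
      change _ * _ = _
      rw [Algebra.TensorProduct.tmul_mul_tmul, one_mul, (he ξ.base).eq]
    apply hidem.eq_zero_of_isNilpotent
    rw [nilpotent_iff_mem_prime]
    intro 𝔓 h𝔓
    obtain ⟨𝔔, h𝔔⟩ := hfib ⟨𝔓, h𝔓⟩
    have h1 : (1 : Ω) ⊗ₜ[X.ring ξ.base] (e ξ.base) ∈ (ξ.fibMap s.hom 𝔔).asIdeal := by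
      change (Algebra.TensorProduct.map (AlgHom.id Ω Ω) (s.hom.app ξ.base))
        ((1 : Ω) ⊗ₜ[X.ring ξ.base] (e ξ.base)) ∈ 𝔔.asIdeal
      rw [Algebra.TensorProduct.map_tmul]
      have : s.hom.app ξ.base (e ξ.base) = 0 := by
        have : e ξ.base ∈ RingHom.ker (s.hom.app ξ.base) := hke ξ.base ▸ Ideal.subset_span rfl
        exact this
      rw [this, TensorProduct.tmul_zero]
      exact 𝔔.asIdeal.zero_mem
    rw [h𝔔] at h1
    exact h1
  have hsub : Subsingleton (Ω ⊗[X.ring ξ.base] D.obj.carrier ξ.base) := by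
    have h1 : (1 : Ω ⊗[X.ring ξ.base] D.obj.carrier ξ.base) = 0 := by
      have h2 : (Ideal.Quotient.mk (Ideal.span {1 - e ξ.base}) (1 : A.obj.carrier ξ.base)) =
          Ideal.Quotient.mk (Ideal.span {1 - e ξ.base}) (e ξ.base) := by
        rw [Ideal.Quotient.eq]
        exact Ideal.subset_span rfl
      have h3 : (1 : Ω ⊗[X.ring ξ.base] D.obj.carrier ξ.base) =
          (Algebra.TensorProduct.map (AlgHom.id Ω Ω)
            (Ideal.Quotient.mkₐ (X.ring ξ.base) (Ideal.span {1 - e ξ.base})))
            ((1 : Ω) ⊗ₜ[X.ring ξ.base] (e ξ.base)) := by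
        rw [Algebra.TensorProduct.map_tmul, Algebra.TensorProduct.one_def]
        congr 1
      rw [h3, h0]
      exact map_zero _
    exact subsingleton_of_zero_eq_one h1.symm
  have hn : n = 0 := by
    have h1 := card_fib_eq_rankAtStalk ξ D
    rw [hrank] at h1
    have h2 : IsEmpty (ξ.Fib D.obj) := by
      change IsEmpty (PrimeSpectrum (Ω ⊗[X.ring ξ.base] D.obj.carrier ξ.base))
      infer_instance
    rw [Nat.card_of_isEmpty] at h1
    exact_mod_cast h1.symm
  -- hence `D` vanishes everywhere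
  have hD : Subsingleton (D.obj.carrier p) := by
    haveI := (D.property.2 p).1
    haveI := (D.property.2 p).2
    rw [← Module.support_eq_empty_iff (R := X.ring p), Set.eq_empty_iff_forall_notMem]
    intro P
    rw [← Module.rankAtStalk_eq_zero_iff_notMem_support, hrank, hn]
  have hep : e p = 0 := by
    have h1 : Ideal.Quotient.mk (Ideal.span {1 - e p}) (1 : A.obj.carrier p) = 0 :=
      @Subsingleton.elim _ hD _ _
    rw [Ideal.Quotient.eq_zero_iff_mem] at h1
    obtain ⟨c, hc1⟩ := Ideal.mem_span_singleton'.1 h1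
    calc e p = e p * 1 := (mul_one _).symm
      _ = e p * (c * (1 - e p)) := by rw [hc1]
      _ = c * (e p - e p * e p) := by ring
      _ = 0 := by rw [(he p).eq, sub_self, mul_zero]
  rw [RingHom.injective_iff_ker_eq_bot]
  have := hke p
  rw [hep] at this
  rw [this]
  simp

theorem reflectsIsomorphisms_fibFunctor (hX : X.IsSchematic)
    (hlt : ∀ A : FEt X, ∃ (B : Alg X) (n : ℕ), B.IsCovering ∧
      ∀ p : X.pt, Nonempty (TensorProduct (X.ring p) (B.carrier p) (A.obj.carrier p)
        ≃ₐ[B.carrier p] (Fin n → B.carrier p))) :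
    ξ.fibFunctor.ReflectsIsomorphisms := by
  constructor
  intro A B f hiso
  have hbij : Function.Bijective (ξ.fibMap f.unop.hom) :=
    ConcreteCategory.bijective_of_isIso (ξ.fibFunctor.map f)
  have hinj : ∀ p, Function.Injective (f.unop.hom.app p) :=
    injective_of_fibMap_surjective ξ hX hlt f.unop hbij.2
  have hcard : Nat.card (ξ.Fib A.unop.obj) = Nat.card (ξ.Fib B.unop.obj) :=
    Nat.card_congr (Equiv.ofBijective _ hbij)
  obtain ⟨B₁, n₁, hB₁, ht₁⟩ := hlt A.unop
  obtain ⟨B₂, n₂, hB₂, ht₂⟩ := hlt B.unop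
  have r1 := rankAtStalk_eq_of_locTriv A.unop B₁ n₁ hB₁ ht₁
  have r2 := rankAtStalk_eq_of_locTriv B.unop B₂ n₂ hB₂ ht₂
  have hn : n₁ = n₂ := by
    rw [card_fib_eq_rankAtStalk, card_fib_eq_rankAtStalk, r1, r2] at hcard
    exact hcard
  haveI : IsIso f.unop := FEt.isIso_of_injective_of_rankAtStalk_eq f.unop hinj
    (fun p P => by rw [r1, r2, hn])
  exact (isIso_unop_iff f).1 inferInstance

end FibCard

end Groth.Agent.Lib.Helper79.SchFinLib
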