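import Mathlib
import Groth.Prelude.Def_SchFin2
import Groth.Agent.Lib.Helper79.SchFinReflect
import Groth.Agent.Lib.Helper79.SchFinFintype

set_option autoImplicit false
set_option linter.style.haveILetI false
universe u
open SchFin TensorProduct CategoryTheory CategoryTheory.Limits

namespace Groth.Agent.Lib.Helper79.SchFinLib

section Phi
variable {R Ω A B : Type u} [CommRing R] [Field Ω] [Algebra R Ω]
  [CommRing A] [Algebra R A] [CommRing B] [Algebra R B]

/-- the point of `Spec (Ω ⊗ A)` attached to an algebra map `A → Ω` -/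
noncomputable def phi (h : A →ₐ[R] Ω) : PrimeSpectrum (Ω ⊗[R] A) :=
  PrimeSpectrum.comap (Algebra.TensorProduct.productMap (AlgHom.id R Ω) h).toRingHom
    ⟨⊥, Ideal.isPrime_bot⟩

theorem mem_phi (h : A →ₐ[R] Ω) (t : Ω ⊗[R] A) :
    t ∈ (phi h).asIdeal ↔ Algebra.TensorProduct.productMap (AlgHom.id R Ω) h t = 0 := Iff.rfl

/-- naturality -/
theorem phi_comp (f : A →ₐ[R] B) (h : B →ₐ[R] Ω) :
    phi (h.comp f) = PrimeSpectrum.comap
      (Algebra.TensorProduct.map (AlgHom.id Ω Ω) f).toRingHom (phi h) := by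
  apply PrimeSpectrum.ext
  ext t
  rw [mem_phi]
  change _ ↔ Algebra.TensorProduct.productMap (AlgHom.id R Ω) h
    ((Algebra.TensorProduct.map (AlgHom.id Ω Ω) f) t) = 0
  have key : ∀ t : Ω ⊗[R] A, Algebra.TensorProduct.productMap (AlgHom.id R Ω) (h.comp f) t =
      Algebra.TensorProduct.productMap (AlgHom.id R Ω) h
        ((Algebra.TensorProduct.map (AlgHom.id Ω Ω) f) t) := by
    intro t
    induction t using TensorProduct.induction_on with
    | zero => rw [map_zero, map_zero, map_zero]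
    | tmul ω a => rfl
    | add x y hx hy => rw [map_add, map_add, map_add, hx, hy]
  rw [key]

theorem phi_injective : Function.Injective (phi (R := R) (Ω := Ω) (A := A)) := by
  intro h₁ h₂ h12
  -- the Ω-algebra maps
  have key : ∀ t : Ω ⊗[R] A,
      Algebra.TensorProduct.productMap (AlgHom.id R Ω) h₁ t =
        Algebra.TensorProduct.productMap (AlgHom.id R Ω) h₂ t := by
    intro t
    set H₁ := Algebra.TensorProduct.productMap (AlgHom.id R Ω) h₁
    set H₂ := Algebra.TensorProduct.productMap (AlgHom.id R Ω) h₂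
    have h0 : H₁ (t - (H₁ t) ⊗ₜ[R] (1 : A)) = 0 := by
      rw [map_sub, Algebra.TensorProduct.productMap_apply_tmul, map_one, mul_one]
      exact sub_self _
    have h0' : H₂ (t - (H₁ t) ⊗ₜ[R] (1 : A)) = 0 := by
      rw [← mem_phi, ← h12, mem_phi]
      exact h0
    rw [map_sub, Algebra.TensorProduct.productMap_apply_tmul, map_one, mul_one, sub_eq_zero] at h0'
    exact h0'.symm
  apply AlgHom.ext
  intro a
  have := key ((1 : Ω) ⊗ₜ[R] a)
  rw [Algebra.TensorProduct.productMap_apply_tmul, Algebra.TensorProduct.productMap_apply_tmul,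
    map_one, one_mul, one_mul] at this
  exact this

theorem phi_surjective [IsAlgClosed Ω] [Module.Finite R A] :
    Function.Surjective (phi (R := R) (Ω := Ω) (A := A)) := by
  intro 𝔓
  haveI : 𝔓.asIdeal.IsPrime := 𝔓.2
  haveI : Module.Finite Ω ((Ω ⊗[R] A) ⧸ 𝔓.asIdeal) :=
    Module.Finite.of_surjective (Ideal.Quotient.mkₐ Ω 𝔓.asIdeal).toLinearMap
      (Ideal.Quotient.mkₐ_surjective Ω _)
  haveI : Algebra.IsIntegral Ω ((Ω ⊗[R] A) ⧸ 𝔓.asIdeal) := Algebra.IsIntegral.of_finite _ _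
  have hbij : Function.Bijective (algebraMap Ω ((Ω ⊗[R] A) ⧸ 𝔓.asIdeal)) :=
    IsAlgClosed.algebraMap_bijective_of_isIntegral
  let ε : ((Ω ⊗[R] A) ⧸ 𝔓.asIdeal) ≃ₐ[Ω] Ω :=
    (AlgEquiv.ofBijective (Algebra.ofId Ω ((Ω ⊗[R] A) ⧸ 𝔓.asIdeal)) hbij).symm
  let H : (Ω ⊗[R] A) →ₐ[Ω] Ω := ε.toAlgHom.comp (Ideal.Quotient.mkₐ Ω 𝔓.asIdeal)
  let h : A →ₐ[R] Ω := (H.restrictScalars R).comp Algebra.TensorProduct.includeRight
  refine ⟨h, ?_⟩
  have hH : ∀ t : Ω ⊗[R] A, Algebra.TensorProduct.productMap (AlgHom.id R Ω) h t = H t := by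
    intro t
    induction t using TensorProduct.induction_on with
    | zero => rw [map_zero, map_zero]
    | tmul ω a =>
        rw [Algebra.TensorProduct.productMap_apply_tmul]
        change ω * H ((1 : Ω) ⊗ₜ[R] a) = H (ω ⊗ₜ[R] a)
        have : ω ⊗ₜ[R] a = ω • ((1 : Ω) ⊗ₜ[R] a) := by
          rw [TensorProduct.smul_tmul', smul_eq_mul, mul_one]
        rw [this, map_smul, smul_eq_mul]
    | add x y hx hy => rw [map_add, map_add, hx, hy]
  apply PrimeSpectrum.ext
  ext t
  rw [mem_phi, hH]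
  change ε (Ideal.Quotient.mk 𝔓.asIdeal t) = 0 ↔ t ∈ 𝔓.asIdeal
  rw [map_eq_zero_iff ε ε.injective, Ideal.Quotient.eq_zero_iff_mem]

end Phi

end Groth.Agent.Lib.Helper79.SchFinLib
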