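import Mathlib
import Groth.Prelude.Def_SchFin2
import Groth.Agent.Lib.Helper79.SchFinPhi

set_option autoImplicit false
set_option linter.style.haveILetI false
universe u
open SchFin TensorProduct CategoryTheory CategoryTheory.Limits

namespace Groth.Agent.Lib.Helper79.SchFinLib

section ExplicitCoeq
variable {X : RSpace.{u}}

/-- explicit coequalizers in étale covers, with a pointwise description -/
theorem FEt.exists_coeq (hX : X.IsFinSp) {C A : FEt X} (f g : C ⟶ A) :
    ∃ (Q : FEt X) (π : A ⟶ Q) (hπ : f ≫ π = g ≫ π), Nonempty (IsColimit (Cofork.ofπ π hπ)) ∧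
      (∀ p, Function.Surjective (π.hom.app p)) ∧
      ∀ p, RingHom.ker (π.hom.app p) =
        Ideal.span (Set.range fun c => g.hom.app p c - f.hom.app p c) := by
  have hex : ∀ p, ∃ ε : A.obj.carrier p, IsIdempotentElem ε ∧
      Ideal.span {ε} = Ideal.span (Set.range fun c => g.hom.app p c - f.hom.app p c) := fun p => by
    haveI := hX.1 p
    haveI := (C.property.2 p).1
    haveI := (C.property.2 p).2
    exact exists_idem_coeq (f.hom.app p) (g.hom.app p)
  choose ε hε hJ using hex
  have hc : ∀ {p q : X.pt} (h : p ≤ q), A.obj.res h (ε p) = ε q := by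
    intro p q h
    apply eq_of_span_eq_of_idem ((hε p).map (A.obj.res h)) (hε q)
    rw [hJ q, ← Alg.map_span_diff f.hom g.hom C.property.1 h, ← hJ p, Ideal.map_span,
      Set.image_singleton]
  let Q : FEt X := ⟨Alg.quot A.obj ε hc, Alg.quot_isEtCover A.obj ε hc hε A.property⟩
  let π : A ⟶ Q := ObjectProperty.homMk (Alg.toQuot A.obj ε hc)
  have hπ : f ≫ π = g ≫ π := by
    apply ObjectProperty.hom_ext
    apply Alg.hom_ext
    intro p
    apply AlgHom.ext
    intro c
    change Ideal.Quotient.mk (Ideal.span {ε p}) (f.hom.app p c) =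
      Ideal.Quotient.mk (Ideal.span {ε p}) (g.hom.app p c)
    rw [Ideal.Quotient.eq, hJ p, ← neg_sub]
    exact Ideal.neg_mem_iff _ |>.2 (Ideal.subset_span ⟨c, rfl⟩)
  have hkill : ∀ (s : Cofork f g) (p : X.pt), s.π.hom.app p (ε p) = 0 := by
    intro s p
    have h1 : ε p ∈ Ideal.span (Set.range fun c => g.hom.app p c - f.hom.app p c) :=
      hJ p ▸ Ideal.subset_span rfl
    have h2 : Ideal.span (Set.range fun c => g.hom.app p c - f.hom.app p c) ≤
        RingHom.ker (s.π.hom.app p) := by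
      rw [Ideal.span_le]
      rintro _ ⟨c, rfl⟩
      change s.π.hom.app p (g.hom.app p c - f.hom.app p c) = 0
      rw [map_sub, sub_eq_zero]
      have := congrArg (fun k => k.hom.app p c) s.condition
      exact this.symm
    exact h2 h1
  refine ⟨Q, π, hπ, ⟨Cofork.IsColimit.mk _
    (fun s => ObjectProperty.homMk (Alg.quotDesc A.obj ε hc s.π.hom (hkill s))) ?_ ?_⟩, ?_, ?_⟩
  · intro s
    apply ObjectProperty.hom_ext
    exact Alg.toQuot_quotDesc A.obj ε hc s.π.hom (hkill s)
  · intro s m hm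
    apply ObjectProperty.hom_ext
    exact Alg.quotDesc_uniq A.obj ε hc s.π.hom (hkill s) m.hom (congrArg (fun k => k.hom) hm)
  · intro p
    exact Ideal.Quotient.mk_surjective
  · intro p
    rw [← hJ p]
    exact Ideal.mk_ker

/-- explicit pushouts in étale covers, with a pointwise description -/
theorem FEt.exists_pushout (hX : X.IsFinSp) {Z A B : FEt X} (f : Z ⟶ A) (g : Z ⟶ B) :
    ∃ (P : FEt X) (π : FEt.tensor A B ⟶ P)
      (comm : f ≫ (ObjectProperty.homMk (Alg.tensorInl A.obj B.obj) : A ⟶ FEt.tensor A B) ≫ π =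
        g ≫ (ObjectProperty.homMk (Alg.tensorInr A.obj B.obj) : B ⟶ FEt.tensor A B) ≫ π),
      Nonempty (IsColimit (PushoutCocone.mk _ _ comm)) ∧
      (∀ p, Function.Surjective (π.hom.app p)) ∧
      ∀ p, RingHom.ker (π.hom.app p) = Ideal.span (Set.range fun c : Z.obj.carrier p =>
        ((1 : A.obj.carrier p) ⊗ₜ[X.ring p] g.hom.app p c) -
          (f.hom.app p c ⊗ₜ[X.ring p] (1 : B.obj.carrier p))) := by
  set inl : A ⟶ FEt.tensor A B := ObjectProperty.homMk (Alg.tensorInl A.obj B.obj) with hinl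
  set inr : B ⟶ FEt.tensor A B := ObjectProperty.homMk (Alg.tensorInr A.obj B.obj) with hinr
  have hT : IsColimit (BinaryCofan.mk inl inr) := FEt.tensorIsColimit A B
  obtain ⟨P, π, hπ, ⟨hQ⟩, hsurj, hker⟩ := FEt.exists_coeq hX (f ≫ inl) (g ≫ inr)
  have comm : f ≫ inl ≫ π = g ≫ inr ≫ π := by
    rw [← Category.assoc, ← Category.assoc]
    exact hπ
  refine ⟨P, π, comm, ⟨?_⟩, hsurj, fun p => (hker p).trans rfl⟩
  let l : ∀ s : PushoutCocone f g, FEt.tensor A B ⟶ s.pt := fun s =>
    ObjectProperty.homMk (Alg.tensorDesc s.inl.hom s.inr.hom)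
  have hl1 : ∀ s : PushoutCocone f g, inl ≫ l s = s.inl := fun s => by
    apply ObjectProperty.hom_ext
    exact Alg.tensorDesc_inl s.inl.hom s.inr.hom
  have hl2 : ∀ s : PushoutCocone f g, inr ≫ l s = s.inr := fun s => by
    apply ObjectProperty.hom_ext
    exact Alg.tensorDesc_inr s.inl.hom s.inr.hom
  have hluniq : ∀ (s : PushoutCocone f g) (k : FEt.tensor A B ⟶ s.pt),
      inl ≫ k = s.inl → inr ≫ k = s.inr → k = l s := fun s k h1 h2 => by
    apply ObjectProperty.hom_ext
    exact Alg.tensorDesc_uniq s.inl.hom s.inr.hom k.hom (congrArg (fun j => j.hom) h1)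
      (congrArg (fun j => j.hom) h2)
  have hcond : ∀ s : PushoutCocone f g, (f ≫ inl) ≫ l s = (g ≫ inr) ≫ l s := fun s => by
    rw [Category.assoc, Category.assoc, hl1, hl2]
    exact s.condition
  let m : ∀ s : PushoutCocone f g, P ⟶ s.pt := fun s =>
    (Cofork.IsColimit.desc' hQ (l s) (hcond s)).1
  have hm : ∀ s : PushoutCocone f g, π ≫ m s = l s := fun s =>
    (Cofork.IsColimit.desc' hQ (l s) (hcond s)).2
  refine PushoutCocone.IsColimit.mk comm m ?_ ?_ ?_
  · intro s
    rw [Category.assoc, hm, hl1]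
  · intro s
    rw [Category.assoc, hm, hl2]
  · intro s k hk1 hk2
    apply Cofork.IsColimit.hom_ext hQ
    change π ≫ k = π ≫ m s
    rw [hm]
    apply hluniq
    · rw [← Category.assoc]; exact hk1
    · rw [← Category.assoc]; exact hk2

end ExplicitCoeq

end Groth.Agent.Lib.Helper79.SchFinLib
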