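import Mathlib
import Groth.Prelude.Def_SchFin2
import Groth.Agent.Lib.Helper79.SchFinPushout

set_option autoImplicit false
set_option linter.style.haveILetI false
universe u
open SchFin TensorProduct CategoryTheory CategoryTheory.Limits

namespace Groth.Agent.Lib.Helper79.SchFinLib

section Crit
variable {R Ω A B Z Q : Type u} [CommRing R] [Field Ω] [IsAlgClosed Ω] [Algebra R Ω]
    [CommRing A] [Algebra R A] [CommRing B] [Algebra R B] [CommRing Z] [Algebra R Z]
    [CommRing Q] [Algebra R Q]

/-- the fibre criterion for pushouts of finite algebras -/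
theorem pullback_crit [Module.Finite R A] [Module.Finite R B] [Module.Finite R Q]
    (f : Z →ₐ[R] A) (g : Z →ₐ[R] B) (π : A ⊗[R] B →ₐ[R] Q) (hπ : Function.Surjective π)
    (hker : RingHom.ker π =
      Ideal.span (Set.range fun c : Z => (1 : A) ⊗ₜ[R] g c - f c ⊗ₜ[R] (1 : B)))
    (a : PrimeSpectrum (Ω ⊗[R] A)) (b : PrimeSpectrum (Ω ⊗[R] B))
    (hab : PrimeSpectrum.comap (Algebra.TensorProduct.map (AlgHom.id Ω Ω) f).toRingHom a =
      PrimeSpectrum.comap (Algebra.TensorProduct.map (AlgHom.id Ω Ω) g).toRingHom b) :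
    ∃! p : PrimeSpectrum (Ω ⊗[R] Q),
      PrimeSpectrum.comap (Algebra.TensorProduct.map (AlgHom.id Ω Ω)
        (π.comp Algebra.TensorProduct.includeLeft)).toRingHom p = a ∧
      PrimeSpectrum.comap (Algebra.TensorProduct.map (AlgHom.id Ω Ω)
        (π.comp Algebra.TensorProduct.includeRight)).toRingHom p = b := by
  obtain ⟨hA, rfl⟩ := phi_surjective (R := R) (Ω := Ω) a
  obtain ⟨hB, rfl⟩ := phi_surjective (R := R) (Ω := Ω) b
  rw [← phi_comp, ← phi_comp] at hab
  have hfg : hA.comp f = hB.comp g := phi_injective hab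
  let hT : A ⊗[R] B →ₐ[R] Ω := Algebra.TensorProduct.productMap hA hB
  have hle : RingHom.ker π.toRingHom ≤ RingHom.ker hT.toRingHom := by
    change RingHom.ker π ≤ RingHom.ker hT
    rw [hker, Ideal.span_le]
    rintro _ ⟨c, rfl⟩
    change hT ((1 : A) ⊗ₜ[R] g c - f c ⊗ₜ[R] (1 : B)) = 0
    rw [map_sub, Algebra.TensorProduct.productMap_apply_tmul,
      Algebra.TensorProduct.productMap_apply_tmul, map_one, map_one, one_mul, mul_one, sub_eq_zero]
    exact (congrArg (fun k => k c) hfg).symm
  let hQ : Q →ₐ[R] Ω := AlgHom.liftOfSurjective π hπ hT hle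
  have hQπ : hQ.comp π = hT := AlgHom.liftOfSurjective_comp π hπ hT hle
  have h1 : hQ.comp (π.comp Algebra.TensorProduct.includeLeft) = hA := by
    rw [← AlgHom.comp_assoc, hQπ]
    exact Algebra.TensorProduct.productMap_left _ _
  have h2 : hQ.comp (π.comp Algebra.TensorProduct.includeRight) = hB := by
    rw [← AlgHom.comp_assoc, hQπ]
    exact Algebra.TensorProduct.productMap_right _ _
  refine ⟨phi hQ, ⟨?_, ?_⟩, ?_⟩
  · rw [← phi_comp, h1]
  · rw [← phi_comp, h2]
  · rintro p ⟨hp1, hp2⟩
    obtain ⟨hQ', rfl⟩ := phi_surjective (R := R) (Ω := Ω) p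
    rw [← phi_comp] at hp1 hp2
    have e1 := phi_injective hp1
    have e2 := phi_injective hp2
    congr 1
    have e3 : hQ'.comp π = hT := by
      apply Algebra.TensorProduct.ext'
      intro x y
      have hx : (hQ'.comp π) (x ⊗ₜ[R] (1 : B)) = hA x := congrArg (fun k => k x) e1
      have hy : (hQ'.comp π) ((1 : A) ⊗ₜ[R] y) = hB y := congrArg (fun k => k y) e2
      have hxy : x ⊗ₜ[R] y = (x ⊗ₜ[R] (1 : B)) * ((1 : A) ⊗ₜ[R] y) := by
        rw [Algebra.TensorProduct.tmul_mul_tmul, mul_one, one_mul]
      rw [hxy, map_mul, hx, hy]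
      change _ = hT _
      rw [map_mul]
      change _ = Algebra.TensorProduct.productMap hA hB _ * Algebra.TensorProduct.productMap hA hB _
      rw [Algebra.TensorProduct.productMap_apply_tmul,
        Algebra.TensorProduct.productMap_apply_tmul, map_one, map_one, one_mul, mul_one]
    apply AlgHom.ext
    intro q
    obtain ⟨t, rfl⟩ := hπ q
    have := congrArg (fun k => k t) (e3.trans hQπ.symm)
    exact this

end Crit

section Crit2
variable {R Ω A B : Type u} [CommRing R] [Field Ω] [Algebra R Ω]
    [CommRing A] [Algebra R A] [CommRing B] [Algebra R B]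

theorem fib_fst_injective : Function.Injective (PrimeSpectrum.comap
    (Algebra.TensorProduct.map (AlgHom.id Ω Ω) (AlgHom.fst R A B)).toRingHom) := by
  apply PrimeSpectrum.comap_injective_of_surjective
  exact Algebra.TensorProduct.map_surjective (AlgHom.id Ω Ω) (AlgHom.fst R A B)
    Function.surjective_id Prod.fst_surjective

theorem fib_snd_injective : Function.Injective (PrimeSpectrum.comap
    (Algebra.TensorProduct.map (AlgHom.id Ω Ω) (AlgHom.snd R A B)).toRingHom) := by
  apply PrimeSpectrum.comap_injective_of_surjective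
  exact Algebra.TensorProduct.map_surjective (AlgHom.id Ω Ω) (AlgHom.snd R A B)
    Function.surjective_id Prod.snd_surjective

theorem fib_fst_ne_snd (a : PrimeSpectrum (Ω ⊗[R] A)) (b : PrimeSpectrum (Ω ⊗[R] B)) :
    PrimeSpectrum.comap (Algebra.TensorProduct.map (AlgHom.id Ω Ω) (AlgHom.fst R A B)).toRingHom a ≠
      PrimeSpectrum.comap
        (Algebra.TensorProduct.map (AlgHom.id Ω Ω) (AlgHom.snd R A B)).toRingHom b := by
  intro hab
  have h1 : ((1 : Ω) ⊗ₜ[R] ((1, 0) : A × B)) ∈ (PrimeSpectrum.comap
      (Algebra.TensorProduct.map (AlgHom.id Ω Ω) (AlgHom.snd R A B)).toRingHom b).asIdeal := by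
    change (Algebra.TensorProduct.map (AlgHom.id Ω Ω) (AlgHom.snd R A B))
      ((1 : Ω) ⊗ₜ[R] ((1, 0) : A × B)) ∈ b.asIdeal
    rw [Algebra.TensorProduct.map_tmul]
    change (1 : Ω) ⊗ₜ[R] (0 : B) ∈ b.asIdeal
    rw [TensorProduct.tmul_zero]
    exact zero_mem _
  rw [← hab] at h1
  have h2 : (Algebra.TensorProduct.map (AlgHom.id Ω Ω) (AlgHom.fst R A B))
      ((1 : Ω) ⊗ₜ[R] ((1, 0) : A × B)) ∈ a.asIdeal := h1
  rw [Algebra.TensorProduct.map_tmul] at h2
  have h3 : (1 : Ω ⊗[R] A) ∈ a.asIdeal := h2
  exact a.2.ne_top ((Ideal.eq_top_iff_one _).2 h3)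

theorem fib_prod_cover [IsAlgClosed Ω] [Module.Finite R A] [Module.Finite R B]
    (p : PrimeSpectrum (Ω ⊗[R] (A × B))) :
    (∃ a, PrimeSpectrum.comap
      (Algebra.TensorProduct.map (AlgHom.id Ω Ω) (AlgHom.fst R A B)).toRingHom a = p) ∨
    ∃ b, PrimeSpectrum.comap
      (Algebra.TensorProduct.map (AlgHom.id Ω Ω) (AlgHom.snd R A B)).toRingHom b = p := by
  obtain ⟨h, rfl⟩ := phi_surjective (R := R) (Ω := Ω) p
  have hidem : h (1, 0) * h (1, 0) = h (1, 0) := by
    rw [← map_mul]
    congr 1
    ext <;> simp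
  have hsum : h (1, 0) + h (0, 1) = 1 := by
    rw [← map_add, ← map_one h]
    congr 1
    ext <;> simp
  have h01 : h (1, 0) = 0 ∨ h (1, 0) = 1 := by
    have : h (1, 0) * (h (1, 0) - 1) = 0 := by rw [mul_sub, hidem, mul_one, sub_self]
    rcases mul_eq_zero.1 this with h0 | h0
    · exact Or.inl h0
    · exact Or.inr (sub_eq_zero.1 h0)
  rcases h01 with he | he
  · -- factors through snd
    right
    have he' : h (0, 1) = 1 := by rw [he, zero_add] at hsum; exact hsum
    let hB : B →ₐ[R] Ω :=
      { toFun := fun b => h (0, b)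
        map_one' := he'
        map_mul' := fun b b' => by
          rw [← map_mul]; congr 1; ext <;> simp
        map_zero' := map_zero h
        map_add' := fun b b' => by
          rw [← map_add]; congr 1; ext <;> simp
        commutes' := fun r => by
          have : ((0, algebraMap R B r) : A × B) = algebraMap R (A × B) r * (0, 1) := by
            ext <;> simp
          rw [this, map_mul, AlgHom.commutes, he', mul_one] }
    refine ⟨phi hB, ?_⟩
    rw [← phi_comp]
    congr 1
    apply AlgHom.ext
    rintro ⟨a, b⟩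
    change h (0, b) = h (a, b)
    have : ((a, b) : A × B) = (a, 0) * (1, 0) + (0, b) := by ext <;> simp
    rw [this, map_add, map_mul, he, mul_zero, zero_add]
  · left
    have he' : h (0, 1) = 0 := by rw [he] at hsum; exact add_eq_left.1 hsum
    let hA : A →ₐ[R] Ω :=
      { toFun := fun a => h (a, 0)
        map_one' := he
        map_mul' := fun b b' => by
          rw [← map_mul]; congr 1; ext <;> simp
        map_zero' := map_zero h
        map_add' := fun b b' => by
          rw [← map_add]; congr 1; ext <;> simp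
        commutes' := fun r => by
          have : ((algebraMap R A r, 0) : A × B) = algebraMap R (A × B) r * (1, 0) := by
            ext <;> simp
          rw [this, map_mul, AlgHom.commutes, he, mul_one] }
    refine ⟨phi hA, ?_⟩
    rw [← phi_comp]
    congr 1
    apply AlgHom.ext
    rintro ⟨a, b⟩
    change h (a, 0) = h (a, b)
    have : ((a, b) : A × B) = (a, 0) + (0, b) * (0, 1) := by ext <;> simp
    rw [this, map_add, map_mul, he', mul_zero, add_zero]

end Crit2

section Cat
variable {C : Type*} [Category C]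

/-- a pushout cocone gives a pullback cone in the opposite category -/
noncomputable def isLimitOpOfIsColimit {Z A B P : C} {f : Z ⟶ A} {g : Z ⟶ B} {i : A ⟶ P} {j : B ⟶ P}
    (comm : f ≫ i = g ≫ j) (h : IsColimit (PushoutCocone.mk i j comm)) :
    IsLimit (PullbackCone.mk (f := f.op) (g := g.op) i.op j.op
      (by rw [← op_comp, ← op_comp, comm])) :=
  PullbackCone.IsLimit.mk _
    (fun s => (PushoutCocone.IsColimit.desc h s.fst.unop s.snd.unop
      (congrArg Quiver.Hom.unop s.condition)).op)
    (fun s => by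
      apply Quiver.Hom.unop_inj
      exact PushoutCocone.IsColimit.inl_desc h s.fst.unop s.snd.unop
        (congrArg Quiver.Hom.unop s.condition))
    (fun s => by
      apply Quiver.Hom.unop_inj
      exact PushoutCocone.IsColimit.inr_desc h s.fst.unop s.snd.unop
        (congrArg Quiver.Hom.unop s.condition))
    (fun s m h1 h2 => by
      apply Quiver.Hom.unop_inj
      apply PushoutCocone.IsColimit.hom_ext h
      · exact (congrArg Quiver.Hom.unop h1).trans
          (PushoutCocone.IsColimit.inl_desc h s.fst.unop s.snd.unop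
            (congrArg Quiver.Hom.unop s.condition)).symm
      · exact (congrArg Quiver.Hom.unop h2).trans
          (PushoutCocone.IsColimit.inr_desc h s.fst.unop s.snd.unop
            (congrArg Quiver.Hom.unop s.condition)).symm)

/-- a binary product fan gives a binary coproduct cofan in the opposite category -/
noncomputable def isColimitOpOfIsLimit {A B P : C} {i : P ⟶ A} {j : P ⟶ B}
    (h : IsLimit (BinaryFan.mk i j)) :
    IsColimit (BinaryCofan.mk i.op j.op) :=
  BinaryCofan.IsColimit.mk _
    (fun f g => (BinaryFan.IsLimit.lift' h f.unop g.unop).1.op)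
    (fun f g => by
      apply Quiver.Hom.unop_inj
      exact (BinaryFan.IsLimit.lift' h f.unop g.unop).2.1)
    (fun f g => by
      apply Quiver.Hom.unop_inj
      exact (BinaryFan.IsLimit.lift' h f.unop g.unop).2.2)
    (fun f g m h1 h2 => by
      apply Quiver.Hom.unop_inj
      apply BinaryFan.IsLimit.hom_ext h
      · exact (congrArg Quiver.Hom.unop h1).trans
          (BinaryFan.IsLimit.lift' h f.unop g.unop).2.1.symm
      · exact (congrArg Quiver.Hom.unop h2).trans
          (BinaryFan.IsLimit.lift' h f.unop g.unop).2.2.symm)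

end Cat

section Pres
variable {X : RSpace.{u}} {Ω : Type u} [Field Ω] [IsAlgClosed Ω] (ξ : GeomPt X Ω)

/-- the fibre functor preserves epimorphisms -/
theorem fibFunctor_preservesEpimorphisms (hX : X.IsSchematic) :
    ξ.fibFunctor.PreservesEpimorphisms := by
  constructor
  intro A B f hf
  haveI : Mono f.unop := inferInstance
  have hinj := FEt.injective_of_mono hX f.unop ξ.base
  have hsurj := fibMap_surjective_of_injective ξ f.unop hinj
  exact ConcreteCategory.epi_of_surjective (ξ.fibFunctor.map f) hsurj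

/-- the structure algebra is initial -/
noncomputable def FEt.strIsInitial (X : RSpace.{u}) : IsInitial (FEt.str X) :=
  IsInitial.ofUniqueHom (fun A => ObjectProperty.homMk (Alg.fromStr A.obj))
    (fun A f => by
      apply ObjectProperty.hom_ext
      apply Alg.hom_ext
      intro p
      apply AlgHom.ext
      intro a
      exact (f.hom.app p).commutes a)

/-- the zero algebra is terminal -/
noncomputable def FEt.zeroIsTerminal (X : RSpace.{u}) : IsTerminal (FEt.zero X) :=
  IsTerminal.ofUniqueHom (fun A => ObjectProperty.homMk (Alg.toZero A.obj))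
    (fun A f => by
      apply ObjectProperty.hom_ext
      apply Alg.hom_ext
      intro p
      apply AlgHom.ext
      intro a
      rfl)

/-- the fibre functor preserves the terminal object -/
theorem fibFunctor_preservesTerminal :
    PreservesLimitsOfShape (Discrete PEmpty.{1}) ξ.fibFunctor := by
  letI : Algebra (X.ring ξ.base) Ω := ξ.toField.toAlgebra
  have hT : IsTerminal (Opposite.op (FEt.str X)) := terminalOpOfInitial (FEt.strIsInitial X)
  let e : PrimeSpectrum (Ω ⊗[X.ring ξ.base] X.ring ξ.base) ≃ PrimeSpectrum Ω :=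
    (PrimeSpectrum.comapEquiv
      (Algebra.TensorProduct.rid (X.ring ξ.base) Ω Ω).toRingEquiv).toEquiv
  haveI : Unique (ξ.fibFunctor.obj (Opposite.op (FEt.str X))) := e.unique
  haveI : PreservesLimit (Functor.empty.{0} (FEt X)ᵒᵖ) ξ.fibFunctor :=
    preservesLimit_of_preserves_limit_cone hT
      ((isLimitMapConeEmptyConeEquiv ξ.fibFunctor _).symm
        (FintypeCat.isTerminalOfUnique (ξ.fibFunctor.obj (Opposite.op (FEt.str X)))))
  exact preservesLimitsOfShape_pempty_of_preservesTerminal ξ.fibFunctor

end Pres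

section Pres2
variable {X : RSpace.{u}} {Ω : Type u} [Field Ω] [IsAlgClosed Ω] (ξ : GeomPt X Ω)

theorem fibFunctor_preservesPullback (hX : X.IsSchematic) {A B Z : (FEt X)ᵒᵖ} (f : A ⟶ Z)
    (g : B ⟶ Z) : PreservesLimit (cospan f g) ξ.fibFunctor := by
  letI : Algebra (X.ring ξ.base) Ω := ξ.toField.toAlgebra
  obtain ⟨P, π, comm, ⟨hP⟩, hsurj, hker⟩ := FEt.exists_pushout hX.1 f.unop g.unop
  let i : Opposite.op P ⟶ A :=
    ((ObjectProperty.homMk (Alg.tensorInl A.unop.obj B.unop.obj) :
      A.unop ⟶ FEt.tensor A.unop B.unop) ≫ π).op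
  let j : Opposite.op P ⟶ B :=
    ((ObjectProperty.homMk (Alg.tensorInr A.unop.obj B.unop.obj) :
      B.unop ⟶ FEt.tensor A.unop B.unop) ≫ π).op
  have comm' : i ≫ f = j ≫ g := congrArg Quiver.Hom.op comm
  have hlim : IsLimit (PullbackCone.mk i j comm') := isLimitOpOfIsColimit comm hP
  apply preservesLimit_of_preserves_limit_cone hlim
  refine (isLimitMapConePullbackConeEquiv ξ.fibFunctor comm').symm ?_
  apply FintypeCat.pullbackIsLimit
  intro a b hab
  haveI : Module.Finite (X.ring ξ.base) (A.unop.obj.carrier ξ.base) := (A.unop.property.2 ξ.base).1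
  haveI : Module.Finite (X.ring ξ.base) (B.unop.obj.carrier ξ.base) := (B.unop.property.2 ξ.base).1
  haveI : Module.Finite (X.ring ξ.base) (P.obj.carrier ξ.base) := (P.property.2 ξ.base).1
  exact pullback_crit (f.unop.hom.app ξ.base) (g.unop.hom.app ξ.base) (π.hom.app ξ.base)
    (hsurj _) (hker _) a b hab

theorem fibFunctor_preservesPullbacks (hX : X.IsSchematic) :
    PreservesLimitsOfShape WalkingCospan ξ.fibFunctor := by
  constructor
  intro K
  haveI := fibFunctor_preservesPullback ξ hX (K.map WalkingCospan.Hom.inl)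
    (K.map WalkingCospan.Hom.inr)
  exact preservesLimit_of_iso_diagram ξ.fibFunctor (diagramIsoCospan K).symm

end Pres2

section Pres3
variable {X : RSpace.{u}} {Ω : Type u} [Field Ω] [IsAlgClosed Ω] (ξ : GeomPt X Ω)

theorem fibFunctor_preservesBinaryCoproduct (A B : (FEt X)ᵒᵖ) :
    PreservesColimit (pair A B) ξ.fibFunctor := by
  letI : Algebra (X.ring ξ.base) Ω := ξ.toField.toAlgebra
  let i : A ⟶ Opposite.op (FEt.prod A.unop B.unop) :=
    (ObjectProperty.homMk (Alg.prodFst A.unop.obj B.unop.obj) :
      FEt.prod A.unop B.unop ⟶ A.unop).op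
  let j : B ⟶ Opposite.op (FEt.prod A.unop B.unop) :=
    (ObjectProperty.homMk (Alg.prodSnd A.unop.obj B.unop.obj) :
      FEt.prod A.unop B.unop ⟶ B.unop).op
  have hcolim : IsColimit (BinaryCofan.mk i j) :=
    isColimitOpOfIsLimit (FEt.prodIsLimit A.unop B.unop)
  apply preservesColimit_of_preserves_colimit_cocone hcolim
  refine (isColimitMapCoconeBinaryCofanEquiv ξ.fibFunctor i j).symm ?_
  haveI : Module.Finite (X.ring ξ.base) (A.unop.obj.carrier ξ.base) := (A.unop.property.2 ξ.base).1
  haveI : Module.Finite (X.ring ξ.base) (B.unop.obj.carrier ξ.base) := (B.unop.property.2 ξ.base).1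
  apply FintypeCat.binaryCofanIsColimit
  · exact fib_fst_injective (R := X.ring ξ.base) (Ω := Ω) (A := A.unop.obj.carrier ξ.base)
      (B := B.unop.obj.carrier ξ.base)
  · exact fib_snd_injective (R := X.ring ξ.base) (Ω := Ω) (A := A.unop.obj.carrier ξ.base)
      (B := B.unop.obj.carrier ξ.base)
  · intro a b
    exact fib_fst_ne_snd (R := X.ring ξ.base) (Ω := Ω) (A := A.unop.obj.carrier ξ.base)
      (B := B.unop.obj.carrier ξ.base) a b
  · intro p
    exact fib_prod_cover (R := X.ring ξ.base) (Ω := Ω) (A := A.unop.obj.carrier ξ.base)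
      (B := B.unop.obj.carrier ξ.base) p

theorem fibFunctor_preservesBinaryCoproducts :
    PreservesColimitsOfShape (Discrete WalkingPair) ξ.fibFunctor := by
  constructor
  intro K
  haveI := fibFunctor_preservesBinaryCoproduct ξ (K.obj ⟨WalkingPair.left⟩)
    (K.obj ⟨WalkingPair.right⟩)
  exact preservesColimit_of_iso_diagram ξ.fibFunctor (diagramIsoPair K).symm

theorem fibFunctor_preservesInitial :
    PreservesColimitsOfShape (Discrete PEmpty.{1}) ξ.fibFunctor := by
  letI : Algebra (X.ring ξ.base) Ω := ξ.toField.toAlgebra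
  have hI : IsInitial (Opposite.op (FEt.zero X)) := initialOpOfTerminal (FEt.zeroIsTerminal X)
  haveI : Subsingleton (Ω ⊗[X.ring ξ.base] PUnit.{u+1}) :=
    subsingleton_tensor_right (inferInstanceAs (Subsingleton PUnit.{u+1}))
  haveI : IsEmpty (PrimeSpectrum (Ω ⊗[X.ring ξ.base] PUnit.{u+1})) := inferInstance
  haveI : IsEmpty (ξ.fibFunctor.obj (Opposite.op (FEt.zero X))) :=
    inferInstanceAs (IsEmpty (PrimeSpectrum (Ω ⊗[X.ring ξ.base] PUnit.{u+1})))
  haveI : PreservesColimit (Functor.empty.{0} (FEt X)ᵒᵖ) ξ.fibFunctor :=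
    preservesColimit_of_preserves_colimit_cocone hI
      ((isColimitMapCoconeEmptyCoconeEquiv ξ.fibFunctor _).symm
        (FintypeCat.isInitialOfIsEmpty (ξ.fibFunctor.obj (Opposite.op (FEt.zero X)))))
  exact preservesColimitsOfShape_pempty_of_preservesInitial ξ.fibFunctor

theorem fibFunctor_preservesFiniteCoproducts : PreservesFiniteCoproducts ξ.fibFunctor := by
  haveI := FEt.hasTerminal X
  haveI := FEt.hasBinaryProducts X
  haveI : HasFiniteCoproducts (FEt X)ᵒᵖ := hasFiniteCoproducts_of_has_binary_and_initial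
  haveI := fibFunctor_preservesBinaryCoproducts ξ
  haveI := fibFunctor_preservesInitial ξ
  exact ⟨fun n => PreservesFiniteCoproducts.of_preserves_binary_and_initial ξ.fibFunctor (Fin n)⟩

end Pres3

end Groth.Agent.Lib.Helper79.SchFinLib
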