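import Mathlib
import Groth.Agent.Lib.Helper79.SchFinKer

set_option autoImplicit false
set_option linter.style.haveILetI false
set_option linter.unusedSectionVars false
universe u
open TensorProduct

namespace Groth.Agent.Lib.Helper79.SchFinLib

section Invariants
variable {R A : Type*} [CommRing R] [CommRing A] [Algebra R A] {G : Type*}

/-- invariants of a family of algebra endomorphisms -/
def invSubalgebra (φ : G → (A →ₐ[R] A)) : Subalgebra R A where
  carrier := {a | ∀ g, φ g a = a}
  mul_mem' ha hb g := by rw [map_mul, ha g, hb g]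
  add_mem' ha hb g := by rw [map_add, ha g, hb g]
  algebraMap_mem' r g := (φ g).commutes r

theorem mem_invSubalgebra (φ : G → (A →ₐ[R] A)) (a : A) :
    a ∈ invSubalgebra φ ↔ ∀ g, φ g a = a := Iff.rfl

end Invariants

section Chars
variable {S : Type*} [CommRing S] {n : ℕ}

/-- the components of a character of `S^n` -/
theorem char_apply (χ : (Fin n → S) →ₐ[S] S) (t : Fin n → S) :
    χ t = ∑ i, t i * χ (Pi.single i 1) := by
  have ht : t = ∑ i, t i • (Pi.single i (1 : S) : Fin n → S) := by
    ext j
    simp [Finset.sum_apply, Pi.single_apply]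
  conv_lhs => rw [ht]
  rw [map_sum]
  apply Finset.sum_congr rfl
  intro i _
  rw [map_smul, smul_eq_mul]

theorem char_idem (χ : (Fin n → S) →ₐ[S] S) (i : Fin n) :
    χ (Pi.single i 1) * χ (Pi.single i 1) = χ (Pi.single i 1) := by
  rw [← map_mul]
  congr 1
  ext j
  by_cases h : j = i <;> simp [h]

theorem char_orth (χ : (Fin n → S) →ₐ[S] S) {i k : Fin n} (hik : i ≠ k) :
    χ (Pi.single i 1) * χ (Pi.single k 1) = 0 := by
  rw [← map_mul, ← map_zero χ]
  congr 1
  ext j
  simp only [Pi.mul_apply, Pi.single_apply, Pi.zero_apply]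
  split_ifs with h1 h2
  · exact absurd (h1.symm.trans h2) hik
  · simp
  · simp
  · simp

theorem char_sum (χ : (Fin n → S) →ₐ[S] S) : ∑ i, χ (Pi.single i 1) = 1 := by
  rw [← map_sum, ← map_one χ]
  congr 1
  ext j
  simp [Finset.sum_apply, Pi.single_apply]

end Chars

section Join
variable {S : Type*} [CommRing S] {G : Type*} [Fintype G]

/-- the join of a finite family of idempotents -/
def join (a : G → S) : S := 1 - ∏ g, (1 - a g)

theorem mul_join_eq_zero (x : S) (a : G → S) (h : ∀ g, x * a g = 0) : x * join a = 0 := by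
  have h1 : ∀ s : Finset G, x * ∏ g ∈ s, (1 - a g) = x := by
    intro s
    classical
    induction s using Finset.induction_on with
    | empty => simp
    | insert g s hg ih =>
        rw [Finset.prod_insert hg, ← mul_assoc, mul_sub, mul_one, h g, sub_zero, ih]
  rw [join, mul_sub, mul_one, h1, sub_self]

theorem mul_join_self (a : G → S) (ha : ∀ g, a g * a g = a g) (g : G) : a g * join a = a g := by
  have h0 : a g * ∏ g', (1 - a g') = 0 := by
    classical
    rw [← Finset.mul_prod_erase Finset.univ _ (Finset.mem_univ g), ← mul_assoc, mul_sub, mul_one,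
      ha g, sub_self, zero_mul]
  rw [join, mul_sub, mul_one, h0, sub_zero]

theorem join_idem (a : G → S) (ha : ∀ g, a g * a g = a g) : join a * join a = join a := by
  have h1 : ∀ g, (1 - a g) * (1 - a g) = 1 - a g := fun g => by
    have := ha g
    linear_combination this
  have h2 : (∏ g, (1 - a g)) * (∏ g, (1 - a g)) = ∏ g, (1 - a g) := by
    rw [← Finset.prod_mul_distrib]
    exact Finset.prod_congr rfl fun g _ => h1 g
  rw [join]
  linear_combination h2

theorem mul_join_eq_zero_iff (x : S) (a : G → S) (ha : ∀ g, a g * a g = a g) :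
    x * join a = 0 ↔ ∀ g, x * a g = 0 := by
  refine ⟨fun h g => ?_, mul_join_eq_zero x a⟩
  rw [← mul_join_self a ha g, mul_comm (a g), ← mul_assoc, h, zero_mul]

theorem join_eq_one (a : G → S) (g : G) (hg : a g = 1) : join a = 1 := by
  classical
  have h0 : ∏ g', (1 - a g') = 0 :=
    Finset.prod_eq_zero (Finset.mem_univ g) (by rw [hg, sub_self])
  rw [join, h0, sub_zero]

end Join

section First
variable {S : Type*} [CommRing S] {n : ℕ}

/-- `first ρ i`: the idempotent "`i` is the first index where `ρ` holds" -/
def first (ρ : Fin n → S) (i : Fin n) : S :=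
  ρ i * ∏ k ∈ Finset.univ.filter (fun k : Fin n => k < i), (1 - ρ k)

theorem first_sum (ρ : Fin n → S) : ∑ i, first ρ i = 1 - ∏ k, (1 - ρ k) := by
  have key : ∀ m : ℕ, m ≤ n →
      ∑ i ∈ Finset.univ.filter (fun i : Fin n => i.val < m), first ρ i =
        1 - ∏ k ∈ Finset.univ.filter (fun k : Fin n => k.val < m), (1 - ρ k) := by
    intro m
    induction m with
    | zero =>
        intro _
        simp
    | succ m ih =>
        intro hm
        have hm' : m < n := hm
        set i₀ : Fin n := ⟨m, hm'⟩ with hi₀
        have hins : Finset.univ.filter (fun i : Fin n => i.val < m + 1) =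
            insert i₀ (Finset.univ.filter (fun i : Fin n => i.val < m)) := by
          ext k
          simp only [Finset.mem_filter, Finset.mem_univ, true_and, Finset.mem_insert, Fin.ext_iff,
            hi₀]
          omega
        have hnot : i₀ ∉ Finset.univ.filter (fun i : Fin n => i.val < m) := by
          simp [hi₀]
        have hIio : Finset.univ.filter (fun k : Fin n => k < i₀) =
            Finset.univ.filter (fun k : Fin n => k.val < m) := by
          ext k
          simp [Fin.lt_def, hi₀]
        rw [hins, Finset.sum_insert hnot, Finset.prod_insert hnot, ih (le_of_lt hm'), first, hIio]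
        ring
  have huniv : Finset.univ.filter (fun i : Fin n => i.val < n) = Finset.univ := by
    ext k
    simp
  have := key n le_rfl
  rw [huniv] at this
  exact this

theorem first_sum_eq_one (ρ : Fin n → S) (j : Fin n) (hj : ρ j = 1) : ∑ i, first ρ i = 1 := by
  rw [first_sum, Finset.prod_eq_zero (Finset.mem_univ j) (by rw [hj, sub_self]), sub_zero]

theorem first_idem (ρ : Fin n → S) (hρ : ∀ i, ρ i * ρ i = ρ i) (i : Fin n) :
    first ρ i * first ρ i = first ρ i := by
  have h1 : ∀ k, (1 - ρ k) * (1 - ρ k) = 1 - ρ k := fun k => by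
    linear_combination hρ k
  have h2 : ∀ s : Finset (Fin n), (∏ k ∈ s, (1 - ρ k)) * (∏ k ∈ s, (1 - ρ k)) =
      ∏ k ∈ s, (1 - ρ k) := by
    intro s
    rw [← Finset.prod_mul_distrib]
    exact Finset.prod_congr rfl fun k _ => h1 k
  rw [first, mul_mul_mul_comm, hρ, h2]

theorem first_orth (ρ : Fin n → S) (hρ : ∀ i, ρ i * ρ i = ρ i) {i k : Fin n} (hik : i ≠ k) :
    first ρ i * first ρ k = 0 := by
  have key : ∀ {i k : Fin n}, k < i → first ρ i * first ρ k = 0 := by
    intro i k hki
    have hmem : k ∈ Finset.univ.filter (fun k' : Fin n => k' < i) := by simp [hki]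
    rw [first, first, ← Finset.mul_prod_erase _ _ hmem]
    have h0 : (1 - ρ k) * ρ k = 0 := by linear_combination -(hρ k)
    calc ρ i * ((1 - ρ k) * ∏ x ∈ (Finset.univ.filter (fun k' : Fin n => k' < i)).erase k,
            (1 - ρ x)) * (ρ k * ∏ k' ∈ Finset.univ.filter (fun k' : Fin n => k' < k), (1 - ρ k'))
        = ((1 - ρ k) * ρ k) * (ρ i * (∏ x ∈ (Finset.univ.filter (fun k' : Fin n => k' < i)).erase k,
            (1 - ρ x)) * ∏ k' ∈ Finset.univ.filter (fun k' : Fin n => k' < k), (1 - ρ k')) := by
          ring
      _ = 0 := by rw [h0, zero_mul]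
  rcases lt_or_gt_of_ne hik with h | h
  · rw [mul_comm]; exact key h
  · exact key h

/-- `first` only depends on the values after multiplying by an idempotent -/
theorem first_mul_congr (ρ ρ' : Fin n → S) (x : S) (hx : x * x = x)
    (h : ∀ i, ρ i * x = ρ' i * x) (i : Fin n) : first ρ i * x = first ρ' i * x := by
  have h1 : ∀ s : Finset (Fin n), (∏ k ∈ s, (1 - ρ k)) * x = (∏ k ∈ s, (1 - ρ' k)) * x := by
    intro s
    classical
    induction s using Finset.induction_on with
    | empty => simp
    | insert k s hk ih =>
        rw [Finset.prod_insert hk, Finset.prod_insert hk]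
        have hk' : (1 - ρ k) * x = (1 - ρ' k) * x := by
          linear_combination -(h k)
        calc ((1 - ρ k) * ∏ k ∈ s, (1 - ρ k)) * x = (1 - ρ k) * ((∏ k ∈ s, (1 - ρ k)) * x) := by ring
          _ = ((1 - ρ k) * x) * ((∏ k ∈ s, (1 - ρ' k)) * x) := by
              rw [ih]
              calc (1 - ρ k) * ((∏ k ∈ s, (1 - ρ' k)) * x)
                  = (1 - ρ k) * (∏ k ∈ s, (1 - ρ' k)) * x := by ring
                _ = (1 - ρ k) * (∏ k ∈ s, (1 - ρ' k)) * (x * x) := by rw [hx]
                _ = _ := by ring
          _ = ((1 - ρ' k) * x) * ((∏ k ∈ s, (1 - ρ' k)) * x) := by rw [hk']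
          _ = (1 - ρ' k) * (∏ k ∈ s, (1 - ρ' k)) * (x * x) := by ring
          _ = _ := by rw [hx]
  rw [first, first]
  calc (ρ i * ∏ k ∈ Finset.univ.filter (fun k : Fin n => k < i), (1 - ρ k)) * x
      = ρ i * ((∏ k ∈ Finset.univ.filter (fun k : Fin n => k < i), (1 - ρ k)) * x) := by ring
    _ = ρ i * ((∏ k ∈ Finset.univ.filter (fun k : Fin n => k < i), (1 - ρ' k)) * x) := by rw [h1]
    _ = (ρ i * x) * (∏ k ∈ Finset.univ.filter (fun k : Fin n => k < i), (1 - ρ' k)) := by ring
    _ = (ρ' i * x) * (∏ k ∈ Finset.univ.filter (fun k : Fin n => k < i), (1 - ρ' k)) := by rw [h]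
    _ = _ := by ring

end First

section Partition
variable {S : Type*} [CommRing S] {n : ℕ}

/-- the character of `S^n` attached to a partition of unity -/
def charOfPartition (c : Fin n → S) (hidem : ∀ i, c i * c i = c i)
    (horth : ∀ i k, i ≠ k → c i * c k = 0) (hsum : ∑ i, c i = 1) : (Fin n → S) →ₐ[S] S where
  toFun t := ∑ i, c i * t i
  map_one' := by simp [hsum]
  map_mul' s t := by
    rw [Finset.sum_mul_sum]
    apply Finset.sum_congr rfl
    intro i _
    rw [Finset.sum_eq_single i]
    · rw [Pi.mul_apply]
      linear_combination -(s i * t i) * hidem i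
    · intro k _ hki
      have := horth i k (Ne.symm hki)
      linear_combination (s i * t k) * this
    · intro h
      exact absurd (Finset.mem_univ i) h
  map_zero' := by simp
  map_add' s t := by
    rw [← Finset.sum_add_distrib]
    apply Finset.sum_congr rfl
    intro i _
    rw [Pi.add_apply, mul_add]
  commutes' r := by
    change ∑ i, c i * r = r
    rw [← Finset.sum_mul, hsum, one_mul]

end Partition

section BoolRel
variable {S : Type u} [CommRing S] {n : ℕ} (r : Fin n → Fin n → S)

/-- functions constant along a Boolean-valued relation -/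
def relSubalgebra : Subalgebra S (Fin n → S) where
  carrier := {t | ∀ i j, (t i - t j) * r i j = 0}
  mul_mem' {s t} hs ht i j := by
    change (s i * t i - s j * t j) * r i j = 0
    linear_combination (s i) * ht i j + (t j) * hs i j
  add_mem' {s t} hs ht i j := by
    change (s i + t i - (s j + t j)) * r i j = 0
    linear_combination hs i j + ht i j
  algebraMap_mem' c i j := by
    change (c - c) * r i j = 0
    rw [sub_self, zero_mul]

variable (hidem : ∀ i j, r i j * r i j = r i j) (hrefl : ∀ i, r i i = 1)
  (htrans : ∀ i j l, r i j * r j l = r i l * r j l)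

/-- the projector onto `relSubalgebra` -/
def relProj (hidem : ∀ i j, r i j * r i j = r i j) (hrefl : ∀ i, r i i = 1) :
    (Fin n → S) →ₐ[S] (Fin n → S) :=
  AlgHom.pi fun j =>
    charOfPartition (first fun k => r k j) (first_idem _ fun k => hidem k j)
      (fun _ _ hik => first_orth _ (fun k => hidem k j) hik)
      (first_sum_eq_one _ j (hrefl j))

theorem relProj_apply (t : Fin n → S) (j : Fin n) :
    relProj r hidem hrefl t j = ∑ i, first (fun k => r k j) i * t i := rfl

include htrans in
theorem relProj_mem (t : Fin n → S) : relProj r hidem hrefl t ∈ relSubalgebra r := by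
  intro j l
  rw [relProj_apply, relProj_apply, ← Finset.sum_sub_distrib, Finset.sum_mul]
  apply Finset.sum_eq_zero
  intro i _
  have h := first_mul_congr (fun k => r k j) (fun k => r k l) (r j l) (hidem j l)
    (fun k => htrans k j l) i
  linear_combination (t i) * h

theorem relProj_eq_self (t : Fin n → S) (ht : t ∈ relSubalgebra r) :
    relProj r hidem hrefl t = t := by
  ext j
  rw [relProj_apply]
  have h1 : ∀ i, first (fun k => r k j) i * t i = first (fun k => r k j) i * t j := by
    intro i
    have := ht i j
    rw [first]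
    linear_combination (∏ k ∈ Finset.univ.filter (fun k : Fin n => k < i), (1 - r k j)) * this
  rw [Finset.sum_congr rfl fun i _ => h1 i, ← Finset.sum_mul,
    first_sum_eq_one (fun k => r k j) j (hrefl j), one_mul]

include htrans in
theorem relProj_range : (relProj r hidem hrefl).range = relSubalgebra r := by
  apply le_antisymm
  · rintro _ ⟨t, rfl⟩
    exact relProj_mem r hidem hrefl htrans t
  · intro t ht
    exact ⟨t, relProj_eq_self r hidem hrefl t ht⟩

include hidem hrefl htrans in
theorem relSubalgebra_etale [IsNoetherianRing S] : Algebra.Etale S (relSubalgebra r) := by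
  have h := etale_range (relProj r hidem hrefl)
  rw [relProj_range r hidem hrefl htrans] at h
  exact h

end BoolRel

section SplitAction
variable {S : Type u} [CommRing S] {n : ℕ} {G : Type*} [Group G] [Fintype G]
  (ψ : G → ((Fin n → S) →ₐ[S] (Fin n → S)))

/-- matrix coefficients of the action -/
def coeff (g : G) (i j : Fin n) : S := ψ g (Pi.single i 1) j

theorem act_apply (g : G) (t : Fin n → S) (j : Fin n) :
    ψ g t j = ∑ i, t i * coeff ψ g i j :=
  char_apply ((Pi.evalAlgHom S (fun _ => S) j).comp (ψ g)) t

theorem coeff_idem (g : G) (i j : Fin n) : coeff ψ g i j * coeff ψ g i j = coeff ψ g i j :=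
  char_idem ((Pi.evalAlgHom S (fun _ => S) j).comp (ψ g)) i

theorem coeff_orth (g : G) (j : Fin n) {i k : Fin n} (hik : i ≠ k) :
    coeff ψ g i j * coeff ψ g k j = 0 :=
  char_orth ((Pi.evalAlgHom S (fun _ => S) j).comp (ψ g)) hik

theorem coeff_sum (g : G) (j : Fin n) : ∑ i, coeff ψ g i j = 1 :=
  char_sum ((Pi.evalAlgHom S (fun _ => S) j).comp (ψ g))

variable (h1 : ψ 1 = AlgHom.id S _) (hmul : ∀ g h, ψ (g * h) = (ψ g).comp (ψ h))

include h1 in
theorem coeff_one_self (i : Fin n) : coeff ψ 1 i i = 1 := by
  rw [coeff, h1]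
  simp

include hmul in
theorem coeff_mul (g h : G) (i k : Fin n) :
    coeff ψ (g * h) i k = ∑ j, coeff ψ h i j * coeff ψ g j k := by
  rw [coeff, hmul, AlgHom.comp_apply, act_apply]
  rfl

include hmul in
theorem coeff_le (g h : G) (i j k : Fin n) :
    coeff ψ h i j * coeff ψ g j k * coeff ψ (g * h) i k = coeff ψ h i j * coeff ψ g j k := by
  have h2 : coeff ψ g j k * coeff ψ (g * h) i k = coeff ψ h i j * coeff ψ g j k := by
    rw [coeff_mul ψ hmul, Finset.mul_sum, Finset.sum_eq_single j]
    · linear_combination (coeff ψ h i j) * coeff_idem ψ g j k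
    · intro j' _ hj'
      have := coeff_orth ψ g k (Ne.symm hj')
      linear_combination (coeff ψ h i j') * this
    · intro h
      exact absurd (Finset.mem_univ j) h
  calc coeff ψ h i j * coeff ψ g j k * coeff ψ (g * h) i k
      = coeff ψ h i j * (coeff ψ g j k * coeff ψ (g * h) i k) := by ring
    _ = coeff ψ h i j * (coeff ψ h i j * coeff ψ g j k) := by rw [h2]
    _ = (coeff ψ h i j * coeff ψ h i j) * coeff ψ g j k := by ring
    _ = _ := by rw [coeff_idem]

include h1 hmul in
theorem coeff_inv_le (g : G) (i j : Fin n) :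
    coeff ψ g i j * coeff ψ g⁻¹ j i = coeff ψ g⁻¹ j i := by
  have hs : ∑ j', coeff ψ g i j' * coeff ψ g⁻¹ j' i = 1 := by
    rw [← coeff_mul ψ hmul, inv_mul_cancel, coeff_one_self ψ h1]
  have h3 : (∑ j', coeff ψ g i j' * coeff ψ g⁻¹ j' i) * coeff ψ g⁻¹ j i =
      coeff ψ g i j * coeff ψ g⁻¹ j i := by
    rw [Finset.sum_mul, Finset.sum_eq_single j]
    · linear_combination (coeff ψ g i j) * coeff_idem ψ g⁻¹ j i
    · intro j' _ hj'
      have := coeff_orth ψ g⁻¹ i hj'
      linear_combination (coeff ψ g i j') * this
    · intro h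
      exact absurd (Finset.mem_univ j) h
  rw [hs, one_mul] at h3
  exact h3.symm

include h1 hmul in
theorem coeff_inv (g : G) (i j : Fin n) : coeff ψ g⁻¹ j i = coeff ψ g i j := by
  have e1 := coeff_inv_le ψ h1 hmul g i j
  have e2 := coeff_inv_le ψ h1 hmul g⁻¹ j i
  rw [inv_inv] at e2
  rw [← e1, mul_comm, e2]

/-- the orbit relation -/
def orbRel (i j : Fin n) : S := join fun g => coeff ψ g i j

theorem orbRel_idem (i j : Fin n) : orbRel ψ i j * orbRel ψ i j = orbRel ψ i j :=
  join_idem _ fun g => coeff_idem ψ g i j

include h1 in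
theorem orbRel_refl (i : Fin n) : orbRel ψ i i = 1 :=
  join_eq_one _ 1 (coeff_one_self ψ h1 i)

include h1 hmul in
theorem orbRel_symm (i j : Fin n) : orbRel ψ i j = orbRel ψ j i := by
  rw [orbRel, orbRel, join, join]
  congr 1
  rw [← Equiv.prod_comp (Equiv.inv G) fun g => 1 - coeff ψ g j i]
  apply Finset.prod_congr rfl
  intro g _
  rw [Equiv.inv_apply, coeff_inv ψ h1 hmul]

include hmul in
theorem orbRel_trans (i j l : Fin n) :
    orbRel ψ i j * orbRel ψ j l * orbRel ψ i l = orbRel ψ i j * orbRel ψ j l := by
  have hidem := orbRel_idem ψ i l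
  -- show `r i j * r j l * (1 - r i l) = 0`
  have h0 : ((1 - orbRel ψ i l) * orbRel ψ j l) * orbRel ψ i j = 0 := by
    apply mul_join_eq_zero
    intro g
    have : ((1 - orbRel ψ i l) * coeff ψ g i j) * orbRel ψ j l = 0 := by
      apply mul_join_eq_zero
      intro h
      have hle := coeff_le ψ hmul h g i j l
      have hj := mul_join_self (fun g' => coeff ψ g' i l) (fun g' => coeff_idem ψ g' i l) (h * g)
      change coeff ψ (h * g) i l * orbRel ψ i l = coeff ψ (h * g) i l at hj
      -- coeff g i j * coeff h j l = that * coeff (h g) i l, and coeff (h g) i l * (1 - r i l) = 0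
      calc (1 - orbRel ψ i l) * coeff ψ g i j * coeff ψ h j l
          = (1 - orbRel ψ i l) * (coeff ψ g i j * coeff ψ h j l) := by ring
        _ = (1 - orbRel ψ i l) * (coeff ψ g i j * coeff ψ h j l * coeff ψ (h * g) i l) := by
            rw [hle]
        _ = coeff ψ g i j * coeff ψ h j l *
              (coeff ψ (h * g) i l - coeff ψ (h * g) i l * orbRel ψ i l) := by ring
        _ = 0 := by rw [hj, sub_self, mul_zero]
    linear_combination this
  linear_combination -h0

include h1 hmul in
theorem orbRel_trans' (i j l : Fin n) :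
    orbRel ψ i j * orbRel ψ j l = orbRel ψ i l * orbRel ψ j l := by
  have e1 := orbRel_trans ψ hmul i j l
  have e2 := orbRel_trans ψ hmul i l j
  rw [orbRel_symm ψ h1 hmul l j] at e2
  rw [← e1, ← e2]
  ring

theorem invSubalgebra_eq_relSubalgebra :
    invSubalgebra ψ = relSubalgebra (orbRel ψ) := by
  ext t
  change (∀ g, ψ g t = t) ↔ ∀ i j, (t i - t j) * orbRel ψ i j = 0
  have hiff : ∀ i j, (t i - t j) * orbRel ψ i j = 0 ↔ ∀ g, (t i - t j) * coeff ψ g i j = 0 :=
    fun i j => mul_join_eq_zero_iff _ _ fun g => coeff_idem ψ g i j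
  constructor
  · intro ht i j
    rw [hiff]
    intro g
    have hg := congrFun (ht g) j
    rw [act_apply] at hg
    -- multiply by coeff g i j
    have h3 : (∑ i', t i' * coeff ψ g i' j) * coeff ψ g i j = t i * coeff ψ g i j := by
      rw [Finset.sum_mul, Finset.sum_eq_single i]
      · linear_combination (t i) * coeff_idem ψ g i j
      · intro i' _ hi'
        have := coeff_orth ψ g j hi'
        linear_combination (t i') * this
      · intro h
        exact absurd (Finset.mem_univ i) h
    rw [hg] at h3
    linear_combination -h3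
  · intro ht g
    ext j
    rw [act_apply]
    have h4 : ∀ i, t i * coeff ψ g i j = t j * coeff ψ g i j := by
      intro i
      have := (hiff i j).1 (ht i j) g
      linear_combination this
    rw [Finset.sum_congr rfl fun i _ => h4 i, ← Finset.mul_sum, coeff_sum, mul_one]

include h1 hmul in
/-- invariants of a finite group acting on a split algebra are étale -/
theorem invSubalgebra_etale_of_split [IsNoetherianRing S] :
    Algebra.Etale S (invSubalgebra ψ) := by
  rw [invSubalgebra_eq_relSubalgebra]
  exact relSubalgebra_etale _ (orbRel_idem ψ) (orbRel_refl ψ h1) (orbRel_trans' ψ h1 hmul)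

end SplitAction

section FlatInv
variable {R A S : Type*} [CommRing R] [CommRing A] [Algebra R A] [CommRing S] [Algebra R S]
  {G : Type*}

/-- flat base change of invariants -/
theorem mem_range_of_invariant [Module.Flat R S] [Finite G] (φ : G → (A →ₐ[R] A)) (t : S ⊗[R] A)
    (ht : ∀ g, Algebra.TensorProduct.map (AlgHom.id S S) (φ g) t = t) :
    t ∈ Set.range (Algebra.TensorProduct.map (AlgHom.id S S) (invSubalgebra φ).val) := by
  classical
  cases nonempty_fintype G
  let δ : A →ₗ[R] (G → A) := LinearMap.pi fun g => (φ g).toLinearMap - LinearMap.id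
  let ι : (invSubalgebra φ) →ₗ[R] A := (invSubalgebra φ).val.toLinearMap
  have hex : Function.Exact ι δ := by
    intro a
    constructor
    · intro ha
      refine ⟨⟨a, fun g => ?_⟩, rfl⟩
      have := congrFun ha g
      exact sub_eq_zero.1 this
    · rintro ⟨c, rfl⟩
      ext g
      exact sub_eq_zero.2 (c.2 g)
  have hex' := Module.Flat.lTensor_exact S hex
  have hδ : (δ.lTensor S) t = 0 := by
    apply (TensorProduct.piRight R R S (fun _ : G => A)).injective
    rw [map_zero]
    ext g
    have key : ∀ t : S ⊗[R] A, (TensorProduct.piRight R R S (fun _ : G => A)) (δ.lTensor S t) g =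
        Algebra.TensorProduct.map (AlgHom.id S S) (φ g) t - t := by
      intro t
      induction t using TensorProduct.induction_on with
      | zero => simp
      | tmul s a =>
          rw [LinearMap.lTensor_tmul, TensorProduct.piRight_apply, TensorProduct.piRightHom_tmul,
            Algebra.TensorProduct.map_tmul]
          change s ⊗ₜ[R] (φ g a - a) = _
          rw [TensorProduct.tmul_sub]
          rfl
      | add x y hx hy =>
          rw [map_add, map_add, Pi.add_apply, hx, hy, map_add]
          abel
    rw [key, ht g, sub_self]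
    rfl
  obtain ⟨x, hx⟩ := (hex' t).1 hδ
  exact ⟨x, hx⟩

end FlatInv

section Descent
variable {R A S : Type u} [CommRing R] [CommRing A] [Algebra R A] [CommRing S] [Algebra R S]
  {G : Type*} [Group G] [Finite G]

/-- invariants of a finite group acting on a locally split algebra are étale -/
theorem invSubalgebra_etale [IsNoetherianRing R] [Module.Finite R S] [Module.FaithfullyFlat R S]
    (φ : G → (A →ₐ[R] A)) (h1 : φ 1 = AlgHom.id R A) (hmul : ∀ g h, φ (g * h) = (φ g).comp (φ h))
    {n : ℕ} (e : S ⊗[R] A ≃ₐ[S] (Fin n → S)) : Algebra.Etale R (invSubalgebra φ) := by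
  classical
  cases nonempty_fintype G
  haveI : IsNoetherianRing S := Algebra.FiniteType.isNoetherianRing R S
  obtain ⟨ψ, hψ⟩ : ∃ ψ : G → ((Fin n → S) →ₐ[S] (Fin n → S)),
      ∀ g y, ψ g y = e (Algebra.TensorProduct.map (AlgHom.id S S) (φ g) (e.symm y)) :=
    ⟨fun g => (e.toAlgHom.comp (Algebra.TensorProduct.map (AlgHom.id S S) (φ g))).comp
      e.symm.toAlgHom, fun g y => rfl⟩
  have hψ1 : ψ 1 = AlgHom.id S _ := by
    apply AlgHom.ext
    intro y
    rw [hψ, h1, Algebra.TensorProduct.map_id]
    exact e.apply_symm_apply y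
  have hψmul : ∀ g h, ψ (g * h) = (ψ g).comp (ψ h) := by
    intro g h
    apply AlgHom.ext
    intro y
    rw [AlgHom.comp_apply, hψ, hψ, hψ, e.symm_apply_apply, hmul]
    congr 1
    have : ∀ t : S ⊗[R] A, Algebra.TensorProduct.map (AlgHom.id S S) ((φ g).comp (φ h)) t =
        Algebra.TensorProduct.map (AlgHom.id S S) (φ g)
          (Algebra.TensorProduct.map (AlgHom.id S S) (φ h) t) := by
      intro t
      induction t using TensorProduct.induction_on with
      | zero => simp
      | tmul s a => rfl
      | add x y hx hy => rw [map_add, map_add, map_add, hx, hy]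
    exact this _
  haveI : Algebra.Etale S (invSubalgebra ψ) := invSubalgebra_etale_of_split ψ hψ1 hψmul
  set C := invSubalgebra φ with hC
  obtain ⟨j, hj⟩ : ∃ j : S ⊗[R] C →ₐ[S] (Fin n → S),
      ∀ x, j x = e (Algebra.TensorProduct.map (AlgHom.id S S) C.val x) :=
    ⟨e.toAlgHom.comp (Algebra.TensorProduct.map (AlgHom.id S S) C.val), fun x => rfl⟩
  have hjinj : Function.Injective j := by
    have h2 : Function.Injective (Algebra.TensorProduct.map (AlgHom.id S S) C.val) :=
      Module.Flat.lTensor_preserves_injective_linearMap (M := S) C.val.toLinearMap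
        Subtype.val_injective
    intro x y hxy
    rw [hj, hj] at hxy
    exact h2 (e.injective hxy)
  have hrange : j.range = invSubalgebra ψ := by
    apply le_antisymm
    · rintro _ ⟨x, rfl⟩
      intro g
      change ψ g (j x) = j x
      rw [hψ, hj, e.symm_apply_apply]
      congr 1
      have : ∀ x : S ⊗[R] C, Algebra.TensorProduct.map (AlgHom.id S S) (φ g)
          (Algebra.TensorProduct.map (AlgHom.id S S) C.val x) =
            Algebra.TensorProduct.map (AlgHom.id S S) C.val x := by
        intro x
        induction x using TensorProduct.induction_on with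
        | zero => simp
        | tmul s c =>
            rw [Algebra.TensorProduct.map_tmul, Algebra.TensorProduct.map_tmul]
            congr 1
            exact c.2 g
        | add x y hx hy => rw [map_add, map_add, hx, hy]
      exact this x
    · intro y hy
      have ht : ∀ g, Algebra.TensorProduct.map (AlgHom.id S S) (φ g) (e.symm y) = e.symm y := by
        intro g
        have := hy g
        change ψ g y = y at this
        rw [hψ] at this
        apply e.injective
        rw [this, e.apply_symm_apply]
      obtain ⟨x, hx⟩ := mem_range_of_invariant φ (e.symm y) ht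
      refine ⟨x, ?_⟩
      change j x = y
      rw [hj, hx, e.apply_symm_apply]
  have e1 : (S ⊗[R] C) ≃ₐ[S] j.range := AlgEquiv.ofInjective j hjinj
  have e2 : j.range ≃ₐ[S] invSubalgebra ψ := Subalgebra.equivOfEq _ _ hrange
  haveI : Algebra.Etale S (S ⊗[R] C) := Algebra.Etale.of_equiv (e1.trans e2).symm
  exact Algebra.Etale.of_etale_tensorProduct_of_faithfullyFlat S

end Descent

end Groth.Agent.Lib.Helper79.SchFinLib
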