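import Mathlib
import Groth.Prelude.Def_SchFin2
import Groth.Agent.Lib.Helper79.SchFinImage
import Groth.Agent.Lib.Helper79.SchFinInv

set_option autoImplicit false
set_option linter.style.haveILetI false
universe u
open SchFin TensorProduct CategoryTheory CategoryTheory.Limits

namespace Groth.Agent.Lib.Helper79.SchFinLib

section InvSpan
variable {R S : Type u} [CommRing R] [CommRing S] (g : R →+* S) {Ap Aq : Type u}
  [CommRing Ap] [Algebra R Ap] [CommRing Aq] [Algebra S Aq] {G : Type*} [Finite G]

/-- invariants base change along a flat map: the span condition -/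
theorem inv_span (hg : g.Flat) (f : Ap →ₛₗ[g] Aq) (hf : IsBCAlong g f)
    (φp : G → (Ap →ₐ[R] Ap)) (φq : G → (Aq →ₐ[S] Aq))
    (hcompat : ∀ γ a, f (φp γ a) = φq γ (f a))
    (f' : (invSubalgebra φp) →ₛₗ[g] (invSubalgebra φq)) (hf' : ∀ c, (f' c).1 = f c.1) :
    Submodule.span S (Set.range f') = ⊤ := by
  letI : Algebra R S := g.toAlgebra
  haveI : Module.Flat R S := hg
  rw [eq_top_iff]
  rintro ⟨c, hc⟩ -
  set t := (bcEquiv g f hf).symm c with ht
  have key : ∀ (γ : G) (t : S ⊗[R] Ap),
      bcEquiv g f hf (Algebra.TensorProduct.map (AlgHom.id S S) (φp γ) t) =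
        φq γ (bcEquiv g f hf t) := by
    intro γ t
    induction t using TensorProduct.induction_on with
    | zero => rw [map_zero, map_zero, map_zero]
    | tmul s a =>
        rw [Algebra.TensorProduct.map_tmul, AlgHom.id_apply, bcEquiv_tmul, bcEquiv_tmul, hcompat,
          map_smul]
    | add x y hx hy => rw [map_add, map_add, map_add, hx, hy, map_add]
  have hinv : ∀ γ, Algebra.TensorProduct.map (AlgHom.id S S) (φp γ) t = t := by
    intro γ
    apply (bcEquiv g f hf).injective
    rw [key, ht, LinearEquiv.apply_symm_apply]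
    exact hc γ
  obtain ⟨x, hx⟩ := mem_range_of_invariant φp t hinv
  have hc' : c = bcEquiv g f hf t := by rw [ht, LinearEquiv.apply_symm_apply]
  have key2 : ∀ x : S ⊗[R] (invSubalgebra φp), ∃ d : invSubalgebra φq,
      d ∈ Submodule.span S (Set.range f') ∧
      d.1 = bcEquiv g f hf
        (Algebra.TensorProduct.map (AlgHom.id S S) (invSubalgebra φp).val x) := by
    intro x
    induction x using TensorProduct.induction_on with
    | zero =>
        refine ⟨0, Submodule.zero_mem _, ?_⟩
        rw [map_zero, map_zero]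
        rfl
    | tmul s c' =>
        refine ⟨s • f' c', Submodule.smul_mem _ _ (Submodule.subset_span ⟨c', rfl⟩), ?_⟩
        rw [Algebra.TensorProduct.map_tmul, AlgHom.id_apply, bcEquiv_tmul]
        change s • (f' c').1 = _
        rw [hf']
        rfl
    | add x y hx hy =>
        obtain ⟨d₁, hd₁, e₁⟩ := hx
        obtain ⟨d₂, hd₂, e₂⟩ := hy
        refine ⟨d₁ + d₂, Submodule.add_mem _ hd₁ hd₂, ?_⟩
        rw [map_add, map_add, ← e₁, ← e₂]
        rfl
  obtain ⟨d, hd, hd'⟩ := key2 x
  have : (⟨c, hc⟩ : invSubalgebra φq) = d := by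
    apply Subtype.ext
    change c = d.1
    rw [hd', hx, hc']
  rw [this]
  exact hd

end InvSpan

section AlgInv
variable {X : RSpace.{u}} (A : Alg X) {G : Type*} (φ : G → (A ⟶ A))

/-- the algebra of invariants of a family of endomorphisms -/
def Alg.inv : Alg X where
  carrier p := invSubalgebra (fun g => (φ g).app p)
  res {p q} h := RingHom.codRestrict
    ((A.res h).comp (invSubalgebra fun g => (φ g).app p).val.toRingHom)
    (invSubalgebra fun g => (φ g).app q)
    (fun x g => by
      change (φ g).app q (A.res h x.1) = A.res h x.1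
      rw [← (φ g).compat h, x.2 g])
  res_algebraMap h a := Subtype.ext (A.res_algebraMap h a)
  res_self p b := Subtype.ext (A.res_self p b.1)
  res_comp h h' b := Subtype.ext (A.res_comp h h' b.1)

/-- the inclusion of the invariants -/
def Alg.invι : Alg.inv A φ ⟶ A where
  app p := (invSubalgebra fun g => (φ g).app p).val
  compat _ _ := rfl

variable {A φ}

/-- the lift of an invariant morphism to the invariants -/
def Alg.invLift {T : Alg X} (f : T ⟶ A) (hf : ∀ g, f ≫ φ g = f) : T ⟶ Alg.inv A φ where
  app p := (f.app p).codRestrict (invSubalgebra fun g => (φ g).app p)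
    (fun t g => congrArg (fun k => k.app p t) (hf g))
  compat h t := Subtype.ext (f.compat h t)

theorem Alg.invLift_ι {T : Alg X} (f : T ⟶ A) (hf : ∀ g, f ≫ φ g = f) :
    Alg.invLift f hf ≫ Alg.invι A φ = f := by
  apply Alg.hom_ext
  intro p
  apply AlgHom.ext
  intro t
  rfl

theorem Alg.invLift_uniq {T : Alg X} (f : T ⟶ A) (hf : ∀ g, f ≫ φ g = f) (m : T ⟶ Alg.inv A φ)
    (hm : m ≫ Alg.invι A φ = f) : m = Alg.invLift f hf := by
  apply Alg.hom_ext
  intro p
  apply AlgHom.ext
  intro t
  apply Subtype.ext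
  exact congrArg (fun k => k.app p t) hm

theorem Alg.invι_comp (g : G) : Alg.invι A φ ≫ φ g = Alg.invι A φ := by
  apply Alg.hom_ext
  intro p
  apply AlgHom.ext
  intro c
  exact c.2 g

variable (A φ)

theorem Alg.inv_isQcoh [Finite G] (hX : X.IsFinSp) (hA : A.IsQcoh) : (Alg.inv A φ).IsQcoh := by
  intro p q h
  refine isBCAlong_of_injective (X.res h) (hX.2 p q h) (A.toMod.res h) (hA p q h)
    ((Alg.inv A φ).toMod.res h) (invSubalgebra fun g => (φ g).app p).val.toLinearMap
    (invSubalgebra fun g => (φ g).app q).val.toLinearMap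
    Subtype.val_injective (fun m => rfl) ?_
  exact inv_span (X.res h) (hX.2 p q h) (Ap := A.carrier p) (Aq := A.carrier q)
    (A.toMod.res h) (hA p q h)
    (fun g => (φ g).app p) (fun g => (φ g).app q) (fun γ a => (φ γ).compat h a)
    ((Alg.inv A φ).toMod.res h) (fun c => rfl)

end AlgInv

section AlgInvEt
variable {X : RSpace.{u}} (A : Alg X) {G : Type*} (φ : G → (A ⟶ A))

theorem Alg.inv_isEtCover [Group G] [Finite G] (hX : X.IsFinSp) (hA : A.IsEtCover)
    (h1 : φ 1 = 𝟙 A) (hmul : ∀ g h, φ (g * h) = φ h ≫ φ g)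
    (hlt : ∃ (B : Alg X) (n : ℕ), B.IsCovering ∧ ∀ p : X.pt,
      Nonempty (TensorProduct (X.ring p) (B.carrier p) (A.carrier p) ≃ₐ[B.carrier p]
        (Fin n → B.carrier p))) :
    (Alg.inv A φ).IsEtCover := by
  obtain ⟨B, n, hB, hsplit⟩ := hlt
  refine ⟨Alg.inv_isQcoh A φ hX hA.1, fun p => ⟨?_, ?_⟩⟩
  · haveI := hX.1 p
    haveI := (hA.2 p).1
    haveI : IsNoetherian (X.ring p) (A.carrier p) := isNoetherian_of_isNoetherianRing_of_finite _ _
    exact Module.Finite.of_injective (invSubalgebra fun g => (φ g).app p).val.toLinearMap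
      Subtype.val_injective
  · haveI := hX.1 p
    haveI := (hB.2 p).1
    haveI := (hB.2 p).2
    obtain ⟨e⟩ := hsplit p
    exact invSubalgebra_etale (fun g => (φ g).app p) (by rw [h1]; rfl)
      (fun g h => by rw [hmul]; rfl) e

end AlgInvEt

section FEtInv
variable {X : RSpace.{u}}

/-- limits over a finite group in étale covers -/
theorem FEt.hasLimitsOfShape_singleObj (hX : X.IsSchematic)
    (hlt : ∀ A : FEt X, ∃ (B : Alg X) (n : ℕ), B.IsCovering ∧
      ∀ p : X.pt, Nonempty (TensorProduct (X.ring p) (B.carrier p) (A.obj.carrier p) ≃ₐ[B.carrier p]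
        (Fin n → B.carrier p)))
    (G : Type u) [Group G] [Finite G] : HasLimitsOfShape (SingleObj G) (FEt X) := by
  constructor
  intro F
  let A : FEt X := F.obj (SingleObj.star G)
  let φ : G → (A.obj ⟶ A.obj) := fun g =>
    (F.map (X := SingleObj.star G) (Y := SingleObj.star G) g).hom
  have h1 : φ 1 = 𝟙 A.obj := congrArg (fun k => k.hom) (F.map_id (SingleObj.star G))
  have hmul : ∀ g h, φ (g * h) = φ h ≫ φ g := fun g h =>
    congrArg (fun k => k.hom) (F.map_comp (X := SingleObj.star G) (Y := SingleObj.star G)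
      (Z := SingleObj.star G) h g)
  let I : FEt X := ⟨Alg.inv A.obj φ, Alg.inv_isEtCover A.obj φ hX.1 A.property h1 hmul (hlt A)⟩
  let c : Cone F :=
    { pt := I
      π :=
        { app := fun _ => ObjectProperty.homMk (Alg.invι A.obj φ)
          naturality := fun j j' g => by
            apply ObjectProperty.hom_ext
            change 𝟙 _ ≫ Alg.invι A.obj φ = Alg.invι A.obj φ ≫ φ g
            rw [Category.id_comp, Alg.invι_comp] } }
  refine HasLimit.mk ⟨c, ?_⟩
  have hs : ∀ (s : Cone F) (g : G), (s.π.app (SingleObj.star G)).hom ≫ φ g =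
      (s.π.app (SingleObj.star G)).hom := by
    intro s g
    have := s.π.naturality (X := SingleObj.star G) (Y := SingleObj.star G) g
    have h2 := congrArg (fun k => k.hom) this
    change (𝟙 _ ≫ s.π.app (SingleObj.star G)).hom = _ at h2
    rw [Category.id_comp] at h2
    exact h2.symm
  exact
    { lift := fun s => ObjectProperty.homMk (Alg.invLift (s.π.app (SingleObj.star G)).hom (hs s))
      fac := fun s j => by
        apply ObjectProperty.hom_ext
        exact Alg.invLift_ι (s.π.app (SingleObj.star G)).hom (hs s)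
      uniq := fun s m hm => by
        apply ObjectProperty.hom_ext
        exact Alg.invLift_uniq (s.π.app (SingleObj.star G)).hom (hs s) m.hom
          (congrArg (fun k => k.hom) (hm (SingleObj.star G))) }

end FEtInv

end Groth.Agent.Lib.Helper79.SchFinLib
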