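import Mathlib
import Groth.Agent.Lib.Helper79.SchFinInv

set_option autoImplicit false
set_option linter.style.haveILetI false
set_option linter.unusedSectionVars false
universe u
open TensorProduct Polynomial

namespace Groth.Agent.Lib.Helper79.SchFinLib

section Orbit
variable {R A K : Type*} [CommRing R] [CommRing A] [Algebra R A] [CommRing K] [IsDomain K]
  [Algebra R K] {G : Type*} [Group G] [Fintype G]
  (φ : G → (A →ₐ[R] A)) (h1 : φ 1 = AlgHom.id R A) (hmul : ∀ g h, φ (g * h) = (φ g).comp (φ h))

include h1 hmul in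
/-- two maps to a domain agreeing on invariants differ by a group element, on the coefficients of
a given polynomial -/
theorem exists_coeff_eq (h h' : A →ₐ[R] K) (heq : ∀ a ∈ invSubalgebra φ, h a = h' a) (y : A[X]) :
    ∃ g, ∀ i, h' (y.coeff i) = h (φ g (y.coeff i)) := by
  classical
  let H : A[X] →+* K[X] := Polynomial.mapRingHom h.toRingHom
  let H' : A[X] →+* K[X] := Polynomial.mapRingHom h'.toRingHom
  let Φ : G → (A[X] →+* A[X]) := fun g => Polynomial.mapRingHom (φ g).toRingHom
  have hΦ1 : Φ 1 y = y := by
    change Polynomial.map (φ 1).toRingHom y = y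
    rw [h1]
    exact Polynomial.map_id
  have hΦmul : ∀ γ g, Φ γ (Φ g y) = Φ (γ * g) y := by
    intro γ g
    change Polynomial.map (φ γ).toRingHom (Polynomial.map (φ g).toRingHom y) =
      Polynomial.map (φ (γ * g)).toRingHom y
    rw [Polynomial.map_map, hmul]
    rfl
  let P : A[X][X] := ∏ g, (X - C (Φ g y))
  have hPinv : ∀ γ, P.map (Φ γ) = P := by
    intro γ
    change Polynomial.map (Φ γ) (∏ g, (X - C (Φ g y))) = ∏ g, (X - C (Φ g y))
    rw [Polynomial.map_prod]
    rw [← Equiv.prod_comp (Equiv.mulLeft γ) fun g => (X - C (Φ g y) : A[X][X])]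
    apply Finset.prod_congr rfl
    intro g _
    rw [Polynomial.map_sub, Polynomial.map_X, Polynomial.map_C, hΦmul]
    rfl
  have hcoeff : ∀ k, H (P.coeff k) = H' (P.coeff k) := by
    intro k
    apply Polynomial.ext
    intro j
    change (Polynomial.map h.toRingHom (P.coeff k)).coeff j =
      (Polynomial.map h'.toRingHom (P.coeff k)).coeff j
    rw [Polynomial.coeff_map, Polynomial.coeff_map]
    apply heq
    intro γ
    have e1 := congrArg (fun Q : A[X][X] => (Q.coeff k).coeff j) (hPinv γ)
    change ((P.map (Φ γ)).coeff k).coeff j = (P.coeff k).coeff j at e1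
    rw [Polynomial.coeff_map] at e1
    change (Polynomial.map (φ γ).toRingHom (P.coeff k)).coeff j = _ at e1
    rw [Polynomial.coeff_map] at e1
    exact e1
  have hmap : P.map H = P.map H' := by
    apply Polynomial.ext
    intro k
    rw [Polynomial.coeff_map, Polynomial.coeff_map, hcoeff]
  have hroot : (P.map H').eval (H' y) = 0 := by
    change (Polynomial.map H' (∏ g, (X - C (Φ g y)))).eval (H' y) = 0
    rw [Polynomial.map_prod, Polynomial.eval_prod]
    apply Finset.prod_eq_zero (Finset.mem_univ (1 : G))
    rw [Polynomial.map_sub, Polynomial.map_X, Polynomial.map_C, Polynomial.eval_sub,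
      Polynomial.eval_X, Polynomial.eval_C, hΦ1, sub_self]
  rw [← hmap] at hroot
  change (Polynomial.map H (∏ g, (X - C (Φ g y)))).eval (H' y) = 0 at hroot
  rw [Polynomial.map_prod, Polynomial.eval_prod, Finset.prod_eq_zero_iff] at hroot
  obtain ⟨g, -, hg⟩ := hroot
  rw [Polynomial.map_sub, Polynomial.map_X, Polynomial.map_C, Polynomial.eval_sub,
    Polynomial.eval_X, Polynomial.eval_C, sub_eq_zero] at hg
  refine ⟨g, fun i => ?_⟩
  have := congrArg (fun Q : K[X] => Q.coeff i) hg
  change (Polynomial.map h'.toRingHom y).coeff i =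
    (Polynomial.map h.toRingHom (Polynomial.map (φ g).toRingHom y)).coeff i at this
  rw [Polynomial.coeff_map, Polynomial.coeff_map, Polynomial.coeff_map] at this
  exact this

include h1 hmul in
/-- two maps to a domain agreeing on invariants differ by a group element -/
theorem exists_eq_comp_of_eq_on_invariants (h h' : A →ₐ[R] K)
    (heq : ∀ a ∈ invSubalgebra φ, h a = h' a) : ∃ g, h' = h.comp (φ g) := by
  classical
  by_contra hcon
  have hcon' : ∀ g, ∃ x, h' x ≠ h (φ g x) := by
    intro g
    by_contra hg
    apply hcon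
    refine ⟨g, AlgHom.ext fun x => ?_⟩
    by_contra hx
    exact hg ⟨x, hx⟩
  choose x hx using hcon'
  let e := Fintype.equivFin G
  let y : A[X] := ∑ g, Polynomial.monomial (e g : ℕ) (x g)
  have hy : ∀ g, y.coeff (e g : ℕ) = x g := by
    intro g
    change (∑ g', Polynomial.monomial (e g' : ℕ) (x g')).coeff (e g : ℕ) = x g
    rw [Polynomial.finsetSum_coeff, Finset.sum_eq_single g]
    · rw [Polynomial.coeff_monomial, if_pos rfl]
    · intro g' _ hg'
      rw [Polynomial.coeff_monomial, if_neg]
      intro hh
      exact hg' (e.injective (Fin.ext hh))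
    · intro hh
      exact absurd (Finset.mem_univ g) hh
  obtain ⟨g, hg⟩ := exists_coeff_eq φ h1 hmul h h' heq y
  have := hg (e g : ℕ)
  rw [hy] at this
  exact hx g this

end Orbit

end Groth.Agent.Lib.Helper79.SchFinLib
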