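import Mathlib
import Groth.Prelude.Def_SchFin2
import Groth.Agent.Lib.Helper79.SchFinInvAlg
import Groth.Agent.Lib.Helper79.SchFinFibPres
import Groth.Agent.Lib.Helper79.SchFinSplit
import Groth.Agent.Lib.Helper79.SchFinCoeq
import Groth.Agent.Lib.Helper79.SchFinOrbit

set_option autoImplicit false
set_option linter.style.haveILetI false
set_option linter.unusedSectionVars false
universe u
open SchFin TensorProduct CategoryTheory CategoryTheory.Limits

namespace Groth.Agent.Lib.Helper79.SchFinLib

section Anti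
variable {R A S : Type u} [CommRing R] [CommRing A] [Algebra R A] [CommRing S] [Algebra R S]
  {G : Type*} [Group G]

theorem invSubalgebra_inv (φ : G → (A →ₐ[R] A)) :
    invSubalgebra (fun g => φ g⁻¹) = invSubalgebra φ := by
  ext a
  constructor
  · intro ha g
    have := ha g⁻¹
    change φ (g⁻¹)⁻¹ a = a at this
    rw [inv_inv] at this
    exact this
  · intro ha g
    exact ha g⁻¹

/-- invariants of a finite group anti-acting on a locally split algebra are étale -/
theorem invSubalgebra_etale' [Finite G] [IsNoetherianRing R] [Module.Finite R S]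
    [Module.FaithfullyFlat R S]
    (φ : G → (A →ₐ[R] A)) (h1 : φ 1 = AlgHom.id R A) (hmul : ∀ g h, φ (g * h) = (φ h).comp (φ g))
    {n : ℕ} (e : S ⊗[R] A ≃ₐ[S] (Fin n → S)) : Algebra.Etale R (invSubalgebra φ) := by
  have := invSubalgebra_etale (S := S) (fun g => φ g⁻¹) (by rw [inv_one]; exact h1)
    (fun g h => by rw [mul_inv_rev, hmul]) e
  rw [invSubalgebra_inv] at this
  exact this

theorem exists_eq_comp_of_eq_on_invariants' {K : Type*} [CommRing K] [IsDomain K] [Algebra R K]
    [Fintype G]
    (φ : G → (A →ₐ[R] A)) (h1 : φ 1 = AlgHom.id R A) (hmul : ∀ g h, φ (g * h) = (φ h).comp (φ g))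
    (h h' : A →ₐ[R] K) (heq : ∀ a ∈ invSubalgebra φ, h a = h' a) : ∃ g, h' = h.comp (φ g) := by
  obtain ⟨g, hg⟩ := exists_eq_comp_of_eq_on_invariants (fun g => φ g⁻¹)
    (by rw [inv_one]; exact h1) (fun g h => by rw [mul_inv_rev, hmul]) h h'
    (by rw [invSubalgebra_inv]; exact heq)
  exact ⟨g⁻¹, hg⟩

end Anti

section AlgInvEt'
variable {X : RSpace.{u}} (A : Alg X) {G : Type*} (φ : G → (A ⟶ A))

theorem Alg.inv_isEtCover' [Group G] [Finite G] (hX : X.IsFinSp) (hA : A.IsEtCover)
    (h1 : φ 1 = 𝟙 A) (hmul : ∀ g h, φ (g * h) = φ g ≫ φ h)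
    (hlt : ∃ (B : Alg X) (n : ℕ), B.IsCovering ∧ ∀ p : X.pt,
      Nonempty (TensorProduct (X.ring p) (B.carrier p) (A.carrier p) ≃ₐ[B.carrier p]
        (Fin n → B.carrier p))) :
    (Alg.inv A φ).IsEtCover := by
  obtain ⟨B, n, hB, hsplit⟩ := hlt
  refine ⟨Alg.inv_isQcoh A φ hX hA.1, fun p => ⟨?_, ?_⟩⟩
  · haveI := hX.1 p
    haveI := (hA.2 p).1
    haveI : IsNoetherian (X.ring p) (A.carrier p) := isNoetherian_of_isNoetherianRing_of_finite _ _
    exact Module.Finite.of_injective (invSubalgebra fun g => (φ g).app p).val.toLinearMap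
      Subtype.val_injective
  · haveI := hX.1 p
    haveI := (hB.2 p).1
    haveI := (hB.2 p).2
    obtain ⟨e⟩ := hsplit p
    exact invSubalgebra_etale' (fun g => (φ g).app p) (by rw [h1]; rfl)
      (fun g h => by rw [hmul]; rfl) e

end AlgInvEt'

section FintypeQuot
variable {G : Type u} [Group G]

/-- criterion for a cocone over a group action on finite types to be a colimit -/
noncomputable def FintypeCat.quotIsColimit (D : SingleObj G ⥤ FintypeCat.{u}) (c : Cocone D)
    (hsurj : Function.Surjective (c.ι.app (SingleObj.star G)))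
    (horb : ∀ x y, c.ι.app (SingleObj.star G) x = c.ι.app (SingleObj.star G) y →
      ∃ g : G, D.map (X := SingleObj.star G) (Y := SingleObj.star G) g x = y) : IsColimit c where
  desc s := FintypeCat.homMk fun p => s.ι.app (SingleObj.star G) (Function.surjInv hsurj p)
  fac s j := by
    ext x
    change s.ι.app (SingleObj.star G) (Function.surjInv hsurj (c.ι.app (SingleObj.star G) x)) =
      s.ι.app (SingleObj.star G) x
    generalize hz : Function.surjInv hsurj (c.ι.app (SingleObj.star G) x) = z
    have hzx : c.ι.app (SingleObj.star G) z = c.ι.app (SingleObj.star G) x := by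
      rw [← hz]
      exact Function.surjInv_eq hsurj _
    obtain ⟨g, hg⟩ := horb _ _ hzx
    have h2 := ConcreteCategory.congr_hom
      (s.w (j := SingleObj.star G) (j' := SingleObj.star G) g) z
    change s.ι.app (SingleObj.star G) (D.map (X := SingleObj.star G) (Y := SingleObj.star G) g z) =
      s.ι.app (SingleObj.star G) z at h2
    rw [hg] at h2
    exact h2.symm
  uniq s m hm := by
    ext p
    change m p = s.ι.app (SingleObj.star G) (Function.surjInv hsurj p)
    rw [← hm (SingleObj.star G)]
    change m p = m (c.ι.app (SingleObj.star G) (Function.surjInv hsurj p))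
    rw [Function.surjInv_eq hsurj p]

end FintypeQuot

section FibOrbit
variable {R Ω A : Type u} [CommRing R] [Field Ω] [IsAlgClosed Ω] [Algebra R Ω]
  [CommRing A] [Algebra R A] [Module.Finite R A] {G : Type*} [Group G] [Finite G]

theorem fib_orbit (φ : G → (A →ₐ[R] A)) (h1 : φ 1 = AlgHom.id R A)
    (hmul : ∀ g h, φ (g * h) = (φ h).comp (φ g))
    (y y' : PrimeSpectrum (Ω ⊗[R] A))
    (hyy' : PrimeSpectrum.comap
        (Algebra.TensorProduct.map (AlgHom.id Ω Ω) (invSubalgebra φ).val).toRingHom y =
      PrimeSpectrum.comap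
        (Algebra.TensorProduct.map (AlgHom.id Ω Ω) (invSubalgebra φ).val).toRingHom y') :
    ∃ g, PrimeSpectrum.comap (Algebra.TensorProduct.map (AlgHom.id Ω Ω) (φ g)).toRingHom y = y' := by
  cases nonempty_fintype G
  obtain ⟨h, rfl⟩ := phi_surjective (R := R) (Ω := Ω) y
  obtain ⟨h', rfl⟩ := phi_surjective (R := R) (Ω := Ω) y'
  rw [← phi_comp, ← phi_comp] at hyy'
  have e1 := phi_injective hyy'
  have heq : ∀ a ∈ invSubalgebra φ, h a = h' a := fun a ha =>
    congrArg (fun k => k (⟨a, ha⟩ : invSubalgebra φ)) e1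
  obtain ⟨g, hg⟩ := exists_eq_comp_of_eq_on_invariants' φ h1 hmul h h' heq
  refine ⟨g, ?_⟩
  rw [← phi_comp, hg]

end FibOrbit

section Quot
variable {X : RSpace.{u}} {G : Type u} [Group G] [Finite G] (K : SingleObj G ⥤ (FEt X)ᵒᵖ)

/-- the action on the underlying cover -/
def quotAct (g : G) : (K.obj (SingleObj.star G)).unop.obj ⟶ (K.obj (SingleObj.star G)).unop.obj :=
  (K.map (X := SingleObj.star G) (Y := SingleObj.star G) g).unop.hom

theorem quotAct_one : quotAct K 1 = 𝟙 _ :=
  congrArg (fun k => k.unop.hom) (K.map_id (SingleObj.star G))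

theorem quotAct_mul (g h : G) : quotAct K (g * h) = quotAct K g ≫ quotAct K h :=
  congrArg (fun k => k.unop.hom) (K.map_comp (X := SingleObj.star G) (Y := SingleObj.star G)
    (Z := SingleObj.star G) h g)

variable (hX : X.IsSchematic)
  (hlt : ∀ A : FEt X, ∃ (B : Alg X) (n : ℕ), B.IsCovering ∧
    ∀ p : X.pt, Nonempty (TensorProduct (X.ring p) (B.carrier p) (A.obj.carrier p) ≃ₐ[B.carrier p]
      (Fin n → B.carrier p)))

/-- the cover of invariants -/
def quotPt : FEt X :=
  ⟨Alg.inv (K.obj (SingleObj.star G)).unop.obj (quotAct K),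
    Alg.inv_isEtCover' _ _ hX.1 (K.obj (SingleObj.star G)).unop.property (quotAct_one K)
      (quotAct_mul K) (hlt _)⟩

/-- the inclusion of the invariants -/
def quotι : quotPt K hX hlt ⟶ (K.obj (SingleObj.star G)).unop :=
  ObjectProperty.homMk (Alg.invι _ _)

/-- the quotient cocone in the opposite category -/
def quotCocone : Cocone K where
  pt := Opposite.op (quotPt K hX hlt)
  ι :=
    { app := fun _ => (quotι K hX hlt).op
      naturality := fun j j' g => by
        apply Quiver.Hom.unop_inj
        apply ObjectProperty.hom_ext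
        change Alg.invι _ _ ≫ quotAct K g = 𝟙 _ ≫ Alg.invι _ _
        rw [Alg.invι_comp, Category.id_comp] }

theorem quotCocone_w (s : Cocone K) (g : G) :
    (s.ι.app (SingleObj.star G)).unop.hom ≫ quotAct K g = (s.ι.app (SingleObj.star G)).unop.hom :=
  congrArg (fun k => k.unop.hom) (s.w (j := SingleObj.star G) (j' := SingleObj.star G) g)

/-- the quotient cocone is a colimit -/
def quotCoconeIsColimit : IsColimit (quotCocone K hX hlt) where
  desc s := (ObjectProperty.homMk (Alg.invLift (s.ι.app (SingleObj.star G)).unop.hom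
    (quotCocone_w K s)) : s.pt.unop ⟶ quotPt K hX hlt).op
  fac s j := by
    apply Quiver.Hom.unop_inj
    apply ObjectProperty.hom_ext
    exact Alg.invLift_ι (s.ι.app (SingleObj.star G)).unop.hom (quotCocone_w K s)
  uniq s m hm := by
    apply Quiver.Hom.unop_inj
    apply ObjectProperty.hom_ext
    exact Alg.invLift_uniq (s.ι.app (SingleObj.star G)).unop.hom (quotCocone_w K s) m.unop.hom
      (congrArg (fun k => k.unop.hom) (hm (SingleObj.star G)))

end Quot

section PresQuot
variable {X : RSpace.{u}} {Ω : Type u} [Field Ω] [IsAlgClosed Ω] (ξ : GeomPt X Ω)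
  {G : Type u} [Group G] [Finite G]

theorem fibFunctor_preservesQuot (hX : X.IsSchematic)
    (hlt : ∀ A : FEt X, ∃ (B : Alg X) (n : ℕ), B.IsCovering ∧
      ∀ p : X.pt, Nonempty (TensorProduct (X.ring p) (B.carrier p) (A.obj.carrier p) ≃ₐ[B.carrier p]
        (Fin n → B.carrier p)))
    (K : SingleObj G ⥤ (FEt X)ᵒᵖ) : PreservesColimit K ξ.fibFunctor := by
  letI : Algebra (X.ring ξ.base) Ω := ξ.toField.toAlgebra
  apply preservesColimit_of_preserves_colimit_cocone (quotCoconeIsColimit K hX hlt)
  apply FintypeCat.quotIsColimit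
  · exact fibMap_surjective_of_injective ξ (quotι K hX hlt) Subtype.val_injective
  · intro x y hxy
    haveI : Module.Finite (X.ring ξ.base) ((K.obj (SingleObj.star G)).unop.obj.carrier ξ.base) :=
      ((K.obj (SingleObj.star G)).unop.property.2 ξ.base).1
    exact fib_orbit (fun g => (quotAct K g).app ξ.base) (by rw [quotAct_one]; rfl)
      (fun g h => by rw [quotAct_mul]; rfl) x y hxy

theorem FEt.galois (hX : X.IsSchematic)
    (hlt : ∀ A : FEt X, ∃ (B : Alg X) (n : ℕ), B.IsCovering ∧
      ∀ p : X.pt, Nonempty (TensorProduct (X.ring p) (B.carrier p) (A.obj.carrier p) ≃ₐ[B.carrier p]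
        (Fin n → B.carrier p)))
    (hepi : ∀ (A B : FEt X) (f : A ⟶ B), Epi f → ∀ p : X.pt, Function.Surjective (f.hom.app p)) :
    ∃ h : PreGaloisCategory (FEt X)ᵒᵖ,
      @PreGaloisCategory.FiberFunctor (FEt X)ᵒᵖ _ h ξ.fibFunctor := by
  haveI := FEt.hasInitial X
  haveI := FEt.hasPushouts hX.1
  haveI := FEt.hasTerminal X
  haveI := FEt.hasBinaryProducts X
  haveI : HasFiniteCoproducts (FEt X)ᵒᵖ := hasFiniteCoproducts_of_has_binary_and_initial
  let h : PreGaloisCategory (FEt X)ᵒᵖ :=
    { hasTerminal := inferInstance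
      hasPullbacks := inferInstance
      hasFiniteCoproducts := inferInstance
      hasQuotientsByFiniteGroups := fun G _ _ =>
        ⟨fun K => HasColimit.mk ⟨_, quotCoconeIsColimit K hX hlt⟩⟩
      monoInducesIsoOnDirectSummand := fun {A B} i _ => by
        have hsurj := hepi _ _ i.unop inferInstance
        obtain ⟨D, π, ⟨hlim⟩⟩ := FEt.exists_isLimit_of_surjective hX i.unop hsurj
        exact ⟨Opposite.op D, π.op, ⟨isColimitOpOfIsLimit hlim⟩⟩ }
  refine ⟨h, ?_⟩
  exact
    { preservesTerminalObjects := fibFunctor_preservesTerminal ξ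
      preservesPullbacks := fibFunctor_preservesPullbacks ξ hX
      preservesFiniteCoproducts := fibFunctor_preservesFiniteCoproducts ξ
      preservesEpis := fibFunctor_preservesEpimorphisms ξ hX
      preservesQuotientsByFiniteGroups := fun G _ _ =>
        ⟨fun {K} => fibFunctor_preservesQuot ξ hX hlt K⟩
      reflectsIsos := reflectsIsomorphisms_fibFunctor ξ hX hlt }

end PresQuot

end Groth.Agent.Lib.Helper79.SchFinLib
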