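import Mathlib
import Groth.Prelude.Def_SchFin2

set_option autoImplicit false
set_option linter.style.haveILetI false
universe u
open SchFin

namespace Groth.Agent.Lib.Helper79.SchFinLib

/-- idempotents of a ring with connected spectrum are trivial -/
theorem idem_eq_zero_or_one {R : Type*} [CommRing R] [PreconnectedSpace (PrimeSpectrum R)] (e : R)
    (he : IsIdempotentElem e) : e = 0 ∨ e = 1 := by
  have hclopen : IsClopen (PrimeSpectrum.basicOpen e : Set (PrimeSpectrum R)) :=
    PrimeSpectrum.isClopen_iff.2 ⟨e, he, rfl⟩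
  rcases isClopen_iff.1 hclopen with h | h
  · left
    have h' : PrimeSpectrum.basicOpen e = ⊥ := TopologicalSpace.Opens.ext h
    rw [PrimeSpectrum.basicOpen_eq_bot_iff] at h'
    exact he.eq_zero_of_isNilpotent h'
  · right
    have h1 : (PrimeSpectrum.basicOpen (1 - e) : Set (PrimeSpectrum R)) = ∅ := by
      rw [← PrimeSpectrum.zeroLocus_eq_basicOpen_of_isIdempotentElem e he]
      have h2 := PrimeSpectrum.basicOpen_eq_zeroLocus_compl e
      rw [h] at h2
      exact Set.compl_univ_iff.1 h2.symm |>.symm ▸ rfl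
    have h' : PrimeSpectrum.basicOpen (1 - e) = ⊥ := TopologicalSpace.Opens.ext h1
    rw [PrimeSpectrum.basicOpen_eq_bot_iff] at h'
    have := he.one_sub.eq_zero_of_isNilpotent h'
    exact (sub_eq_zero.1 this).symm

/-- maps of trivial covers of a connected space come from maps of finite sets -/
theorem trivCover_hom (X : RSpace.{u}) (hW : X.IsConnected) (F E : Type) [Finite F] [Finite E]
    (f : ∀ p : X.pt, (F → X.ring p) →ₐ[X.ring p] (E → X.ring p))
    (hf : ∀ (p q : X.pt) (h : p ≤ q) (g : F → X.ring p) (e : E),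
      X.res h (f p g e) = f q (fun i => X.res h (g i)) e) :
    ∃ φ : E → F, ∀ (p : X.pt) (g : F → X.ring p) (e : E), f p g e = g (φ e) := by
  classical
  cases nonempty_fintype F
  haveI : ConnectedSpace (PrimeSpectrum (X.sectRing Set.univ)) := hW
  haveI : Nontrivial (X.sectRing Set.univ) := by
    obtain ⟨P⟩ := (ConnectedSpace.toNonempty : Nonempty (PrimeSpectrum (X.sectRing Set.univ)))
    exact ⟨⟨0, 1, fun h01 => P.2.ne_top ((Ideal.eq_top_iff_one _).2 (h01 ▸ P.asIdeal.zero_mem))⟩⟩
  have hsingle : ∀ (p q : X.pt) (h : p ≤ q) (i : F),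
      (fun i' => X.res h ((Pi.single i 1 : F → X.ring p) i')) = (Pi.single i 1 : F → X.ring q) := by
    intro p q h i
    funext i'
    by_cases hi : i' = i <;> simp [hi]
  let s : F → E → X.sectRing Set.univ := fun i e =>
    ⟨fun q => f q.1 (Pi.single i 1) e, fun q q' h => by rw [hf q.1 q'.1 h, hsingle]⟩
  have hs_val : ∀ i e (p : X.pt), (s i e).1 ⟨p, trivial⟩ = f p (Pi.single i 1) e := fun _ _ _ => rfl
  have hs_idem : ∀ i e, IsIdempotentElem (s i e) := by
    intro i e
    apply Subtype.ext
    funext q
    change f q.1 (Pi.single i 1) e * f q.1 (Pi.single i 1) e = f q.1 (Pi.single i 1) e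
    rw [← Pi.mul_apply, ← map_mul]
    have : (Pi.single i 1 * Pi.single i 1 : F → X.ring q.1) = Pi.single i 1 := by
      funext j
      by_cases hj : j = i <;> simp [hj]
    rw [this]
  have hs_orth : ∀ i i' e, i ≠ i' → s i e * s i' e = 0 := by
    intro i i' e hii'
    apply Subtype.ext
    funext q
    change f q.1 (Pi.single i 1) e * f q.1 (Pi.single i' 1) e = 0
    rw [← Pi.mul_apply, ← map_mul]
    have : (Pi.single i 1 * Pi.single i' 1 : F → X.ring q.1) = 0 := by
      funext j
      simp only [Pi.mul_apply, Pi.single_apply, Pi.zero_apply]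
      split_ifs with h1 h2
      · exact absurd (h1.symm.trans h2) hii'
      · simp
      · simp
      · simp
    rw [this, map_zero]
    rfl
  have hs_sum : ∀ e, ∑ i, s i e = 1 := by
    intro e
    apply Subtype.ext
    funext q
    have h1 : ((∑ i, s i e : X.sectRing Set.univ) : (q : ↥(Set.univ : Set X.pt)) → X.ring q.1) q =
        ∑ i, f q.1 (Pi.single i 1) e := by
      have := map_sum (X.sectRing Set.univ).subtype (fun i => s i e) Finset.univ
      change ((∑ i, s i e : X.sectRing Set.univ) : (q : ↥(Set.univ : Set X.pt)) → X.ring q.1) =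
        ∑ i, ((s i e : X.sectRing Set.univ) : (q : ↥(Set.univ : Set X.pt)) → X.ring q.1) at this
      rw [this, Finset.sum_apply]
    rw [h1]
    have h2 : ∑ i, f q.1 (Pi.single i 1) e = f q.1 (∑ i, Pi.single i 1) e := by
      rw [map_sum, Finset.sum_apply]
    rw [h2]
    have h3 : (∑ i, Pi.single i 1 : F → X.ring q.1) = 1 := by
      funext j
      simp [Finset.sum_apply, Pi.single_apply]
    rw [h3, map_one]
    rfl
  have h01 : ∀ i e, s i e = 0 ∨ s i e = 1 := fun i e => idem_eq_zero_or_one _ (hs_idem i e)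
  have hex : ∀ e, ∃ i, s i e = 1 := by
    intro e
    by_contra hne
    have h0 : ∀ i, s i e = 0 := fun i => (h01 i e).resolve_right fun h => hne ⟨i, h⟩
    have h1 : (∑ i, s i e) = 0 := Finset.sum_eq_zero fun i _ => h0 i
    rw [hs_sum] at h1
    exact one_ne_zero h1
  choose φ hφ using hex
  refine ⟨φ, fun p g e => ?_⟩
  have hg : g = ∑ i, g i • (Pi.single i 1 : F → X.ring p) := by
    funext j
    simp [Finset.sum_apply, Pi.single_apply]
  have h1 : f p g e = ∑ i, g i * f p (Pi.single i 1) e := by
    conv_lhs => rw [hg]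
    rw [map_sum, Finset.sum_apply]
    apply Finset.sum_congr rfl
    intro i _
    rw [map_smul]
    rfl
  rw [h1, Finset.sum_eq_single (φ e)]
  · have := congrArg (fun t : X.sectRing Set.univ => t.1 ⟨p, trivial⟩) (hφ e)
    change f p (Pi.single (φ e) 1) e = 1 at this
    rw [this, mul_one]
  · intro i _ hi
    have h0 : s i e = 0 := by
      have := hs_orth i (φ e) e hi
      rw [hφ e, mul_one] at this
      exact this
    have := congrArg (fun t : X.sectRing Set.univ => t.1 ⟨p, trivial⟩) h0
    change f p (Pi.single i 1) e = 0 at this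
    rw [this, mul_zero]
  · intro h
    exact absurd (Finset.mem_univ _) h

end Groth.Agent.Lib.Helper79.SchFinLib
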