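import Mathlib

/-!
# Systems of parameters inside an ideal of a semi-local Noetherian ring

`Inv J n` : every minimal prime over `J` is a maximal ideal or has height `≥ n`.
Prime avoidance lets us add an element of an ideal `b` (not contained in any non-maximal minimal
prime over `J`) so that `Inv (J ⊔ (x)) (n+1)` holds.
-/

namespace Groth.Agent.Lib.Helper79.SemilocalSop

variable {A : Type*} [CommRing A]

/-- every minimal prime over `J` is maximal or of height at least `n`. -/
def Inv (J : Ideal A) (n : ℕ) : Prop :=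
  ∀ q ∈ J.minimalPrimes, q.IsMaximal ∨ (n : ℕ∞) ≤ q.height

lemma inv_bot_zero : Inv (⊥ : Ideal A) 0 := fun _ _ => Or.inr (by simp)

lemma step [IsNoetherianRing A] (J b : Ideal A) (n : ℕ) (hJ : Inv J n)
    (hb : ∀ q ∈ J.minimalPrimes, ¬ q.IsMaximal → ¬ b ≤ q) :
    ∃ x ∈ b, Inv (J ⊔ Ideal.span {x}) (n + 1) := by
  classical
  have hfin : (J.minimalPrimes).Finite := Ideal.finite_minimalPrimes_of_isNoetherianRing A J
  set T : Set (Ideal A) := {q | q ∈ J.minimalPrimes ∧ ¬ q.IsMaximal} with hT
  have hTfin : T.Finite := hfin.subset (fun q hq => hq.1)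
  obtain ⟨x, hxb, hx⟩ : ∃ x ∈ b, ∀ q ∈ T, x ∉ q := by
    by_contra hcon
    push Not at hcon
    have hsub : ((b : Set A)) ⊆ ⋃ q ∈ (↑hTfin.toFinset : Set (Ideal A)), ((id q : Ideal A) : Set A) := by
      intro x hx
      obtain ⟨q, hq, hxq⟩ := hcon x hx
      simp only [Set.Finite.coe_toFinset, id, Set.mem_iUnion]
      exact ⟨q, hq, hxq⟩
    have hex := (Ideal.subset_union_prime (s := hTfin.toFinset) (f := fun q : Ideal A => id q)
      ⊥ ⊥ (fun q hq _ _ => by
        have hq' : q ∈ T := by simpa using hq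
        exact hq'.1.1.1) (I := b)).1 hsub
    obtain ⟨q, hq, hbq⟩ := hex
    have hq' : q ∈ T := by simpa using hq
    exact hb q hq'.1 hq'.2 hbq
  refine ⟨x, hxb, ?_⟩
  intro Q hQ
  by_cases hQmax : Q.IsMaximal
  · exact Or.inl hQmax
  right
  haveI : Q.IsPrime := hQ.1.1
  have hJQ : J ≤ Q := le_sup_left.trans hQ.1.2
  have hxQ : x ∈ Q := hQ.1.2 (Ideal.mem_sup_right (Ideal.mem_span_singleton_self x))
  obtain ⟨q, hq, hqQ⟩ := Ideal.exists_minimalPrimes_le hJQ
  haveI : q.IsPrime := hq.1.1
  have hqmax : ¬ q.IsMaximal := by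
    intro hmax
    have : q = Q := hmax.eq_of_le (Ideal.IsPrime.ne_top ‹_›) hqQ
    exact hQmax (this ▸ hmax)
  have hxq : x ∉ q := hx q ⟨hq, hqmax⟩
  have hlt : q < Q := lt_of_le_of_ne hqQ (fun h => hxq (h ▸ hxQ))
  have h1 : (n : ℕ∞) ≤ q.height := (hJ q hq).resolve_left hqmax
  have h2 := Ideal.height_add_one_le_of_lt_of_isPrime hlt
  calc ((n + 1 : ℕ) : ℕ∞) = (n : ℕ∞) + 1 := by push_cast; rfl
    _ ≤ q.height + 1 := by gcongr
    _ ≤ Q.height := h2

/-- In a semi-local ring, a prime containing the Jacobson radical is maximal. -/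
lemma isMaximal_of_jacobson_le [Finite (MaximalSpectrum A)] (q : Ideal A) [hq : q.IsPrime]
    (h : Ring.jacobson A ≤ q) : q.IsMaximal := by
  classical
  have : Fintype (MaximalSpectrum A) := Fintype.ofFinite _
  have hjac : (Finset.univ : Finset (MaximalSpectrum A)).inf (fun m => m.asIdeal) ≤ q := by
    refine le_trans ?_ h
    rw [Ring.jacobson_eq_sInf_isMaximal]
    refine le_sInf (fun m hm => ?_)
    exact Finset.inf_le (f := fun m : MaximalSpectrum A => m.asIdeal)
      (Finset.mem_univ (⟨m, hm⟩ : MaximalSpectrum A))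
  obtain ⟨m, -, hm⟩ := hq.inf_le'.1 hjac
  have : m.asIdeal = q := m.isMaximal.eq_of_le hq.ne_top hm
  exact this ▸ m.isMaximal

/-- Phase 2: complete by elements of the Jacobson radical. -/
lemma exists_list_jacobson [IsNoetherianRing A] [Finite (MaximalSpectrum A)]
    (j : ℕ) : ∀ (J : Ideal A) (n : ℕ), Inv J n →
    ∃ ys : List A, ys.length = j ∧ (∀ y ∈ ys, y ∈ Ring.jacobson A) ∧
      Inv (J ⊔ Ideal.ofList ys) (n + j) := by
  induction j with
  | zero =>
    intro J n hJ
    exact ⟨[], rfl, by simp, by simpa using hJ⟩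
  | succ j ih =>
    intro J n hJ
    obtain ⟨x, hx, hinv⟩ := step J (Ring.jacobson A) n hJ (fun q hq hqmax hle => by
      have : q.IsPrime := hq.1.1
      exact hqmax (isMaximal_of_jacobson_le q hle))
    obtain ⟨ys, hlen, hys, hinv'⟩ := ih _ _ hinv
    refine ⟨x :: ys, by simp [hlen], ?_, ?_⟩
    · intro y hy
      rcases List.mem_cons.1 hy with rfl | hy
      · exact hx
      · exact hys y hy
    · rw [Ideal.ofList_cons, ← sup_assoc]
      have : n + 1 + j = n + (j + 1) := by ring
      rwa [this] at hinv'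

/-- Krull's height theorem for `Ideal.ofList`. -/
lemma height_le_length [IsNoetherianRing A] (l : List A) (q : Ideal A)
    (hq : q ∈ (Ideal.ofList l).minimalPrimes) : q.height ≤ l.length := by
  classical
  have h1 : q ∈ (Ideal.span (l.toFinset : Set A)).minimalPrimes := by
    rw [List.coe_toFinset]; exact hq
  refine (Ideal.height_le_card_of_mem_minimalPrimes_span_finset h1).trans ?_
  exact_mod_cast List.toFinset_card_le l

/-- Phase 1: elements of `a ⊓ jac`. -/
lemma exists_list_inf [IsNoetherianRing A] [Finite (MaximalSpectrum A)] (a : Ideal A)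
    (i : ℕ) (hi : (i : ℕ∞) ≤ a.height) :
    ∃ l : List A, l.length = i ∧ (∀ y ∈ l, y ∈ a ∧ y ∈ Ring.jacobson A) ∧
      Inv (Ideal.ofList l) i := by
  induction i with
  | zero => exact ⟨[], rfl, by simp, by simpa using inv_bot_zero⟩
  | succ i ih =>
    have hi' : (i : ℕ∞) < a.height := lt_of_lt_of_le (by exact_mod_cast Nat.lt_succ_self i) hi
    obtain ⟨l, hlen, hl, hinv⟩ := ih hi'.le
    obtain ⟨x, hx, hinv'⟩ := step (Ideal.ofList l) (a ⊓ Ring.jacobson A) i hinv
      (fun q hq hqmax hle => by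
        have hqp : q.IsPrime := hq.1.1
        rcases hqp.inf_le.1 hle with h | h
        · have h1 : a.height ≤ q.height := Ideal.height_mono h
          have h2 := height_le_length l q hq
          rw [hlen] at h2
          exact absurd (hi'.trans_le h1) (not_lt.2 h2)
        · exact hqmax (isMaximal_of_jacobson_le q h))
    refine ⟨x :: l, by simp [hlen], ?_, ?_⟩
    · intro y hy
      rcases List.mem_cons.1 hy with rfl | hy
      · exact ⟨hx.1, hx.2⟩
      · exact hl y hy
    · rwa [Ideal.ofList_cons, sup_comm]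

/-- If all minimal primes over `J` are maximal then `A ⧸ J` has finite length. -/
lemma isFiniteLength_quotient [IsNoetherianRing A] (J : Ideal A)
    (hJ : ∀ q ∈ J.minimalPrimes, q.IsMaximal) : IsFiniteLength A (A ⧸ J) := by
  have hdim : Ring.KrullDimLE 0 (A ⧸ J) := by
    rw [Ring.krullDimLE_zero_iff]
    intro P hP
    have hcomap : (P.comap (Ideal.Quotient.mk J)).IsPrime := Ideal.comap_isPrime _ P
    have hle : J ≤ P.comap (Ideal.Quotient.mk J) := by
      intro x hx
      simp [Ideal.mem_comap, Ideal.Quotient.eq_zero_iff_mem.2 hx]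
    obtain ⟨q, hq, hqP⟩ := Ideal.exists_minimalPrimes_le hle
    have hqmax := hJ q hq
    have heq : q = P.comap (Ideal.Quotient.mk J) := hqmax.eq_of_le hcomap.ne_top hqP
    have hmax : (P.comap (Ideal.Quotient.mk J)).IsMaximal := heq ▸ hqmax
    have := Ideal.map_eq_top_or_isMaximal_of_surjective (Ideal.Quotient.mk J)
      Ideal.Quotient.mk_surjective hmax
    rw [Ideal.map_comap_of_surjective _ Ideal.Quotient.mk_surjective] at this
    exact this.resolve_left hP.ne_top
  have hart : IsArtinianRing (A ⧸ J) :=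
    isArtinianRing_iff_isNoetherianRing_krullDimLE_zero.2 ⟨inferInstance, hdim⟩
  have : IsArtinian A (A ⧸ J) :=
    isArtinian_of_surjective_algebraMap (R := A ⧸ J) (S := A) Ideal.Quotient.mk_surjective
  exact isFiniteLength_iff_isNoetherian_isArtinian.2 ⟨inferInstance, this⟩

/-- The Krull dimension of a nontrivial semi-local Noetherian ring is a natural number. -/
lemma exists_ringKrullDim_eq [IsNoetherianRing A] [Finite (MaximalSpectrum A)] [Nontrivial A] :
    ∃ d : ℕ, ringKrullDim A = ((d : ℕ∞) : WithBot ℕ∞) := by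
  have hlt : ∀ m : MaximalSpectrum A, m.asIdeal.height ≠ ⊤ := fun m =>
    Ideal.height_ne_top m.isMaximal.ne_top
  obtain ⟨m₀, hm₀⟩ := Finite.exists_max (fun m : MaximalSpectrum A => m.asIdeal.height.toNat)
  have hsup : (⨆ (I : Ideal A) (_ : I.IsMaximal), I.height) ≤ (m₀.asIdeal.height.toNat : ℕ∞) := by
    refine iSup₂_le (fun I hI => ?_)
    have h1 := hm₀ ⟨I, hI⟩
    have h2 : I.height = (I.height.toNat : ℕ∞) := (ENat.coe_toNat (hlt ⟨I, hI⟩)).symm
    rw [h2]
    exact_mod_cast h1
  have hne : (⨆ (I : Ideal A) (_ : I.IsMaximal), I.height) ≠ ⊤ :=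
    (hsup.trans_lt (ENat.coe_lt_top _)).ne
  obtain ⟨d, hd⟩ := ENat.ne_top_iff_exists.1 hne
  refine ⟨d, ?_⟩
  rw [← Ideal.sup_isMaximal_height_eq_ringKrullDim, ← hd]

/-- At `n = dim A` the invariant forces all minimal primes to be maximal. -/
lemma forall_isMaximal_of_inv (J : Ideal A) (d : ℕ) [IsNoetherianRing A]
    (hd : ringKrullDim A = ((d : ℕ∞) : WithBot ℕ∞)) (hJ : Inv J d) :
    ∀ q ∈ J.minimalPrimes, q.IsMaximal := by
  intro q hq
  rcases hJ q hq with h | h
  · exact h
  · have hqp : q.IsPrime := hq.1.1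
    have : FiniteRingKrullDim A := by
      rw [finiteRingKrullDim_iff_ne_bot_and_top, hd]
      exact ⟨WithBot.coe_ne_bot, by exact_mod_cast ENat.coe_ne_top d⟩
    apply Ideal.isMaximal_of_height_eq_ringKrullDim
    · refine le_antisymm Ideal.height_le_ringKrullDim_of_isPrime ?_
      rw [hd]
      exact_mod_cast h

end Groth.Agent.Lib.Helper79.SemilocalSop
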