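import Mathlib

/-!
# Separating families of functionals on a tensor product over a field

If `Φ ⊆ V*` and `Ψ ⊆ W*` are separating families of linear functionals on vector spaces over a
field, then the functionals `φ ⊗ ψ` separate the points of `V ⊗ W`.
-/

open TensorProduct

namespace Groth.Agent.Lib.Helper79.TensorSeparate

universe u v w

variable {k : Type u} {V : Type v} {W : Type w} [Field k] [AddCommGroup V] [Module k V]
  [AddCommGroup W] [Module k W]

/-- The functional `φ ⊗ ψ` on `V ⊗ W`. -/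
noncomputable def tmulFun (φ : V →ₗ[k] k) (ψ : W →ₗ[k] k) : V ⊗[k] W →ₗ[k] k :=
  (LinearMap.mul' k k).comp (TensorProduct.map φ ψ)

@[simp] theorem tmulFun_tmul (φ : V →ₗ[k] k) (ψ : W →ₗ[k] k) (v : V) (w : W) :
    tmulFun φ ψ (v ⊗ₜ w) = φ v * ψ w := by
  simp [tmulFun]

theorem tmulFun_eq_left (φ : V →ₗ[k] k) (ψ : W →ₗ[k] k) (y : V ⊗[k] W) :
    tmulFun φ ψ y = ψ (TensorProduct.lid k W (LinearMap.rTensor W φ y)) := by
  induction y using TensorProduct.induction_on with
  | zero => simp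
  | tmul v w => simp
  | add a b ha hb => simp only [map_add, ha, hb]

theorem coord_eq (𝒞 : Module.Basis (Module.Basis.ofVectorSpaceIndex k W) k W)
    (i : Module.Basis.ofVectorSpaceIndex k W) (φ : V →ₗ[k] k) (y : V ⊗[k] W) :
    φ (TensorProduct.rid k V ((𝒞.coord i).lTensor V y)) =
      𝒞.coord i (TensorProduct.lid k W (LinearMap.rTensor W φ y)) := by
  induction y using TensorProduct.induction_on with
  | zero => simp
  | tmul v w => simp [mul_comm]
  | add a b ha hb => simp only [map_add, ha, hb]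

theorem eq_zero_of_forall_tmulFun_eq_zero (Φ : Set (V →ₗ[k] k)) (Ψ : Set (W →ₗ[k] k))
    (hΦ : ∀ v, (∀ φ ∈ Φ, φ v = 0) → v = 0) (hΨ : ∀ w, (∀ ψ ∈ Ψ, ψ w = 0) → w = 0)
    (y : V ⊗[k] W) (hy : ∀ φ ∈ Φ, ∀ ψ ∈ Ψ, tmulFun φ ψ y = 0) : y = 0 := by
  have hA : ∀ φ ∈ Φ, TensorProduct.lid k W (LinearMap.rTensor W φ y) = 0 := by
    intro φ hφ
    apply hΨ
    intro ψ hψ
    rw [← tmulFun_eq_left]
    exact hy φ hφ ψ hψ
  classical
  let 𝒞 := Module.Basis.ofVectorSpace k W
  apply (TensorProduct.equivFinsuppOfBasisRight 𝒞).injective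
  rw [map_zero]
  ext i
  rw [TensorProduct.equivFinsuppOfBasisRight_apply, Finsupp.zero_apply]
  apply hΦ
  intro φ hφ
  rw [coord_eq 𝒞 i φ y, hA φ hφ, map_zero]

end Groth.Agent.Lib.Helper79.TensorSeparate
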