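import Mathlib
import Groth.Agent.Lib.Helper47.LocHomology
import Groth.Agent.Lib.Helper47.CechKoszul
import Groth.Agent.Lib.Helper73.TorFirstVar
import Groth.Agent.Lib.Helper16.DimShift.TorSecond
import Groth.Agent.Lib.Helper15.TorSymm
import Groth.Agent.S9267
import Groth.Agent.S9264
import Groth.Agent.S15821
import Groth.Agent.S11623
import Groth.Agent.S11665
import Groth.Agent.S0302
import Groth.Agent.S0341
import Groth.Agent.Lib.Helper22.CMSop
import Groth.Agent.Lib.Helper60.LocalCohBasic

/-!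
# `Tor` of the top extended Čech cohomology of a regular sequence against a module killed by
the sequence (helper79)
-/

set_option autoImplicit false
universe u
open CategoryTheory CategoryTheory.Limits MonoidalCategory

noncomputable section

namespace Groth.Agent.Lib.Helper79.TorCech

variable {A : Type u} [CommRing A]

/-- `Tor_p(X, N)`. -/
abbrev T (p : ℕ) (X N : ModuleCat.{u} A) : ModuleCat.{u} A :=
  ((Tor (ModuleCat.{u} A) p).obj X).obj N

/-- `Tor_p(X, N) = 0` when `a` acts invertibly on `X` and kills `N`. -/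
theorem isZero_tor_of_isIso_smul (X N : ModuleCat.{u} A) (a : A) (hX : IsIso (a • 𝟙 X))
    (hN : ∀ y : N, a • y = 0) (p : ℕ) : IsZero (T p X N) := by
  have h0 : ((Tor (ModuleCat.{u} A) p).obj N).map (a • 𝟙 X) = 0 :=
    Groth.Agent.Lib.Helper16.DimShift.torSnd_map_smul_id N p a hN X
  have hiso : IsIso (((Tor (ModuleCat.{u} A) p).obj N).map (a • 𝟙 X)) := inferInstance
  have hz : IsZero (((Tor (ModuleCat.{u} A) p).obj N).obj X) := by
    rw [IsZero.iff_id_eq_zero]
    have h1 := IsIso.hom_inv_id (((Tor (ModuleCat.{u} A) p).obj N).map (a • 𝟙 X))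
    rw [← h1]
    generalize inv (((Tor (ModuleCat.{u} A) p).obj N).map (a • 𝟙 X)) = g
    rw [h0, zero_comp]
  exact hz.of_iso (((Groth.Agent.Lib.Helper15.TorSymm.torSymm p).app X).app N)

/-- `Tor_{p+1}(X, N) = 0` for `X` flat. -/
theorem isZero_tor_succ_of_flat (X N : ModuleCat.{u} A) [Module.Flat A X] (p : ℕ) :
    IsZero (T (p + 1) X N) :=
  (Groth.Agent.Lib.Helper15.TorSymm.isZero_A_succ_of_flat X N p).of_iso
    (((Groth.Agent.Lib.Helper15.TorSymm.torIsoA (p + 1)).app X).app N)

/-- `Tor_0(X, N) = 0` when `X ⊗ N` is a quotient of something zero: right exactness. -/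
theorem isZero_tor_zero_of_epi {X Y : ModuleCat.{u} A} (g : X ⟶ Y) [Epi g] (N : ModuleCat.{u} A)
    (h : IsZero (T 0 X N)) : IsZero (T 0 Y N) := by
  let FX := (tensoringLeft (ModuleCat.{u} A)).obj X
  let FY := (tensoringLeft (ModuleCat.{u} A)).obj Y
  have hX : IsZero (X ⊗ N) := h.of_iso ((FX.leftDerivedZeroIsoSelf.app N).symm)
  have hsurj : Function.Surjective (g ▷ N).hom := by
    change Function.Surjective (LinearMap.rTensor N g.hom)
    exact LinearMap.rTensor_surjective N ((ModuleCat.epi_iff_surjective g).mp inferInstance)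
  have hepi : Epi (g ▷ N) := (ModuleCat.epi_iff_surjective _).mpr hsurj
  have hY : IsZero (Y ⊗ N) := IsZero.of_epi (g ▷ N) hX
  exact hY.of_iso (FY.leftDerivedZeroIsoSelf.app N)

/-- Dimension shifting: for `S` short exact with `Tor_p(S.X₂, N) = 0` for all `p`, we have
`Tor_{p+1}(S.X₃, N) ≅ Tor_p(S.X₁, N)` and `Tor_0(S.X₃, N) = 0`. -/
theorem tor_shift {S : ShortComplex (ModuleCat.{u} A)} (hS : S.ShortExact) (N : ModuleCat.{u} A)
    (h2 : ∀ p : ℕ, IsZero (T p S.X₂ N)) :
    IsZero (T 0 S.X₃ N) ∧ ∀ p : ℕ, Nonempty (T (p + 1) S.X₃ N ≅ T p S.X₁ N) := by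
  refine ⟨?_, fun p => ?_⟩
  · haveI := hS.epi_g
    exact isZero_tor_zero_of_epi S.g N (h2 0)
  · obtain ⟨-, δ, w₁, w₂, e₃, e₁⟩ := Groth.Agent.Lib.Helper73.tor_les_first hS N p
    have hm : Mono δ := e₃.mono_g ((h2 (p + 1)).eq_of_src _ _)
    have he : Epi δ := e₁.epi_f ((h2 p).eq_of_tgt _ _)
    haveI := isIso_of_mono_of_epi δ
    exact ⟨asIso δ⟩

section Step

attribute [local instance] HasDerivedCategory.standard

open CochainComplex HomologicalComplex

variable {K L : DRing.Cx A} (φ : K ⟶ L)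

/-- The short complex `H^n(K) ⟶ H^n(L) ⟶ H^{n+1}(cocone φ)`. -/
def coconeSC (n₀ n₁ : ℤ) (h : n₀ + 1 = n₁) : ShortComplex (ModuleCat.{u} A) :=
  ShortComplex.mk (homologyMap φ n₀) (homologyδOfTriangle (mappingCocone.triangle φ) n₀ n₁ h)
    (homologyMap_homologyδOfTriangle (mappingCocone.triangle φ)
      (DerivedCategory.mappingCocone_triangle_distinguished φ) n₀ n₁ h)

theorem coconeSC_shortExact (n₀ n₁ : ℤ) (h : n₀ + 1 = n₁)
    (h1 : IsZero ((mappingCocone φ).homology n₀)) (h2 : IsZero (K.homology n₁)) :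
    (coconeSC φ n₀ n₁ h).ShortExact := by
  have hT := DerivedCategory.mappingCocone_triangle_distinguished φ
  have e3 := homologyMap_exact₃_of_distTriang (mappingCocone.triangle φ) hT n₀ n₁ h
  have e2 := homologyMap_exact₂_of_distTriang (mappingCocone.triangle φ) hT n₀
  have e1 := homologyMap_exact₁_of_distTriang (mappingCocone.triangle φ) hT n₀ n₁ h
  have hm : Mono (homologyMap φ n₀) := e2.mono_g (h1.eq_of_src _ _)
  have he : Epi (homologyδOfTriangle (mappingCocone.triangle φ) n₀ n₁ h) :=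
    e1.epi_f (h2.eq_of_tgt _ _)
  exact { exact := e3, mono_f := hm, epi_g := he }

end Step

section Main

attribute [local instance] HasDerivedCategory.standard

open CochainComplex HomologicalComplex RingTheory.Sequence

variable [IsLocalRing A] [IsNoetherianRing A]

/-- `Tor_i(A, N)`: zero for `i > 0` and `N` for `i = 0`. -/
theorem tor_self (N : ModuleCat.{u} A) :
    (∀ i : ℕ, i ≠ 0 → IsZero (T i (ModuleCat.of A A) N)) ∧
      Nonempty (T 0 (ModuleCat.of A A) N ≅ N) := by
  refine ⟨fun i hi => ?_, ?_⟩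
  · obtain ⟨j, rfl⟩ := Nat.exists_eq_succ_of_ne_zero hi
    haveI : Module.Flat A (ModuleCat.of A A) := (inferInstance : Module.Flat A A)
    exact isZero_tor_succ_of_flat (ModuleCat.of A A) N j
  · let F := (tensoringLeft (ModuleCat.{u} A)).obj (ModuleCat.of A A)
    exact ⟨F.leftDerivedZeroIsoSelf.app N ≪≫ λ_ N⟩

/-- The main computation: for a weakly regular sequence `l` in the maximal ideal and a module `N`
killed by the maximal ideal, `Tor_i(H^{|l|}(Č(l; A)), N)` is `N` for `i = |l|` and zero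
otherwise. -/
theorem tor_extCechH (N : ModuleCat.{u} A)
    (hN : ∀ a ∈ IsLocalRing.maximalIdeal A, ∀ y : N, a • y = 0) :
    ∀ (l : List A) (q : ℤ), q = (l.length : ℤ) → IsWeaklyRegular A l →
      (∀ r ∈ l, r ∈ IsLocalRing.maximalIdeal A) →
      (∀ i : ℕ, i ≠ l.length → IsZero (T i (DerCA.extCechH l (ModuleCat.of A A) q) N)) ∧
        Nonempty (T l.length (DerCA.extCechH l (ModuleCat.of A A) q) N ≅ N) := by
  intro l
  induction l with
  | nil =>
    intro q hq _ _
    have hq0 : q = 0 := by simpa using hq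
    subst hq0
    let e : DerCA.extCechH [] (ModuleCat.of A A) 0 ≅ ModuleCat.of A A :=
      HomologicalComplex.singleObjHomologySelfIso (ComplexShape.up ℤ) 0 (ModuleCat.of A A)
    obtain ⟨h1, ⟨h2⟩⟩ := tor_self N
    refine ⟨fun i hi => ?_, ?_⟩
    · exact (h1 i hi).of_iso ((((Tor (ModuleCat.{u} A) i).mapIso e)).app N)
    · exact ⟨(((Tor (ModuleCat.{u} A) 0).mapIso e)).app N ≪≫ h2⟩
  | cons f l ih =>
    intro q hq hreg hmem
    have hfm : f ∈ IsLocalRing.maximalIdeal A := hmem f List.mem_cons_self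
    have hmem' : ∀ r ∈ l, r ∈ IsLocalRing.maximalIdeal A :=
      fun r hr => hmem r (List.mem_cons_of_mem f hr)
    have hreg' : IsWeaklyRegular A l := by
      have hperm : List.Perm (f :: l) (l ++ [f]) := (List.perm_append_singleton f l).symm
      have h1 := IsLocalRing.isWeaklyRegular_of_perm_of_subset_maximalIdeal hreg hperm hmem
      exact ((isWeaklyRegular_append_iff A l [f]).mp h1).1
    set q₀ : ℤ := (l.length : ℤ) with hq₀
    have hqq : q₀ + 1 = q := by
      rw [hq, List.length_cons]; push_cast; rfl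
    obtain ⟨ih1, ⟨ih2⟩⟩ := ih q₀ rfl hreg' hmem'
    set K := DerCA.extCech (ModuleCat.of A A) l with hK
    let φ := DerCA.locCxUnit (Submonoid.powers f) K
    have hKR : LCI.IsKoszulRegularSeq A (f :: l) := (Groth.Agent.S15821.result A (f :: l) hreg).1
    have hz1 : IsZero ((mappingCocone φ).homology q₀) := by
      refine Groth.Agent.S9267.result A (f :: l) hKR q₀ ?_
      rw [List.length_cons]; push_cast; omega
    have hz2 : IsZero (K.homology q) :=
      Groth.Agent.S9264.result A l (ModuleCat.of A A) q (Or.inr (by omega))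
    have hS := coconeSC_shortExact φ q₀ q hqq hz1 hz2
    have hiso : IsIso (f • 𝟙 (coconeSC φ q₀ q hqq).X₂) :=
      Groth.Agent.Lib.Helper47.isIso_smul_id_of_iso f
        (Groth.Agent.Lib.Helper47.locCxHomologyIso (Submonoid.powers f) K q₀).symm
        (Groth.Agent.Lib.Helper47.CechKoszul.isIso_smul_id_locFunctor_of_mem (Submonoid.powers f) f
          (Submonoid.mem_powers f) (K.homology q₀))
    have h2' : ∀ p : ℕ, IsZero (T p (coconeSC φ q₀ q hqq).X₂ N) :=
      fun p => isZero_tor_of_isIso_smul _ N f hiso (hN f hfm) p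
    obtain ⟨hs0, hs⟩ := tor_shift hS N h2'
    refine ⟨fun i hi => ?_, ?_⟩
    · rcases Nat.eq_zero_or_pos i with h0 | hpos
      · subst h0; exact hs0
      · obtain ⟨p, rfl⟩ := Nat.exists_eq_succ_of_ne_zero hpos.ne'
        obtain ⟨e⟩ := hs p
        refine (ih1 p ?_).of_iso e
        intro hp
        apply hi
        rw [List.length_cons, hp]
    · obtain ⟨e⟩ := hs l.length
      exact ⟨e ≪≫ ih2⟩

end Main

section Gorenstein

open RingTheory.Sequence

/-- An ideal of a local ring with Artinian quotient has the maximal ideal as radical. -/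
theorem radical_eq_maximalIdeal_of_isArtinianRing [IsLocalRing A] (I : Ideal A)
    (hI : I ≤ IsLocalRing.maximalIdeal A) [IsArtinianRing (A ⧸ I)] :
    I.radical = IsLocalRing.maximalIdeal A := by
  apply le_antisymm
  · exact (Ideal.IsPrime.radical_le_iff (IsLocalRing.maximalIdeal.isMaximal A).isPrime).mpr hI
  · rw [Ideal.radical_eq_sInf]
    refine le_sInf ?_
    rintro J ⟨hIJ, hJ⟩
    have hsurj : Function.Surjective (Ideal.Quotient.mk I) := Ideal.Quotient.mk_surjective
    have hker : RingHom.ker (Ideal.Quotient.mk I) ≤ J := by rwa [Ideal.mk_ker]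
    haveI : (J.map (Ideal.Quotient.mk I)).IsPrime := Ideal.map_isPrime_of_surjective hsurj hker
    haveI : (J.map (Ideal.Quotient.mk I)).IsMaximal := IsArtinianRing.isMaximal_of_isPrime _
    have hmax : ((J.map (Ideal.Quotient.mk I)).comap (Ideal.Quotient.mk I)).IsMaximal :=
      Ideal.comap_isMaximal_of_surjective _ hsurj
    have hcm : (J.map (Ideal.Quotient.mk I)).comap (Ideal.Quotient.mk I) = J := by
      rw [Ideal.comap_map_of_surjective _ hsurj, ← RingHom.ker_eq_comap_bot, Ideal.mk_ker]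
      exact sup_eq_left.mpr hIJ
    rw [hcm] at hmax
    exact (IsLocalRing.eq_maximalIdeal hmax).ge

/-- For a Gorenstein local ring of dimension `d`, an injective hull of the residue field is
isomorphic to the top extended Čech cohomology of a regular system of parameters. -/
theorem exists_iso_extCechH (A : Type u) [CommRing A] [LocCoh.IsGorensteinLocalRing A] (d : ℕ)
    (hd : ringKrullDim A = d) (E : Type u) [AddCommGroup E] [Module A E]
    (f : IsLocalRing.ResidueField A →ₗ[A] E) (hf : InjHull.IsInjectiveHull f) :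
    ∃ rs : List A, IsWeaklyRegular A rs ∧ (∀ r ∈ rs, r ∈ IsLocalRing.maximalIdeal A) ∧
      rs.length = d ∧
      Nonempty (ModuleCat.of A E ≅ DerCA.extCechH rs (ModuleCat.of A A) (d : ℤ)) := by
  haveI hCM : LocCoh.IsCohenMacaulayLocalRing A := Groth.Agent.S0341.result A
  obtain ⟨rs, hreg, hmem, hart⟩ := Groth.Agent.Lib.Helper22.CMSop.exists_regular_sop A
  have hle : Ideal.ofList rs ≤ IsLocalRing.maximalIdeal A := Ideal.span_le.mpr hmem
  have hrad := radical_eq_maximalIdeal_of_isArtinianRing (Ideal.ofList rs) hle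
  have hlen : rs.length = d := by
    have hdim := ringKrullDim_add_length_eq_ringKrullDim_of_isRegular rs hreg
    haveI : Nontrivial (A ⧸ Ideal.ofList rs) :=
      Ideal.Quotient.nontrivial_iff.mpr
        (fun h => (IsLocalRing.maximalIdeal.isMaximal A).ne_top (top_le_iff.mp (h ▸ hle)))
    have h0 : ringKrullDim (A ⧸ Ideal.ofList rs) = 0 :=
      ringKrullDimZero_iff_ringKrullDim_eq_zero.mp inferInstance
    rw [h0, zero_add, hd] at hdim
    exact_mod_cast hdim
  obtain ⟨g, hg⟩ := Groth.Agent.S11665.result A d hd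
  obtain ⟨e, -⟩ := Groth.Agent.S0302.result A (IsLocalRing.ResidueField A) E
    (LocCoh.H (IsLocalRing.maximalIdeal A) d A) f hf g hg
  refine ⟨rs, hreg.toIsWeaklyRegular, hmem, hlen, ?_⟩
  by_cases hrs : rs = []
  · subst hrs
    have hd0 : d = 0 := by simpa using hlen.symm
    subst hd0
    -- the maximal ideal is nilpotent
    have hnil : IsNilpotent (IsLocalRing.maximalIdeal A) := by
      have h1 : IsNilpotent (nilradical A) := IsNoetherianRing.isNilpotent_nilradical A
      have h2 : nilradical A = IsLocalRing.maximalIdeal A := by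
        rw [← hrad, Ideal.ofList_nil]
        rfl
      rwa [h2] at h1
    obtain ⟨k, hk⟩ := hnil
    have htop : DRing.torsionSub (IsLocalRing.maximalIdeal A) (ModuleCat.of A A) = ⊤ := by
      rw [eq_top_iff]
      intro a _
      refine ⟨k, fun x hx => ?_⟩
      rw [hk] at hx
      have hx0 : x = 0 := hx
      rw [hx0, zero_smul]
    let e2 : E ≃ₗ[A] A := e ≪≫ₗ
      Groth.Agent.Lib.Helper60.lcH0Equiv (IsLocalRing.maximalIdeal A) (ModuleCat.of A A) ≪≫ₗ
      LinearEquiv.ofTop _ htop
    exact ⟨e2.toModuleIso ≪≫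
      (HomologicalComplex.singleObjHomologySelfIso (ComplexShape.up ℤ) 0 (ModuleCat.of A A)).symm⟩
  · obtain ⟨i1⟩ := Groth.Agent.S11623.result A rs hrs A d
    have hJK : (IsLocalRing.maximalIdeal A).radical = (Ideal.span {x | x ∈ rs}).radical := by
      have : Ideal.span {x | x ∈ rs} = Ideal.ofList rs := rfl
      rw [this, hrad, Ideal.radical_eq_iff.mpr]
      exact (IsLocalRing.maximalIdeal.isMaximal A).isPrime.isRadical
    let i2 := (localCohomology.isoOfSameRadical hJK d).app (ModuleCat.of A A)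
    exact ⟨e.toModuleIso ≪≫ i2 ≪≫ i1.symm⟩

/-- **Tor of the injective hull of the residue field of a Gorenstein local ring.** -/
theorem tor_injectiveHull_residueField (A : Type u) [CommRing A] [LocCoh.IsGorensteinLocalRing A]
    (d : ℕ) (hd : ringKrullDim A = d) (E : Type u) [AddCommGroup E] [Module A E]
    (f : IsLocalRing.ResidueField A →ₗ[A] E) (hf : InjHull.IsInjectiveHull f) :
    (∀ i : ℕ, i ≠ d → IsZero (T i (ModuleCat.of A E)
        (ModuleCat.of A (IsLocalRing.ResidueField A)))) ∧
      Nonempty (T d (ModuleCat.of A E) (ModuleCat.of A (IsLocalRing.ResidueField A)) ≅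
        ModuleCat.of A (IsLocalRing.ResidueField A)) := by
  obtain ⟨rs, hreg, hmem, hlen, ⟨e⟩⟩ := exists_iso_extCechH A d hd E f hf
  have hN : ∀ a ∈ IsLocalRing.maximalIdeal A,
      ∀ y : (ModuleCat.of A (IsLocalRing.ResidueField A)), a • y = 0 := by
    intro a ha y
    rw [Algebra.smul_def, IsLocalRing.ResidueField.algebraMap_eq,
      (IsLocalRing.residue_eq_zero_iff a).mpr ha, zero_mul]
  obtain ⟨h1, ⟨h2⟩⟩ := tor_extCechH (ModuleCat.of A (IsLocalRing.ResidueField A)) hN rs (d : ℤ)
    (by rw [hlen]) hreg hmem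
  rw [hlen] at h1 h2
  refine ⟨fun i hi => ?_, ?_⟩
  · exact (h1 i hi).of_iso ((((Tor (ModuleCat.{u} A) i).mapIso e)).app _)
  · exact ⟨(((Tor (ModuleCat.{u} A) d).mapIso e)).app _ ≪≫ h2⟩

end Gorenstein

end Groth.Agent.Lib.Helper79.TorCech
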