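import Groth.Agent.Lib.Helper28.TorAmpGE
import Groth.Agent.Lib.Helper28.KProjFlat
import Groth.Agent.Lib.Helper35.TorAmpLT
import Groth.Agent.Lib.Helper79.KunCover2

set_option autoImplicit false
universe u
open CategoryTheory CategoryTheory.Limits MonoidalCategory

namespace Groth.Agent.Lib.Helper79.TorCrit

open Groth.Agent.Lib.Helper28 Groth.Agent.Lib.Helper28.TensCx

variable {R : Type u} [CommRing R]

lemma exactAt_iff_of_quasiIso {K L : DRing.Cx R} (f : K ⟶ L) [QuasiIso f] (i : ℤ) :
    K.ExactAt i ↔ L.ExactAt i := by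
  rw [HomologicalComplex.exactAt_iff_isZero_homology, HomologicalComplex.exactAt_iff_isZero_homology]
  have : IsIso (HomologicalComplex.homologyMap f i) :=
    (quasiIsoAt_iff_isIso_homologyMap f i).1 inferInstance
  exact (asIso (HomologicalComplex.homologyMap f i)).isZero_iff

/-- the module `M` as a complex in degree `0`. -/
noncomputable abbrev sg (M : ModuleCat.{u} R) : DRing.Cx R :=
  (CochainComplex.singleFunctor (ModuleCat.{u} R) 0).obj M

/-- the standard projective resolution of a module, as a cochain complex. -/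
noncomputable def resol (N : ModuleCat.{u} R) : DRing.Cx R :=
  (ProjectiveResolution.of N).cochainComplex

noncomputable def resolπ (N : ModuleCat.{u} R) : resol N ⟶ sg N :=
  (ProjectiveResolution.of N).π'

instance (N : ModuleCat.{u} R) : QuasiIso (resolπ N) :=
  inferInstanceAs (QuasiIso (ProjectiveResolution.of N).π')

instance (N : ModuleCat.{u} R) : (resol N).IsKProjective :=
  CochainComplex.isKProjective_of_projective (ProjectiveResolution.of N).cochainComplex 0

lemma kflat_resol (N : ModuleCat.{u} R) : KFlat (resol N) :=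
  KProjFlat.kflat_of_isKProjective _

lemma kflat_of_flat (E : DRing.Cx R) (hE : DRing.TermwiseFlat E) (b : ℤ)
    (hb : DRing.VanishesAbove E b) : KFlat E := by
  intro L hL i
  have hL' : ∀ i, L.ExactAt i := fun i => by
    rw [HomologicalComplex.exactAt_iff_isZero_homology]; exact hL i
  have := exactAt_tensor_of_flat_right L E hL' hE b hb i
  rwa [HomologicalComplex.exactAt_iff_isZero_homology] at this

lemma quasiIso_whiskerRight_of_kflat_kflat {P Q : DRing.Cx R} (α : P ⟶ Q) [QuasiIso α]
    (hP : KFlat P) (hQ : KFlat Q) (L : DRing.Cx R) : QuasiIso (α ▷ L) := by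
  have h := quasiIso_whiskerLeft_of_kflat α hP hQ L
  have nat : (α ▷ L) ≫ (DTen.braidCx Q L).hom = (DTen.braidCx P L).hom ≫ (L ◁ α) := by
    have := DTen.braidCx_naturality α (𝟙 L)
    simpa using this
  have : QuasiIso ((α ▷ L) ≫ (DTen.braidCx Q L).hom) := by rw [nat]; infer_instance
  exact quasiIso_of_comp_right (α ▷ L) (DTen.braidCx Q L).hom

end Groth.Agent.Lib.Helper79.TorCrit
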