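import Groth.Agent.Lib.Helper79.TorCritA
set_option linter.style.haveILetI false

set_option autoImplicit false
universe u
open CategoryTheory CategoryTheory.Limits MonoidalCategory

namespace Groth.Agent.Lib.Helper79.TorCrit

open Groth.Agent.Lib.Helper28 Groth.Agent.Lib.Helper28.TensCx
open Groth.Agent.Lib.Helper6 Groth.Agent.Lib.Helper32 Groth.Agent.Lib.Helper26.KProjQ
open DerivedCategory

attribute [local instance] HasDerivedCategory.standard

variable {R : Type u} [CommRing R]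

lemma exactAt_of_isZero_X (X : DRing.Cx R) (i : ℤ) (h : IsZero (X.X i)) : X.ExactAt i :=
  ShortComplex.exact_of_isZero_X₂ _ h

/-- Lemma (T): bounded flat complex tensor a complex with cohomology in `[c,d]`. -/
theorem exactAt_tensor_of_bounded_flat (E Y : DRing.Cx R) (a b c d : ℤ)
    (hE : DRing.VanishesOutside E a b) (hfl : DRing.TermwiseFlat E)
    (hY : ∀ i, (i < c ∨ d < i) → Y.ExactAt i) (n : ℤ) (hn : n < a + c ∨ b + d < n) :
    (E ⊗ Y).ExactAt n := by
  have hEb : DRing.VanishesAbove E b := fun i hi => hE i (Or.inr hi)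
  have hLE : Y.IsLE d := (CochainComplex.isLE_iff Y d).2 (fun i hi => hY i (Or.inr hi))
  have hGE : Y.IsGE c := (CochainComplex.isGE_iff Y c).2 (fun i hi => hY i (Or.inl hi))
  let Y1 := Y.truncLE d
  have hY1GE : Y1.IsGE c :=
    (HomologicalComplex.isSupported_iff_of_quasiIso (Y.ιTruncLE d) _).2 hGE
  let Y2 := Y1.truncGE c
  have hv : DRing.VanishesOutside Y2 c d := fun i hi => by
    rcases hi with hi | hi
    · exact Y2.isZero_of_isStrictlyGE c i hi
    · exact Groth.Agent.Lib.Helper35.TA.isZero_truncGE_X_of_vanishesAbove Y1 d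
        (fun j hj => Y1.isZero_of_isStrictlyLE d j hj) c i hi
  have q1 := Groth.Agent.Lib.Helper79.Kun.quasiIso_whiskerLeft_of_flat E hfl b hEb (Y.ιTruncLE d)
  have q2 := Groth.Agent.Lib.Helper79.Kun.quasiIso_whiskerLeft_of_flat E hfl b hEb (Y1.πTruncGE c)
  rw [← exactAt_iff_of_quasiIso (E ◁ Y.ιTruncLE d) n, exactAt_iff_of_quasiIso (E ◁ Y1.πTruncGE c) n]
  exact exactAt_of_isZero_X _ _ (LTCx.vanishesOutside_tensor hE hv n hn)

/-- (C3) independence of the K-flat resolution. -/
theorem exactAt_tensor_iff_of_kflat (X : DRing.Cx R) {Q Q' Z : DRing.Cx R} (f : Q ⟶ Z) (f' : Q' ⟶ Z)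
    [QuasiIso f] [QuasiIso f'] (hQ : KFlat Q) (hQ' : KFlat Q') (i : ℤ) :
    (X ⊗ Q).ExactAt i ↔ (X ⊗ Q').ExactAt i := by
  obtain ⟨P, g, hP, hg⟩ := LBC.hasKProjRes R Q
  have := hP
  have := hg
  have hPK : KFlat P := KProjFlat.kflat_of_isKProjective P
  have : IsIso (DerivedCategory.Q.map f') := by rw [isIso_Q_map_iff_quasiIso]; infer_instance
  obtain ⟨w, hw⟩ := Q_map_surjective P Q' (DerivedCategory.Q.map (g ≫ f) ≫ inv (DerivedCategory.Q.map f'))
  have : QuasiIso w := by
    rw [← isIso_Q_map_iff_quasiIso, hw]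
    haveI : IsIso (DerivedCategory.Q.map (g ≫ f)) := by
      rw [isIso_Q_map_iff_quasiIso]; infer_instance
    infer_instance
  have := quasiIso_whiskerLeft_of_kflat g hPK hQ X
  have := quasiIso_whiskerLeft_of_kflat w hPK hQ' X
  rw [← exactAt_iff_of_quasiIso (X ◁ g) i, exactAt_iff_of_quasiIso (X ◁ w) i]

lemma vanishesOutside_sg (N : ModuleCat.{u} R) : DRing.VanishesOutside (sg N) 0 0 := by
  intro i hi
  exact HomologicalComplex.isZero_single_obj_X _ _ _ _ (by omega)

/-- (C1) tor amplitude gives vanishing of `H^i(X ⊗ Q)` for a K-flat resolution `Q` of a module. -/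
theorem exactAt_tensor_of_TAmp (X : DRing.Cx R) (a b : ℤ)
    (h : DRing.HasTorAmplitudeIn R a b (DRing.toD X)) (Q : DRing.Cx R) (hQ : KFlat Q)
    (N : ModuleCat.{u} R) (f : Q ⟶ sg N) [QuasiIso f] (i : ℤ) (hi : i < a ∨ b < i) :
    (X ⊗ Q).ExactAt i := by
  obtain ⟨G, hv, hfl, ⟨e⟩⟩ := h
  have hGb : DRing.VanishesAbove G b := fun i hi => hv i (Or.inr hi)
  obtain ⟨P, g, hP, hg⟩ := LBC.hasKProjRes R X
  have := hP
  have := hg
  have : IsIso (DerivedCategory.Q.map g) := by rw [isIso_Q_map_iff_quasiIso]; infer_instance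
  obtain ⟨w, hw, _⟩ := LTCx.exists_quasiIso_of_iso P G (asIso (DerivedCategory.Q.map g) ≪≫ e.symm)
  have := hw
  have := quasiIso_whiskerRight_of_kflat g Q hQ
  have := quasiIso_whiskerRight_of_kflat w Q hQ
  have := Groth.Agent.Lib.Helper79.Kun.quasiIso_whiskerLeft_of_flat G hfl b hGb f
  rw [← exactAt_iff_of_quasiIso (g ▷ Q) i, exactAt_iff_of_quasiIso (w ▷ Q) i,
    exactAt_iff_of_quasiIso (G ◁ f) i]
  refine exactAt_of_isZero_X _ _ (LTCx.vanishesOutside_tensor hv (vanishesOutside_sg N) i ?_)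
  omega


lemma vanishesOutside_sg' (N : ModuleCat.{u} R) : DRing.VanishesOutside (sg N) 0 0 := by
  intro i hi
  exact HomologicalComplex.isZero_single_obj_X _ _ _ _ (by omega)

lemma flat_sg_X (N : ModuleCat.{u} R) [Module.Flat R N] (j : ℤ) : Module.Flat R ((sg N).X j) := by
  by_cases hj : j = 0
  · subst hj
    exact Module.Flat.of_linearEquiv
      (HomologicalComplex.singleObjXSelf (ComplexShape.up ℤ) 0 N).toLinearEquiv
  · have hz : IsZero ((sg N).X j) := HomologicalComplex.isZero_single_obj_X _ _ _ _ hj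
    have : Subsingleton ((sg N).X j) := ModuleCat.subsingleton_of_isZero hz
    infer_instance

lemma kflat_sg (N : ModuleCat.{u} R) [Module.Flat R N] : KFlat (sg N) :=
  kflat_of_flat _ (fun j => flat_sg_X N j) 0 (fun j hj => vanishesOutside_sg' N j (Or.inr hj))

lemma exactAt_of_exactAt_tensor_unit (X : DRing.Cx R) (i : ℤ)
    (h : (X ⊗ resol (𝟙_ (ModuleCat.{u} R))).ExactAt i) : X.ExactAt i := by
  haveI : Module.Flat R (𝟙_ (ModuleCat.{u} R)) := inferInstanceAs (Module.Flat R R)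
  have := quasiIso_whiskerLeft_of_kflat (resolπ (𝟙_ (ModuleCat.{u} R))) (kflat_resol _)
    (kflat_sg (𝟙_ (ModuleCat.{u} R))) X
  rw [exactAt_iff_of_quasiIso (X ◁ resolπ _) i] at h
  exact (exactAt_iff_of_quasiIso (ρ_ X).hom i).1 h


/-- (C2) vanishing of `H^i(X ⊗ resol N)` outside `[a,b]` for all modules `N` gives tor amplitude. -/
theorem TAmp_of_exactAt_tensor (X : DRing.Cx R) (a b : ℤ)
    (h : ∀ (N : ModuleCat.{u} R) (i : ℤ), (i < a ∨ b < i) → (X ⊗ resol N).ExactAt i) :
    DRing.HasTorAmplitudeIn R a b (DRing.toD X) := by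
  have hX : ∀ i, (i < a ∨ b < i) → X.ExactAt i := fun i hi =>
    exactAt_of_exactAt_tensor_unit X i (h _ i hi)
  have hXLE : X.IsLE b := (CochainComplex.isLE_iff X b).2 (fun i hi => hX i (Or.inr hi))
  have hXGE : X.IsGE a := (CochainComplex.isGE_iff X a).2 (fun i hi => hX i (Or.inl hi))
  haveI : (DerivedCategory.Q.obj X).IsLE b := inferInstance
  obtain ⟨P, π, hPb, hPproj, hπ⟩ := Groth.Agent.Lib.Helper35.TA.exists_projective_resolution_cx X b
  have hPflat : ∀ i : ℤ, Module.Flat R (P.X i) := fun i => by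
    have := hPproj i
    infer_instance
  haveI hPLE : P.IsLE b := (HomologicalComplex.isSupported_iff_of_quasiIso π _).2 hXLE
  haveI hPGE : P.IsGE a := (HomologicalComplex.isSupported_iff_of_quasiIso π _).2 hXGE
  have H : ∀ (M : ModuleCat.{u} R) (t : ↑(M ⊗ P.X (a - 1))),
      (M ◁ P.d (a - 1) (a - 1 + 1)).hom t = 0 →
        ∃ w : ↑(M ⊗ P.X (a - 1 - 1)), (M ◁ P.d (a - 1 - 1) (a - 1)).hom w = t := by
    intro M
    have h1 := h M (a - 1) (Or.inl (by omega))
    have := quasiIso_whiskerRight_of_kflat π (resol M) (kflat_resol M)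
    rw [← exactAt_iff_of_quasiIso (π ▷ resol M) (a - 1)] at h1
    have := Groth.Agent.Lib.Helper79.Kun.quasiIso_whiskerLeft_of_flat P hPflat b hPb (resolπ M)
    rw [exactAt_iff_of_quasiIso (P ◁ resolπ M) (a - 1)] at h1
    have h2 : (sg M ⊗ P).ExactAt (a - 1) :=
      (exactAt_iff_of_quasiIso (DTen.braidCx P (sg M)).hom (a - 1)).1 h1
    exact fun t ht => TorAmpGE.exact_tensor_of_exactAt_single P M (a - 1) h2 t ht
  haveI hZ : Module.Flat R (P.opcycles a) := by
    haveI := hPflat a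
    let S : ShortComplex (ModuleCat.{u} R) :=
      ShortComplex.mk (P.d (a - 1) a) (P.pOpcycles a) (P.d_pOpcycles _ _)
    have hS : S.Exact := S.exact_of_g_is_cokernel (P.opcyclesIsCokernel (a - 1) a (by simp))
    have hSe : Function.Exact (P.d (a - 1) a).hom (P.pOpcycles a).hom :=
      (ShortComplex.ShortExact.moduleCat_exact_iff_function_exact S).1 hS
    have hepi : Function.Surjective (P.pOpcycles a).hom :=
      (ModuleCat.epi_iff_surjective _).mp inferInstance
    refine TorAmpGE.flat_of_exact_tensor (R := R) (P.d (a - 1 - 1) (a - 1)).hom (P.d (a - 1) a).hom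
      (P.pOpcycles a).hom ?_ hepi hSe ?_
    · have := congrArg ModuleCat.Hom.hom (P.d_comp_d (a - 1 - 1) (a - 1) a)
      exact this
    · intro M _ _ t ht
      have h1 : a - 1 + 1 = a := by ring
      have := H (ModuleCat.of R M)
      rw [h1] at this
      exact this t ht
  have h1 := Groth.Agent.Lib.Helper35.TA.TAmp_of_flat_opcycles P b hPb hPflat a b
  haveI : IsIso (DerivedCategory.Q.map π) := by rw [isIso_Q_map_iff_quasiIso]; exact hπ
  exact Groth.Agent.Lib.Helper35.TA.TAmp.of_iso h1 (asIso (DerivedCategory.Q.map π))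



end Groth.Agent.Lib.Helper79.TorCrit
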