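import Groth.Agent.Lib.Helper79.TorCritB
import Groth.Agent.Lib.Helper19.KFlatExt
import Groth.Prelude.Def_DDual2
set_option linter.style.haveILetI false
set_option autoImplicit false
universe u
open CategoryTheory CategoryTheory.Limits MonoidalCategory

namespace Groth.Agent.Lib.Helper79.TorCrit

open Groth.Agent.Lib.Helper28 Groth.Agent.Lib.Helper28.TensCx
open Groth.Agent.Lib.Helper6 Groth.Agent.Lib.Helper32 Groth.Agent.Lib.Helper26.KProjQ
open Groth.Agent.Helper19.KFlatExt
open DerivedCategory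

attribute [local instance] HasDerivedCategory.standard

variable {A B : Type u} [CommRing A] [CommRing B] (φ : A →+* B)

/-- mixed-ring associativity: exactness of `L|_A ⊗_A K` and of `L ⊗_B (B ⊗_A K)` agree. -/
theorem exactAt_res_tensor_iff (L : DRing.Cx B) (K : DRing.Cx A) (n : ℤ) :
    (resCx φ L ⊗ K).ExactAt n ↔ (L ⊗ extCx φ K).ExactAt n := by
  rw [HomologicalComplex.exactAt_iff' _ (n - 1) n (n + 1) (by simp) (by simp),
    HomologicalComplex.exactAt_iff' (L ⊗ extCx φ K) (n - 1) n (n + 1) (by simp) (by simp),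
    ShortComplex.moduleCat_exact_iff, ShortComplex.moduleCat_exact_iff]
  constructor
  · intro h₀ z hz
    obtain ⟨x, rfl⟩ := θ_surjective φ L K n z
    have hx : ((resCx φ L ⊗ K).d n (n + 1)).hom x = 0 := by
      apply θ_injective φ L K (n + 1)
      rw [← d_θ_apply φ L K n (n + 1) rfl, map_zero]
      exact hz
    obtain ⟨w, hw⟩ := h₀ x hx
    refine ⟨(θ φ L K (n - 1)).hom w, ?_⟩
    have := d_θ_apply φ L K (n - 1) n (by omega) w
    exact this.trans (congrArg (θ φ L K n).hom hw)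
  · intro h₀ x hx
    have key : ∀ (x : ↑((resCx φ L ⊗ K).X n)), ((resCx φ L ⊗ K).d n (n + 1)).hom x = 0 →
        ∃ w' : ↑((resCx φ L ⊗ K).X (n - 1)), ((resCx φ L ⊗ K).d (n - 1) n).hom w' = x := by
      intro x hx'
      have hz : ((L ⊗ extCx φ K).d n (n + 1)).hom ((θ φ L K n).hom x) = 0 := by
        rw [d_θ_apply φ L K n (n + 1) rfl, hx', map_zero]
        rfl
      obtain ⟨w, hw⟩ := h₀ ((θ φ L K n).hom x) hz
      obtain ⟨w', rfl⟩ := θ_surjective φ L K (n - 1) w
      refine ⟨w', ?_⟩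
      apply θ_injective φ L K n
      have := d_θ_apply φ L K (n - 1) n (by omega) w'
      exact this.symm.trans hw
    exact key x hx


/-- tor amplitude over `A` of `(E ⊗_B L)|_A` for `E` a bounded flat complex over `B`. -/
theorem TAmp_res_tensor (E L : DRing.Cx B) (a b c d : ℤ)
    (hv : DRing.VanishesOutside E a b) (hfl : DRing.TermwiseFlat E)
    (hL : DRing.HasTorAmplitudeIn A c d (DRing.toD (resCx φ L))) :
    DRing.HasTorAmplitudeIn A (a + c) (b + d) (DRing.toD (resCx φ (E ⊗ L))) := by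
  apply TAmp_of_exactAt_tensor
  intro N i hi
  rw [exactAt_res_tensor_iff φ (E ⊗ L) (resol N) i,
    exactAt_iff_of_quasiIso (α_ E L (extCx φ (resol N))).hom i]
  refine exactAt_tensor_of_bounded_flat E (L ⊗ extCx φ (resol N)) a b c d hv hfl ?_ i hi
  intro j hj
  rw [← exactAt_res_tensor_iff φ L (resol N) j]
  exact exactAt_tensor_of_TAmp (resCx φ L) c d hL (resol N) (kflat_resol N) N (resolπ N) j hj


theorem TAmp_restrict_LTensorCx (K : Dual.D B) (a b c d : ℤ)
    (hK : DRing.HasTorAmplitudeIn B a b K) (L : DRing.Cx B)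
    (hL : DRing.HasTorAmplitudeIn A c d (DRing.toD ((DRing.restrictCx φ).obj L)))
    [DRing.HasLTensorCx B L] :
    DRing.HasTorAmplitudeIn A (a + c) (b + d)
      ((DRing.restrictD φ).obj ((DRing.LTensorCx B L).obj K)) := by
  obtain ⟨E, hv, hfl, ⟨e⟩⟩ := hK
  obtain ⟨P, g, hP, hg⟩ := LBC.hasKProjRes B E
  haveI := hP
  haveI := hg
  have hPK : KFlat P := KProjFlat.kflat_of_isKProjective P
  have hEK : KFlat E := kflat_of_flat E hfl b (fun i hi => hv i (Or.inr hi))
  haveI : IsIso (DerivedCategory.Q.map g) := by rw [isIso_Q_map_iff_quasiIso]; infer_instance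
  let e1 : DRing.toD P ≅ K := asIso (DerivedCategory.Q.map g) ≪≫ e
  let i1 : (DRing.LTensorCx B L).obj K ≅ DRing.toD (P ⊗ L) :=
    (DRing.LTensorCx B L).mapIso e1.symm ≪≫ LTCx.ltcIso B L P
  haveI := quasiIso_whiskerRight_of_kflat_kflat g hPK hEK L
  haveI : IsIso (DerivedCategory.Q.map (g ▷ L)) := by
    rw [isIso_Q_map_iff_quasiIso]; infer_instance
  let i2 : DRing.toD (P ⊗ L) ≅ DRing.toD (E ⊗ L) := asIso (DerivedCategory.Q.map (g ▷ L))
  let i3 : (DRing.restrictD φ).obj (DRing.toD (E ⊗ L)) ≅ DRing.toD (resCx φ (E ⊗ L)) :=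
    ((ModuleCat.restrictScalars.{u} φ).mapDerivedCategoryFactors.app (E ⊗ L))
  have h := TAmp_res_tensor φ E L a b c d hv hfl hL
  exact Groth.Agent.Lib.Helper35.TA.TAmp.of_iso h
    (i3.symm ≪≫ (DRing.restrictD φ).mapIso (i2.symm ≪≫ i1.symm))

end Groth.Agent.Lib.Helper79.TorCrit
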