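import Groth.Agent.Lib.Helper79.TorCritD
set_option linter.style.haveILetI false
set_option autoImplicit false
universe u
open CategoryTheory CategoryTheory.Limits MonoidalCategory TensorProduct

namespace Groth.Agent.Lib.Helper79.TorCrit

open Groth.Agent.Lib.Helper28 Groth.Agent.Lib.Helper28.TensCx
open Groth.Agent.Helper19.KFlatExt

section Loc

variable {B : Type u} [CommRing B] (S : Submonoid B)

/-- the localization map as a ring hom -/
noncomputable abbrev ψ : B →+* Localization S := algebraMap B (Localization S)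

variable (M V : ModuleCat.{u} B)

/-- the unit `M ⟶ (S⁻¹B ⊗ M)|_B`. -/
noncomputable abbrev unitM :
    M ⟶ (ModuleCat.restrictScalars (ψ S)).obj ((ModuleCat.extendScalars (ψ S)).obj M) :=
  (ModuleCat.extendRestrictScalarsAdj (ψ S)).unit.app M

/-- `LocalizedModule S M` as a module over the localization -/
noncomputable abbrev locY : ModuleCat.{u} (Localization S) :=
  ModuleCat.of (Localization S) (LocalizedModule S M)

noncomputable def mkHom : M ⟶ (ModuleCat.restrictScalars (ψ S)).obj (locY S M) :=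
  ConcreteCategory.ofHom (C := ModuleCat B) (X := M)
    (Y := (ModuleCat.restrictScalars (ψ S)).obj (locY S M))
    { toFun := fun m => (LocalizedModule.mkLinearMap S M m : LocalizedModule S M)
      map_add' := fun x y => (LocalizedModule.mkLinearMap S M).map_add x y
      map_smul' := fun b m => by
        change LocalizedModule.mkLinearMap S M (b • m) =
          (algebraMap B (Localization S) b) • (LocalizedModule.mkLinearMap S M m : LocalizedModule S M)
        rw [algebraMap_smul, map_smul] }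

noncomputable def idY : (ModuleCat.restrictScalars (ψ S)).obj (locY S M) ⟶
    ModuleCat.of B (LocalizedModule S M) :=
  ConcreteCategory.ofHom (C := ModuleCat B) (X := (ModuleCat.restrictScalars (ψ S)).obj (locY S M))
    (Y := ModuleCat.of B (LocalizedModule S M))
    { toFun := fun y => (y : LocalizedModule S M)
      map_add' := fun _ _ => rfl
      map_smul' := fun b y =>
        algebraMap_smul (Localization S) b (show LocalizedModule S M from y) }

/-- the comparison `(S⁻¹B ⊗ M)|_B ⟶ LocalizedModule S M` -/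
noncomputable def toLoc : (ModuleCat.restrictScalars (ψ S)).obj ((ModuleCat.extendScalars (ψ S)).obj M) ⟶
    ModuleCat.of B (LocalizedModule S M) :=
  (ModuleCat.restrictScalars (ψ S)).map
    (((ModuleCat.extendRestrictScalarsAdj (ψ S)).homEquiv M (locY S M)).symm (mkHom S M)) ≫ idY S M

lemma unitM_toLoc : unitM S M ≫ toLoc S M = ModuleCat.ofHom (LocalizedModule.mkLinearMap S M) := by
  dsimp only [toLoc, unitM]
  rw [← Category.assoc, ← Adjunction.homEquiv_unit, Equiv.apply_symm_apply]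
  rfl


/-- (I) the kernel of `M ⊗ V ⟶ (S⁻¹B ⊗ M)|_B ⊗ V` is `S`-torsion. -/
lemma exists_smul_eq_zero_of_unit_whiskerRight (z : ↑(M ⊗ V))
    (hz : ((unitM S M) ▷ V).hom z = 0) : ∃ s : S, (s : B) • z = 0 := by
  have h1 : ((unitM S M ≫ toLoc S M) ▷ V).hom z = 0 := by
    rw [comp_whiskerRight, ModuleCat.hom_comp, LinearMap.comp_apply, hz, map_zero]
  rw [unitM_toLoc, ModuleCat.hom_whiskerRight] at h1
  have h2 : TensorProduct.AlgebraTensorModule.rTensor B V (LocalizedModule.mkLinearMap S M) z =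
      TensorProduct.AlgebraTensorModule.rTensor B V (LocalizedModule.mkLinearMap S M) 0 := by
    rw [map_zero]
    exact h1
  obtain ⟨c, hc⟩ := IsLocalizedModule.exists_of_eq (S := S) h2
  refine ⟨c, ?_⟩
  rw [smul_zero] at hc
  exact hc


section IsS
variable {P P' : Type u} [AddCommGroup P] [Module B P] [AddCommGroup P'] [Module B P']

/-- `y` is, up to a denominator in `S`, in the image of `f`. -/
def IsS (f : P →ₗ[B] P') (y : P') : Prop := ∃ s : S, ∃ w : P, f w = (s : B) • y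

lemma isS_zero (f : P →ₗ[B] P') : IsS S f 0 := ⟨1, 0, by simp⟩

lemma isS_add (f : P →ₗ[B] P') {y₁ y₂ : P'} (h₁ : IsS S f y₁) (h₂ : IsS S f y₂) :
    IsS S f (y₁ + y₂) := by
  obtain ⟨s₁, w₁, h₁⟩ := h₁
  obtain ⟨s₂, w₂, h₂⟩ := h₂
  refine ⟨s₁ * s₂, (s₂ : B) • w₁ + (s₁ : B) • w₂, ?_⟩
  rw [map_add, map_smul, map_smul, h₁, h₂, smul_add, Submonoid.coe_mul, ← mul_smul, ← mul_smul,
    mul_comm (s₂ : B) (s₁ : B)]

lemma isS_sum (f : P →ₗ[B] P') {ι : Type*} (t : Finset ι) (y : ι → P')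
    (h : ∀ i ∈ t, IsS S f (y i)) : IsS S f (∑ i ∈ t, y i) :=
  Finset.sum_induction y (IsS S f) (fun _ _ => isS_add S f) (isS_zero S f) h

/-- `S`-torsion elements -/
def IsT (z : P) : Prop := ∃ s : S, (s : B) • z = 0

lemma isT_zero : IsT S (0 : P) := ⟨1, by simp⟩

lemma isT_add {z₁ z₂ : P} (h₁ : IsT S z₁) (h₂ : IsT S z₂) : IsT S (z₁ + z₂) := by
  obtain ⟨s₁, h₁⟩ := h₁
  obtain ⟨s₂, h₂⟩ := h₂
  refine ⟨s₁ * s₂, ?_⟩
  rw [smul_add, Submonoid.coe_mul, mul_smul (s₁ : B) (s₂ : B) z₂, h₂, smul_zero,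
    mul_comm, mul_smul, h₁, smul_zero, add_zero]

lemma isT_sum {ι : Type*} (t : Finset ι) (z : ι → P) (h : ∀ i ∈ t, IsT S (z i)) :
    IsT S (∑ i ∈ t, z i) :=
  Finset.sum_induction z (IsT S) (fun _ _ => isT_add S) (isT_zero S) h

end IsS

lemma isS_unitM (x : ↑((ModuleCat.restrictScalars (ψ S)).obj ((ModuleCat.extendScalars (ψ S)).obj M))) :
    IsS S (unitM S M).hom x := by
  have key : ∀ x' : ↑((ModuleCat.extendScalars (ψ S)).obj M), IsS S (unitM S M).hom x' := by
    intro x'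
    induction x' using TensorProduct.induction_on with
    | zero => exact isS_zero S _
    | tmul r m =>
      obtain ⟨⟨b, s⟩, hr⟩ := IsLocalization.mk'_surjective S (show Localization S from r)
      refine ⟨s, b • m, ?_⟩
      have hr' : IsLocalization.mk' (Localization S) b s = (show Localization S from r) := hr
      change et (ψ S) M 1 (b • m) = (ψ S (s : B)) • et (ψ S) M (show Localization S from r) m
      rw [smul_et, et_smul, ← hr', IsLocalization.mk'_spec', mul_one]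
    | add x y hx hy => exact isS_add S _ hx hy
  exact key x


/-- (S) every element of `(S⁻¹B ⊗ M)|_B ⊗ V` is in the image of `M ⊗ V` up to a denominator. -/
lemma isS_unitM_whiskerRight
    (w' : ↑((ModuleCat.restrictScalars (ψ S)).obj ((ModuleCat.extendScalars (ψ S)).obj M) ⊗ V)) :
    IsS S ((unitM S M) ▷ V).hom w' := by
  induction w' using TensorProduct.induction_on with
  | zero => exact isS_zero S _
  | tmul x y =>
    obtain ⟨s, m, hm⟩ := isS_unitM S M x
    refine ⟨s, m ⊗ₜ[B] y, ?_⟩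
    rw [ModuleCat.hom_whiskerRight, LinearMap.rTensor_tmul, hm, TensorProduct.smul_tmul']
  | add x y hx hy => exact isS_add S _ hx hy

end Loc


section LocCx

variable {B : Type u} [CommRing B] (S : Submonoid B) (K W : DRing.Cx B)

/-- the unit `K ⟶ (S⁻¹B ⊗ K)|_B` on complexes. -/
noncomputable def ηCx : K ⟶ resCx (ψ S) (extCx (ψ S) K) where
  f p := unitM S (K.X p)
  comm' p q _ := ((ModuleCat.extendRestrictScalarsAdj (ψ S)).unit.naturality (K.d p q)).symm

lemma isT_of_map_eq_zero (n : ℤ) (z : ↑((K ⊗ W).X n))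
    (hz : ((ηCx S K ▷ W).f n).hom z = 0) : IsT S z := by
  have hD := isDiag_whiskerRight (ηCx S K) W n
  obtain ⟨fs, _, hsum⟩ := exists_finset_sum K W n z
  rw [hsum]
  refine isT_sum S fs _ (fun p _ => ?_)
  have h0 : ((ηCx S K).f p ▷ W.X (n - p)).hom ((proj K W p (n - p) n (by omega)).hom z) = 0 := by
    rw [← hD.proj_apply p (n - p) (by omega) z, hz, map_zero]
  obtain ⟨s, hs⟩ := exists_smul_eq_zero_of_unit_whiskerRight S (K.X p) (W.X (n - p)) _ h0
  exact ⟨s, by rw [← map_smul, hs, map_zero]⟩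

lemma isS_map (n : ℤ) (w' : ↑((resCx (ψ S) (extCx (ψ S) K) ⊗ W).X n)) :
    IsS S ((ηCx S K ▷ W).f n).hom w' := by
  have hD := isDiag_whiskerRight (ηCx S K) W n
  obtain ⟨fs, _, hsum⟩ := exists_finset_sum (resCx (ψ S) (extCx (ψ S) K)) W n w'
  rw [hsum]
  refine isS_sum S _ fs _ (fun p _ => ?_)
  obtain ⟨s, w, hw⟩ := isS_unitM_whiskerRight S (K.X p) (W.X (n - p))
    ((proj (resCx (ψ S) (extCx (ψ S) K)) W p (n - p) n (by omega)).hom w')
  refine ⟨s, (ι K W p (n - p) n (by omega)).hom w, ?_⟩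
  rw [hD.ι_apply p (n - p) (by omega) w, ← map_smul]
  exact congrArg _ hw


lemma exists_smul_eq_d (n : ℤ) (h : (resCx (ψ S) (extCx (ψ S) K) ⊗ W).ExactAt n)
    (z : ↑((K ⊗ W).X n)) (hz : ((K ⊗ W).d n (n + 1)).hom z = 0) :
    ∃ s : S, ∃ w : ↑((K ⊗ W).X (n - 1)), ((K ⊗ W).d (n - 1) n).hom w = (s : B) • z := by
  let Λ := ηCx S K ▷ W
  have hc1 : ∀ x, ((resCx (ψ S) (extCx (ψ S) K) ⊗ W).d n (n + 1)).hom ((Λ.f n).hom x) =
      (Λ.f (n + 1)).hom (((K ⊗ W).d n (n + 1)).hom x) := fun x =>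
    congrArg (fun f => f.hom x) (Λ.comm n (n + 1))
  have hc0 : ∀ x, ((resCx (ψ S) (extCx (ψ S) K) ⊗ W).d (n - 1) n).hom ((Λ.f (n - 1)).hom x) =
      (Λ.f n).hom (((K ⊗ W).d (n - 1) n).hom x) := fun x =>
    congrArg (fun f => f.hom x) (Λ.comm (n - 1) n)
  rw [HomologicalComplex.exactAt_iff' _ (n - 1) n (n + 1) (by simp) (by simp),
    ShortComplex.moduleCat_exact_iff] at h
  obtain ⟨w', hw'⟩ : ∃ w' : ↑((resCx (ψ S) (extCx (ψ S) K) ⊗ W).X (n - 1)),
      ((resCx (ψ S) (extCx (ψ S) K) ⊗ W).d (n - 1) n).hom w' = (Λ.f n).hom z :=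
    h ((Λ.f n).hom z) (by
      change ((resCx (ψ S) (extCx (ψ S) K) ⊗ W).d n (n + 1)).hom ((Λ.f n).hom z) = 0
      rw [hc1, hz, map_zero])
  obtain ⟨s, w, hw⟩ := isS_map S K W (n - 1) w'
  have h0 : (Λ.f n).hom ((s : B) • z - ((K ⊗ W).d (n - 1) n).hom w) = 0 := by
    rw [map_sub, map_smul, ← hc0, hw, map_smul, hw', sub_self]
  obtain ⟨s', hs'⟩ := isT_of_map_eq_zero S K W n _ h0
  refine ⟨s' * s, (s' : B) • w, ?_⟩
  rw [smul_sub, sub_eq_zero] at hs'
  rw [map_smul, ← hs', Submonoid.coe_mul, mul_smul]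

end LocCx

/-- exactness of `K ⊗ W` can be checked after localizing `K` at all maximal ideals. -/
theorem exactAt_of_forall_maximal {B : Type u} [CommRing B] (K W : DRing.Cx B) (n : ℤ)
    (h : ∀ (m : Ideal B) [m.IsMaximal],
      (resCx (ψ m.primeCompl) (extCx (ψ m.primeCompl) K) ⊗ W).ExactAt n) :
    (K ⊗ W).ExactAt n := by
  rw [HomologicalComplex.exactAt_iff' _ (n - 1) n (n + 1) (by simp) (by simp),
    ShortComplex.moduleCat_exact_iff]
  suffices key : ∀ z : ↑((K ⊗ W).X n), ((K ⊗ W).d n (n + 1)).hom z = 0 →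
      ∃ w : ↑((K ⊗ W).X (n - 1)), ((K ⊗ W).d (n - 1) n).hom w = z from fun z hz => key z hz
  intro z hz
  let I : Ideal B :=
    { carrier := {b | ∃ w : ↑((K ⊗ W).X (n - 1)), ((K ⊗ W).d (n - 1) n).hom w = b • z}
      add_mem' := by
        rintro b₁ b₂ ⟨w₁, h₁⟩ ⟨w₂, h₂⟩
        exact ⟨w₁ + w₂, by rw [map_add, h₁, h₂, add_smul]⟩
      zero_mem' := ⟨0, by simp⟩
      smul_mem' := by
        rintro c b ⟨w, hw⟩
        exact ⟨c • w, by rw [map_smul, hw, smul_eq_mul, mul_smul]⟩ }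
  have hI : I = ⊤ := by
    by_contra hne
    obtain ⟨m, hm, hIm⟩ := Ideal.exists_le_maximal I hne
    obtain ⟨s, w, hw⟩ := exists_smul_eq_d m.primeCompl K W n (h m) z hz
    exact s.2 (hIm ⟨w, hw⟩)
  have h1 : (1 : B) ∈ I := by rw [hI]; trivial
  obtain ⟨w, hw⟩ := h1
  exact ⟨w, by rw [one_smul] at hw; exact hw⟩

end Groth.Agent.Lib.Helper79.TorCrit
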