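import Groth.Agent.Lib.Helper79.TorCritE
set_option linter.style.haveILetI false
set_option autoImplicit false
universe u
open CategoryTheory CategoryTheory.Limits MonoidalCategory TensorProduct

namespace Groth.Agent.Lib.Helper79.TorCrit

open Groth.Agent.Lib.Helper28 Groth.Agent.Lib.Helper28.TensCx
open Groth.Agent.Helper19.KFlatExt

attribute [local instance] HasDerivedCategory.standard

section ResComp

variable {A A' B C : Type u} [CommRing A] [CommRing A'] [CommRing B] [CommRing C]
  (f₁ : A →+* A') (g₁ : A' →+* C) (f₂ : A →+* B) (g₂ : B →+* C) (h : g₁.comp f₁ = g₂.comp f₂)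

/-- restriction of scalars along two factorizations of the same ring map agree -/
noncomputable def resCompIsoX (M : ModuleCat.{u} C) :
    (ModuleCat.restrictScalars f₂).obj ((ModuleCat.restrictScalars g₂).obj M) ≅
      (ModuleCat.restrictScalars f₁).obj ((ModuleCat.restrictScalars g₁).obj M) where
  hom := ConcreteCategory.ofHom (C := ModuleCat A)
    (X := (ModuleCat.restrictScalars f₂).obj ((ModuleCat.restrictScalars g₂).obj M))
    (Y := (ModuleCat.restrictScalars f₁).obj ((ModuleCat.restrictScalars g₁).obj M))
    { toFun := fun x => x
      map_add' := fun _ _ => rfl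
      map_smul' := fun a x => by
        change g₂ (f₂ a) • (show M from x) = g₁ (f₁ a) • (show M from x)
        have := RingHom.congr_fun h a
        simp only [RingHom.comp_apply] at this
        rw [this] }
  inv := ConcreteCategory.ofHom (C := ModuleCat A)
    (X := (ModuleCat.restrictScalars f₁).obj ((ModuleCat.restrictScalars g₁).obj M))
    (Y := (ModuleCat.restrictScalars f₂).obj ((ModuleCat.restrictScalars g₂).obj M))
    { toFun := fun x => x
      map_add' := fun _ _ => rfl
      map_smul' := fun a x => by
        change g₁ (f₁ a) • (show M from x) = g₂ (f₂ a) • (show M from x)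
        have := RingHom.congr_fun h a
        simp only [RingHom.comp_apply] at this
        rw [this] }
  hom_inv_id := by ext; rfl
  inv_hom_id := by ext; rfl

noncomputable def resCompIso (X : DRing.Cx C) :
    resCx f₂ (resCx g₂ X) ≅ resCx f₁ (resCx g₁ X) :=
  HomologicalComplex.Hom.isoOfComponents (fun n => resCompIsoX f₁ g₁ f₂ g₂ h (X.X n))
    (fun i j _ => by ext; rfl)

end ResComp


section Main

variable (A B : Type u) [CommRing A] [CommRing B] [Algebra A B]

theorem TAmp_restrict_of_forall_maximal (K : DRing.Cx B) (a b : ℤ)
    (h3 : ∀ (m : Ideal B) [m.IsMaximal],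
      DRing.HasTorAmplitudeIn (Localization.AtPrime (m.comap (algebraMap A B))) a b
        (DRing.toD ((DRing.restrictCx (Localization.localRingHom (m.comap (algebraMap A B)) m (algebraMap A B) rfl)).obj
          (((ModuleCat.extendScalars (algebraMap B (Localization.AtPrime m))).mapHomologicalComplex
            (ComplexShape.up ℤ)).obj K)))) :
    DRing.HasTorAmplitudeIn A a b (DRing.toD ((DRing.restrictCx (algebraMap A B)).obj K)) := by
  apply TAmp_of_exactAt_tensor
  intro N i hi
  change (resCx (algebraMap A B) K ⊗ resol N).ExactAt i
  rw [exactAt_res_tensor_iff (algebraMap A B) K (resol N) i]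
  apply exactAt_of_forall_maximal
  intro m hm
  let p := m.comap (algebraMap A B)
  let χ := Localization.localRingHom p m (algebraMap A B) rfl
  let ι := algebraMap A (Localization.AtPrime p)
  let Km : DRing.Cx (Localization.AtPrime m) := extCx (ψ m.primeCompl) K
  have hcomp : χ.comp ι = (ψ m.primeCompl).comp (algebraMap A B) := by
    ext x
    exact Localization.localRingHom_to_map p m (algebraMap A B) rfl x
  rw [← exactAt_res_tensor_iff (algebraMap A B) (resCx (ψ m.primeCompl) Km) (resol N) i,
    exactAt_iff_of_quasiIso
      ((resCompIso ι χ (algebraMap A B) (ψ m.primeCompl) hcomp Km).hom ▷ resol N) i,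
    exactAt_res_tensor_iff ι (resCx χ Km) (resol N) i]
  exact exactAt_tensor_of_TAmp' (resCx χ Km) a b (h3 m) (extCx ι (resol N))
    (kflat_extCx (resol N) (kflat_resol N)) 0 0
    (fun j hj => exactAt_extCx (resol N) j (exactAt_resol N j hj)) i (by omega)

end Main

end Groth.Agent.Lib.Helper79.TorCrit
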