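import Groth.Agent.Lib.Helper79.TorCritF
set_option linter.style.haveILetI false
set_option autoImplicit false
universe u
open CategoryTheory CategoryTheory.Limits MonoidalCategory TensorProduct

namespace Groth.Agent.Lib.Helper79.TorCrit

open Groth.Agent.Lib.Helper28 Groth.Agent.Lib.Helper28.TensCx
open Groth.Agent.Helper19.KFlatExt

attribute [local instance] HasDerivedCategory.standard

section ThetaIso

variable {A B : Type u} [CommRing A] [CommRing B] (φ : A →+* B) (L : DRing.Cx B) (K : DRing.Cx A)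

lemma isIso_θ (n : ℤ) : IsIso (θ φ L K n) := by
  haveI : IsIso ((forget (ModuleCat A)).map (θ φ L K n)) := by
    rw [isIso_iff_bijective]
    exact ⟨θ_injective φ L K n, fun z => θ_surjective φ L K n z⟩
  exact isIso_of_reflects_iso (θ φ L K n) (forget (ModuleCat A))

/-- helper19's `θ` as an isomorphism of complexes. -/
noncomputable def θIso : resCx φ L ⊗ K ≅ resCx φ (L ⊗ extCx φ K) :=
  HomologicalComplex.Hom.isoOfComponents
    (fun n => @asIso _ _ _ _ (θ φ L K n) (isIso_θ φ L K n))
    (fun i j hij => θ_d φ L K i j hij)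


lemma exactAt_resCx_iff (i : ℤ) : (resCx φ L).ExactAt i ↔ L.ExactAt i := by
  rw [HomologicalComplex.exactAt_iff' _ (i - 1) i (i + 1) (by simp) (by simp),
    HomologicalComplex.exactAt_iff' L (i - 1) i (i + 1) (by simp) (by simp),
    ShortComplex.moduleCat_exact_iff, ShortComplex.moduleCat_exact_iff]
  constructor
  · intro h x hx
    obtain ⟨w, hw⟩ := h x hx
    exact ⟨w, hw⟩
  · intro h x hx
    obtain ⟨w, hw⟩ := h x hx
    exact ⟨w, hw⟩

/-- `B|_A ⊗_A X ≅ (B ⊗_A X)|_A` as complexes -/
noncomputable def ΦIso (X : DRing.Cx A) :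
    resCx φ (𝟙_ (DRing.Cx B)) ⊗ X ≅ resCx φ (extCx φ X) :=
  θIso φ (𝟙_ (DRing.Cx B)) X ≪≫
    ((ModuleCat.restrictScalars φ).mapHomologicalComplex (ComplexShape.up ℤ)).mapIso
      (λ_ (extCx φ X))

/-- `(B ⊗_A X)|_A ⊗_A W ≅ (B ⊗_A (X ⊗_A W))|_A` as complexes -/
noncomputable def extTensorIso (X W : DRing.Cx A) :
    resCx φ (extCx φ X) ⊗ W ≅ resCx φ (extCx φ (X ⊗ W)) :=
  whiskerRightIso (ΦIso φ X).symm W ≪≫ α_ _ X W ≪≫ ΦIso φ (X ⊗ W)

end ThetaIso


section FF

variable {A B : Type u} [CommRing A] [CommRing B] [Algebra A B]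

lemma exactAt_of_exactAt_extCx [Module.FaithfullyFlat A B] (Z : DRing.Cx A) (i : ℤ)
    (h : (extCx (algebraMap A B) Z).ExactAt i) : Z.ExactAt i := by
  rw [HomologicalComplex.exactAt_iff_isZero_homology] at h ⊢
  have e := (Groth.Agent.Lib.Helper35.FlatBC.homologyIsoCx A B i).app Z
  have h1 : IsZero ((Groth.Agent.Lib.Helper35.FlatBC.ext A B).obj (Z.homology i)) := h.of_iso e.symm
  have h2 : Subsingleton ((Groth.Agent.Lib.Helper35.FlatBC.ext A B).obj (Z.homology i)) :=
    ModuleCat.subsingleton_of_isZero h1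
  haveI : Subsingleton (TensorProduct A B (Z.homology i)) :=
    (Groth.Agent.Lib.Helper35.FlatBC.extLinearEquiv B (Z.homology i)).symm.toEquiv.subsingleton
  haveI : Subsingleton (Z.homology i) := Module.FaithfullyFlat.lTensor_reflects_triviality A B _
  exact ModuleCat.isZero_of_subsingleton _

lemma exactAt_extCx_iff [Module.FaithfullyFlat A B] (Z : DRing.Cx A) (i : ℤ) :
    (extCx (algebraMap A B) Z).ExactAt i ↔ Z.ExactAt i :=
  ⟨exactAt_of_exactAt_extCx Z i, exactAt_extCx Z i⟩

/-- faithfully flat base change does not change exactness of tensor complexes. -/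
theorem exactAt_res_ext_tensor_iff [Module.FaithfullyFlat A B] (X W : DRing.Cx A) (i : ℤ) :
    (resCx (algebraMap A B) (extCx (algebraMap A B) X) ⊗ W).ExactAt i ↔ (X ⊗ W).ExactAt i := by
  rw [exactAt_iff_of_quasiIso (extTensorIso (algebraMap A B) X W).hom i, exactAt_resCx_iff,
    exactAt_extCx_iff]

end FF


section ResComp1

variable {R A B : Type u} [CommRing R] [CommRing A] [CommRing B]
  (f : R →+* A) (g : A →+* B) (k : R →+* B) (h : k = g.comp f)

noncomputable def resCompIsoX₁ (M : ModuleCat.{u} B) :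
    (ModuleCat.restrictScalars k).obj M ≅
      (ModuleCat.restrictScalars f).obj ((ModuleCat.restrictScalars g).obj M) where
  hom := ConcreteCategory.ofHom (C := ModuleCat R)
    (X := (ModuleCat.restrictScalars k).obj M)
    (Y := (ModuleCat.restrictScalars f).obj ((ModuleCat.restrictScalars g).obj M))
    { toFun := fun x => x
      map_add' := fun _ _ => rfl
      map_smul' := fun a x => by
        change k a • (show M from x) = g (f a) • (show M from x)
        rw [h]; rfl }
  inv := ConcreteCategory.ofHom (C := ModuleCat R)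
    (X := (ModuleCat.restrictScalars f).obj ((ModuleCat.restrictScalars g).obj M))
    (Y := (ModuleCat.restrictScalars k).obj M)
    { toFun := fun x => x
      map_add' := fun _ _ => rfl
      map_smul' := fun a x => by
        change g (f a) • (show M from x) = k a • (show M from x)
        rw [h]; rfl }
  hom_inv_id := by ext; rfl
  inv_hom_id := by ext; rfl

noncomputable def resCompIso₁ (X : DRing.Cx B) : resCx k X ≅ resCx f (resCx g X) :=
  HomologicalComplex.Hom.isoOfComponents (fun n => resCompIsoX₁ f g k h (X.X n))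
    (fun i j _ => by ext; rfl)

end ResComp1

section Main2

open Groth.Agent.Lib.Helper32 DerivedCategory

variable {R : Type u} [CommRing R]

theorem TAmp_iff_of_exactAt_iff (Y₁ Y₂ : DRing.Cx R) (a b : ℤ)
    (h : ∀ (N : ModuleCat.{u} R) (i : ℤ), (Y₁ ⊗ resol N).ExactAt i ↔ (Y₂ ⊗ resol N).ExactAt i) :
    DRing.HasTorAmplitudeIn R a b (DRing.toD Y₁) ↔ DRing.HasTorAmplitudeIn R a b (DRing.toD Y₂) :=
  ⟨fun h1 => TAmp_of_exactAt_tensor Y₂ a b (fun N i hi => (h N i).1
      (exactAt_tensor_of_TAmp Y₁ a b h1 (resol N) (kflat_resol N) N (resolπ N) i hi)),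
    fun h2 => TAmp_of_exactAt_tensor Y₁ a b (fun N i hi => (h N i).2
      (exactAt_tensor_of_TAmp Y₂ a b h2 (resol N) (kflat_resol N) N (resolπ N) i hi))⟩

lemma TAmp_iff_of_iso {a b : ℤ} {K K' : Dual.D R} (e : K ≅ K') :
    DRing.HasTorAmplitudeIn R a b K ↔ DRing.HasTorAmplitudeIn R a b K' :=
  ⟨fun h => Groth.Agent.Lib.Helper35.TA.TAmp.of_iso h e,
    fun h => Groth.Agent.Lib.Helper35.TA.TAmp.of_iso h e.symm⟩

theorem TAmp_restrict_iff_restrict_LBaseChange {A B : Type u} [CommRing A] [CommRing B]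
    [Algebra R A] [Algebra A B] [Algebra R B] [IsScalarTower R A B]
    [Module.FaithfullyFlat A B] [DRing.HasLBaseChange (algebraMap A B)] (K : Dual.D A) (a b : ℤ) :
    DRing.HasTorAmplitudeIn R a b ((DRing.restrictD (algebraMap R A)).obj K) ↔
      DRing.HasTorAmplitudeIn R a b ((DRing.restrictD (algebraMap R B)).obj
        ((DRing.LBaseChange (algebraMap A B)).obj K)) := by
  obtain ⟨X, hX, ⟨e⟩⟩ := LBC.exists_kproj_iso K
  haveI := hX
  let i1 : (DRing.restrictD (algebraMap R A)).obj K ≅ DRing.toD (resCx (algebraMap R A) X) :=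
    (DRing.restrictD (algebraMap R A)).mapIso e.symm ≪≫
      ((ModuleCat.restrictScalars.{u} (algebraMap R A)).mapDerivedCategoryFactors.app X)
  let i2 : (DRing.restrictD (algebraMap R B)).obj ((DRing.LBaseChange (algebraMap A B)).obj K) ≅
      DRing.toD (resCx (algebraMap R B) (extCx (algebraMap A B) X)) :=
    (DRing.restrictD (algebraMap R B)).mapIso
      ((DRing.LBaseChange (algebraMap A B)).mapIso e.symm ≪≫ LBC.lbcIso (algebraMap A B) X) ≪≫
      ((ModuleCat.restrictScalars.{u} (algebraMap R B)).mapDerivedCategoryFactors.app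
        (extCx (algebraMap A B) X))
  rw [TAmp_iff_of_iso i1, TAmp_iff_of_iso i2]
  apply TAmp_iff_of_exactAt_iff
  intro N i
  have hcomp : algebraMap R B = (algebraMap A B).comp (algebraMap R A) :=
    IsScalarTower.algebraMap_eq R A B
  rw [exactAt_res_tensor_iff (algebraMap R A) X (resol N) i,
    exactAt_iff_of_quasiIso ((resCompIso₁ (algebraMap R A) (algebraMap A B) (algebraMap R B) hcomp
      (extCx (algebraMap A B) X)).hom ▷ resol N) i,
    exactAt_res_tensor_iff (algebraMap R A) (resCx (algebraMap A B) (extCx (algebraMap A B) X))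
      (resol N) i,
    exactAt_res_ext_tensor_iff X (extCx (algebraMap R A) (resol N)) i]

end Main2

end Groth.Agent.Lib.Helper79.TorCrit
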